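import Cfsg.Agent.Base

/-!
# Bit-mask encoding of the 24 Golay points

* `idx`, `pt` : points ↔ numbers `< 24` (`some x ↦ x.val`, `none ↦ 23`);
* `ofMask`, `toMask` : subsets ↔ 24-bit numbers; `pop` = cardinality (4 kernel operations);
* kernel-friendly loops `allTo`, `cntTo`, `allL`, `cntL`.
-/

set_option autoImplicit false

namespace CL.Golay
open Cfsg Finset

/-! ### Points -/

/-- Index of a point: a residue `x` has index `x.val`, the extra point has index 23. -/
def idx : GolayPt → ℕ
  | none => 23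
  | some x => x.val

/-- The point with a given index (for indices `< 24`). -/
def pt (n : ℕ) : GolayPt := if n = 23 then none else some (n : ZMod 23)

theorem idx_lt (p : GolayPt) : idx p < 24 := by revert p; decide

@[simp] theorem pt_idx (p : GolayPt) : pt (idx p) = p := by revert p; decide

theorem idx_pt {n : ℕ} (h : n < 24) : idx (pt n) = n := by
  interval_cases n <;> decide

theorem idx_injective : Function.Injective idx := Function.LeftInverse.injective pt_idx

@[simp] theorem idx_inj {p q : GolayPt} : idx p = idx q ↔ p = q := idx_injective.eq_iff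

theorem pt_inj {i j : ℕ} (hi : i < 24) (hj : j < 24) : pt i = pt j ↔ i = j :=
  ⟨fun h => by rw [← idx_pt hi, h, idx_pt hj], fun h => h ▸ rfl⟩

theorem eq_pt_iff {p : GolayPt} {i : ℕ} (hi : i < 24) : p = pt i ↔ idx p = i :=
  ⟨fun h => by rw [h, idx_pt hi], fun h => by rw [← h, pt_idx]⟩

theorem forall_pt {P : GolayPt → Prop} : (∀ p, P p) ↔ ∀ i < 24, P (pt i) :=
  ⟨fun h _ _ => h _, fun h p => pt_idx p ▸ h _ (idx_lt p)⟩

theorem exists_pt {P : GolayPt → Prop} : (∃ p, P p) ↔ ∃ i < 24, P (pt i) :=
  ⟨fun ⟨p, h⟩ => ⟨idx p, idx_lt p, by rwa [pt_idx]⟩, fun ⟨_, _, h⟩ => ⟨_, h⟩⟩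

theorem idx_none : idx none = 23 := rfl

theorem idx_some (x : ZMod 23) : idx (some x) = x.val := rfl

theorem pt_23 : pt 23 = none := rfl

theorem pt_zero : pt 0 = some 0 := rfl

/-- The points in bijection with `Fin 24`. -/
def ptEquiv : GolayPt ≃ Fin 24 where
  toFun p := ⟨idx p, idx_lt p⟩
  invFun i := pt i
  left_inv p := pt_idx p
  right_inv i := Fin.ext (idx_pt i.2)

theorem card_pt : Fintype.card GolayPt = 24 := by simp

theorem sum_pt {M : Type*} [AddCommMonoid M] (f : GolayPt → M) :
    ∑ p, f p = ∑ i ∈ range 24, f (pt i) := by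
  rw [Finset.sum_range, ← Equiv.sum_comp ptEquiv.symm]; rfl

/-! ### Kernel-friendly loops -/

/-- `allTo f n = true ↔ ∀ i < n, f i = true`. -/
noncomputable def allTo (f : ℕ → Bool) (n : ℕ) : Bool :=
  Nat.rec true (fun i acc => Bool.rec false acc (f i)) n

theorem allTo_iff {f : ℕ → Bool} {n : ℕ} : allTo f n = true ↔ ∀ i < n, f i = true := by
  induction n with
  | zero => simp [allTo]
  | succ n ih =>
    have : allTo f (n + 1) = Bool.rec false (allTo f n) (f n) := rfl
    rw [this, Nat.forall_lt_succ_right, ← ih]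
    cases f n <;> simp

/-- `anyTo f n = true ↔ ∃ i < n, f i = true`. -/
noncomputable def anyTo (f : ℕ → Bool) (n : ℕ) : Bool :=
  Nat.rec false (fun i acc => Bool.rec acc true (f i)) n

theorem anyTo_iff {f : ℕ → Bool} {n : ℕ} : anyTo f n = true ↔ ∃ i < n, f i = true := by
  induction n with
  | zero => simp [anyTo]
  | succ n ih =>
    have : anyTo f (n + 1) = Bool.rec (anyTo f n) true (f n) := rfl
    rw [this, Nat.exists_lt_succ_right, ← ih]
    cases f n <;> simp

/-- The number of `i < n` with `f i = true`. -/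
noncomputable def cntTo (f : ℕ → Bool) (n : ℕ) : ℕ :=
  Nat.rec (nat_lit 0) (fun i acc => Bool.rec acc (Nat.succ acc) (f i)) n

theorem cntTo_eq (f : ℕ → Bool) (n : ℕ) :
    cntTo f n = ((range n).filter fun i => f i = true).card := by
  induction n with
  | zero => rfl
  | succ n ih =>
    have : cntTo f (n + 1) = Bool.rec (cntTo f n) (Nat.succ (cntTo f n)) (f n) := rfl
    rw [this, range_add_one, filter_insert]
    cases h : f n
    · simpa using ih
    · simp only [if_true]
      rw [card_insert_of_notMem (by simp), ih]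

/-- `allL f l = true ↔ ∀ x ∈ l, f x = true`. -/
noncomputable def allL {α : Type} (f : α → Bool) (l : List α) : Bool :=
  List.rec true (fun x _ acc => Bool.rec false acc (f x)) l

theorem allL_iff {α : Type} {f : α → Bool} {l : List α} :
    allL f l = true ↔ ∀ x ∈ l, f x = true := by
  induction l with
  | nil => simp [allL]
  | cons a l ih =>
    have : allL f (a :: l) = Bool.rec false (allL f l) (f a) := rfl
    rw [this, List.forall_mem_cons, ← ih]
    cases f a <;> simp

/-- `anyL f l = true ↔ ∃ x ∈ l, f x = true`. -/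
noncomputable def anyL {α : Type} (f : α → Bool) (l : List α) : Bool :=
  List.rec false (fun x _ acc => Bool.rec acc true (f x)) l

theorem anyL_iff {α : Type} {f : α → Bool} {l : List α} :
    anyL f l = true ↔ ∃ x ∈ l, f x = true := by
  induction l with
  | nil => simp [anyL]
  | cons a l ih =>
    have : anyL f (a :: l) = Bool.rec (anyL f l) true (f a) := rfl
    rw [this, List.exists_mem_cons_iff, ← ih]
    cases f a <;> simp

/-- The number of entries `x` of `l` with `f x = true`. -/
noncomputable def cntL {α : Type} (f : α → Bool) (l : List α) : ℕ :=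
  List.rec (nat_lit 0) (fun x _ acc => Bool.rec acc (Nat.succ acc) (f x)) l

theorem cntL_eq {α : Type} (f : α → Bool) (l : List α) : cntL f l = l.countP f := by
  induction l with
  | nil => rfl
  | cons a l ih =>
    have : cntL f (a :: l) = Bool.rec (cntL f l) (Nat.succ (cntL f l)) (f a) := rfl
    rw [this, List.countP_cons, ih]
    cases f a <;> simp

/-- Kernel-friendly bit test. -/
def bit (n i : ℕ) : Bool := Nat.beq (Nat.land (Nat.shiftRight n i) (nat_lit 1)) (nat_lit 1)

theorem bit_eq (n i : ℕ) : bit n i = n.testBit i := by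
  have h : Nat.land (Nat.shiftRight n i) 1 = (n >>> i) % 2 := Nat.and_one_is_mod _
  have h2 : n.testBit i = decide ((n >>> i) % 2 = 1) := by
    rw [Nat.testBit_eq_decide_div_mod_eq, Nat.shiftRight_eq_div_pow]
  rw [h2]
  unfold bit
  rw [h]
  rcases Nat.mod_two_eq_zero_or_one (n >>> i) with h | h <;> rw [h] <;> rfl

/-! ### Sums of distinct powers of two -/

theorem testBit_sum_two_pow (s : Finset ℕ) (k : ℕ) :
    (∑ j ∈ s, 2 ^ j).testBit k = decide (k ∈ s) := by
  induction s using Finset.induction_on_max with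
  | empty => simp
  | insert a s ha ih =>
    have hna : a ∉ s := fun h => lt_irrefl _ (ha a h)
    have hlt : ∑ j ∈ s, 2 ^ j < 2 ^ a := Nat.geomSum_lt le_rfl ha
    rw [sum_insert hna]
    have := Nat.testBit_two_pow_mul_add 1 hlt k
    rw [mul_one] at this
    rw [this]
    by_cases hk : k < a
    · simp [hk, ih, hk.ne]
    · have hks : k ∉ s := fun h => hk (ha k h)
      rcases eq_or_ne k a with rfl | hne
      · simp
      · have h1 : Nat.testBit 1 (k - a) = false := by
          rw [← Bool.not_eq_true, Nat.testBit_one_eq_true_iff_self_eq_zero]; omega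
        simp [hk, hne, hks, h1]

/-- `1 + 2^s + 2^(2s) + ⋯` with `c` terms. -/
def rep (s : ℕ) : ℕ → ℕ
  | 0 => 0
  | c + 1 => 2 ^ s * rep s c + 1

theorem testBit_mul_rep {s v : ℕ} (_hs : 0 < s) (hv : v < 2 ^ s) (c j : ℕ) :
    (v * rep s c).testBit j = (decide (j < s * c) && v.testBit (j % s)) := by
  induction c generalizing j with
  | zero => simp [rep]
  | succ c ih =>
    have : v * rep s (c + 1) = 2 ^ s * (v * rep s c) + v := by simp only [rep]; ring
    rw [this, Nat.testBit_two_pow_mul_add _ hv]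
    split_ifs with h
    · have : j < s * (c + 1) := by nlinarith
      simp [this, Nat.mod_eq_of_lt h]
    · obtain ⟨j, rfl⟩ : ∃ k, j = k + s := ⟨j - s, by omega⟩
      rw [Nat.add_sub_cancel, ih, Nat.add_mod_right]
      congr 1
      simp [mul_add]

theorem mul_rep_and_eq {s v : ℕ} (hs : 0 < s) (hv : v < 2 ^ s) (c M : ℕ) :
    (v * rep s c) &&& M =
      ∑ j ∈ (range (s * c)).filter (fun j => v.testBit (j % s) = true ∧ M.testBit j = true),
        2 ^ j := by
  apply Nat.eq_of_testBit_eq
  intro j
  rw [Nat.testBit_and, testBit_mul_rep hs hv, testBit_sum_two_pow]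
  simp [Bool.and_assoc]

theorem mul_rep_and_sum {s w v : ℕ} (hs : 0 < s) (hw : w ≤ s) (hv : v < 2 ^ w) (c M : ℕ) :
    (v * rep s c) &&& M =
      ∑ i ∈ (range w).filter (fun i => v.testBit i = true), ((2 ^ i * rep s c) &&& M) := by
  have hv' : v < 2 ^ s := hv.trans_le (Nat.pow_le_pow_right (by norm_num) hw)
  rw [mul_rep_and_eq hs hv',
    ← sum_fiberwise_of_maps_to (t := (range w).filter (fun i => v.testBit i = true))
      (g := fun j => j % s)]
  · apply sum_congr rfl
    intro i hi
    simp only [mem_filter, mem_range] at hi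
    rw [mul_rep_and_eq hs (Nat.pow_lt_pow_right (by norm_num) (hi.1.trans_le hw)), filter_filter]
    apply sum_congr _ fun _ _ => rfl
    apply filter_congr
    intro j _
    simp only [Nat.testBit_two_pow, decide_eq_true_eq]
    constructor
    · rintro ⟨⟨_, h2⟩, h3⟩; exact ⟨h3.symm, h2⟩
    · rintro ⟨h1, h2⟩; exact ⟨⟨h1 ▸ hi.2, h2⟩, h1.symm⟩
  · intro j hj
    simp only [mem_filter, mem_range] at hj ⊢
    refine ⟨?_, hj.2.1⟩
    by_contra h
    have := Nat.testBit_lt_two_pow (hv.trans_le (Nat.pow_le_pow_right (by norm_num) (not_lt.1 h)))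
    simp [this] at hj

/-- The multiply-mask-reduce trick: it is additive over the bits of the argument. -/
theorem mul_rep_and_mod {s w v : ℕ} (hs : 0 < s) (hw : w ≤ s) (hv : v < 2 ^ w) (c M m : ℕ)
    (f : ℕ → ℕ) (hf : ∀ i < w, ((2 ^ i * rep s c) &&& M) % m = f i)
    (hlt : ∑ i ∈ (range w).filter (fun i => v.testBit i = true), f i < m) :
    ((v * rep s c) &&& M) % m = ∑ i ∈ (range w).filter (fun i => v.testBit i = true), f i := by
  rw [mul_rep_and_sum hs hw hv, sum_nat_mod, ← Nat.mod_eq_of_lt hlt]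
  congr 1
  apply sum_congr rfl
  intro i hi
  simp only [mem_filter, mem_range] at hi
  exact hf i hi.1

/-! ### Subsets as masks -/

/-- The set of points whose index bit is set in `n`. -/
def ofMask (n : ℕ) : Finset GolayPt := univ.filter fun p => n.testBit (idx p) = true

/-- The mask of a set of points. -/
def toMask (s : Finset GolayPt) : ℕ := ∑ p ∈ s, 2 ^ idx p

@[simp] theorem mem_ofMask {n : ℕ} {p : GolayPt} : p ∈ ofMask n ↔ n.testBit (idx p) = true := by
  simp [ofMask]

theorem pt_mem_ofMask {n i : ℕ} (hi : i < 24) : pt i ∈ ofMask n ↔ n.testBit i = true := by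
  rw [mem_ofMask, idx_pt hi]

theorem toMask_eq_sum_image (s : Finset GolayPt) : toMask s = ∑ j ∈ s.image idx, 2 ^ j := by
  rw [sum_image (fun _ _ _ _ h => idx_injective h)]; rfl

theorem testBit_toMask (s : Finset GolayPt) (p : GolayPt) :
    (toMask s).testBit (idx p) = decide (p ∈ s) := by
  rw [toMask_eq_sum_image, testBit_sum_two_pow]
  simp

theorem toMask_lt (s : Finset GolayPt) : toMask s < 2 ^ 24 := by
  rw [toMask_eq_sum_image]
  apply Nat.geomSum_lt le_rfl
  intro k hk
  obtain ⟨p, _, rfl⟩ := mem_image.1 hk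
  exact idx_lt p

@[simp] theorem ofMask_toMask (s : Finset GolayPt) : ofMask (toMask s) = s := by
  ext p; simp [testBit_toMask]

theorem ofMask_eq_iff {m n : ℕ} : ofMask m = ofMask n ↔ ∀ i < 24, m.testBit i = n.testBit i := by
  constructor
  · intro h i hi
    have := Finset.ext_iff.1 h (pt i)
    rw [pt_mem_ofMask hi, pt_mem_ofMask hi] at this
    exact Bool.eq_iff_iff.2 this
  · intro h
    ext p
    rw [mem_ofMask, mem_ofMask, h _ (idx_lt p)]

theorem ofMask_inj {m n : ℕ} (hm : m < 2 ^ 24) (hn : n < 2 ^ 24) :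
    ofMask m = ofMask n ↔ m = n := by
  refine ⟨fun h => Nat.eq_of_testBit_eq fun i => ?_, fun h => h ▸ rfl⟩
  by_cases hi : i < 24
  · exact ofMask_eq_iff.1 h i hi
  · have := Nat.pow_le_pow_right (show 0 < 2 by norm_num) (not_lt.1 hi)
    rw [Nat.testBit_lt_two_pow (hm.trans_le this), Nat.testBit_lt_two_pow (hn.trans_le this)]

theorem toMask_ofMask {n : ℕ} (h : n < 2 ^ 24) : toMask (ofMask n) = n :=
  (ofMask_inj (toMask_lt _) h).1 (ofMask_toMask _)

theorem toMask_injective : Function.Injective toMask :=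
  Function.LeftInverse.injective ofMask_toMask

theorem exists_ofMask (s : Finset GolayPt) : ∃ n < 2 ^ 24, s = ofMask n :=
  ⟨toMask s, toMask_lt s, (ofMask_toMask s).symm⟩

theorem ofMask_and (m n : ℕ) : ofMask (m &&& n) = ofMask m ∩ ofMask n := by
  ext p; simp

theorem ofMask_or (m n : ℕ) : ofMask (m ||| n) = ofMask m ∪ ofMask n := by
  ext p; simp

theorem ofMask_xor (m n : ℕ) : ofMask (m ^^^ n) = symmDiff (ofMask m) (ofMask n) := by
  ext p
  simp only [mem_ofMask, Nat.testBit_xor, mem_symmDiff]
  cases m.testBit (idx p) <;> cases n.testBit (idx p) <;> simp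

theorem ofMask_land (m n : ℕ) : ofMask (Nat.land m n) = ofMask m ∩ ofMask n := ofMask_and m n

theorem ofMask_lor (m n : ℕ) : ofMask (Nat.lor m n) = ofMask m ∪ ofMask n := ofMask_or m n

theorem ofMask_nxor (m n : ℕ) : ofMask (Nat.xor m n) = symmDiff (ofMask m) (ofMask n) :=
  ofMask_xor m n

@[simp] theorem ofMask_zero : ofMask 0 = ∅ := by ext p; simp

theorem ofMask_full : ofMask 16777215 = univ := by
  ext p
  have : (16777215 : ℕ) = 2 ^ 24 - 1 := by norm_num
  simp only [mem_ofMask, this, Nat.testBit_two_pow_sub_one, idx_lt, decide_true, mem_univ]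

theorem ofMask_and_full (n : ℕ) : ofMask (n &&& 16777215) = ofMask n := by
  rw [ofMask_and, ofMask_full, inter_univ]

theorem and_full_lt (n : ℕ) : n &&& 16777215 < 2 ^ 24 :=
  Nat.and_lt_two_pow _ (by norm_num)

theorem ofMask_compl (n : ℕ) : ofMask (n ^^^ 16777215) = (ofMask n)ᶜ := by
  rw [ofMask_xor, ofMask_full]
  ext p; simp [mem_symmDiff]

theorem ofMask_sdiff (m n : ℕ) : ofMask (m ^^^ (m &&& n)) = ofMask m \ ofMask n := by
  ext p
  simp only [mem_ofMask, Nat.testBit_xor, Nat.testBit_and, mem_sdiff]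
  cases m.testBit (idx p) <;> cases n.testBit (idx p) <;> simp

theorem ofMask_two_pow_idx (p : GolayPt) : ofMask (2 ^ idx p) = {p} := by
  ext q; simp [Nat.testBit_two_pow, eq_comm]

theorem ofMask_two_pow {i : ℕ} (hi : i < 24) : ofMask (2 ^ i) = {pt i} := by
  rw [← ofMask_two_pow_idx, idx_pt hi]

theorem ofMask_subset_iff {m n : ℕ} (hm : m < 2 ^ 24) : ofMask m ⊆ ofMask n ↔ m &&& n = m := by
  rw [← inter_eq_left, ← ofMask_and, ofMask_inj (lt_of_le_of_lt Nat.and_le_left hm) hm]

theorem disjoint_ofMask_iff {m n : ℕ} (hm : m < 2 ^ 24) :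
    Disjoint (ofMask m) (ofMask n) ↔ m &&& n = 0 := by
  rw [disjoint_iff_inter_eq_empty, ← ofMask_and, ← ofMask_zero,
    ofMask_inj (lt_of_le_of_lt Nat.and_le_left hm) (by norm_num)]

theorem toMask_inter (s t : Finset GolayPt) : toMask (s ∩ t) = toMask s &&& toMask t := by
  rw [← ofMask_inj (toMask_lt _) (Nat.and_lt_two_pow _ (toMask_lt t)), ofMask_and]; simp

theorem toMask_union (s t : Finset GolayPt) : toMask (s ∪ t) = toMask s ||| toMask t := by
  rw [← ofMask_inj (toMask_lt _) (Nat.or_lt_two_pow (toMask_lt s) (toMask_lt t)), ofMask_or]; simp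

theorem toMask_symmDiff (s t : Finset GolayPt) :
    toMask (symmDiff s t) = toMask s ^^^ toMask t := by
  rw [← ofMask_inj (toMask_lt _) (Nat.xor_lt_two_pow (toMask_lt s) (toMask_lt t)), ofMask_xor]
  simp

theorem toMask_compl (s : Finset GolayPt) : toMask sᶜ = toMask s ^^^ 16777215 := by
  rw [← ofMask_inj (toMask_lt _) (Nat.xor_lt_two_pow (toMask_lt s) (by norm_num)), ofMask_compl]
  simp

theorem sum_ofMask {M : Type*} [AddCommMonoid M] (n : ℕ) (f : ℕ → M) :
    ∑ p ∈ ofMask n, f (idx p) = ∑ i ∈ (range 24).filter (fun i => n.testBit i = true), f i := by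
  rw [ofMask, sum_filter, sum_filter, sum_pt]
  apply sum_congr rfl
  intro i hi
  rw [idx_pt (mem_range.1 hi)]

/-- Number of set bits among the low 24 bits of `n` (multiply, mask, reduce modulo 31). -/
def pop (n : ℕ) : ℕ :=
  Nat.mod (Nat.land (Nat.mul (Nat.land n (nat_lit 16777215))
    (nat_lit 0x1000001000001000001000001)) (nat_lit 0x84210842108421084210842108421)) (nat_lit 31)

theorem card_ofMask (n : ℕ) : (ofMask n).card = pop n := by
  have hR : (0x1000001000001000001000001 : ℕ) = rep 24 5 := by decide +kernel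
  have h1 : ∀ i < 24, ((2 ^ i * rep 24 5) &&& 0x84210842108421084210842108421) % 31 = 1 := by
    decide +kernel
  have hc : (ofMask n).card =
      ∑ i ∈ (range 24).filter (fun i => (n &&& 16777215).testBit i = true), 1 := by
    rw [← sum_ofMask _ (fun _ => 1), ofMask_and_full, card_eq_sum_ones]
  have := mul_rep_and_mod (s := 24) (by norm_num) le_rfl (and_full_lt n) 5
    0x84210842108421084210842108421 31 (fun _ => 1) h1 (by
      rw [← hc]; exact lt_of_le_of_lt (card_le_univ _) (by simp))
  rw [hc, ← this, ← hR]; rfl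

theorem pop_toMask (s : Finset GolayPt) : pop (toMask s) = s.card := by
  rw [← card_ofMask, ofMask_toMask]

theorem pop_le (n : ℕ) : pop n ≤ 24 := by
  rw [← card_ofMask]; exact (card_le_univ _).trans (by simp)

end CL.Golay
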