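import Cfsg.Agent.Base
import Cfsg.Agent.Spor.GolayMask

/-!
# Packed vectors and matrices (base 4096), matrix times vector by one big multiplication
-/

set_option autoImplicit false

namespace CL.Co

open Cfsg Finset
open CL.Golay (idx pt idx_lt pt_idx idx_pt sum_pt)

/-- The `k`-th digit of `N` in base 4096. -/
def dig (k N : ℕ) : ℕ := N / 4096 ^ k % 4096

/-- The number with digits `f 0, …, f (n-1)` in base 4096. -/
def pk (f : ℕ → ℕ) (n : ℕ) : ℕ := ∑ k ∈ range n, f k * 4096 ^ k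

theorem dig_lt (k N : ℕ) : dig k N < 4096 := Nat.mod_lt _ (by norm_num)

theorem pk_succ (f : ℕ → ℕ) (n : ℕ) : pk f (n + 1) = pk f n + f n * 4096 ^ n :=
  sum_range_succ _ _

theorem pk_congr {f g : ℕ → ℕ} {n : ℕ} (h : ∀ k < n, f k = g k) : pk f n = pk g n :=
  sum_congr rfl fun k hk => by rw [h k (mem_range.1 hk)]

theorem pk_lt {f : ℕ → ℕ} {n : ℕ} (h : ∀ k < n, f k < 4096) : pk f n < 4096 ^ n := by
  induction n with
  | zero => simp [pk]
  | succ n ih =>
    have h1 := ih fun k hk => h k (by omega)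
    have h2 : f n * 4096 ^ n ≤ 4095 * 4096 ^ n :=
      Nat.mul_le_mul_right _ (by have := h n (by omega); omega)
    rw [pk_succ, pow_succ]; omega

theorem dig_add_mul_pow {a k n : ℕ} (t : ℕ) (hk : k < n) : dig k (a + 4096 ^ n * t) = dig k a := by
  obtain ⟨m, rfl⟩ : ∃ m, n = k + (m + 1) := ⟨n - k - 1, by omega⟩
  unfold dig
  rw [pow_add, mul_assoc, Nat.add_mul_div_left _ _ (by positivity), pow_succ,
    show 4096 ^ m * 4096 * t = 4096 * (4096 ^ m * t) by ring, Nat.add_mul_mod_self_left]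

theorem dig_pk {f : ℕ → ℕ} {n k : ℕ} (h : ∀ k < n, f k < 4096) (hk : k < n) :
    dig k (pk f n) = f k := by
  induction n with
  | zero => omega
  | succ n ih =>
    rw [pk_succ]
    by_cases hkn : k < n
    · rw [mul_comm, dig_add_mul_pow _ hkn]; exact ih (fun j hj => h j (by omega)) hkn
    · obtain rfl : k = n := by omega
      unfold dig
      rw [Nat.add_mul_div_right _ _ (by positivity),
        Nat.div_eq_of_lt (pk_lt fun j hj => h j (by omega)), zero_add,
        Nat.mod_eq_of_lt (h k (by omega))]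

theorem dig_pk_add {f : ℕ → ℕ} {n k : ℕ} (h : ∀ k < n, f k < 4096) (hk : k < n) (t : ℕ) :
    dig k (pk f n + 4096 ^ n * t) = f k := by
  rw [dig_add_mul_pow _ hk, dig_pk h hk]

theorem pk_dig_mod (N n : ℕ) : pk (fun k => dig k N) n = N % 4096 ^ n := by
  induction n with
  | zero => simp [pk, Nat.mod_one]
  | succ n ih => rw [pk_succ, ih, pow_succ, Nat.mod_mul, dig, mul_comm]

theorem pk_dig {N n : ℕ} (h : N < 4096 ^ n) : pk (fun k => dig k N) n = N := by
  rw [pk_dig_mod, Nat.mod_eq_of_lt h]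

theorem dig_land (k a b : ℕ) : dig k (a &&& b) = dig k a &&& dig k b := by
  unfold dig
  rw [show (4096 : ℕ) = 2 ^ 12 by norm_num, ← pow_mul, Nat.and_div_two_pow, Nat.and_mod_two_pow]

theorem cast_pk (f : ℕ → ℕ) (n : ℕ) : (pk f n : ℤ) = ∑ k ∈ range n, (f k : ℤ) * 4096 ^ k := by
  simp [pk]

theorem pk_add (f g : ℕ → ℕ) (n : ℕ) : pk (fun k => f k + g k) n = pk f n + pk g n := by
  simp [pk, add_mul, sum_add_distrib]

theorem pk_mul (c : ℕ) (f : ℕ → ℕ) (n : ℕ) : pk (fun k => c * f k) n = c * pk f n := by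
  simp [pk, mul_sum, mul_assoc]

theorem pk_inj {f g : ℕ → ℕ} {n : ℕ} (hf : ∀ k < n, f k < 4096) (hg : ∀ k < n, g k < 4096)
    (h : pk f n = pk g n) : ∀ k < n, f k = g k := fun k hk => by
  rw [← dig_pk hf hk, h, dig_pk hg hk]

/-! ### Points and vectors -/

/-- Coordinates bounded by eight. -/
def Bd (x : GolayPt → ℤ) : Prop := ∀ p, -8 ≤ x p ∧ x p ≤ 8

/-- The packed form of a vector. -/
def pack (x : GolayPt → ℤ) : ℕ := pk (fun k => (x (pt k) + 8).toNat) 24

/-- The vector with a given packed form. -/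
def unpack (X : ℕ) : GolayPt → ℤ := fun p => (dig (idx p) X : ℤ) - 8

theorem Bd.toNat_lt {x : GolayPt → ℤ} (h : Bd x) (p : GolayPt) : (x p + 8).toNat < 4096 := by
  have := h p; omega

theorem dig_pack {x : GolayPt → ℤ} (h : Bd x) {k : ℕ} (hk : k < 24) :
    (dig k (pack x) : ℤ) = x (pt k) + 8 := by
  rw [pack, dig_pk (fun k _ => h.toNat_lt _) hk]
  have := h (pt k); omega

theorem unpack_pack {x : GolayPt → ℤ} (h : Bd x) : unpack (pack x) = x := by
  funext p; rw [unpack, dig_pack h (idx_lt p), pt_idx]; ring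

theorem pack_inj {x y : GolayPt → ℤ} (hx : Bd x) (hy : Bd y) (h : pack x = pack y) : x = y := by
  rw [← unpack_pack hx, h, unpack_pack hy]

theorem pack_lt {x : GolayPt → ℤ} (h : Bd x) : pack x < 4096 ^ 24 := pk_lt fun _ _ => h.toNat_lt _

theorem pack_unpack {X : ℕ} (h : X < 4096 ^ 24) : pack (unpack X) = X := by
  rw [pack]
  conv_rhs => rw [← pk_dig h]
  refine pk_congr fun k hk => ?_
  rw [unpack, idx_pt hk]; omega

theorem cast_pack {x : GolayPt → ℤ} (h : Bd x) :
    (pack x : ℤ) = ∑ k ∈ range 24, (x (pt k) + 8) * 4096 ^ k := by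
  rw [pack, cast_pk]
  refine sum_congr rfl fun k _ => ?_
  have := h (pt k)
  rw [Int.toNat_of_nonneg (by omega)]

theorem bd_of_sqNorm {x : GolayPt → ℤ} (h : sqNorm x ≤ 64) : Bd x := fun p => by
  have : x p ^ 2 ≤ sqNorm x :=
    single_le_sum (f := fun i => x i ^ 2) (fun _ _ => sq_nonneg _) (mem_univ p)
  constructor <;> nlinarith

/-! ### Matrices -/

/-- The entry of a packed matrix. -/
def ent (M : ℕ) (p q : GolayPt) : ℤ := (dig (24 * idx p + (23 - idx q)) M : ℤ) - 8

/-- Matrix times vector. -/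
def mulv (M : ℕ) (x : GolayPt → ℤ) : GolayPt → ℤ := fun p => ∑ q, ent M p q * x q

/-- A packed matrix with entries bounded by eight. -/
def MBd (M : ℕ) : Prop := M < 4096 ^ 576 ∧ ∀ a < 576, dig a M ≤ 16

def O24 : ℕ := (4096 ^ 24 - 1) / 4095
def O576 : ℕ := (4096 ^ 576 - 1) / 4095
def O600 : ℕ := (4096 ^ 600 - 1) / 4095
def MASK : ℕ := 4095 * 4096 ^ 23 * ((4096 ^ 576 - 1) / (4096 ^ 24 - 1))
def MODU : ℕ := 4096 ^ 24 - 4096
def T600 : ℕ := 4096 ^ 600
def KP : ℕ := T600 - 8 * O576
def KC : ℕ := 2048 * O600 + 64 * O576 * O24 + 8 * T600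
def K8 : ℕ := 8 * O24
def KS : ℕ := 1984 * O24

theorem O24_eq : O24 = pk (fun _ => 1) 24 := by decide +kernel
theorem O576_eq : O576 = pk (fun _ => 1) 576 := by decide +kernel
theorem O600_eq : O600 = pk (fun _ => 1) 600 := by decide +kernel
theorem MASK_eq : MASK = pk (fun k => if k % 24 = 23 ∧ k < 576 then 4095 else 0) 600 := by
  decide +kernel
theorem KP_add : KP + 8 * O576 = T600 := by decide +kernel
theorem KC_ge : K8 * 4096 ^ 576 ≤ KC := by decide +kernel

theorem two_pow_276 : (2 : ℕ) ^ 276 = 4096 ^ 23 := by decide +kernel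

/-- First precomputed constant of a matrix. -/
def mP (M : ℕ) : ℕ := Nat.add M KP

/-- Second precomputed constant of a matrix. -/
def mC (M : ℕ) : ℕ := Nat.sub KC (Nat.mul K8 M)

/-- The packed form of `M x + 2048`. -/
def raw (P C X : ℕ) : ℕ :=
  Nat.mod (Nat.shiftRight (Nat.land (Nat.add (Nat.mul P X) C) MASK) 276) MODU

/-- The packed form of `M x / 8`. -/
def app (P C X : ℕ) : ℕ := Nat.shiftRight (Nat.sub (raw P C X) KS) 3

theorem sum_shift (m : ℕ → ℤ) {j : ℕ} (hj : j < 24) :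
    (∑ a ∈ range 576, m a * 4096 ^ a) * 4096 ^ j =
      ∑ k ∈ range 600, (if j ≤ k ∧ k - j < 576 then m (k - j) else 0) * 4096 ^ k := by
  simp only [ite_mul, zero_mul]
  rw [← sum_filter, sum_mul]
  refine sum_nbij' (fun a => a + j) (fun k => k - j) ?_ ?_ ?_ ?_ ?_
  · intro a ha; simp only [mem_filter, mem_range] at ha ⊢; omega
  · intro k hk; simp only [mem_filter, mem_range] at hk ⊢; omega
  · intro a _; simp
  · intro k hk; simp only [mem_filter, mem_range] at hk; omega
  · intro a _; simp only [Nat.add_sub_cancel, pow_add, mul_assoc]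

theorem sum_target (e : ℕ → ℕ) :
    pk (fun k => if k % 24 = 23 ∧ k < 576 then e k else 0) 600 =
      4096 ^ 23 * ∑ i ∈ range 24, e (24 * i + 23) * 4096 ^ (24 * i) := by
  simp only [pk, ite_mul, zero_mul]
  rw [← sum_filter, mul_sum]
  symm
  refine sum_nbij' (fun i => 24 * i + 23) (fun k => k / 24) ?_ ?_ ?_ ?_ ?_
  · intro a ha; simp only [mem_filter, mem_range] at ha ⊢; omega
  · intro k hk; simp only [mem_filter, mem_range] at hk ⊢; omega
  · intro a _; show (24 * a + 23) / 24 = a; omega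
  · intro k hk; simp only [mem_filter, mem_range] at hk; show 24 * (k / 24) + 23 = k; omega
  · intro a _; rw [pow_add]; ring

theorem pow_modEq (i : ℕ) : 4096 ^ (24 * i) ≡ 4096 ^ i [MOD MODU] := by
  have h : 4096 ^ 24 ≡ 4096 [MOD MODU] := by
    unfold Nat.ModEq; decide +kernel
  rw [pow_mul]; exact h.pow i

theorem abs_sum_le {s : ℕ → ℤ} (h : ∀ j < 24, -64 ≤ s j ∧ s j ≤ 64) :
    -1536 ≤ ∑ j ∈ range 24, s j ∧ ∑ j ∈ range 24, s j ≤ 1536 := by
  constructor
  · have := sum_le_sum (s := range 24) (f := fun _ => (-64 : ℤ)) (g := s)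
      fun j hj => (h j (mem_range.1 hj)).1
    simpa using this
  · have := sum_le_sum (s := range 24) (g := fun _ => (64 : ℤ)) (f := s)
      fun j hj => (h j (mem_range.1 hj)).2
    simpa using this

theorem mul_bd {a b : ℤ} (ha : -8 ≤ a ∧ a ≤ 8) (hb : -8 ≤ b ∧ b ≤ 8) :
    -64 ≤ a * b ∧ a * b ≤ 64 := by
  constructor <;> nlinarith [ha.1, ha.2, hb.1, hb.2]

theorem MBd.ent_bd {M : ℕ} (hM : MBd M) (p q : GolayPt) : -8 ≤ ent M p q ∧ ent M p q ≤ 8 := by
  have := hM.2 (24 * idx p + (23 - idx q)) (by have := idx_lt p; omega)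
  unfold ent; omega

theorem mulv_bd {M : ℕ} (hM : MBd M) {x : GolayPt → ℤ} (hx : Bd x) (p : GolayPt) :
    -1536 ≤ mulv M x p ∧ mulv M x p ≤ 1536 := by
  rw [mulv, sum_pt]
  exact abs_sum_le fun j _ => mul_bd (hM.ent_bd _ _) (hx _)

theorem raw_eq {M : ℕ} (hM : MBd M) {x : GolayPt → ℤ} (hx : Bd x) :
    raw (mP M) (mC M) (pack x) = pk (fun i => (mulv M x (pt i) + 2048).toNat) 24 := by
  set m : ℕ → ℤ := fun a => (dig a M : ℤ) - 8 with hm
  set e : ℕ → ℤ := fun k => 2048 + ∑ j ∈ range 24,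
    (if j ≤ k ∧ k - j < 576 then m (k - j) else 0) * x (pt j) with he
  have hebd : ∀ k, 512 ≤ e k ∧ e k ≤ 3584 := by
    intro k
    have := abs_sum_le (s := fun j => (if j ≤ k ∧ k - j < 576 then m (k - j) else 0) * x (pt j))
      fun j _ => mul_bd (by
        split_ifs with h
        · have := hM.2 _ h.2; simp only [hm]; omega
        · omega) (hx _)
    simp only [he]; omega
  have h1 : (M : ℤ) - 8 * O576 = ∑ a ∈ range 576, m a * 4096 ^ a := by
    conv_lhs => rw [← pk_dig hM.1, O576_eq, cast_pk, cast_pk, mul_sum, ← sum_sub_distrib]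
    exact sum_congr rfl fun a _ => by simp only [hm]; push_cast; ring
  have h2 : (pack x : ℤ) - 8 * O24 = ∑ j ∈ range 24, x (pt j) * 4096 ^ j := by
    rw [cast_pack hx, O24_eq, cast_pk, mul_sum, ← sum_sub_distrib]
    exact sum_congr rfl fun a _ => by push_cast; ring
  have h3 : ((M : ℤ) - 8 * O576) * ((pack x : ℤ) - 8 * O24) + 2048 * O600 =
      ∑ k ∈ range 600, e k * 4096 ^ k := by
    rw [h1, h2, mul_sum, O600_eq, cast_pk, mul_sum]
    have : ∀ j ∈ range 24, (∑ a ∈ range 576, m a * 4096 ^ a) * (x (pt j) * 4096 ^ j) =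
        ∑ k ∈ range 600, (if j ≤ k ∧ k - j < 576 then m (k - j) else 0) * x (pt j) * 4096 ^ k := by
      intro j hj
      rw [mul_left_comm, sum_shift m (mem_range.1 hj), mul_sum]
      exact sum_congr rfl fun k _ => by ring
    rw [sum_congr rfl this, sum_comm, ← sum_add_distrib]
    refine sum_congr rfl fun k _ => ?_
    simp only [he, add_mul, sum_mul]; push_cast; ring
  have h4 : mP M * pack x + mC M = pk (fun k => (e k).toNat) 600 + T600 * (pack x + 8) := by
    have hle : K8 * M ≤ KC := le_trans (Nat.mul_le_mul_left _ hM.1.le) KC_ge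
    have hP : (mP M : ℤ) = M + (T600 - 8 * O576) := by
      have := congrArg (Nat.cast : ℕ → ℤ) KP_add
      simp only [mP, Nat.add_eq]; push_cast at this ⊢; linarith
    have hC : (mC M : ℤ) = 2048 * O600 + 64 * O576 * O24 + 8 * T600 - 8 * O24 * M := by
      simp only [mC, Nat.sub_eq, Nat.mul_eq]
      rw [Nat.cast_sub hle]; simp only [KC, K8]; push_cast; ring
    have h5 : (pk (fun k => (e k).toNat) 600 : ℤ) = ∑ k ∈ range 600, e k * 4096 ^ k := by
      rw [cast_pk]
      exact sum_congr rfl fun k _ => by rw [Int.toNat_of_nonneg (by have := hebd k; omega)]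
    apply Nat.cast_injective (R := ℤ)
    rw [Nat.cast_add, Nat.cast_mul, hP, hC, Nat.cast_add, h5, ← h3]
    push_cast; ring
  have hlt : ∀ k < 600, (e k).toNat < 4096 := fun k _ => by have := hebd k; omega
  have h6 : (mP M * pack x + mC M) &&& MASK =
      pk (fun k => if k % 24 = 23 ∧ k < 576 then (e k).toNat else 0) 600 := by
    have hM' : MASK < 4096 ^ 600 := by
      rw [MASK_eq]; exact pk_lt fun k _ => by split_ifs <;> norm_num
    rw [← pk_dig (lt_of_le_of_lt Nat.and_le_right hM')]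
    refine pk_congr fun k hk => ?_
    rw [dig_land, h4, T600, dig_pk_add hlt hk, MASK_eq,
      dig_pk (fun k _ => by split_ifs <;> norm_num) hk]
    split_ifs
    · rw [show 4095 = 2 ^ 12 - 1 by norm_num, Nat.and_two_pow_sub_one_eq_mod]
      exact Nat.mod_eq_of_lt (hlt k hk)
    · simp
  have h7 : ∀ i < 24, e (24 * i + 23) = mulv M x (pt i) + 2048 := by
    intro i hi
    simp only [he, mulv]
    rw [sum_pt, add_comm, add_left_inj]
    refine sum_congr rfl fun j hj => ?_
    have := mem_range.1 hj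
    have h9 : j ≤ 24 * i + 23 ∧ 24 * i + 23 - j < 576 := by clear * - this hi; omega
    have h10 : 24 * i + 23 - j = 24 * i + (23 - j) := by clear * - this hi; omega
    rw [if_pos h9, ent, idx_pt hi, idx_pt this, h10]
  show (((mP M * pack x + mC M) &&& MASK) >>> 276) % MODU = _
  rw [h6, sum_target, Nat.shiftRight_eq_div_pow, two_pow_276,
    Nat.mul_div_cancel_left _ (by positivity)]
  have h8 : pk (fun i => (mulv M x (pt i) + 2048).toNat) 24 < MODU := by
    have : pk (fun i => (mulv M x (pt i) + 2048).toNat) 24 ≤ pk (fun _ => 3584) 24 :=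
      sum_le_sum fun i _ => Nat.mul_le_mul_right _
        (Int.toNat_le.2 (by have := (mulv_bd hM hx (pt i)).2; push_cast; linarith))
    exact lt_of_le_of_lt this (by decide +kernel)
  rw [← Nat.mod_eq_of_lt h8]
  refine Nat.ModEq.sum fun i hi => ?_
  rw [h7 i (mem_range.1 hi)]
  exact (pow_modEq i).mul_left _

theorem app_eq {M : ℕ} (hM : MBd M) {x y : GolayPt → ℤ} (hx : Bd x) (hy : Bd y)
    (h : ∀ p, mulv M x p = 8 * y p) : app (mP M) (mC M) (pack x) = pack y := by
  have : raw (mP M) (mC M) (pack x) = KS + 8 * pack y := by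
    rw [raw_eq hM hx, KS, O24_eq, pack, ← pk_mul, ← pk_mul, ← pk_add]
    refine pk_congr fun k _ => ?_
    have := hy (pt k); rw [h]; omega
  show (raw (mP M) (mC M) (pack x) - KS) >>> 3 = _
  rw [this, Nat.add_sub_cancel_left, Nat.shiftRight_eq_div_pow]; omega

end CL.Co
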