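import Cfsg.Agent.Base
import Cfsg.Agent.Spor.GolayMask

/-!
# The Golay code through bit masks

* `CSet` = supports of the words of `golayCode`;
* `enc m` (`m < 4096`) enumerates the masks of the 4096 code words (systematic on bits `0..11`);
* `isCode n : Bool` decides `ofMask n ∈ CSet`;
* counting and quantifier principles `ncard_CSet`, `forall_CSet`.
-/

set_option autoImplicit false

namespace CL.Golay
open Cfsg Finset

/-- The supports of the words of the Golay code (the "C-sets"). -/
abbrev CSet : Set (Finset GolayPt) := supports (golayCode : Set (GolayPt → ZMod 2))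

/-! ### Words and supports -/

/-- The binary word with a given support. -/
def ind {α : Type*} [DecidableEq α] (s : Finset α) : α → ZMod 2 := fun p => if p ∈ s then 1 else 0

theorem zmod2_cases (x : ZMod 2) : x = 0 ∨ x = 1 := by revert x; decide

@[simp] theorem mem_support₂ {α : Type*} [Fintype α] {w : α → ZMod 2} {a : α} :
    a ∈ support₂ w ↔ w a ≠ 0 := by
  simp [support₂]

theorem support_ind {α : Type*} [Fintype α] [DecidableEq α] (s : Finset α) :
    support₂ (ind s) = s := by
  ext p; by_cases h : p ∈ s <;> simp [ind, h]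

theorem ind_support {α : Type*} [Fintype α] [DecidableEq α] (w : α → ZMod 2) :
    ind (support₂ w) = w := by
  funext p
  rcases zmod2_cases (w p) with h | h <;> simp [ind, h]

theorem support₂_injective {α : Type*} [Fintype α] :
    Function.Injective (support₂ : (α → ZMod 2) → Finset α) := by
  classical exact Function.LeftInverse.injective ind_support

theorem mem_supports_iff {α : Type*} [Fintype α] [DecidableEq α] {C : Set (α → ZMod 2)}
    {s : Finset α} : s ∈ supports C ↔ ind s ∈ C :=
  ⟨fun ⟨w, hw, h⟩ => by rw [← h, ind_support]; exact hw, fun h => ⟨_, h, support_ind s⟩⟩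

theorem support_mem_supports_iff {α : Type*} [Fintype α] {C : Set (α → ZMod 2)}
    {w : α → ZMod 2} : support₂ w ∈ supports C ↔ w ∈ C :=
  support₂_injective.mem_set_image

theorem card_support₂ {α : Type*} [Fintype α] (w : α → ZMod 2) :
    (support₂ w).card = hammingNorm w := by
  unfold support₂ hammingNorm; congr

theorem ind_symmDiff {α : Type*} [DecidableEq α] (s t : Finset α) :
    ind (symmDiff s t) = ind s + ind t := by
  funext p
  by_cases h : p ∈ s <;> by_cases h' : p ∈ t <;> simp [ind, mem_symmDiff, h, h']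
  rfl

theorem ind_empty {α : Type*} [DecidableEq α] : ind (∅ : Finset α) = 0 := by
  funext p; simp [ind]

theorem ind_univ {α : Type*} [Fintype α] [DecidableEq α] : ind (univ : Finset α) = 1 := by
  funext p; simp [ind]

theorem support₂_add {α : Type*} [Fintype α] [DecidableEq α] (v w : α → ZMod 2) :
    support₂ (v + w) = symmDiff (support₂ v) (support₂ w) := by
  rw [← support_ind (symmDiff _ _), ind_symmDiff, ind_support, ind_support]

theorem sum_ind_mul_ind {α : Type*} [Fintype α] [DecidableEq α] (s t : Finset α) :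
    ∑ i, ind s i * ind t i = ((s ∩ t).card : ZMod 2) := by
  rw [card_eq_sum_ones, Nat.cast_sum, ← Finset.sum_subset (subset_univ (s ∩ t))]
  · apply sum_congr rfl
    intro p hp
    rw [mem_inter] at hp
    simp [ind, hp.1, hp.2]
  · intro p _ hp
    rw [mem_inter, not_and_or] at hp
    rcases hp with hp | hp <;> simp [ind, hp]

theorem mem_CSet_iff {s : Finset GolayPt} : s ∈ CSet ↔ ind s ∈ golayCode := mem_supports_iff

theorem support_mem_CSet_iff {w : GolayPt → ZMod 2} : support₂ w ∈ CSet ↔ w ∈ golayCode :=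
  support_mem_supports_iff

theorem empty_mem_CSet : (∅ : Finset GolayPt) ∈ CSet := by
  rw [mem_CSet_iff, ind_empty]; exact zero_mem _

theorem symmDiff_mem_CSet {s t : Finset GolayPt} (hs : s ∈ CSet) (ht : t ∈ CSet) :
    symmDiff s t ∈ CSet := by
  rw [mem_CSet_iff] at *
  rw [ind_symmDiff]; exact add_mem hs ht

theorem univ_mem_CSet : (univ : Finset GolayPt) ∈ CSet := by
  rw [mem_CSet_iff, ind_univ]
  exact Submodule.subset_span (Or.inr rfl)

theorem compl_mem_CSet {s : Finset GolayPt} (hs : s ∈ CSet) : sᶜ ∈ CSet := by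
  have : sᶜ = symmDiff s univ := by ext p; simp [mem_symmDiff]
  rw [this]; exact symmDiff_mem_CSet hs univ_mem_CSet

theorem mem_octads_iff {s : Finset GolayPt} : s ∈ octads ↔ s ∈ CSet ∧ s.card = 8 := Iff.rfl

theorem mem_dodecads_iff {s : Finset GolayPt} : s ∈ dodecads ↔ s ∈ CSet ∧ s.card = 12 := Iff.rfl

/-! ### Linear combinations of masks -/

/-- The xor of those entries of the list whose position is a set bit of `m`. -/
def lin : List ℕ → ℕ → ℕ
  | [], _ => 0
  | b :: bs, m => (bif m.testBit 0 then b else 0) ^^^ lin bs (m / 2)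

theorem lin_xor (bs : List ℕ) (m n : ℕ) : lin bs (m ^^^ n) = lin bs m ^^^ lin bs n := by
  induction bs generalizing m n with
  | nil => simp [lin]
  | cons b bs ih =>
    simp only [lin, Nat.xor_div_two, ih, Nat.testBit_xor]
    cases m.testBit 0 <;> cases n.testBit 0 <;>
      simp [Nat.xor_assoc, Nat.xor_left_comm]

/-- A property of masks that holds for `0`, for the entries of `bs` and is closed under xor
holds for every `lin bs m`. -/
theorem lin_induction {P : ℕ → Prop} (h0 : P 0) (hx : ∀ a b, P a → P b → P (a ^^^ b))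
    {bs : List ℕ} (h : ∀ b ∈ bs, P b) (m : ℕ) : P (lin bs m) := by
  induction bs generalizing m with
  | nil => exact h0
  | cons b bs ih =>
    refine hx _ _ ?_ (ih (fun c hc => h c (List.mem_cons_of_mem _ hc)) _)
    cases m.testBit 0
    · exact h0
    · exact h b List.mem_cons_self

/-- The masks of the 23 translates of the squares, and the full mask. -/
def genL : List ℕ := [340831, 681662, 1363324, 2726648, 5453296, 2517985, 5035970, 1683333,
  3366666, 6733332, 5078057, 1767507, 3535014, 7070028, 5751449, 3114291, 6228582, 4068557,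
  8137114, 7885621, 7382635, 6376663, 4364719, 16777215]

/-- A basis of the code (all octads), systematic on the bits `0, …, 11`. -/
def basL : List ℕ := [13062145, 4845570, 13938692, 7221256, 10170384, 11952160, 15515712,
  2019456, 4038912, 8077824, 11654144, 14919680]

theorem qrWord_eq (t : ZMod 23) : qrWord t = ind (ofMask (genL.getD t.val 0)) := by
  funext p
  have : ∀ (t : ZMod 23) (p : GolayPt),
      qrWord t p = if (genL.getD t.val 0).testBit (idx p) = true then 1 else 0 := by
    decide +kernel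
  simp only [this, ind, mem_ofMask]

theorem genL_mem_CSet : ∀ g ∈ genL, ofMask g ∈ CSet := by
  have h1 : ∀ g ∈ genL, g = 16777215 ∨ ∃ t : ZMod 23, g = genL.getD t.val 0 := by
    decide +kernel
  intro g hg
  rcases h1 g hg with rfl | ⟨t, rfl⟩
  · rw [ofMask_full]; exact univ_mem_CSet
  · rw [mem_CSet_iff, ← qrWord_eq]
    exact Submodule.subset_span (Or.inl ⟨t, rfl⟩)

theorem lin_mem_CSet {bs : List ℕ} (h : ∀ b ∈ bs, ofMask b ∈ CSet) (m : ℕ) :
    ofMask (lin bs m) ∈ CSet :=
  lin_induction (P := fun n => ofMask n ∈ CSet) (by simpa using empty_mem_CSet)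
    (fun a b ha hb => by rw [ofMask_xor]; exact symmDiff_mem_CSet ha hb) h m

theorem basL_mem_CSet : ∀ b ∈ basL, ofMask b ∈ CSet := by
  have : ∀ b ∈ basL, ∃ c ∈ [8390313, 280, 8389785, 1400, 8390330, 8390551, 8390093, 2000, 1347,
      101, 8390243, 8390181], b = lin genL c := by decide +kernel
  intro b hb
  obtain ⟨c, -, rfl⟩ := this b hb
  exact lin_mem_CSet genL_mem_CSet c

/-- The mask of the code word whose low 12 bits are those of `m` (two table look-ups). -/
def enc (m : ℕ) : ℕ :=
  Nat.add (Nat.land m (nat_lit 4095)) (Nat.shiftLeft (Nat.land (Nat.xor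
    (Nat.shiftRight (nat_lit 0x197de250897dcdc0a9843436774b013ebf9ea3f64aea02d5824451cbb0ce56f91a1f0d85ec72b2a5862d38cff9713b66af1684e6e21b7babcf325f50c1206788d4f8159d2c5c69b3342f377ddba8e0927ca966e35a19d413ed4b8ea49fc75000)
      (Nat.mul (nat_lit 12) (Nat.land m (nat_lit 63))))
    (Nat.shiftRight (nat_lit 0xe680a4f85149db237ec5f2939dc7108316fda064cabeb527575bb9498a546af86374298e2c1c0d32cde011bfd70f6e3a052e9e1bff73388d44265ca97e692a60b8c743caf05d1b1db4f583aa246e8956599787b4cfb237d163daf211edecc000)
      (Nat.mul (nat_lit 12) (Nat.land (Nat.shiftRight m (nat_lit 6)) (nat_lit 63)))))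
    (nat_lit 4095)) (nat_lit 12))

theorem enc_and (m : ℕ) : enc (m &&& 4095) = enc m := by
  have h1 : Nat.land (m &&& 4095) 4095 = Nat.land m 4095 := by
    change (m &&& 4095) &&& 4095 = m &&& 4095
    rw [Nat.and_assoc]; rfl
  have h2 : Nat.land (m &&& 4095) 63 = Nat.land m 63 := by
    change (m &&& 4095) &&& 63 = m &&& 63
    rw [Nat.and_assoc]; rfl
  have h3 : Nat.land (Nat.shiftRight (m &&& 4095) 6) 63 = Nat.land (Nat.shiftRight m 6) 63 := by
    change ((m &&& 4095) >>> 6) &&& 63 = (m >>> 6) &&& 63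
    rw [Nat.shiftRight_and_distrib, Nat.and_assoc]; rfl
  unfold enc
  rw [h1, h2, h3]

theorem and_4095_lt (m : ℕ) : m &&& 4095 < 4096 :=
  Nat.and_lt_two_pow (n := 12) _ (by norm_num)

theorem and_4095_of_lt {m : ℕ} (h : m < 4096) : m &&& 4095 = m :=
  (Nat.and_two_pow_sub_one_eq_mod m 12).trans (Nat.mod_eq_of_lt h)

set_option maxRecDepth 100000 in
theorem enc_facts : ∀ m < 4096, enc m = lin basL m ∧ enc m &&& 4095 = m ∧ enc m < 2 ^ 24 := by
  have : allTo (fun m => Nat.beq (enc m) (lin basL m) && Nat.beq (Nat.land (enc m) 4095) m &&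
      Nat.ble (enc m) 16777215) 4096 = true := by decide +kernel
  intro m hm
  have h := allTo_iff.1 this m hm
  simp only [Bool.and_eq_true, Nat.beq_eq, Nat.ble_eq] at h
  exact ⟨h.1.1, h.1.2, by omega⟩

theorem enc_eq_lin (m : ℕ) : enc m = lin basL (m &&& 4095) := by
  rw [← enc_and]; exact (enc_facts _ (and_4095_lt m)).1

theorem enc_lt (m : ℕ) : enc m < 2 ^ 24 := by
  rw [← enc_and]; exact (enc_facts _ (and_4095_lt m)).2.2

theorem enc_and_4095 (m : ℕ) : enc m &&& 4095 = m &&& 4095 := by
  rw [← enc_and]; exact (enc_facts _ (and_4095_lt m)).2.1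

theorem enc_enc (m : ℕ) : enc (enc m) = enc m := by
  rw [← enc_and, enc_and_4095, enc_and]

theorem enc_xor (m n : ℕ) : enc (m ^^^ n) = enc m ^^^ enc n := by
  rw [enc_eq_lin, enc_eq_lin, enc_eq_lin, Nat.and_xor_distrib_right, lin_xor]

theorem enc_zero : enc 0 = 0 := by decide +kernel

theorem enc_inj {m n : ℕ} (hm : m < 4096) (hn : n < 4096) : enc m = enc n ↔ m = n :=
  ⟨fun h => by rw [← (enc_facts m hm).2.1, h, (enc_facts n hn).2.1], fun h => h ▸ rfl⟩

theorem enc_mem_CSet (m : ℕ) : ofMask (enc m) ∈ CSet := by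
  rw [enc_eq_lin]; exact lin_mem_CSet basL_mem_CSet _

/-- Kernel-fast test that the low 24 bits of `n` form a code word. -/
def isCode (n : ℕ) : Bool := Nat.beq (enc n) (Nat.land n (nat_lit 16777215))

theorem isCode_iff {n : ℕ} : isCode n = true ↔ ofMask (enc n) = ofMask n := by
  rw [isCode, Nat.beq_eq, ← ofMask_and_full n, ofMask_inj (enc_lt n) (and_full_lt n)]; rfl

theorem isCode_enc (m : ℕ) : isCode (enc m) = true := by rw [isCode_iff, enc_enc]

theorem isCode_congr {m n : ℕ} (h : ofMask m = ofMask n) : isCode m = isCode n := by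
  have h1 : m &&& 16777215 = n &&& 16777215 := by
    rw [← ofMask_inj (and_full_lt m) (and_full_lt n), ofMask_and_full, ofMask_and_full, h]
  have h2 : ∀ k : ℕ, (k &&& 16777215) &&& 4095 = k &&& 4095 := fun k => by
    rw [Nat.and_assoc]; rfl
  have h3 : enc m = enc n := by rw [← enc_and m, ← h2, h1, h2, enc_and]
  unfold isCode
  rw [h3]; congr 1

theorem isCode_xor {m n : ℕ} (hm : isCode m = true) (hn : isCode n = true) :
    isCode (m ^^^ n) = true := by
  rw [isCode_iff] at *
  rw [enc_xor, ofMask_xor, ofMask_xor, hm, hn]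

theorem isCode_of_mem_golayCode {w : GolayPt → ZMod 2} (hw : w ∈ golayCode) :
    isCode (toMask (support₂ w)) = true := by
  induction hw using Submodule.span_induction with
  | mem w hw =>
    have h1 : ∀ g ∈ genL, isCode g = true := by decide +kernel
    rcases hw with ⟨t, rfl⟩ | rfl
    · rw [qrWord_eq, support_ind, isCode_congr (ofMask_toMask _)]
      have : ∀ t : ZMod 23, genL.getD t.val 0 ∈ genL := by decide +kernel
      exact h1 _ (this t)
    · rw [← ind_univ, support_ind, ← ofMask_full, isCode_congr (ofMask_toMask _)]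
      decide +kernel
  | zero =>
    rw [← ind_empty, support_ind, ← ofMask_zero, isCode_congr (ofMask_toMask _)]
    decide +kernel
  | add v w _ _ hv hw => rw [support₂_add, toMask_symmDiff]; exact isCode_xor hv hw
  | smul a w _ hw =>
    rcases zmod2_cases a with rfl | rfl
    · rw [zero_smul, ← ind_empty, support_ind, ← ofMask_zero, isCode_congr (ofMask_toMask _)]
      decide +kernel
    · rwa [one_smul]

/-- Membership in the code, for a set given by a mask. -/
theorem ofMask_mem_CSet_iff {n : ℕ} : ofMask n ∈ CSet ↔ isCode n = true := by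
  constructor
  · rintro ⟨w, hw, h⟩
    have := isCode_of_mem_golayCode hw
    rwa [h, isCode_congr (ofMask_toMask _)] at this
  · intro h
    rw [← isCode_iff.1 h]; exact enc_mem_CSet n

theorem mem_CSet_iff_isCode {s : Finset GolayPt} : s ∈ CSet ↔ isCode (toMask s) = true := by
  rw [← ofMask_mem_CSet_iff, ofMask_toMask]

theorem mem_CSet_iff_enc {s : Finset GolayPt} : s ∈ CSet ↔ ∃ m < 4096, s = ofMask (enc m) := by
  constructor
  · intro h
    refine ⟨toMask s &&& 4095, and_4095_lt _, ?_⟩
    rw [enc_and, isCode_iff.1 (mem_CSet_iff_isCode.1 h), ofMask_toMask]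
  · rintro ⟨m, -, rfl⟩; exact enc_mem_CSet m

theorem ofMask_mem_octads_iff {n : ℕ} : ofMask n ∈ octads ↔ isCode n = true ∧ pop n = 8 := by
  rw [mem_octads_iff, ofMask_mem_CSet_iff, card_ofMask]

theorem ofMask_mem_dodecads_iff {n : ℕ} :
    ofMask n ∈ dodecads ↔ isCode n = true ∧ pop n = 12 := by
  rw [mem_dodecads_iff, ofMask_mem_CSet_iff, card_ofMask]

/-- To prove a property of all C-sets, check it on the 4096 masks `enc m`. -/
theorem forall_CSet {P : Finset GolayPt → Prop} :
    (∀ s ∈ CSet, P s) ↔ ∀ m < 4096, P (ofMask (enc m)) :=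
  ⟨fun h m _ => h _ (enc_mem_CSet m), fun h s hs => by
    obtain ⟨m, hm, rfl⟩ := mem_CSet_iff_enc.1 hs; exact h m hm⟩

/-- A property closed under symmetric difference that holds for `∅` and the 12 basis octads
holds for all C-sets. -/
theorem CSet_induction {P : Finset GolayPt → Prop} (h0 : P ∅)
    (hx : ∀ s t, P s → P t → P (symmDiff s t)) (hb : ∀ b ∈ basL, P (ofMask b))
    {s : Finset GolayPt} (hs : s ∈ CSet) : P s := by
  obtain ⟨m, -, rfl⟩ := mem_CSet_iff_enc.1 hs
  rw [enc_eq_lin]
  exact lin_induction (P := fun n => P (ofMask n)) (by simpa using h0)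
    (fun a b ha hb => by rw [ofMask_xor]; exact hx _ _ ha hb) hb _

/-- Counting C-sets with a property that is decided by a Boolean test on masks. -/
theorem ncard_CSet {S : Set (Finset GolayPt)} (f : ℕ → Bool) (hS : S ⊆ CSet)
    (h : ∀ n, isCode n = true → n < 2 ^ 24 → (ofMask n ∈ S ↔ f n = true)) :
    S.ncard = cntTo (fun m => f (enc m)) 4096 := by
  have : S = ((((range 4096).filter fun m => f (enc m) = true).image
      fun m => ofMask (enc m) : Finset _) : Set _) := by
    ext s
    simp only [coe_image, coe_filter, mem_range, Set.mem_image, Set.mem_ofPred_eq]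
    constructor
    · intro hs
      obtain ⟨m, hm, rfl⟩ := mem_CSet_iff_enc.1 (hS hs)
      exact ⟨m, ⟨hm, (h _ (isCode_enc m) (enc_lt m)).1 hs⟩, rfl⟩
    · rintro ⟨m, ⟨-, hf⟩, rfl⟩
      exact (h _ (isCode_enc m) (enc_lt m)).2 hf
  rw [this, Set.ncard_coe_finset, card_image_of_injOn, cntTo_eq]
  intro a ha b hb hab
  simp only [coe_filter, mem_range, Set.mem_ofPred_eq] at ha hb
  exact (enc_inj ha.1 hb.1).1 ((ofMask_inj (enc_lt a) (enc_lt b)).1 hab)

/-! ### Weights -/

set_option maxRecDepth 100000 in
theorem card_of_mem_CSet {s : Finset GolayPt} (hs : s ∈ CSet) :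
    s.card = 0 ∨ s.card = 8 ∨ s.card = 12 ∨ s.card = 16 ∨ s.card = 24 := by
  revert s
  rw [forall_CSet]
  have : allTo (fun m => bit 16847105 (pop (enc m))) 4096 = true := by decide +kernel
  intro m hm
  have h := allTo_iff.1 this m hm
  have h24 : pop (enc m) < 25 := Nat.lt_succ_of_le (pop_le (enc m))
  rw [card_ofMask]
  have key : ∀ k < 25, bit 16847105 k = true → k = 0 ∨ k = 8 ∨ k = 12 ∨ k = 16 ∨ k = 24 := by
    decide +kernel
  exact key _ h24 h

theorem ncard_CSet_eq : CSet.ncard = 4096 := by
  rw [ncard_CSet (fun _ => true) subset_rfl fun n hn _ => by simp [ofMask_mem_CSet_iff, hn]]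
  rw [cntTo_eq]; simp

set_option maxRecDepth 100000 in
theorem ncard_octads : octads.ncard = 759 := by
  rw [ncard_CSet (fun n => Nat.beq (pop n) 8) (fun s hs => hs.1) fun n hn _ => by
    simp [ofMask_mem_octads_iff, hn]]
  decide +kernel

set_option maxRecDepth 100000 in
theorem ncard_dodecads : dodecads.ncard = 2576 := by
  rw [ncard_CSet (fun n => Nat.beq (pop n) 12) (fun s hs => hs.1) fun n hn _ => by
    simp [ofMask_mem_dodecads_iff, hn]]
  decide +kernel

theorem four_dvd_card_of_mem_CSet {s : Finset GolayPt} (hs : s ∈ CSet) : 4 ∣ s.card := by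
  rcases card_of_mem_CSet hs with h | h | h | h | h <;> rw [h] <;> norm_num

theorem card_symmDiff_add {α : Type*} [DecidableEq α] (s t : Finset α) :
    (symmDiff s t).card + 2 * (s ∩ t).card = s.card + t.card := by
  have h1 : symmDiff s t = (s \ t) ∪ (t \ s) := rfl
  have h2 : Disjoint (s \ t) (t \ s) := disjoint_sdiff_sdiff
  rw [h1, card_union_of_disjoint h2]
  have h3 := card_sdiff_add_card_inter s t
  have h4 := card_sdiff_add_card_inter t s
  rw [inter_comm] at h4
  omega

/-- Two C-sets meet in an even number of points. -/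
theorem even_card_inter {s t : Finset GolayPt} (hs : s ∈ CSet) (ht : t ∈ CSet) :
    Even (s ∩ t).card := by
  have h := card_symmDiff_add s t
  have h1 := four_dvd_card_of_mem_CSet hs
  have h2 := four_dvd_card_of_mem_CSet ht
  have h3 := four_dvd_card_of_mem_CSet (symmDiff_mem_CSet hs ht)
  rw [even_iff_two_dvd]
  omega

/-- A nonempty C-set has at least 8 points. -/
theorem eq_empty_of_card_lt {s : Finset GolayPt} (hs : s ∈ CSet) (h : s.card < 8) : s = ∅ := by
  rw [← card_eq_zero]
  rcases card_of_mem_CSet hs with h | h | h | h | h <;> omega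

/-- Two distinct octads meet in 0, 2 or 4 points. -/
theorem octad_inter {s t : Finset GolayPt} (hs : s ∈ octads) (ht : t ∈ octads) (hst : s ≠ t) :
    (s ∩ t).card = 0 ∨ (s ∩ t).card = 2 ∨ (s ∩ t).card = 4 := by
  have h := card_symmDiff_add s t
  have h1 := card_of_mem_CSet (symmDiff_mem_CSet hs.1 ht.1)
  have h0 : (symmDiff s t).card ≠ 0 := by
    rw [Ne, card_eq_zero, ← bot_eq_empty, symmDiff_eq_bot]; exact hst
  have := hs.2; have := ht.2
  omega

/-- Two octads with at least five common points are equal. -/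
theorem octad_eq_of_five_le {s t : Finset GolayPt} (hs : s ∈ octads) (ht : t ∈ octads)
    (h : 5 ≤ (s ∩ t).card) : s = t := by
  by_contra hst
  have := octad_inter hs ht hst
  omega

theorem compl_mem_dodecads {d : Finset GolayPt} (hd : d ∈ dodecads) : dᶜ ∈ dodecads :=
  ⟨compl_mem_CSet hd.1, by rw [card_compl, hd.2]; simp⟩

end CL.Golay
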