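import Cfsg.Agent.Base

/-!
# The Leech lattice: membership criteria that need nothing of the Golay code but the all-ones word
-/

set_option autoImplicit false

namespace CL.Leech

open Cfsg Finset
open scoped Pointwise

/-- The code sets: supports of the words of the Golay code. -/
abbrev CodeSets : Set (Finset GolayPt) := supports (golayCode : Set (GolayPt → ZMod 2))

/-- Indicator word of a set of points. -/
def ind (c : Finset GolayPt) : GolayPt → ZMod 2 := fun i => if i ∈ c then 1 else 0

theorem zmod2_cases (a : ZMod 2) : a = 0 ∨ a = 1 := by revert a; decide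

theorem mem_support₂ {w : GolayPt → ZMod 2} {i : GolayPt} : i ∈ support₂ w ↔ w i = 1 := by
  simp only [support₂, mem_filter, mem_univ, true_and]
  rcases zmod2_cases (w i) with h | h <;> simp [h]

theorem support₂_ind (c : Finset GolayPt) : support₂ (ind c) = c := by
  ext i; rw [mem_support₂]; unfold ind; split_ifs with h <;> simp [h]

theorem ind_support₂ (w : GolayPt → ZMod 2) : ind (support₂ w) = w := by
  funext i; unfold ind; split_ifs with h
  · exact (mem_support₂.1 h).symm
  · rcases zmod2_cases (w i) with h' | h'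
    · exact h'.symm
    · exact absurd (mem_support₂.2 h') h

theorem mem_codeSets {c : Finset GolayPt} : c ∈ CodeSets ↔ ind c ∈ golayCode := by
  constructor
  · rintro ⟨w, hw, rfl⟩; rw [ind_support₂]; exact hw
  · intro h; exact ⟨ind c, h, support₂_ind c⟩

theorem support₂_mem_codeSets {w : GolayPt → ZMod 2} : support₂ w ∈ CodeSets ↔ w ∈ golayCode := by
  rw [mem_codeSets, ind_support₂]

theorem one_mem_golayCode : (1 : GolayPt → ZMod 2) ∈ golayCode :=
  Submodule.subset_span (Set.mem_union_right _ rfl)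

theorem qrWord_mem (t : ZMod 23) : qrWord t ∈ golayCode :=
  Submodule.subset_span (Set.mem_union_left _ ⟨t, rfl⟩)

theorem empty_mem_codeSets : (∅ : Finset GolayPt) ∈ CodeSets := Spor.empty_mem_supports_golayCode

theorem univ_mem_codeSets : (univ : Finset GolayPt) ∈ CodeSets := Spor.univ_mem_supports_golayCode

theorem ind_symmDiff (c d : Finset GolayPt) : ind (symmDiff c d) = ind c + ind d := by
  funext i; simp only [ind, mem_symmDiff, Pi.add_apply]
  by_cases hc : i ∈ c <;> by_cases hd : i ∈ d <;> simp [hc, hd]; decide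

theorem symmDiff_mem_codeSets {c d : Finset GolayPt} (hc : c ∈ CodeSets) (hd : d ∈ CodeSets) :
    symmDiff c d ∈ CodeSets := by
  rw [mem_codeSets] at *; rw [ind_symmDiff]; exact golayCode.add_mem hc hd

theorem ind_compl (c : Finset GolayPt) : ind cᶜ = ind c + 1 := by
  funext i; simp only [ind, mem_compl, Pi.add_apply, Pi.one_apply]
  by_cases hc : i ∈ c <;> simp [hc]; decide

theorem compl_mem_codeSets {c : Finset GolayPt} (hc : c ∈ CodeSets) : cᶜ ∈ CodeSets := by
  rw [mem_codeSets] at *; rw [ind_compl]; exact golayCode.add_mem hc one_mem_golayCode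

theorem compl_mem_codeSets_iff {c : Finset GolayPt} : cᶜ ∈ CodeSets ↔ c ∈ CodeSets :=
  ⟨fun h => by simpa using compl_mem_codeSets h, compl_mem_codeSets⟩

theorem card_golayPt : Fintype.card GolayPt = 24 := by simp [ZMod.card]

/-- The reduction modulo 2 of an integer vector. -/
def red (u : GolayPt → ℤ) : GolayPt → ZMod 2 := fun i => (u i : ZMod 2)

theorem red_add (u v : GolayPt → ℤ) : red (u + v) = red u + red v := by
  funext i; simp [red]

theorem red_neg (u : GolayPt → ℤ) : red (-u) = red u := by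
  funext i; simp only [red, Pi.neg_apply, Int.cast_neg]; exact ZMod.neg_eq_self_mod_two _

theorem red_eq_one_iff {u : GolayPt → ℤ} {i : GolayPt} : red u i = 1 ↔ u i % 2 = 1 := by
  unfold red
  rw [show (1 : ZMod 2) = ((1 : ℤ) : ZMod 2) by simp, ZMod.intCast_eq_intCast_iff']
  simp

theorem support₂_red (u : GolayPt → ℤ) : support₂ (red u) = univ.filter fun i => u i % 2 = 1 := by
  ext i; rw [mem_support₂, red_eq_one_iff]; simp

theorem red_mem_iff {u : GolayPt → ℤ} :
    red u ∈ golayCode ↔ (univ.filter fun i => u i % 2 = 1) ∈ CodeSets := by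
  rw [← support₂_red, support₂_mem_codeSets]

/-- The working description of Leech vectors. -/
def IsLeech (x : GolayPt → ℤ) : Prop :=
  ∃ (m : ℤ) (u : GolayPt → ℤ), (∀ i, x i = m + 2 * u i) ∧ red u ∈ golayCode ∧
    (∑ i, x i) % 8 = (4 * m) % 8

theorem mem_leechSet_iff {x : GolayPt → ℤ} : x ∈ leechSet ↔ IsLeech x := by
  constructor
  · rintro ⟨m, h1, h2, h3⟩
    refine ⟨m, fun i => (x i - m) / 2, fun i => ?_, ?_, h2⟩
    · have := h1 i; unfold Int.ModEq at this; beta_reduce; omega
    · rw [red_mem_iff]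
      convert h3 (m + 2) using 2 with i
      have := h1 i; unfold Int.ModEq at this ⊢; omega
  · rintro ⟨m, u, h1, h2, h3⟩
    refine ⟨m, fun i => by rw [h1 i]; unfold Int.ModEq; omega, h3, fun k => ?_⟩
    rw [red_mem_iff] at h2
    have hk : (k - m) % 4 = 0 ∨ (k - m) % 4 = 2 ∨ (k - m) % 2 = 1 := by omega
    rcases hk with hk | hk | hk
    · convert compl_mem_codeSets h2 using 1
      ext i
      simp only [mem_filter, mem_univ, true_and, mem_compl, h1 i]
      unfold Int.ModEq; omega
    · convert h2 using 2 with i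
      rw [h1 i]; unfold Int.ModEq; omega
    · convert empty_mem_codeSets using 1
      apply filter_false_of_mem
      intro i _
      rw [h1 i]; unfold Int.ModEq; omega

theorem IsLeech.add {x y : GolayPt → ℤ} (hx : IsLeech x) (hy : IsLeech y) : IsLeech (x + y) := by
  obtain ⟨m, u, h1, h2, h3⟩ := hx
  obtain ⟨n, v, k1, k2, k3⟩ := hy
  refine ⟨m + n, u + v, fun i => ?_, ?_, ?_⟩
  · simp only [Pi.add_apply, h1 i, k1 i]; ring
  · rw [red_add]; exact golayCode.add_mem h2 k2
  · simp only [Pi.add_apply, sum_add_distrib]; omega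

theorem IsLeech.neg {x : GolayPt → ℤ} (hx : IsLeech x) : IsLeech (-x) := by
  obtain ⟨m, u, h1, h2, h3⟩ := hx
  refine ⟨-m, -u, fun i => ?_, ?_, ?_⟩
  · simp only [Pi.neg_apply, h1 i]; ring
  · rw [red_neg]; exact h2
  · simp only [Pi.neg_apply, sum_neg_distrib]; omega

theorem isLeech_zero : IsLeech 0 :=
  ⟨0, 0, by simp, by
    have : red 0 = 0 := by funext i; simp [red]
    rw [this]; exact golayCode.zero_mem, by simp⟩

/-- `leechSet` as an additive subgroup. -/
def leechSub : AddSubgroup (GolayPt → ℤ) where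
  carrier := leechSet
  add_mem' := fun hx hy => mem_leechSet_iff.2 ((mem_leechSet_iff.1 hx).add (mem_leechSet_iff.1 hy))
  zero_mem' := mem_leechSet_iff.2 isLeech_zero
  neg_mem' := fun hx => mem_leechSet_iff.2 (mem_leechSet_iff.1 hx).neg

theorem leechLattice_eq : leechLattice = leechSub := AddSubgroup.closure_eq leechSub

theorem mem_leech_iff_set {x : GolayPt → ℤ} : x ∈ leechLattice ↔ x ∈ leechSet := by
  rw [leechLattice_eq]; rfl

theorem mem_leech_iff {x : GolayPt → ℤ} : x ∈ leechLattice ↔ IsLeech x :=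
  mem_leech_iff_set.trans mem_leechSet_iff

theorem even_or_odd {x : GolayPt → ℤ} (hx : x ∈ leechLattice) :
    (∀ i, x i % 2 = 0) ∨ (∀ i, x i % 2 = 1) := by
  obtain ⟨m, u, h1, -, -⟩ := mem_leech_iff.1 hx
  rcases Int.emod_two_eq_zero_or_one m with h | h
  · left; intro i; rw [h1 i]; omega
  · right; intro i; rw [h1 i]; omega

/-- Membership criterion for vectors with even coordinates. -/
theorem mem_iff_of_even {x : GolayPt → ℤ} (hx : ∀ i, x i % 2 = 0) :
    x ∈ leechLattice ↔ (univ.filter fun i => x i % 4 = 2) ∈ CodeSets ∧ (∑ i, x i) % 8 = 0 := by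
  constructor
  · intro h
    obtain ⟨m, h1, h2, h3⟩ := mem_leech_iff_set.1 h
    refine ⟨h3 2, ?_⟩
    have := h1 none; have := hx none; unfold Int.ModEq at *; omega
  · rintro ⟨h1, h2⟩
    refine mem_leech_iff.2 ⟨0, fun i => x i / 2, fun i => ?_, ?_, by simpa using h2⟩
    · have := hx i; beta_reduce; omega
    · rw [red_mem_iff]; convert h1 using 2 with i; have := hx i; omega

/-- Membership criterion for vectors with odd coordinates. -/
theorem mem_iff_of_odd {x : GolayPt → ℤ} (hx : ∀ i, x i % 2 = 1) :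
    x ∈ leechLattice ↔ (univ.filter fun i => x i % 4 = 3) ∈ CodeSets ∧ (∑ i, x i) % 8 = 4 := by
  constructor
  · intro h
    obtain ⟨m, h1, h2, h3⟩ := mem_leech_iff_set.1 h
    refine ⟨h3 3, ?_⟩
    have := h1 none; have := hx none; unfold Int.ModEq at *; omega
  · rintro ⟨h1, h2⟩
    refine mem_leech_iff.2 ⟨1, fun i => x i / 2, fun i => ?_, ?_, by simpa using h2⟩
    · have := hx i; beta_reduce; omega
    · rw [red_mem_iff]; convert h1 using 2 with i; have := hx i; omega

theorem filter_mod_four_mem {x : GolayPt → ℤ} (hx : x ∈ leechLattice) (k : ℤ) :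
    (univ.filter fun i => x i % 4 = k % 4) ∈ CodeSets := by
  obtain ⟨m, -, -, h3⟩ := mem_leech_iff_set.1 hx
  exact h3 k

/-- Four times a vector with even coordinate sum is a Leech vector. -/
theorem four_mul_mem {y : GolayPt → ℤ} (hy : (∑ i, y i) % 2 = 0) :
    (fun i => 4 * y i) ∈ leechLattice := by
  rw [mem_iff_of_even (fun i => by omega)]
  refine ⟨?_, ?_⟩
  · convert empty_mem_codeSets using 1
    apply filter_false_of_mem; intro i _; omega
  · rw [← mul_sum]; omega

theorem eight_mul_mem (y : GolayPt → ℤ) : (fun i => 8 * y i) ∈ leechLattice := by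
  have := four_mul_mem (y := fun i => 2 * y i) (by rw [← mul_sum]; omega)
  convert this using 2; ring

theorem single_eight_mem (i : GolayPt) : (Pi.single i 8 : GolayPt → ℤ) ∈ leechLattice := by
  convert eight_mul_mem (Pi.single i 1) using 2
  rename_i j
  by_cases h : j = i
  · subst h; simp
  · simp [h]

/-! ### The action of `M24` on words and code sets -/

theorem smul_mem_codeSets {σ : Equiv.Perm GolayPt} (hσ : σ ∈ M24) {c : Finset GolayPt}
    (hc : c ∈ CodeSets) : σ • c ∈ CodeSets := by
  have h : σ • CodeSets = CodeSets := hσ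
  rw [← h]; exact Set.smul_mem_smul_set hc

theorem smul_mem_codeSets_iff {σ : Equiv.Perm GolayPt} (hσ : σ ∈ M24) {c : Finset GolayPt} :
    σ • c ∈ CodeSets ↔ c ∈ CodeSets :=
  ⟨fun h => by simpa using smul_mem_codeSets (M24.inv_mem hσ) h, smul_mem_codeSets hσ⟩

theorem mem_M24_of_forall {σ : Equiv.Perm GolayPt}
    (h : ∀ c ∈ CodeSets, σ • c ∈ CodeSets) : σ ∈ M24 := by
  show σ • CodeSets = CodeSets
  apply Set.eq_of_subset_of_ncard_le
  · rintro _ ⟨c, hc, rfl⟩; exact h c hc
  · rw [Set.ncard_smul_set]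
  · exact Set.toFinite _

theorem mem_smul_iff' {σ : Equiv.Perm GolayPt} {c : Finset GolayPt} {i : GolayPt} :
    i ∈ σ • c ↔ σ.symm i ∈ c := by
  rw [Finset.mem_smul_finset]
  constructor
  · rintro ⟨j, hj, rfl⟩; simpa using hj
  · intro h; exact ⟨_, h, by simp⟩

theorem filter_comp_mem {σ : Equiv.Perm GolayPt} (hσ : σ ∈ M24) {p : GolayPt → Prop}
    [DecidablePred p] (h : univ.filter p ∈ CodeSets) :
    (univ.filter fun i => p (σ i)) ∈ CodeSets := by
  convert smul_mem_codeSets (M24.inv_mem hσ) h using 1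
  ext i; rw [mem_smul_iff']; simp [Equiv.Perm.inv_def]

theorem word_comp_mem {σ : Equiv.Perm GolayPt} (hσ : σ ∈ M24) {w : GolayPt → ZMod 2}
    (hw : w ∈ golayCode) : (fun i => w (σ i)) ∈ golayCode := by
  rw [← support₂_mem_codeSets] at hw ⊢
  exact filter_comp_mem hσ hw

theorem comp_mem {σ : Equiv.Perm GolayPt} (hσ : σ ∈ M24) {x : GolayPt → ℤ}
    (hx : x ∈ leechLattice) : (fun i => x (σ i)) ∈ leechLattice := by
  obtain ⟨m, u, h1, h2, h3⟩ := mem_leech_iff.1 hx
  refine mem_leech_iff.2 ⟨m, fun i => u (σ i), fun i => h1 _, word_comp_mem hσ h2, ?_⟩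
  rw [Equiv.sum_comp σ x]; exact h3

/-! ### Norms and inner products -/

theorem sqNorm_eq_dot (x : GolayPt → ℤ) : sqNorm x = dotInt x x := by
  simp [sqNorm, dotInt, sq]

theorem dotInt_comm (x y : GolayPt → ℤ) : dotInt x y = dotInt y x := by
  simp [dotInt, mul_comm]

theorem dotInt_add_left (x y z : GolayPt → ℤ) : dotInt (x + y) z = dotInt x z + dotInt y z := by
  simp [dotInt, add_mul, sum_add_distrib]

theorem dotInt_add_right (x y z : GolayPt → ℤ) : dotInt x (y + z) = dotInt x y + dotInt x z := by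
  simp [dotInt, mul_add, sum_add_distrib]

theorem dotInt_neg_left (x y : GolayPt → ℤ) : dotInt (-x) y = -dotInt x y := by
  simp [dotInt]

theorem dotInt_neg_right (x y : GolayPt → ℤ) : dotInt x (-y) = -dotInt x y := by
  simp [dotInt]

theorem dotInt_sub_left (x y z : GolayPt → ℤ) : dotInt (x - y) z = dotInt x z - dotInt y z := by
  simp [dotInt, sub_mul, sum_sub_distrib]

theorem dotInt_sub_right (x y z : GolayPt → ℤ) : dotInt x (y - z) = dotInt x y - dotInt x z := by
  simp [dotInt, mul_sub, sum_sub_distrib]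

theorem dotInt_zsmul_left (n : ℤ) (x y : GolayPt → ℤ) : dotInt (n • x) y = n * dotInt x y := by
  simp only [dotInt, mul_sum, Pi.smul_apply, smul_eq_mul, mul_assoc]

theorem dotInt_zsmul_right (n : ℤ) (x y : GolayPt → ℤ) : dotInt x (n • y) = n * dotInt x y := by
  rw [dotInt_comm, dotInt_zsmul_left, dotInt_comm]

theorem dotInt_single_right (x : GolayPt → ℤ) (i : GolayPt) (a : ℤ) :
    dotInt x (Pi.single i a) = x i * a := by
  unfold dotInt
  rw [sum_eq_single i] <;> simp +contextual

theorem dotInt_single_left (x : GolayPt → ℤ) (i : GolayPt) (a : ℤ) :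
    dotInt (Pi.single i a) x = a * x i := by
  rw [dotInt_comm, dotInt_single_right, mul_comm]

theorem sqNorm_add (x y : GolayPt → ℤ) :
    sqNorm (x + y) = sqNorm x + 2 * dotInt x y + sqNorm y := by
  simp only [sqNorm_eq_dot, dotInt_add_left, dotInt_add_right, dotInt_comm y x]; ring

theorem sqNorm_sub (x y : GolayPt → ℤ) :
    sqNorm (x - y) = sqNorm x - 2 * dotInt x y + sqNorm y := by
  simp only [sqNorm_eq_dot, dotInt_sub_left, dotInt_sub_right, dotInt_comm y x]; ring

theorem sqNorm_neg (x : GolayPt → ℤ) : sqNorm (-x) = sqNorm x := by simp [sqNorm]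

theorem sqNorm_zsmul (n : ℤ) (x : GolayPt → ℤ) : sqNorm (n • x) = n ^ 2 * sqNorm x := by
  simp only [sqNorm, mul_sum, Pi.smul_apply, smul_eq_mul, mul_pow]

theorem sqNorm_nonneg (x : GolayPt → ℤ) : 0 ≤ sqNorm x := sum_nonneg fun _ _ => sq_nonneg _

theorem sq_le_sqNorm (x : GolayPt → ℤ) (i : GolayPt) : x i ^ 2 ≤ sqNorm x :=
  single_le_sum (f := fun i => x i ^ 2) (fun _ _ => sq_nonneg _) (mem_univ i)

theorem sqNorm_eq_zero {x : GolayPt → ℤ} : sqNorm x = 0 ↔ x = 0 := by
  constructor
  · intro h; funext i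
    have := sq_le_sqNorm x i
    rw [h] at this
    exact pow_eq_zero_iff (two_ne_zero) |>.1 (le_antisymm this (sq_nonneg _))
  · rintro rfl; simp [sqNorm]

theorem sqNorm_single (i : GolayPt) (a : ℤ) : sqNorm (Pi.single i a : GolayPt → ℤ) = a ^ 2 := by
  rw [sqNorm_eq_dot, dotInt_single_right]; simp [sq]

/-! ### Elements of `Co0` -/

theorem Co0_smul_def (g : Co0) (v : leechLattice) :
    g • v = (g : Equiv.Perm leechLattice) v := rfl

theorem Co0_add (g : Co0) (v w : leechLattice) : g • (v + w) = g • v + g • w := g.2.1 v w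

theorem Co0_sqNorm (g : Co0) (v : leechLattice) :
    sqNorm ((g • v : leechLattice) : GolayPt → ℤ) = sqNorm (v : GolayPt → ℤ) := g.2.2 v

/-- An element of `Co0` as an additive homomorphism. -/
def toHom (g : Co0) : leechLattice →+ leechLattice := AddMonoidHom.mk' (fun v => g • v) (Co0_add g)

theorem toHom_apply (g : Co0) (v : leechLattice) : toHom g v = g • v := rfl

theorem Co0_zero (g : Co0) : g • (0 : leechLattice) = 0 := (toHom g).map_zero

theorem Co0_neg (g : Co0) (v : leechLattice) : g • (-v) = -(g • v) := (toHom g).map_neg v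

theorem Co0_sub (g : Co0) (v w : leechLattice) : g • (v - w) = g • v - g • w :=
  (toHom g).map_sub v w

theorem Co0_zsmul (g : Co0) (n : ℤ) (v : leechLattice) : g • (n • v) = n • (g • v) :=
  (toHom g).map_zsmul n v

theorem Co0_nsmul (g : Co0) (n : ℕ) (v : leechLattice) : g • (n • v) = n • (g • v) :=
  (toHom g).map_nsmul n v

theorem Co0_sum {ι : Type*} (g : Co0) (s : Finset ι) (f : ι → leechLattice) :
    g • (∑ i ∈ s, f i) = ∑ i ∈ s, g • f i := map_sum (toHom g) f s

theorem Co0_dotInt (g : Co0) (v w : leechLattice) :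
    dotInt ((g • v : leechLattice) : GolayPt → ℤ) ((g • w : leechLattice) : GolayPt → ℤ) =
      dotInt (v : GolayPt → ℤ) (w : GolayPt → ℤ) := by
  have h := Co0_sqNorm g (v + w)
  rw [Co0_add, AddSubgroup.coe_add, AddSubgroup.coe_add, sqNorm_add, sqNorm_add, Co0_sqNorm,
    Co0_sqNorm] at h
  omega

/-- The lattice vector `8 e_i`. -/
def e8 (i : GolayPt) : leechLattice := ⟨Pi.single i 8, single_eight_mem i⟩

theorem coe_e8 (i : GolayPt) : (e8 i : GolayPt → ℤ) = Pi.single i 8 := rfl

theorem eight_smul_eq (v : leechLattice) : (8 : ℤ) • v = ∑ i, (v : GolayPt → ℤ) i • e8 i := by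
  apply Subtype.ext
  rw [AddSubgroup.val_finsetSum]
  funext j
  simp only [AddSubgroupClass.coe_zsmul, Pi.smul_apply, smul_eq_mul, Finset.sum_apply, coe_e8]
  rw [sum_eq_single j] <;> simp +contextual [mul_comm, eq_comm]

/-- An element of `Co0` is determined by its values on the vectors `8 e_i`. -/
theorem Co0_ext_e8 {g h : Co0} (H : ∀ i, g • e8 i = h • e8 i) : g = h := by
  apply Subtype.ext; apply Equiv.ext; intro v
  have : (8 : ℤ) • (g • v) = (8 : ℤ) • (h • v) := by
    rw [← Co0_zsmul, ← Co0_zsmul, eight_smul_eq, Co0_sum, Co0_sum]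
    simp only [Co0_zsmul, H]
  apply Subtype.ext
  have h2 := congrArg (fun z : leechLattice => (z : GolayPt → ℤ)) this
  funext j
  have := congrFun h2 j
  simp only [AddSubgroupClass.coe_zsmul, Pi.smul_apply, smul_eq_mul] at this
  rw [← Co0_smul_def, ← Co0_smul_def]
  omega

theorem Co0_ext {g h : Co0}
    (H : ∀ v : leechLattice, ((g • v : leechLattice) : GolayPt → ℤ) = (h • v : leechLattice)) :
    g = h := Co0_ext_e8 fun _ => Subtype.ext (H _)

/-- Build an element of `Co0` from an additive norm-preserving map of `ℤ^24` (only its behaviour on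
the lattice matters) together with an inverse on the lattice. -/
def mkCo0 (f g : (GolayPt → ℤ) → (GolayPt → ℤ))
    (hf : ∀ x ∈ leechLattice, f x ∈ leechLattice) (hg : ∀ x ∈ leechLattice, g x ∈ leechLattice)
    (hgf : ∀ x ∈ leechLattice, g (f x) = x) (hfg : ∀ x ∈ leechLattice, f (g x) = x)
    (hadd : ∀ x ∈ leechLattice, ∀ y ∈ leechLattice, f (x + y) = f x + f y)
    (hn : ∀ x ∈ leechLattice, sqNorm (f x) = sqNorm x) : Co0 :=
  ⟨{ toFun := fun v => ⟨f v, hf v v.2⟩
     invFun := fun v => ⟨g v, hg v v.2⟩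
     left_inv := fun v => Subtype.ext (hgf v v.2)
     right_inv := fun v => Subtype.ext (hfg v v.2) },
   fun v w => Subtype.ext (hadd v v.2 w w.2), fun v => hn v v.2⟩

theorem mkCo0_smul (f g : (GolayPt → ℤ) → (GolayPt → ℤ)) (hf hg hgf hfg hadd hn)
    (v : leechLattice) :
    ((mkCo0 f g hf hg hgf hfg hadd hn • v : leechLattice) : GolayPt → ℤ) = f v := rfl

/-- Negation as an element of `Co0`. -/
def negOne : Co0 :=
  mkCo0 (fun x => -x) (fun x => -x) (fun _ h => neg_mem h) (fun _ h => neg_mem h)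
    (fun _ _ => neg_neg _) (fun _ _ => neg_neg _) (fun _ _ _ _ => neg_add _ _)
    (fun x _ => sqNorm_neg x)

theorem negOne_smul (v : leechLattice) : negOne • v = -v := rfl

/-- A coordinate permutation from `M24` as an element of `Co0`: `x ↦ x ∘ σ⁻¹`. -/
def permCo0 : M24 →* Co0 :=
  MonoidHom.mk' (fun σ =>
    mkCo0 (fun x i => x ((σ : Equiv.Perm GolayPt).symm i)) (fun x i => x ((σ : Equiv.Perm GolayPt) i))
      (fun _ h => comp_mem (M24.inv_mem σ.2) h) (fun _ h => comp_mem σ.2 h)
      (fun x _ => by funext i; simp) (fun x _ => by funext i; simp) (fun _ _ _ _ => rfl)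
      (fun x _ => Equiv.sum_comp (σ : Equiv.Perm GolayPt).symm (fun i => x i ^ 2)))
    (fun _ _ => rfl)

theorem permCo0_smul (σ : M24) (v : leechLattice) (i : GolayPt) :
    ((permCo0 σ • v : leechLattice) : GolayPt → ℤ) i =
      (v : GolayPt → ℤ) ((σ : Equiv.Perm GolayPt).symm i) := rfl

theorem permCo0_smul_apply (σ : M24) (v : leechLattice) (i : GolayPt) :
    ((permCo0 σ • v : leechLattice) : GolayPt → ℤ) ((σ : Equiv.Perm GolayPt) i) =
      (v : GolayPt → ℤ) i := by
  rw [permCo0_smul]; simp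

theorem permCo0_e8 (σ : M24) (i : GolayPt) :
    permCo0 σ • e8 i = e8 ((σ : Equiv.Perm GolayPt) i) := by
  apply Subtype.ext; funext j
  rw [permCo0_smul, coe_e8, coe_e8]
  simp only [Pi.single_apply, Equiv.symm_apply_eq]

theorem e8_injective : Function.Injective e8 := by
  intro i j h
  have := congrFun (congrArg (fun z : leechLattice => (z : GolayPt → ℤ)) h) i
  simp only [coe_e8, Pi.single_eq_same, Pi.single_apply] at this
  by_contra hne; simp [hne] at this

theorem permCo0_injective : Function.Injective permCo0 := by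
  intro σ τ h
  apply Subtype.ext; apply Equiv.ext; intro i
  apply e8_injective
  rw [← permCo0_e8, ← permCo0_e8, h]

end CL.Leech
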