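import Cfsg.Agent.Base
import Cfsg.Agent.Spor.GolayCode
import Cfsg.Agent.Auto.ACL_Golay_toMask_cde9b5

/-!
# Packed permutations of the 24 points and the test for membership in `M24`

* `app g i` : entry `i` of the packed permutation `g` (5 bits per entry);
* `Rep σ g` : the permutation `σ` of the points is described by `g`; `toPerm g`;
* `mulP`, `invP`, `idP` : product, inverse, identity;
* `toM g`, `appM M v` : image of a mask in 4 kernel operations (`act g v = appM (toM g) v`);
* `isM24 g : Bool` with `isM24 g = true → toPerm g ∈ M24 ∧ Rep (toPerm g) g`.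
-/

set_option autoImplicit false

namespace CL.Golay
open Cfsg Finset
open scoped Pointwise

/-! ### The action of permutations on sets of points -/

theorem mem_smul_iff {α : Type*} [DecidableEq α] {σ : Equiv.Perm α} {s : Finset α} {p : α} :
    p ∈ σ • s ↔ σ⁻¹ p ∈ s := by
  rw [← Finset.inv_smul_mem_iff]; rfl

theorem apply_mem_smul_iff {α : Type*} [DecidableEq α] {σ : Equiv.Perm α} {s : Finset α} {p : α} :
    σ p ∈ σ • s ↔ p ∈ s := by
  rw [mem_smul_iff]; simp

theorem smul_eq_image {α : Type*} [DecidableEq α] (σ : Equiv.Perm α) (s : Finset α) :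
    σ • s = s.image σ := rfl

theorem smul_symmDiff' {α : Type*} [DecidableEq α] (σ : Equiv.Perm α) (s t : Finset α) :
    σ • symmDiff s t = symmDiff (σ • s) (σ • t) := by
  ext p; simp only [mem_smul_iff, mem_symmDiff]

theorem smul_inter' {α : Type*} [DecidableEq α] (σ : Equiv.Perm α) (s t : Finset α) :
    σ • (s ∩ t) = σ • s ∩ σ • t := by
  ext p; simp only [mem_smul_iff, mem_inter]

theorem smul_union' {α : Type*} [DecidableEq α] (σ : Equiv.Perm α) (s t : Finset α) :
    σ • (s ∪ t) = σ • s ∪ σ • t := by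
  ext p; simp only [mem_smul_iff, mem_union]

theorem smul_sdiff' {α : Type*} [DecidableEq α] (σ : Equiv.Perm α) (s t : Finset α) :
    σ • (s \ t) = σ • s \ σ • t := by
  ext p; simp only [mem_smul_iff, mem_sdiff]

theorem smul_compl' {α : Type*} [Fintype α] [DecidableEq α] (σ : Equiv.Perm α) (s : Finset α) :
    σ • sᶜ = (σ • s)ᶜ := by
  ext p; simp only [mem_smul_iff, mem_compl]

theorem smul_singleton' {α : Type*} [DecidableEq α] (σ : Equiv.Perm α) (p : α) :
    σ • ({p} : Finset α) = {σ p} := by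
  rw [smul_eq_image, image_singleton]

theorem card_smul' {α : Type*} [DecidableEq α] (σ : Equiv.Perm α) (s : Finset α) :
    (σ • s).card = s.card := card_smul_finset σ s

theorem smul_subset_smul' {α : Type*} [DecidableEq α] (σ : Equiv.Perm α) {s t : Finset α} :
    σ • s ⊆ σ • t ↔ s ⊆ t := smul_finset_subset_smul_finset_iff

theorem smul_eq_self_iff {α : Type*} [DecidableEq α] {σ : Equiv.Perm α} {s : Finset α} :
    σ • s = s ↔ ∀ p, σ p ∈ s ↔ p ∈ s := by
  constructor
  · intro h p; conv_lhs => rw [← h]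
    exact apply_mem_smul_iff
  · intro h; ext p; rw [mem_smul_iff, ← h]; simp

theorem smul_eq_self_of_mapsTo {α : Type*} [DecidableEq α] {σ : Equiv.Perm α} {s : Finset α}
    (h : ∀ p ∈ s, σ p ∈ s) : σ • s = s := by
  apply eq_of_subset_of_card_le _ (by rw [card_smul'])
  intro p hp
  obtain ⟨q, hq, rfl⟩ := mem_image.1 hp
  exact h q hq

/-- A permutation of a finite type that maps every member of a family into the family is an
automorphism of the family. -/
theorem mem_setSystemAut_iff {α : Type*} [Finite α] [DecidableEq α] {B : Set (Finset α)}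
    {σ : Equiv.Perm α} : σ ∈ setSystemAut B ↔ ∀ s ∈ B, σ • s ∈ B := by
  rw [MulAction.mem_stabilizer_iff]
  constructor
  · intro h s hs
    rw [← h]; exact Set.smul_mem_smul_set hs
  · intro h
    have : Finite (Finset α) := by have := Fintype.ofFinite α; infer_instance
    apply Set.eq_of_subset_of_ncard_le
    · rintro _ ⟨s, hs, rfl⟩; exact h s hs
    · exact (Set.ncard_image_of_injective B (MulAction.injective σ)).ge
    · exact Set.toFinite _

theorem mem_M24_iff {σ : Equiv.Perm GolayPt} : σ ∈ M24 ↔ ∀ s ∈ CSet, σ • s ∈ CSet :=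
  mem_setSystemAut_iff

theorem smul_mem_CSet {σ : Equiv.Perm GolayPt} (h : σ ∈ M24) {s : Finset GolayPt}
    (hs : s ∈ CSet) : σ • s ∈ CSet := mem_M24_iff.1 h s hs

theorem smul_mem_CSet_iff {σ : Equiv.Perm GolayPt} (h : σ ∈ M24) {s : Finset GolayPt} :
    σ • s ∈ CSet ↔ s ∈ CSet :=
  ⟨fun hs => by simpa using smul_mem_CSet (inv_mem h) hs, smul_mem_CSet h⟩

theorem smul_mem_octads_iff {σ : Equiv.Perm GolayPt} (h : σ ∈ M24) {s : Finset GolayPt} :
    σ • s ∈ octads ↔ s ∈ octads := by
  rw [mem_octads_iff, mem_octads_iff, smul_mem_CSet_iff h, card_smul']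

theorem smul_mem_dodecads_iff {σ : Equiv.Perm GolayPt} (h : σ ∈ M24) {s : Finset GolayPt} :
    σ • s ∈ dodecads ↔ s ∈ dodecads := by
  rw [mem_dodecads_iff, mem_dodecads_iff, smul_mem_CSet_iff h, card_smul']

theorem smul_mem_octads {σ : Equiv.Perm GolayPt} (h : σ ∈ M24) {s : Finset GolayPt}
    (hs : s ∈ octads) : σ • s ∈ octads := (smul_mem_octads_iff h).2 hs

theorem smul_mem_dodecads {σ : Equiv.Perm GolayPt} (h : σ ∈ M24) {s : Finset GolayPt}
    (hs : s ∈ dodecads) : σ • s ∈ dodecads := (smul_mem_dodecads_iff h).2 hs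

/-- A permutation is in `M24` as soon as it maps the 12 basis octads into the code. -/
theorem mem_M24_of_basL {σ : Equiv.Perm GolayPt} (h : ∀ b ∈ basL, σ • ofMask b ∈ CSet) :
    σ ∈ M24 :=
  mem_M24_iff.2 fun _ hs => CSet_induction (P := fun s => σ • s ∈ CSet)
    (by simpa using empty_mem_CSet)
    (fun s t hs ht => by rw [smul_symmDiff']; exact symmDiff_mem_CSet hs ht) h hs

theorem basL_mem_octads : ∀ b ∈ basL, ofMask b ∈ octads := by
  have : ∀ b ∈ basL, isCode b = true ∧ pop b = 8 := by decide +kernel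
  exact fun b hb => ofMask_mem_octads_iff.2 (this b hb)

theorem mem_M24_iff_octads {σ : Equiv.Perm GolayPt} : σ ∈ M24 ↔ ∀ o ∈ octads, σ • o ∈ octads :=
  ⟨fun h _ ho => smul_mem_octads h ho,
    fun h => mem_M24_of_basL fun b hb => (h _ (basL_mem_octads b hb)).1⟩

theorem M24_eq_octadAut : M24 = setSystemAut octads := by
  ext σ; rw [mem_M24_iff_octads, mem_setSystemAut_iff]

/-- The action of an element of the subgroup `M24` on sets is that of the permutation. -/
theorem M24_smul_def (g : M24) (s : Finset GolayPt) :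
    g • s = (g : Equiv.Perm GolayPt) • s := rfl

/-! ### Packed permutations -/

/-- Entry `i` of a packed table with 5 bits per entry. -/
def app (g i : ℕ) : ℕ := Nat.land (Nat.shiftRight g (Nat.mul (nat_lit 5) i)) (nat_lit 31)

theorem app_eq (g i : ℕ) : app g i = g / 32 ^ i % 32 := by
  have : app g i = (g >>> (5 * i)) &&& (2 ^ 5 - 1) := rfl
  rw [this, Nat.and_two_pow_sub_one_eq_mod, Nat.shiftRight_eq_div_pow, pow_mul]; rfl

/-- The packed table of `f 0, …, f (n-1)`. -/
noncomputable def packN (f : ℕ → ℕ) (n : ℕ) : ℕ :=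
  Nat.rec (nat_lit 0) (fun i acc => Nat.add acc (Nat.shiftLeft (f i) (Nat.mul (nat_lit 5) i))) n

theorem packN_succ (f : ℕ → ℕ) (n : ℕ) : packN f (n + 1) = packN f n + f n * 32 ^ n := by
  have : packN f (n + 1) = packN f n + (f n) <<< (5 * n) := rfl
  rw [this, Nat.shiftLeft_eq, pow_mul]; rfl

theorem packN_lt {f : ℕ → ℕ} {n : ℕ} (hf : ∀ i < n, f i < 32) : packN f n < 32 ^ n := by
  induction n with
  | zero => exact Nat.one_pos
  | succ n ih =>
    have h1 := ih fun i hi => hf i (by omega)
    have h2 := hf n (by omega)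
    rw [packN_succ, pow_succ]
    nlinarith

theorem app_packN {f : ℕ → ℕ} {n : ℕ} (hf : ∀ i < n, f i < 32) {i : ℕ} (hi : i < n) :
    app (packN f n) i = f i := by
  induction n with
  | zero => omega
  | succ n ih =>
    have hf' : ∀ i < n, f i < 32 := fun i hi => hf i (by omega)
    rw [packN_succ, app_eq]
    rcases Nat.lt_succ_iff_lt_or_eq.1 hi with h | rfl
    · obtain ⟨k, rfl⟩ : ∃ k, n = i + k + 1 := ⟨n - i - 1, by omega⟩
      have : f (i + k + 1) * 32 ^ (i + k + 1) = 32 ^ i * (32 * (f (i + k + 1) * 32 ^ k)) := by ring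
      rw [this, Nat.add_mul_div_left _ _ (by positivity), Nat.add_mul_mod_self_left, ← app_eq,
        ih hf' h]
    · rw [Nat.add_mul_div_right _ _ (by positivity), Nat.div_eq_of_lt (packN_lt hf'), zero_add,
        Nat.mod_eq_of_lt (hf _ hi)]

/-- The permutation `σ` is described by the packed table `g`. -/
def Rep (σ : Equiv.Perm GolayPt) (g : ℕ) : Prop := ∀ p, idx (σ p) = app g (idx p)

theorem Rep.apply {σ : Equiv.Perm GolayPt} {g : ℕ} (h : Rep σ g) (p : GolayPt) :
    σ p = pt (app g (idx p)) := by rw [← h p, pt_idx]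

theorem Rep.apply_pt {σ : Equiv.Perm GolayPt} {g : ℕ} (h : Rep σ g) {i : ℕ} (hi : i < 24) :
    σ (pt i) = pt (app g i) := by rw [h.apply, idx_pt hi]

theorem Rep.app_lt {σ : Equiv.Perm GolayPt} {g : ℕ} (h : Rep σ g) {i : ℕ} (hi : i < 24) :
    app g i < 24 := by rw [← idx_pt hi, ← h]; exact idx_lt _

theorem Rep.unique {σ τ : Equiv.Perm GolayPt} {g : ℕ} (h : Rep σ g) (h' : Rep τ g) : σ = τ := by
  ext p : 1; rw [h.apply, h'.apply]

theorem Rep.eq_iff {σ τ : Equiv.Perm GolayPt} {g k : ℕ} (h : Rep σ g) (h' : Rep τ k) :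
    σ = τ ↔ ∀ i < 24, app g i = app k i := by
  constructor
  · rintro rfl i hi; rw [← idx_pt hi, ← h, ← h']
  · intro H; ext p : 1; rw [h.apply, h'.apply, H _ (idx_lt p)]

theorem rep_iff {σ : Equiv.Perm GolayPt} {g : ℕ} :
    Rep σ g ↔ ∀ i < 24, idx (σ (pt i)) = app g i := by
  unfold Rep
  rw [forall_pt]
  exact forall_congr' fun i => forall_congr' fun hi => by rw [idx_pt hi]

/-- The packed table of a permutation. -/
noncomputable def codeP (σ : Equiv.Perm GolayPt) : ℕ := packN (fun i => idx (σ (pt i))) 24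

theorem rep_codeP (σ : Equiv.Perm GolayPt) : Rep σ (codeP σ) :=
  rep_iff.2 fun _ hi =>
    (app_packN (f := fun i => idx (σ (pt i))) (fun _ _ => (idx_lt _).trans (by norm_num)) hi).symm

/-- The packed identity. -/
def idP : ℕ := nat_lit 984818244535754528103549039458486304

theorem rep_one : Rep 1 idP := by unfold Rep; decide +kernel

/-- The packed product (`g` after `k`). -/
noncomputable def mulP (g k : ℕ) : ℕ := packN (fun i => app g (app k i)) (nat_lit 24)

theorem app_lt_32 (g i : ℕ) : app g i < 32 := by rw [app_eq]; exact Nat.mod_lt _ (by norm_num)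

theorem Rep.mul {σ τ : Equiv.Perm GolayPt} {g k : ℕ} (h : Rep σ g) (h' : Rep τ k) :
    Rep (σ * τ) (mulP g k) := fun p => by
  rw [Equiv.Perm.mul_apply, h, h']
  exact (app_packN (f := fun i => app g (app k i)) (fun _ _ => app_lt_32 _ _) (idx_lt p)).symm

/-- `app` of a sum of shifted entries: used for the inverse. -/
noncomputable def invP (g : ℕ) : ℕ :=
  Nat.rec (nat_lit 0)
    (fun i acc => Nat.add acc (Nat.shiftLeft i (Nat.mul (nat_lit 5) (app g i)))) (nat_lit 24)

theorem packN_eq_sum (f : ℕ → ℕ) (n : ℕ) : packN f n = ∑ i ∈ range n, f i * 32 ^ i := by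
  induction n with
  | zero => rfl
  | succ n ih => rw [packN_succ, sum_range_succ, ih]

theorem invP_eq_sum (g : ℕ) : invP g = ∑ i ∈ range 24, i * 32 ^ app g i := by
  have : ∀ n, (Nat.rec 0 (fun i acc => Nat.add acc (Nat.shiftLeft i (Nat.mul 5 (app g i)))) n : ℕ)
      = ∑ i ∈ range n, i * 32 ^ app g i := by
    intro n
    induction n with
    | zero => rfl
    | succ n ih =>
      rw [sum_range_succ, ← ih]
      change _ + n <<< (5 * app g n) = _
      rw [Nat.shiftLeft_eq, pow_mul]; rfl
  exact this 24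

theorem Rep.inv {σ : Equiv.Perm GolayPt} {g : ℕ} (h : Rep σ g) : Rep σ⁻¹ (invP g) := by
  have : invP g = codeP σ⁻¹ := by
    have e1 : ∑ i ∈ range 24, idx (σ⁻¹ (pt i)) * 32 ^ i = ∑ p, idx (σ⁻¹ p) * 32 ^ idx p := by
      rw [sum_pt]
      exact sum_congr rfl fun i hi => by rw [idx_pt (mem_range.1 hi)]
    rw [invP_eq_sum, codeP, packN_eq_sum, e1, ← Equiv.sum_comp σ, sum_pt]
    apply sum_congr rfl
    intro i hi
    rw [mem_range] at hi
    rw [h, idx_pt hi]
    simp [idx_pt hi]
  rw [this]; exact rep_codeP _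

/-- The `n`-th power of a packed permutation. -/
noncomputable def powP (g n : ℕ) : ℕ := Nat.rec idP (fun _ acc => mulP g acc) n

theorem Rep.pow {σ : Equiv.Perm GolayPt} {g : ℕ} (h : Rep σ g) (n : ℕ) :
    Rep (σ ^ n) (powP g n) := by
  induction n with
  | zero => rw [pow_zero]; exact rep_one
  | succ n ih => rw [pow_succ']; exact h.mul ih

/-- Entrywise equality test of packed tables. -/
noncomputable def eqP (g k : ℕ) : Bool := allTo (fun i => Nat.beq (app g i) (app k i)) (nat_lit 24)

theorem Rep.eq_iff_eqP {σ τ : Equiv.Perm GolayPt} {g k : ℕ} (h : Rep σ g) (h' : Rep τ k) :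
    σ = τ ↔ eqP g k = true := by
  rw [h.eq_iff h', eqP, allTo_iff]; simp only [Nat.beq_eq]

/-- The permutation described by a packed table (the identity if the table is not bijective). -/
noncomputable def toPerm (g : ℕ) : Equiv.Perm GolayPt :=
  open Classical in
  if h : Function.Bijective (fun p => pt (app g (idx p))) then Equiv.ofBijective _ h else 1

theorem Rep.eq_toPerm {σ : Equiv.Perm GolayPt} {g : ℕ} (h : Rep σ g) : σ = toPerm g := by
  have h1 : (fun p => pt (app g (idx p))) = σ := funext fun p => (h.apply p).symm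
  have h2 : Function.Bijective (fun p => pt (app g (idx p))) := by rw [h1]; exact σ.bijective
  ext p : 1
  rw [toPerm, dif_pos h2, Equiv.ofBijective_apply, h.apply]

theorem Rep.toPerm {σ : Equiv.Perm GolayPt} {g : ℕ} (h : Rep σ g) : Rep (toPerm g) g :=
  h.eq_toPerm ▸ h

/-- Test that a packed table is a permutation of `0, …, 23`. -/
noncomputable def isPerm (g : ℕ) : Bool :=
  Nat.beq (Nat.rec (nat_lit 0)
    (fun i acc => Nat.lor acc (Nat.shiftLeft (nat_lit 1) (app g i))) (nat_lit 24))
    (nat_lit 16777215)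

theorem rep_toPerm {g : ℕ} (h : isPerm g = true) : Rep (toPerm g) g := by
  have key : ∀ n j, (Nat.rec 0 (fun i acc => Nat.lor acc (Nat.shiftLeft 1 (app g i))) n : ℕ).testBit
      j = true ↔ ∃ i < n, app g i = j := by
    intro n j
    induction n with
    | zero => simp
    | succ n ih =>
      rw [Nat.exists_lt_succ_right, ← ih]
      change (_ ||| (1 <<< app g n)).testBit j = true ↔ _
      rw [Nat.testBit_or, Nat.one_shiftLeft, Nat.testBit_two_pow]
      simp
  have h0 : (Nat.rec 0 (fun i acc => Nat.lor acc (Nat.shiftLeft 1 (app g i))) 24 : ℕ)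
      = 2 ^ 24 - 1 := Nat.eq_of_beq_eq_true h
  have h1 : ∀ j, j < 24 ↔ ∃ i < 24, app g i = j := fun j => by
    rw [← key, h0, Nat.testBit_two_pow_sub_one]; simp
  have h2 : Function.Bijective (fun p => pt (app g (idx p))) := by
    apply Finite.surjective_iff_bijective.1
    intro q
    obtain ⟨i, hi, hj⟩ := (h1 _).1 (idx_lt q)
    exact ⟨pt i, by simp only [idx_pt hi, hj, pt_idx]⟩
  intro p
  rw [toPerm, dif_pos h2, Equiv.ofBijective_apply, idx_pt ((h1 _).2 ⟨_, idx_lt p, rfl⟩)]

/-! ### Fast action on masks -/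

/-- Image of the mask `v` under the permutation with selector `M` (see `toM`). -/
def appM (M v : ℕ) : ℕ :=
  Nat.mod (Nat.land (Nat.mul (Nat.land v (nat_lit 16777215))
    (nat_lit 0x1000000400000100000040000010000004000001000000400000100000040000010000004000001000000400000100000040000010000004000001000000400000100000040000010000004000001))
    M) (nat_lit 33554431)

/-- Position of the selector bit for `i ↦ y`. -/
def selPos (i y : ℕ) : ℕ :=
  Nat.add (Nat.mul (nat_lit 26) (Nat.mod (Nat.sub (Nat.add y (nat_lit 25)) i) (nat_lit 25))) i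

/-- The selector of a packed permutation. -/
noncomputable def toM (g : ℕ) : ℕ :=
  Nat.rec (nat_lit 0)
    (fun i acc => Nat.add acc (Nat.shiftLeft (nat_lit 1) (selPos i (app g i)))) (nat_lit 24)

/-- Image of the mask `v` under the packed permutation `g`. -/
noncomputable def act (g v : ℕ) : ℕ := appM (toM g) v

theorem toM_eq_sum (g : ℕ) : toM g = ∑ i ∈ range 24, 2 ^ selPos i (app g i) := by
  have : ∀ n, (Nat.rec 0 (fun i acc => Nat.add acc (Nat.shiftLeft 1 (selPos i (app g i)))) n : ℕ)
      = ∑ i ∈ range n, 2 ^ selPos i (app g i) := by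
    intro n
    induction n with
    | zero => rfl
    | succ n ih =>
      rw [sum_range_succ, ← ih]
      change _ + 1 <<< _ = _
      rw [Nat.one_shiftLeft]
  exact this 24

theorem selPos_mod {i : ℕ} (hi : i < 24) (y : ℕ) : selPos i y % 26 = i := by
  change (26 * ((y + 25 - i) % 25) + i) % 26 = i
  omega

theorem selPos_lt {i : ℕ} (hi : i < 24) (y : ℕ) : selPos i y < 26 * 25 := by
  change 26 * ((y + 25 - i) % 25) + i < 26 * 25
  omega

theorem appM_eq (M v : ℕ) :
    appM M v = (((v &&& 16777215) * rep 26 25) &&& M) % 33554431 := by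
  have hR : rep 26 25 = 0x1000000400000100000040000010000004000001000000400000100000040000010000004000001000000400000100000040000010000004000001000000400000100000040000010000004000001 := by
    decide +kernel
  rw [hR]; rfl

theorem two_pow_mul_rep_and_toM (g : ℕ) {i : ℕ} (hi : i < 24) :
    (2 ^ i * rep 26 25) &&& toM g = 2 ^ selPos i (app g i) := by
  have hinj : Set.InjOn (fun i => selPos i (app g i)) (range 24 : Finset ℕ) := by
    intro a ha b hb hab
    simp only [coe_range, Set.mem_Iio] at ha hb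
    rw [← selPos_mod ha (app g a), ← selPos_mod hb (app g b)]
    exact congrArg (· % 26) hab
  rw [mul_rep_and_eq (by norm_num) (Nat.pow_lt_pow_right (by norm_num) (by omega)), toM_eq_sum,
    ← sum_image (f := fun j => 2 ^ j) hinj, ← sum_singleton (fun j => 2 ^ j) (selPos i (app g i))]
  apply sum_congr _ fun _ _ => rfl
  ext j
  simp only [testBit_sum_two_pow, Nat.testBit_two_pow, mem_filter, mem_range, decide_eq_true_eq,
    mem_image, mem_singleton]
  constructor
  · rintro ⟨-, h1, a, ha, rfl⟩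
    rw [selPos_mod ha] at h1
    rw [h1]
  · rintro rfl
    exact ⟨selPos_lt hi _, (selPos_mod hi _).symm, i, hi, rfl⟩

/-- The selector `M` describes the action of `σ` on masks. -/
def RepM (σ : Equiv.Perm GolayPt) (M : ℕ) : Prop := ∀ v, appM M v = toMask (σ • ofMask v)

theorem Rep.repM {σ : Equiv.Perm GolayPt} {g : ℕ} (h : Rep σ g) : RepM σ (toM g) := by
  intro v
  have key : ∀ i < 24, ∀ y < 24, 2 ^ selPos i y % 33554431 = 2 ^ y := by decide +kernel
  have hs : toMask (σ • ofMask v) =
      ∑ i ∈ (range 24).filter (fun i => (v &&& 16777215).testBit i = true), 2 ^ app g i := by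
    rw [← sum_ofMask _ (fun i => 2 ^ app g i), ofMask_and_full, toMask, smul_eq_image,
      sum_image (fun _ _ _ _ h => σ.injective h)]
    exact sum_congr rfl fun p _ => by rw [h]
  rw [appM_eq, hs]
  apply mul_rep_and_mod (s := 26) (w := 24) (by norm_num) (by norm_num) (and_full_lt v)
  · intro i hi
    rw [two_pow_mul_rep_and_toM g hi, key i hi _ (h.app_lt hi)]
  · rw [← hs]; exact (toMask_lt _).trans (by norm_num)

theorem RepM.smul_ofMask {σ : Equiv.Perm GolayPt} {M : ℕ} (h : RepM σ M) (v : ℕ) :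
    σ • ofMask v = ofMask (appM M v) := by rw [h, ofMask_toMask]

theorem RepM.appM_lt {σ : Equiv.Perm GolayPt} {M : ℕ} (h : RepM σ M) (v : ℕ) :
    appM M v < 2 ^ 24 := by rw [h]; exact toMask_lt _

theorem Rep.smul_ofMask {σ : Equiv.Perm GolayPt} {g : ℕ} (h : Rep σ g) (v : ℕ) :
    σ • ofMask v = ofMask (act g v) := h.repM.smul_ofMask v

theorem Rep.act_lt {σ : Equiv.Perm GolayPt} {g : ℕ} (h : Rep σ g) (v : ℕ) : act g v < 2 ^ 24 :=
  h.repM.appM_lt v

theorem Rep.act_eq {σ : Equiv.Perm GolayPt} {g : ℕ} (h : Rep σ g) (v : ℕ) :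
    act g v = toMask (σ • ofMask v) := h.repM v

theorem Rep.smul_eq_iff {σ : Equiv.Perm GolayPt} {g : ℕ} (h : Rep σ g) {v w : ℕ}
    (hw : w < 2 ^ 24) : σ • ofMask v = ofMask w ↔ act g v = w := by
  rw [h.smul_ofMask, ofMask_inj (h.act_lt v) hw]

/-- Test for membership of a packed permutation in `M24`. -/
noncomputable def isM24 (g : ℕ) : Bool :=
  Bool.rec false (allL (fun b => isCode (act g b)) basL) (isPerm g)

theorem Rep.mem_M24_iff {σ : Equiv.Perm GolayPt} {g : ℕ} (h : Rep σ g) :
    σ ∈ M24 ↔ allL (fun b => isCode (act g b)) basL = true := by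
  rw [allL_iff]
  constructor
  · intro hσ b hb
    rw [← ofMask_mem_CSet_iff, ← h.smul_ofMask]
    exact smul_mem_CSet hσ (basL_mem_CSet b hb)
  · intro H
    exact mem_M24_of_basL fun b hb => by rw [h.smul_ofMask, ofMask_mem_CSet_iff]; exact H b hb

theorem isM24_spec {g : ℕ} (h : isM24 g = true) : toPerm g ∈ M24 ∧ Rep (toPerm g) g := by
  unfold isM24 at h
  cases hp : isPerm g
  · rw [hp] at h; exact absurd h (by simp)
  · rw [hp] at h
    exact ⟨(rep_toPerm hp).mem_M24_iff.2 h, rep_toPerm hp⟩

theorem rep_of_isM24 {g : ℕ} (h : isM24 g = true) : Rep (toPerm g) g := (isM24_spec h).2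

theorem toPerm_mem_M24 {g : ℕ} (h : isM24 g = true) : toPerm g ∈ M24 := (isM24_spec h).1

theorem Rep.mem_M24 {σ : Equiv.Perm GolayPt} {g : ℕ} (h : Rep σ g) (h' : isM24 g = true) :
    σ ∈ M24 := h.eq_toPerm ▸ toPerm_mem_M24 h'

/-! ### The standard generators -/

/-- `x ↦ x + 1`. -/
def shiftP : ℕ := nat_lit 956302485175575353788796878166559809
/-- `x ↦ -1/x`. -/
def projInvP : ℕ := nat_lit 1795248432537898728475572672376535
/-- The cube twist. -/
def cubeP : ℕ := nat_lit 974380510768821363662145534143076928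

theorem rep_shift : Rep (Equiv.optionCongr (Equiv.addRight (1 : ZMod 23))) shiftP := by
  unfold Rep; decide +kernel

theorem rep_projInv : Rep projInv projInvP := by
  unfold Rep; decide +kernel

theorem rep_cubeTwist : Rep cubeTwist cubeP := by
  have : ∀ p, idx (cubeTwistFun p) = app cubeP (idx p) := by decide +kernel
  exact this

theorem shift_mem_M24 : Equiv.optionCongr (Equiv.addRight (1 : ZMod 23)) ∈ M24 :=
  rep_shift.mem_M24 (by decide +kernel)

theorem projInv_mem_M24 : projInv ∈ M24 := rep_projInv.mem_M24 (by decide +kernel)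

theorem cubeTwist_mem_M24 : cubeTwist ∈ M24 := rep_cubeTwist.mem_M24 (by decide +kernel)

end CL.Golay
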