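import Cfsg.Agent.Base
import Cfsg.Agent.Spor.GolayPerm

/-!
# Orbit enumeration in the kernel; transitivity of `M24` on octads and dodecads

`orbGo acts key fuel stack seen` is a depth-first search; `seen` is a bit set of keys.
-/

set_option autoImplicit false

namespace CL.Golay
open Cfsg Finset
open scoped Pointwise

/-- Push the unseen images of `x` under the maps in `fs`, then continue with `k`. -/
noncomputable def orbPush (key : ℕ → ℕ) (x : ℕ) (k : List ℕ → ℕ → ℕ) (fs : List (ℕ → ℕ)) :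
    List ℕ → ℕ → ℕ :=
  List.rec (motive := fun _ => List ℕ → ℕ → ℕ) k
    (fun f _ k' st sn => Bool.rec
      (k' (f x :: st) (Nat.lor sn (Nat.shiftLeft (nat_lit 1) (key (f x))))) (k' st sn)
      (bit sn (key (f x)))) fs

/-- Depth-first search: returns the bit set of the keys of the states that were reached. -/
noncomputable def orbGo (acts : List (ℕ → ℕ)) (key : ℕ → ℕ) (fuel : ℕ) : List ℕ → ℕ → ℕ :=
  Nat.rec (motive := fun _ => List ℕ → ℕ → ℕ) (fun _ seen => seen)
    (fun _ ih stack seen =>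
      List.rec seen (fun x rest _ => orbPush key x ih acts rest seen) stack) fuel

/-- The bit set of the keys of the states reached from `x0`. -/
noncomputable def orbSeen (acts : List (ℕ → ℕ)) (key : ℕ → ℕ) (fuel x0 : ℕ) : ℕ :=
  orbGo acts key fuel [x0] (Nat.shiftLeft (nat_lit 1) (key x0))

/-- Every key recorded in `sn` is the key of a state with property `P`. -/
def SeenOK (P : ℕ → Prop) (key : ℕ → ℕ) (sn : ℕ) : Prop :=
  ∀ k, sn.testBit k = true → ∃ x, P x ∧ key x = k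

theorem orbPush_sound {key : ℕ → ℕ} {P : ℕ → Prop} {x : ℕ} {k : List ℕ → ℕ → ℕ}
    (hk : ∀ st sn, (∀ y ∈ st, P y) → SeenOK P key sn → SeenOK P key (k st sn))
    (fs : List (ℕ → ℕ)) (hfs : ∀ f ∈ fs, P (f x)) (st : List ℕ) (sn : ℕ)
    (hst : ∀ y ∈ st, P y) (hsn : SeenOK P key sn) :
    SeenOK P key (orbPush key x k fs st sn) := by
  induction fs generalizing st sn with
  | nil => exact hk st sn hst hsn
  | cons f fs ih =>
    have e : orbPush key x k (f :: fs) st sn = Bool.rec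
      (orbPush key x k fs (f x :: st) (sn ||| (1 <<< (key (f x))))) (orbPush key x k fs st sn)
      (bit sn (key (f x))) := rfl
    have hfx : P (f x) := hfs f List.mem_cons_self
    have hfs' : ∀ g ∈ fs, P (g x) := fun g hg => hfs g (List.mem_cons_of_mem _ hg)
    rw [e]
    cases bit sn (key (f x))
    · apply ih hfs'
      · intro y hy
        rcases List.mem_cons.1 hy with rfl | hy
        · exact hfx
        · exact hst y hy
      · intro j hj
        rw [Nat.testBit_or, Nat.one_shiftLeft, Nat.testBit_two_pow, Bool.or_eq_true,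
          decide_eq_true_eq] at hj
        rcases hj with hj | hj
        · exact hsn j hj
        · exact ⟨_, hfx, hj⟩
    · exact ih hfs' st sn hst hsn

theorem orbGo_sound {acts : List (ℕ → ℕ)} {key : ℕ → ℕ} {P : ℕ → Prop}
    (hP : ∀ f ∈ acts, ∀ x, P x → P (f x)) (fuel : ℕ) (st : List ℕ) (sn : ℕ)
    (hst : ∀ y ∈ st, P y) (hsn : SeenOK P key sn) :
    SeenOK P key (orbGo acts key fuel st sn) := by
  induction fuel generalizing st sn with
  | zero => exact hsn
  | succ n ih =>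
    cases st with
    | nil => exact hsn
    | cons x rest =>
      have e : orbGo acts key (n + 1) (x :: rest) sn =
        orbPush key x (orbGo acts key n) acts rest sn := rfl
      rw [e]
      exact orbPush_sound ih acts (fun f hf => hP f hf x (hst x List.mem_cons_self)) rest sn
        (fun y hy => hst y (List.mem_cons_of_mem _ hy)) hsn

/-- Soundness of the search: if `P` holds at the start and is preserved by the maps, every
recorded key is the key of a state with `P`. -/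
theorem orbSeen_sound {acts : List (ℕ → ℕ)} {key : ℕ → ℕ} {P : ℕ → Prop}
    (hP : ∀ f ∈ acts, ∀ x, P x → P (f x)) {x0 : ℕ} (h0 : P x0) (fuel : ℕ) {k : ℕ}
    (hk : bit (orbSeen acts key fuel x0) k = true) : ∃ x, P x ∧ key x = k := by
  rw [bit_eq] at hk
  refine orbGo_sound hP fuel [x0] _ (by simpa using h0) ?_ k hk
  intro j hj
  change (1 <<< key x0).testBit j = true at hj
  rw [Nat.one_shiftLeft, Nat.testBit_two_pow, decide_eq_true_eq] at hj
  exact ⟨x0, h0, hj⟩

/-- The packed permutation `g` describes an element of `H`. -/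
def InSub (H : Subgroup (Equiv.Perm GolayPt)) (g : ℕ) : Prop := ∃ σ ∈ H, Rep σ g

theorem InSub.mul {H : Subgroup (Equiv.Perm GolayPt)} {g k : ℕ} (hg : InSub H g)
    (hk : InSub H k) : InSub H (mulP g k) := by
  obtain ⟨σ, hσ, h⟩ := hg
  obtain ⟨τ, hτ, h'⟩ := hk
  exact ⟨σ * τ, mul_mem hσ hτ, h.mul h'⟩

theorem InSub.inv {H : Subgroup (Equiv.Perm GolayPt)} {g : ℕ} (hg : InSub H g) :
    InSub H (invP g) := by
  obtain ⟨σ, hσ, h⟩ := hg
  exact ⟨σ⁻¹, inv_mem hσ, h.inv⟩

theorem inSub_one (H : Subgroup (Equiv.Perm GolayPt)) : InSub H idP := ⟨1, one_mem H, rep_one⟩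

theorem InSub.mono {H K : Subgroup (Equiv.Perm GolayPt)} (h : H ≤ K) {g : ℕ} (hg : InSub H g) :
    InSub K g := by
  obtain ⟨σ, hσ, h'⟩ := hg
  exact ⟨σ, h hσ, h'⟩

theorem inSub_M24 {g : ℕ} (h : isM24 g = true) : InSub M24 g :=
  ⟨_, toPerm_mem_M24 h, rep_of_isM24 h⟩

theorem InSub.toPerm_mem {H : Subgroup (Equiv.Perm GolayPt)} {g : ℕ} (hg : InSub H g) :
    toPerm g ∈ H ∧ Rep (toPerm g) g := by
  obtain ⟨σ, hσ, h⟩ := hg
  exact ⟨h.eq_toPerm ▸ hσ, h.toPerm⟩

theorem InSub.inf_stab_set {H : Subgroup (Equiv.Perm GolayPt)} {g : ℕ} (hg : InSub H g)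
    {v : ℕ} (hv : act g v = v) :
    InSub (H ⊓ MulAction.stabilizer (Equiv.Perm GolayPt) (ofMask v)) g := by
  obtain ⟨σ, hσ, h⟩ := hg
  exact ⟨σ, Subgroup.mem_inf.2 ⟨hσ, by rw [MulAction.mem_stabilizer_iff, h.smul_ofMask, hv]⟩, h⟩

theorem InSub.inf_stab_pt {H : Subgroup (Equiv.Perm GolayPt)} {g : ℕ} (hg : InSub H g)
    {i : ℕ} (hi : i < 24) (hv : app g i = i) :
    InSub (H ⊓ MulAction.stabilizer (Equiv.Perm GolayPt) (pt i)) g := by
  obtain ⟨σ, hσ, h⟩ := hg
  refine ⟨σ, Subgroup.mem_inf.2 ⟨hσ, ?_⟩, h⟩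
  rw [MulAction.mem_stabilizer_iff, Equiv.Perm.smul_def, h.apply_pt hi, hv]

/-- The actions of packed permutations on masks. -/
noncomputable def maskActs (gens : List ℕ) : List (ℕ → ℕ) :=
  List.rec [] (fun g _ acc => appM (toM g) :: acc) gens

theorem mem_maskActs {gens : List ℕ} {f : ℕ → ℕ} (hf : f ∈ maskActs gens) :
    ∃ g ∈ gens, f = act g := by
  induction gens with
  | nil => cases hf
  | cons g gens ih =>
    rcases List.mem_cons.1 hf with rfl | hf
    · exact ⟨g, List.mem_cons_self, rfl⟩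
    · obtain ⟨k, hk, rfl⟩ := ih hf
      exact ⟨k, List.mem_cons_of_mem _ hk, rfl⟩

/-- Orbit of a set of points under elements of `H`, with an arbitrary key on masks. -/
theorem orbSeen_mask {H : Subgroup (Equiv.Perm GolayPt)} {gens : List ℕ}
    (hg : ∀ g ∈ gens, InSub H g) {key : ℕ → ℕ} {fuel x0 k : ℕ} (hx0 : x0 < 2 ^ 24)
    (hk : bit (orbSeen (maskActs gens) key fuel x0) k = true) :
    ∃ σ ∈ H, ∃ x < 2 ^ 24, σ • ofMask x0 = ofMask x ∧ key x = k := by
  have := orbSeen_sound (P := fun x => x < 2 ^ 24 ∧ ∃ σ ∈ H, σ • ofMask x0 = ofMask x)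
    (acts := maskActs gens) (key := key) ?_ ⟨hx0, 1, one_mem H, one_smul _ _⟩ fuel hk
  · obtain ⟨x, ⟨hx, σ, hσ, h⟩, hk⟩ := this
    exact ⟨σ, hσ, x, hx, h, hk⟩
  · rintro f hf x ⟨-, σ, hσ, h⟩
    obtain ⟨g, hgm, rfl⟩ := mem_maskActs hf
    obtain ⟨τ, hτ, hr⟩ := hg g hgm
    exact ⟨hr.act_lt x, τ * σ, mul_mem hτ hσ, by rw [mul_smul, h, hr.smul_ofMask]⟩

/-- The key of a code word: its 12 information bits. -/
def lo12 (n : ℕ) : ℕ := Nat.land n (nat_lit 4095)

/-- The bit set (indexed by the low 12 bits) of the orbit of a code word. -/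
noncomputable def orbCode (gens : List ℕ) (fuel x0 : ℕ) : ℕ :=
  orbSeen (maskActs gens) lo12 fuel x0

theorem orbCode_sound {H : Subgroup (Equiv.Perm GolayPt)} (hH : H ≤ M24) {gens : List ℕ}
    (hg : ∀ g ∈ gens, InSub H g) {fuel x0 m : ℕ} (hx0 : x0 < 2 ^ 24) (hc : isCode x0 = true)
    (hm : bit (orbCode gens fuel x0) m = true) : ∃ σ ∈ H, σ • ofMask x0 = ofMask (enc m) := by
  obtain ⟨σ, hσ, x, -, h, rfl⟩ := orbSeen_mask hg hx0 hm
  refine ⟨σ, hσ, ?_⟩
  have h1 : ofMask x ∈ CSet := h ▸ smul_mem_CSet (hH hσ) (ofMask_mem_CSet_iff.2 hc)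
  rw [h, ← isCode_iff.1 (ofMask_mem_CSet_iff.1 h1)]
  exact congrArg ofMask (enc_and x).symm

/-- The check that all code words passing the test `f` lie in the orbit of `x0`. -/
noncomputable def orbCodeCheck (gens : List ℕ) (fuel x0 : ℕ) (f : ℕ → Bool) : Bool :=
  allTo (fun m => Bool.rec true (bit (orbCode gens fuel x0) m) (f (enc m))) (nat_lit 4096)

/-- All C-sets passing the test `f` lie in the `H`-orbit of `ofMask x0`. -/
theorem orbCodeCheck_sound {H : Subgroup (Equiv.Perm GolayPt)} (hH : H ≤ M24) {gens : List ℕ}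
    (hg : ∀ g ∈ gens, InSub H g) {fuel x0 : ℕ} (hx0 : x0 < 2 ^ 24) (hc : isCode x0 = true)
    {f : ℕ → Bool} (h : orbCodeCheck gens fuel x0 f = true) {s : Finset GolayPt} (hs : s ∈ CSet)
    (hf : f (toMask s) = true) : ∃ σ ∈ H, σ • ofMask x0 = s := by
  obtain ⟨m, hm, rfl⟩ := mem_CSet_iff_enc.1 hs
  rw [toMask_ofMask (enc_lt m)] at hf
  have := allTo_iff.1 h m hm
  rw [hf] at this
  exact orbCode_sound hH hg hx0 hc this

/-- The actions of packed permutations on indices of points. -/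
noncomputable def ptActs (gens : List ℕ) : List (ℕ → ℕ) :=
  List.rec [] (fun g _ acc => app g :: acc) gens

theorem mem_ptActs {gens : List ℕ} {f : ℕ → ℕ} (hf : f ∈ ptActs gens) :
    ∃ g ∈ gens, f = app g := by
  induction gens with
  | nil => cases hf
  | cons g gens ih =>
    rcases List.mem_cons.1 hf with rfl | hf
    · exact ⟨g, List.mem_cons_self, rfl⟩
    · obtain ⟨k, hk, rfl⟩ := ih hf
      exact ⟨k, List.mem_cons_of_mem _ hk, rfl⟩

/-- The mask of the orbit of the point with index `i`. -/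
noncomputable def orbPt (gens : List ℕ) (i : ℕ) : ℕ :=
  orbSeen (ptActs gens) (fun x => x) (nat_lit 24) i

theorem orbPt_sound {H : Subgroup (Equiv.Perm GolayPt)} {gens : List ℕ}
    (hg : ∀ g ∈ gens, InSub H g) {i : ℕ} (hi : i < 24) {q : GolayPt}
    (hq : q ∈ ofMask (orbPt gens i)) : ∃ σ ∈ H, σ (pt i) = q := by
  rw [mem_ofMask, ← bit_eq] at hq
  have := orbSeen_sound (P := fun x => x < 24 ∧ ∃ σ ∈ H, σ (pt i) = pt x)
    (acts := ptActs gens) (key := fun x => x) ?_ ⟨hi, 1, one_mem H, rfl⟩ _ hq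
  · obtain ⟨x, ⟨-, σ, hσ, h⟩, hk⟩ := this
    exact ⟨σ, hσ, by rw [h, hk, pt_idx]⟩
  · rintro f hf x ⟨hx, σ, hσ, h⟩
    obtain ⟨g, hgm, rfl⟩ := mem_ptActs hf
    obtain ⟨τ, hτ, hr⟩ := hg g hgm
    exact ⟨hr.app_lt hx, τ * σ, mul_mem hτ hσ, by rw [Equiv.Perm.mul_apply, h, hr.apply_pt hx]⟩

theorem stdGens_inSub : ∀ g ∈ [shiftP, projInvP, cubeP], InSub M24 g := by
  simp only [List.forall_mem_cons, List.not_mem_nil, false_imp_iff, implies_true, and_true]
  exact ⟨⟨_, shift_mem_M24, rep_shift⟩, ⟨_, projInv_mem_M24, rep_projInv⟩,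
    ⟨_, cubeTwist_mem_M24, rep_cubeTwist⟩⟩

/-- A fixed octad: `{0, 12, 14, 16, 17, 18, 22, ∞}`. -/
def oct0 : ℕ := nat_lit 13062145

/-- A fixed dodecad: the squares modulo 23 (with zero). -/
def dod0 : ℕ := nat_lit 340831

theorem oct0_mem : ofMask oct0 ∈ octads := ofMask_mem_octads_iff.2 (by decide +kernel)

theorem dod0_mem : ofMask dod0 ∈ dodecads := ofMask_mem_dodecads_iff.2 (by decide +kernel)

theorem squareDodecad_eq : Spor.squareDodecad = ofMask dod0 := by
  rw [Spor.squareDodecad, qrWord_eq, support_ind]; rfl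

set_option maxRecDepth 100000 in
theorem exists_smul_oct0 {o : Finset GolayPt} (ho : o ∈ octads) :
    ∃ σ ∈ M24, σ • ofMask oct0 = o :=
  orbCodeCheck_sound le_rfl stdGens_inSub (fuel := 759) (by decide +kernel) (by decide +kernel)
    (f := fun n => Nat.beq (pop n) 8) (by decide +kernel) ho.1
    (by rw [pop_toMask, ho.2]; rfl)

set_option maxRecDepth 100000 in
theorem exists_smul_dod0 {d : Finset GolayPt} (hd : d ∈ dodecads) :
    ∃ σ ∈ M24, σ • ofMask dod0 = d :=
  orbCodeCheck_sound le_rfl stdGens_inSub (fuel := 2576) (by decide +kernel) (by decide +kernel)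
    (f := fun n => Nat.beq (pop n) 12) (by decide +kernel) hd.1
    (by rw [pop_toMask, hd.2]; rfl)

theorem octad_trans {o o' : Finset GolayPt} (ho : o ∈ octads) (ho' : o' ∈ octads) :
    ∃ σ ∈ M24, σ • o = o' := by
  obtain ⟨σ, hσ, rfl⟩ := exists_smul_oct0 ho
  obtain ⟨τ, hτ, rfl⟩ := exists_smul_oct0 ho'
  exact ⟨τ * σ⁻¹, mul_mem hτ (inv_mem hσ), by rw [mul_smul, inv_smul_smul]⟩

theorem dodecad_trans {d d' : Finset GolayPt} (hd : d ∈ dodecads) (hd' : d' ∈ dodecads) :
    ∃ σ ∈ M24, σ • d = d' := by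
  obtain ⟨σ, hσ, rfl⟩ := exists_smul_dod0 hd
  obtain ⟨τ, hτ, rfl⟩ := exists_smul_dod0 hd'
  exact ⟨τ * σ⁻¹, mul_mem hτ (inv_mem hσ), by rw [mul_smul, inv_smul_smul]⟩

end CL.Golay
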