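import Cfsg.Agent.Base
import Cfsg.Agent.Spor.GolayOrbit
import Cfsg.Agent.Auto.ACL_Golay_CSet_624a6e

/-!
# The octads form a Steiner system; dimension and self-duality of the Golay code
-/

set_option autoImplicit false

namespace CL.Golay
open Cfsg Finset
open scoped Pointwise

/-- A family of `k`-sets, two of which share fewer than `t` points, and with the right number of
members, is a Steiner system. -/
theorem isSteinerSystem_of_count {α : Type*} [Fintype α] [DecidableEq α] {t k : ℕ}
    {B : Set (Finset α)} (hk : ∀ b ∈ B, b.card = k)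
    (hinter : ∀ b ∈ B, ∀ c ∈ B, t ≤ (b ∩ c).card → b = c)
    (hcount : B.ncard * k.choose t = (Fintype.card α).choose t) : IsSteinerSystem t k B := by
  classical
  refine ⟨hk, fun s hs => ?_⟩
  have hfin : B.Finite := Set.toFinite _
  have hU : hfin.toFinset.biUnion (powersetCard t) = powersetCard t (univ : Finset α) := by
    apply eq_of_subset_of_card_le
    · intro u hu
      obtain ⟨b, -, hb⟩ := mem_biUnion.1 hu
      exact mem_powersetCard.2 ⟨subset_univ _, (mem_powersetCard.1 hb).2⟩
    · rw [card_biUnion, card_powersetCard, card_univ, ← hcount,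
        sum_congr rfl (g := fun _ => k.choose t), sum_const, smul_eq_mul,
        Set.ncard_eq_toFinset_card B hfin]
      · intro b hb
        rw [card_powersetCard, hk b (by simpa using hb)]
      · intro b hb c hc hbc
        rw [Function.onFun, disjoint_left]
        intro u hub huc
        rw [mem_powersetCard] at hub huc
        apply hbc
        apply hinter b (by simpa using hb) c (by simpa using hc)
        rw [← hub.2]
        exact card_le_card (subset_inter hub.1 huc.1)
  have : s ∈ hfin.toFinset.biUnion (powersetCard t) := by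
    rw [hU]; exact mem_powersetCard.2 ⟨subset_univ _, hs⟩
  obtain ⟨b, hb, hsb⟩ := mem_biUnion.1 this
  have hb' : b ∈ B := by simpa using hb
  have hsb' := (mem_powersetCard.1 hsb).1
  refine ⟨b, ⟨hb', hsb'⟩, fun c hc => hinter c hc.1 b hb' ?_⟩
  rw [← hs]
  exact card_le_card (subset_inter hc.2 hsb')

theorem octads_steiner : IsSteinerSystem 5 8 octads :=
  isSteinerSystem_of_count (fun _ h => h.2) (fun _ hb _ hc h => octad_eq_of_five_le hb hc h)
    (by rw [ncard_octads, card_pt]; decide +kernel)

/-- Every set of at most five points lies in an octad. -/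
theorem exists_octad_superset {s : Finset GolayPt} (hs : s.card ≤ 5) : ∃ o ∈ octads, s ⊆ o := by
  obtain ⟨u, hsu, -, hu⟩ := exists_subsuperset_card_eq (subset_univ s) hs
    (by rw [card_univ, card_pt]; norm_num)
  obtain ⟨o, ⟨ho, huo⟩, -⟩ := octads_steiner.2 u hu
  exact ⟨o, ho, hsu.trans huo⟩

theorem octad_eq_of_subset {o o' s : Finset GolayPt} (ho : o ∈ octads) (ho' : o' ∈ octads)
    (hs : 5 ≤ s.card) (h : s ⊆ o) (h' : s ⊆ o') : o = o' :=
  octad_eq_of_five_le ho ho' (hs.trans (card_le_card (subset_inter h h')))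

/-- An element of `M24` mapping five points of an octad into the octad fixes the octad. -/
theorem smul_octad_eq_of_five {σ : Equiv.Perm GolayPt} (hσ : σ ∈ M24) {o s : Finset GolayPt}
    (ho : o ∈ octads) (hs : 5 ≤ s.card) (hso : s ⊆ o) (h : ∀ p ∈ s, σ p ∈ o) : σ • o = o := by
  refine octad_eq_of_subset (smul_mem_octads hσ ho) ho (s := σ • s) (by rwa [card_smul'])
    ((smul_subset_smul' σ).2 hso) ?_
  intro p hp
  obtain ⟨q, hq, rfl⟩ := mem_image.1 hp
  exact h q hq

/-- An octad and a dodecad meet in 2, 4 or 6 points. -/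
theorem octad_inter_dodecad {o d : Finset GolayPt} (ho : o ∈ octads) (hd : d ∈ dodecads) :
    (o ∩ d).card = 2 ∨ (o ∩ d).card = 4 ∨ (o ∩ d).card = 6 := by
  have h := card_symmDiff_add o d
  have h1 := card_of_mem_CSet (symmDiff_mem_CSet ho.1 hd.1)
  have h2 : (o ∩ d).card ≤ 8 := ho.2 ▸ card_le_card inter_subset_left
  have := ho.2; have := hd.2
  omega

/-- Given an octad `o` and three points outside it, some octad meets `o` in four points and
contains the first two but not the third. -/
theorem exists_octad_separating {o : Finset GolayPt} (ho : o ∈ octads) {p q r : GolayPt}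
    (hp : p ∉ o) (hq : q ∉ o) (hr : r ∉ o) (hpq : p ≠ q) (hpr : p ≠ r) (hqr : q ≠ r) :
    ∃ u ∈ octads, (u ∩ o).card = 4 ∧ p ∈ u ∧ q ∈ u ∧ r ∉ u := by
  have key : ∀ T ⊆ o, T.card = 3 → ∃ u ∈ octads, (u ∩ o).card = 4 ∧ p ∈ u ∧ q ∈ u ∧ T ⊆ u := by
    intro T hT hT3
    obtain ⟨u, hu, hsu⟩ := exists_octad_superset (s := insert p (insert q T))
      ((card_insert_le _ _).trans (by have := card_insert_le q T; omega))
    have hpu : p ∈ u := hsu (mem_insert_self _ _)
    have hTu : T ⊆ u := fun x hx => hsu (mem_insert_of_mem (mem_insert_of_mem hx))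
    refine ⟨u, hu, ?_, hpu, hsu (mem_insert_of_mem (mem_insert_self _ _)), hTu⟩
    have h3 : 3 ≤ (u ∩ o).card := hT3 ▸ card_le_card (subset_inter hTu hT)
    have := octad_inter hu ho (fun h => hp (h ▸ hpu))
    omega
  obtain ⟨T, hT, hT3⟩ := exists_subset_card_eq (s := o) (n := 3) (by rw [ho.2]; norm_num)
  obtain ⟨u, hu, hu4, hpu, hqu, hTu⟩ := key T hT hT3
  by_cases hru : r ∈ u
  swap
  · exact ⟨u, hu, hu4, hpu, hqu, hru⟩
  obtain ⟨e, heo, heu⟩ : ∃ e ∈ o, e ∉ u := by
    by_contra! h
    have : u ∩ o = o := inter_eq_right.2 h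
    rw [this, ho.2] at hu4; omega
  obtain ⟨D, hD, hD2⟩ := exists_subset_card_eq (s := T) (n := 2) (by omega)
  have heD : e ∉ D := fun h => heu (hTu (hD h))
  obtain ⟨v, hv, hv4, hpv, hqv, hTv⟩ := key (insert e D)
    (insert_subset heo (hD.trans hT)) (by rw [card_insert_of_notMem heD, hD2])
  refine ⟨v, hv, hv4, hpv, hqv, fun hrv => heu ?_⟩
  have hDo : D ⊆ o := hD.trans hT
  have h5 : (insert p (insert q (insert r D))).card = 5 := by
    rw [card_insert_of_notMem, card_insert_of_notMem, card_insert_of_notMem, hD2]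
    · exact fun h => hr (hDo h)
    · simp only [mem_insert, not_or]; exact ⟨hqr, fun h => hq (hDo h)⟩
    · simp only [mem_insert, not_or]; exact ⟨hpq, hpr, fun h => hp (hDo h)⟩
  have : u = v := octad_eq_of_subset hu hv h5.ge
    (insert_subset hpu (insert_subset hqu (insert_subset hru (hD.trans hTu))))
    (insert_subset hpv (insert_subset hqv (insert_subset hrv
      ((subset_insert e D).trans hTv))))
  rw [this]; exact hTv (mem_insert_self _ _)

/-- An element of `M24` that fixes an octad pointwise fixes every octad `u` meeting it in four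
points, provided it maps some point of `u` outside `o` into `u`. -/
theorem smul_octad_eq_of_fix_octad {σ : Equiv.Perm GolayPt} (hσ : σ ∈ M24)
    {o u : Finset GolayPt} (hfix : ∀ x ∈ o, σ x = x) (hu : u ∈ octads) (h4 : (u ∩ o).card = 4)
    {p : GolayPt} (hp : p ∉ o) (hpu : p ∈ u) (hσp : σ p ∈ u) : σ • u = u := by
  refine smul_octad_eq_of_five hσ hu (s := insert p (u ∩ o)) ?_
    (insert_subset hpu inter_subset_left) ?_
  · rw [card_insert_of_notMem (fun h => hp (mem_inter.1 h).2), h4]
  · intro x hx
    rcases mem_insert.1 hx with rfl | hx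
    · exact hσp
    · rw [hfix x (mem_inter.1 hx).2]; exact (mem_inter.1 hx).1

theorem apply_notMem_of_fix {α : Type*} {σ : Equiv.Perm α} {o : Finset α}
    (hfix : ∀ x ∈ o, σ x = x) {p : α} (hp : p ∉ o) : σ p ∉ o := fun h =>
  hp (by rw [← σ.injective (hfix _ h)]; exact h)

/-- An element of `M24` fixing an octad pointwise and one further point is trivial. -/
theorem eq_one_of_fix_octad_point {σ : Equiv.Perm GolayPt} (hσ : σ ∈ M24) {o : Finset GolayPt}
    (ho : o ∈ octads) (hfix : ∀ x ∈ o, σ x = x) {p : GolayPt} (hp : p ∉ o) (hσp : σ p = p) :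
    σ = 1 := by
  ext q : 1
  rw [Equiv.Perm.one_apply]
  by_contra hq
  have hqo : q ∉ o := fun h => hq (hfix q h)
  have hpq : p ≠ q := fun h => hq (h ▸ hσp)
  have hpr : p ≠ σ q := fun h => hpq (σ.injective (hσp.trans h))
  obtain ⟨u, hu, h4, hpu, hqu, hru⟩ := exists_octad_separating ho hp hqo
    (apply_notMem_of_fix hfix hqo) hpq hpr (Ne.symm hq)
  have := smul_octad_eq_of_fix_octad hσ hfix hu h4 hp hpu (by rwa [hσp])
  exact hru ((smul_eq_self_iff.1 this q).2 hqu)

/-- An element of `M24` fixing an octad pointwise has square one. -/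
theorem mul_self_eq_one_of_fix_octad {σ : Equiv.Perm GolayPt} (hσ : σ ∈ M24)
    {o : Finset GolayPt} (ho : o ∈ octads) (hfix : ∀ x ∈ o, σ x = x) : σ * σ = 1 := by
  ext p : 1
  rw [Equiv.Perm.one_apply, Equiv.Perm.mul_apply]
  by_cases h : σ p = p
  · rw [h, h]
  by_contra h2
  have hp : p ∉ o := fun h' => h (hfix p h')
  have hq := apply_notMem_of_fix hfix hp
  obtain ⟨u, hu, h4, hpu, hqu, hru⟩ := exists_octad_separating ho hp hq
    (apply_notMem_of_fix hfix hq) (Ne.symm h) (Ne.symm h2) (fun e => h (σ.injective e).symm)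
  have := smul_octad_eq_of_fix_octad hσ hfix hu h4 hp hpu hqu
  exact hru ((smul_eq_self_iff.1 this _).2 hqu)

/-! ### Dimension and self-duality -/

theorem natCard_golayCode : Nat.card golayCode = 4096 := by
  rw [← ncard_CSet_eq, CSet, supports, Set.ncard_image_of_injective _ support₂_injective]
  rfl

theorem finrank_golayCode : Module.finrank (ZMod 2) golayCode = 12 := by
  have h := Module.natCard_eq_pow_finrank (K := ZMod 2) (V := golayCode)
  rw [natCard_golayCode, Nat.card_zmod] at h
  exact Nat.pow_right_injective le_rfl (h.symm.trans (by norm_num))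

theorem sum_mul_eq_zero_of_mem {v w : GolayPt → ZMod 2} (hv : v ∈ golayCode)
    (hw : w ∈ golayCode) : ∑ i, v i * w i = 0 := by
  rw [← ind_support v, ← ind_support w, sum_ind_mul_ind, ZMod.natCast_eq_zero_iff_even]
  exact even_card_inter (support_mem_CSet_iff.2 hv) (support_mem_CSet_iff.2 hw)

theorem even_card_symmDiff_inter {α : Type*} [DecidableEq α] {s t u : Finset α}
    (hs : Even (s ∩ u).card) (ht : Even (t ∩ u).card) : Even (symmDiff s t ∩ u).card := by
  have h := card_symmDiff_add (s ∩ u) (t ∩ u)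
  have e : symmDiff s t ∩ u = symmDiff (s ∩ u) (t ∩ u) := by
    ext p; simp only [mem_inter, mem_symmDiff]; tauto
  rw [e]
  rw [even_iff_two_dvd] at *
  omega

set_option maxRecDepth 100000 in
/-- Self-duality: a set meeting the 12 basis octads evenly is a C-set. -/
theorem mem_CSet_of_even_basL {s : Finset GolayPt}
    (h : ∀ b ∈ basL, Even (s ∩ ofMask b).card) : s ∈ CSet := by
  obtain ⟨n, hn, rfl⟩ := exists_ofMask s
  have key : allTo (fun y => Bool.rec
      (anyL (fun b => bit (pop (Nat.land (Nat.shiftLeft y 12) b)) 0) basL) true (Nat.beq y 0))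
      4096 = true := by decide +kernel
  set z := n ^^^ enc n with hz
  have hz0 : z % 4096 = 0 := by
    have : z &&& 4095 = 0 := by rw [hz, Nat.and_xor_distrib_right, enc_and_4095, Nat.xor_self]
    rw [← this]; exact (Nat.and_two_pow_sub_one_eq_mod z 12).symm
  have hzlt : z < 2 ^ 24 := Nat.xor_lt_two_pow hn (enc_lt n)
  have hy : z / 4096 < 4096 := by omega
  have h1 := allTo_iff.1 key _ hy
  by_cases h0 : z / 4096 = 0
  · have : z = 0 := by omega
    rw [hz, Nat.xor_eq_zero_iff] at this
    rw [this]; exact enc_mem_CSet n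
  · exfalso
    have hb : Nat.beq (z / 4096) 0 = false := by
      cases hh : Nat.beq (z / 4096) 0
      · rfl
      · exact absurd (Nat.eq_of_beq_eq_true hh) h0
    rw [hb] at h1
    obtain ⟨b, hb, hodd⟩ := anyL_iff.1 h1
    have e : Nat.shiftLeft (z / 4096) 12 = z := by
      change (z / 4096) <<< 12 = z
      rw [Nat.shiftLeft_eq]; omega
    rw [e, bit_eq, ← card_ofMask, ofMask_land, hz, ofMask_xor, Nat.testBit_zero,
      decide_eq_true_eq] at hodd
    have := even_card_symmDiff_inter (h b hb)
      (even_card_inter (enc_mem_CSet n) (basL_mem_CSet b hb))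
    rw [Nat.even_iff] at this
    omega

/-- Self-duality: the C-sets are the sets meeting every octad evenly. -/
theorem mem_CSet_iff_even_octads {s : Finset GolayPt} :
    s ∈ CSet ↔ ∀ o ∈ octads, Even (s ∩ o).card :=
  ⟨fun hs _ ho => even_card_inter hs ho.1,
    fun h => mem_CSet_of_even_basL fun b hb => h _ (basL_mem_octads b hb)⟩

theorem mem_CSet_iff_even {s : Finset GolayPt} : s ∈ CSet ↔ ∀ c ∈ CSet, Even (s ∩ c).card :=
  ⟨fun hs _ hc => even_card_inter hs hc,
    fun h => mem_CSet_of_even_basL fun b hb => h _ (basL_mem_CSet b hb)⟩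

/-- Transport of a count along a permutation. -/
theorem ncard_eq_of_smul {α : Type*} [DecidableEq α] (σ : Equiv.Perm α)
    {S T : Set (Finset α)} (h : ∀ s, σ • s ∈ T ↔ s ∈ S) : T.ncard = S.ncard := by
  have : T = (fun s => σ • s) '' S := by
    ext t
    constructor
    · intro ht
      exact ⟨σ⁻¹ • t, (h _).1 (by rwa [smul_inv_smul]), smul_inv_smul _ _⟩
    · rintro ⟨s, hs, rfl⟩; exact (h s).2 hs
  rw [this, Set.ncard_image_of_injective _ (MulAction.injective σ)]

set_option maxRecDepth 100000 in
/-- The number of octads meeting a dodecad in `6`, `2`, `4` points. -/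
theorem ncard_octads_inter_dodecad {d : Finset GolayPt} (hd : d ∈ dodecads) :
    {o | o ∈ octads ∧ (o ∩ d).card = 6}.ncard = 132 ∧
    {o | o ∈ octads ∧ (o ∩ d).card = 2}.ncard = 132 ∧
    {o | o ∈ octads ∧ (o ∩ d).card = 4}.ncard = 495 := by
  obtain ⟨σ, hσ, rfl⟩ := exists_smul_dod0 hd
  have key : ∀ k, {o | o ∈ octads ∧ (o ∩ σ • ofMask dod0).card = k}.ncard =
      cntTo (fun m => (fun n => Nat.beq (pop n) 8 && Nat.beq (pop (Nat.land n dod0)) k) (enc m))
        4096 := by
    intro k
    rw [ncard_eq_of_smul σ (S := {o | o ∈ octads ∧ (o ∩ ofMask dod0).card = k})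
      (fun s => by simp only [Set.mem_ofPred_eq, smul_mem_octads_iff hσ, ← smul_inter',
        card_smul'])]
    refine ncard_CSet (fun n => Nat.beq (pop n) 8 && Nat.beq (pop (Nat.land n dod0)) k)
      (fun s hs => hs.1.1) ?_
    intro n hn _
    simp only [Set.mem_ofPred_eq, ofMask_mem_octads_iff, hn, ← ofMask_land, card_ofMask,
      true_and, Bool.and_eq_true, Nat.beq_eq]
  rw [key, key, key]
  decide +kernel

end CL.Golay
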