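import Cfsg.Agent.Base
import Cfsg.Agent.Spor.LeechBasic
import Cfsg.Agent.S0358
import Cfsg.Agent.S0359
import Cfsg.Agent.S0362
import Cfsg.Agent.Auto.ACL_Leech_CodeSets_c3d11d

/-!
# Golay code sets: weights, even intersections, self-duality and projections
-/

set_option autoImplicit false

namespace CL.Leech

open Cfsg Finset
open scoped Pointwise

theorem hammingNorm_ind (c : Finset GolayPt) : hammingNorm (ind c) = c.card := by
  have : hammingNorm (ind c) = (support₂ (ind c)).card := rfl
  rw [this, support₂_ind]

theorem card_cases {c : Finset GolayPt} (hc : c ∈ CodeSets) :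
    c.card = 0 ∨ c.card = 8 ∨ c.card = 12 ∨ c.card = 16 ∨ c.card = 24 := by
  have := Cfsg.Agent.S0359.result (ind c) (mem_codeSets.1 hc)
  rwa [hammingNorm_ind] at this

theorem card_mod_four {c : Finset GolayPt} (hc : c ∈ CodeSets) : c.card % 4 = 0 := by
  have := card_cases hc; omega

theorem eq_empty_of_card_lt {c : Finset GolayPt} (hc : c ∈ CodeSets) (h : c.card < 8) : c = ∅ := by
  have := card_cases hc
  exact card_eq_zero.1 (by omega)

theorem mem_octads {c : Finset GolayPt} : c ∈ octads ↔ c ∈ CodeSets ∧ c.card = 8 := Iff.rfl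

theorem mem_dodecads {c : Finset GolayPt} : c ∈ dodecads ↔ c ∈ CodeSets ∧ c.card = 12 := Iff.rfl

theorem sum_ind_mul (c : Finset GolayPt) (w : GolayPt → ZMod 2) :
    ∑ i, ind c i * w i = ∑ i ∈ c, w i := by
  simp only [ind, ite_mul, one_mul, zero_mul]
  rw [← sum_filter]; congr 1; ext i; simp

theorem sum_ind_mul_ind (c d : Finset GolayPt) :
    ∑ i, ind c i * ind d i = ((c ∩ d).card : ZMod 2) := by
  rw [sum_ind_mul]
  simp only [ind]
  rw [← sum_filter, sum_const, filter_mem_eq_inter]; simp

theorem natCast_zmod2_eq_zero {n : ℕ} : (n : ZMod 2) = 0 ↔ n % 2 = 0 := by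
  rw [ZMod.natCast_eq_zero_iff]; omega

theorem inter_even {c d : Finset GolayPt} (hc : c ∈ CodeSets) (hd : d ∈ CodeSets) :
    (c ∩ d).card % 2 = 0 := by
  have := Cfsg.Agent.S0362.result _ _ (mem_codeSets.1 hc) (mem_codeSets.1 hd)
  rwa [sum_ind_mul_ind, natCast_zmod2_eq_zero] at this

/-- The sum over a code set of a vector that reduces to a code word is even. -/
theorem sum_even_of_red {c : Finset GolayPt} (hc : c ∈ CodeSets) {u : GolayPt → ℤ}
    (hu : red u ∈ golayCode) : (∑ i ∈ c, u i) % 2 = 0 := by
  have := Cfsg.Agent.S0362.result _ _ (mem_codeSets.1 hc) hu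
  rw [sum_ind_mul] at this
  have h2 : ((∑ i ∈ c, u i : ℤ) : ZMod 2) = 0 := by push_cast; exact this
  have := (ZMod.intCast_zmod_eq_zero_iff_dvd _ 2).1 h2
  omega

/-- The dot product on binary words. -/
noncomputable def dotB : LinearMap.BilinForm (ZMod 2) (GolayPt → ZMod 2) :=
  Matrix.toBilin' 1

theorem dotB_apply (v w : GolayPt → ZMod 2) : dotB v w = ∑ i, v i * w i := by
  simp [dotB, Matrix.toBilin'_apply', dotProduct]

theorem dotB_nondeg : dotB.Nondegenerate := by
  unfold dotB
  exact LinearMap.BilinForm.nondegenerate_toBilin'_of_det_ne_zero' _ (by simp)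

theorem dotB_refl : dotB.IsRefl := by
  intro v w h; rw [dotB_apply] at *; simpa [mul_comm] using h

theorem golay_eq_orth : golayCode = dotB.orthogonal golayCode := by
  apply Submodule.eq_of_le_of_finrank_eq
  · intro w hw v hv
    show dotB v w = 0
    rw [dotB_apply]; exact Cfsg.Agent.S0362.result _ _ hv hw
  · rw [LinearMap.BilinForm.finrank_orthogonal dotB_nondeg, Cfsg.Agent.S0358.result]
    simp [ZMod.card]

/-- Self-duality of the Golay code. -/
theorem mem_golay_of_orth {w : GolayPt → ZMod 2}
    (h : ∀ v ∈ golayCode, ∑ i, v i * w i = 0) : w ∈ golayCode := by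
  rw [golay_eq_orth]
  intro v hv
  show dotB v w = 0
  rw [dotB_apply]; exact h v hv

theorem mem_golay_iff_gens {w : GolayPt → ZMod 2} :
    w ∈ golayCode ↔ (∀ t, ∑ i, qrWord t i * w i = 0) ∧ ∑ i, w i = 0 := by
  constructor
  · intro h
    exact ⟨fun t => Cfsg.Agent.S0362.result _ _ (qrWord_mem t) h, by
      simpa using Cfsg.Agent.S0362.result _ _ one_mem_golayCode h⟩
  · rintro ⟨h1, h2⟩
    apply mem_golay_of_orth
    intro v hv
    induction hv using Submodule.span_induction with
    | mem x hx =>
      rcases hx with ⟨t, rfl⟩ | rfl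
      · exact h1 t
      · simpa using h2
    | zero => simp
    | add x y _ _ hx hy => simp only [Pi.add_apply, add_mul, sum_add_distrib, hx, hy, add_zero]
    | smul a x _ hx => simp only [Pi.smul_apply, smul_eq_mul, mul_assoc, ← mul_sum, hx, mul_zero]

theorem mem_codeSets_of_even {c : Finset GolayPt}
    (h : ∀ d ∈ CodeSets, (d ∩ c).card % 2 = 0) : c ∈ CodeSets := by
  rw [mem_codeSets]
  apply mem_golay_of_orth
  intro v hv
  have := h _ (support₂_mem_codeSets.2 hv)
  rw [← natCast_zmod2_eq_zero, ← sum_ind_mul_ind, ind_support₂] at this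
  exact this

/-- Projection lemma: a subset `S` of `X` is cut out on `X` by a code set as soon as it meets every
code set inside `X` evenly. -/
theorem exists_codeSet_inter_eq {X S : Finset GolayPt} (hS : S ⊆ X)
    (h : ∀ d ∈ CodeSets, d ⊆ X → (d ∩ S).card % 2 = 0) : ∃ c ∈ CodeSets, c ∩ X = S := by
  let W : Submodule (ZMod 2) (GolayPt → ZMod 2) :=
    Submodule.span (ZMod 2) ((fun i => Pi.single i 1) '' ((Xᶜ : Finset GolayPt) : Set GolayPt))
  have hW : ∀ w ∈ W, ∀ i ∈ X, w i = 0 := by
    intro w hw i hi
    induction hw using Submodule.span_induction with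
    | mem x hx =>
      obtain ⟨j, hj, rfl⟩ := hx
      have : i ≠ j := by rintro rfl; simp at hj; exact hj hi
      simp [this]
    | zero => simp
    | add x y _ _ hx hy => simp [hx, hy]
    | smul a x _ hx => simp [hx]
  have key : ind S ∈ golayCode ⊔ W := by
    rw [← LinearMap.BilinForm.orthogonal_orthogonal dotB_nondeg dotB_refl (golayCode ⊔ W)]
    intro d hd
    show dotB d (ind S) = 0
    have hd1 : d ∈ golayCode := by
      rw [golay_eq_orth]; exact fun v hv => hd v (Submodule.mem_sup_left hv)
    have hd2 : support₂ d ⊆ X := by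
      intro i hi
      by_contra hiX
      have : dotB (Pi.single i 1) d = 0 :=
        hd _ (Submodule.mem_sup_right (Submodule.subset_span ⟨i, by simpa using hiX, rfl⟩))
      rw [dotB_apply, sum_eq_single i] at this
      · rw [mem_support₂] at hi; simp [hi] at this
      · intro j _ hj; simp [hj]
      · simp
    have := h _ (support₂_mem_codeSets.2 hd1) hd2
    rw [← natCast_zmod2_eq_zero, ← sum_ind_mul_ind, ind_support₂] at this
    rw [dotB_apply]; exact this
  obtain ⟨c, hc, w, hw, hcw⟩ := Submodule.mem_sup.1 key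
  refine ⟨support₂ c, support₂_mem_codeSets.2 hc, ?_⟩
  ext i
  rw [mem_inter, mem_support₂]
  have h1 := congrFun hcw i
  constructor
  · rintro ⟨h2, h3⟩
    rw [Pi.add_apply, hW w hw i h3, h2] at h1
    by_contra h4; simp [ind, h4] at h1
  · intro h2
    rw [Pi.add_apply, hW w hw i (hS h2)] at h1
    exact ⟨by simpa [ind, h2] using h1, hS h2⟩

/-- On a set of at most seven points the code induces all subsets. -/
theorem exists_codeSet_inter_eq_of_small {X S : Finset GolayPt} (hS : S ⊆ X) (hX : X.card < 8) :
    ∃ c ∈ CodeSets, c ∩ X = S :=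
  exists_codeSet_inter_eq hS fun d hd hdX => by
    rw [eq_empty_of_card_lt hd (lt_of_le_of_lt (card_le_card hdX) hX)]; simp

theorem card_symmDiff_add (c d : Finset GolayPt) :
    (symmDiff c d).card + 2 * (c ∩ d).card = c.card + d.card := by
  have h1 : (symmDiff c d).card = (c \ d).card + (d \ c).card := by
    rw [← card_union_of_disjoint]
    · rfl
    · exact disjoint_sdiff_sdiff
  have h2 := card_sdiff_add_card_inter c d
  have h3 := card_sdiff_add_card_inter d c
  rw [inter_comm] at h3
  omega

/-- If `X` contains a code set `o` and has fewer than `8` further... precisely: when the only code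
sets inside `X` are `∅` and `o`, every subset of `X` meeting `o` evenly is cut out by a code set. -/
theorem exists_codeSet_inter_eq_of_one {X S o : Finset GolayPt} (hS : S ⊆ X)
    (hX : ∀ d ∈ CodeSets, d ⊆ X → d = ∅ ∨ d = o) (he : (o ∩ S).card % 2 = 0) :
    ∃ c ∈ CodeSets, c ∩ X = S :=
  exists_codeSet_inter_eq hS fun d hd hdX => by
    rcases hX d hd hdX with rfl | rfl
    · simp
    · exact he

/-- A code set inside a set of at most 11 points that contains the octad `o` is `∅` or `o`. -/
theorem eq_of_subset_of_octad {X o d : Finset GolayPt} (ho : o ∈ octads) (hoX : o ⊆ X)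
    (hX : X.card < 12) (hd : d ∈ CodeSets) (hdX : d ⊆ X) : d = ∅ ∨ d = o := by
  have h1 := card_cases hd
  have h2 := card_le_card hdX
  have h3 := card_cases (symmDiff_mem_codeSets hd ho.1)
  have h4 := card_symmDiff_add d o
  have h5 := card_union_add_card_inter d o
  have h6 : (d ∪ o).card ≤ X.card := card_le_card (union_subset hdX hoX)
  have h7 := ho.2
  by_cases h : d.card = 0
  · left; exact card_eq_zero.1 h
  · right
    have : (symmDiff d o).card = 0 := by omega
    exact symmDiff_eq_bot.1 (card_eq_zero.1 this)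

/-- A code set inside a set of at most 13 points that contains the dodecad `o` is `∅` or `o`. -/
theorem eq_of_subset_of_dodecad {X o d : Finset GolayPt} (ho : o ∈ dodecads) (hoX : o ⊆ X)
    (hX : X.card < 14) (hd : d ∈ CodeSets) (hdX : d ⊆ X) : d = ∅ ∨ d = o := by
  have h1 := card_cases hd
  have h2 := card_le_card hdX
  have h3 := card_cases (symmDiff_mem_codeSets hd ho.1)
  have h4 := card_symmDiff_add d o
  have h5 := card_union_add_card_inter d o
  have h6 : (d ∪ o).card ≤ X.card := card_le_card (union_subset hdX hoX)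
  have h7 := ho.2
  have h8 := inter_even hd ho.1
  by_cases h : d.card = 0
  · left; exact card_eq_zero.1 h
  · right
    have : (symmDiff d o).card = 0 := by omega
    exact symmDiff_eq_bot.1 (card_eq_zero.1 this)

/-- The number of code words. -/
theorem ncard_codeSets : CodeSets.ncard = 4096 := by
  have hinj : Function.Injective (support₂ : (GolayPt → ZMod 2) → Finset GolayPt) :=
    Function.LeftInverse.injective ind_support₂
  rw [CodeSets, supports, Set.ncard_image_of_injective _ hinj]
  have : Nat.card golayCode = 4096 := by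
    rw [Module.natCard_eq_pow_finrank (K := ZMod 2), Cfsg.Agent.S0358.result]; simp
  exact this

end CL.Leech
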