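import Cfsg.Agent.Base
import Cfsg.Agent.Spor.LeechCode

/-!
# The Leech lattice: evenness, minimal norm, sign changes, the monomial group
-/

set_option autoImplicit false

namespace CL.Leech

open Cfsg Finset
open scoped Pointwise

/-- Change of signs on a set of coordinates. -/
def signFun (c : Finset GolayPt) (x : GolayPt → ℤ) : GolayPt → ℤ :=
  fun i => if i ∈ c then -x i else x i

theorem signFun_signFun (c : Finset GolayPt) (x : GolayPt → ℤ) : signFun c (signFun c x) = x := by
  funext i; unfold signFun; split_ifs <;> simp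

theorem signFun_sq (c : Finset GolayPt) (x : GolayPt → ℤ) (i : GolayPt) :
    signFun c x i ^ 2 = x i ^ 2 := by
  unfold signFun; split_ifs <;> simp

theorem abs_signFun (c : Finset GolayPt) (x : GolayPt → ℤ) (i : GolayPt) :
    |signFun c x i| = |x i| := by
  unfold signFun; split_ifs <;> simp

theorem sum_signFun (c : Finset GolayPt) (x : GolayPt → ℤ) :
    ∑ i, signFun c x i = ∑ i, x i - 2 * ∑ i ∈ c, x i := by
  have : ∀ i, signFun c x i = x i - 2 * (if i ∈ c then x i else 0) := by
    intro i; unfold signFun; split_ifs <;> ring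
  simp only [this, sum_sub_distrib, ← mul_sum, ← sum_filter]
  congr 3; ext i; simp

/-- The sum of a Leech vector over a code set is divisible by four. -/
theorem sum_codeSet_mod_four {c : Finset GolayPt} (hc : c ∈ CodeSets) {x : GolayPt → ℤ}
    (hx : x ∈ leechLattice) : (∑ i ∈ c, x i) % 4 = 0 := by
  obtain ⟨m, u, h1, h2, -⟩ := mem_leech_iff.1 hx
  have h3 := sum_even_of_red hc h2
  have h4 := card_mod_four hc
  simp only [h1, sum_add_distrib, ← mul_sum, sum_const, nsmul_eq_mul]
  obtain ⟨k, hk⟩ : ∃ k : ℕ, c.card = 4 * k := ⟨c.card / 4, by omega⟩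
  rw [hk]; push_cast
  have : 4 * (k : ℤ) * m = 4 * (k * m) := by ring
  omega

theorem signFun_mem {c : Finset GolayPt} (hc : c ∈ CodeSets) {x : GolayPt → ℤ}
    (hx : x ∈ leechLattice) : signFun c x ∈ leechLattice := by
  have h4 := sum_codeSet_mod_four hc hx
  obtain ⟨m, u, h1, h2, h3⟩ := mem_leech_iff.1 hx
  refine mem_leech_iff.2 ⟨m, fun i => u i - if i ∈ c then x i else 0, fun i => ?_, ?_, ?_⟩
  · unfold signFun; beta_reduce; have := h1 i; split_ifs <;> omega
  · have : red (fun i => u i - if i ∈ c then x i else 0) = red u - (m : ZMod 2) • ind c := by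
      funext i
      simp only [red, ind, Pi.sub_apply, Pi.smul_apply, smul_eq_mul]
      split_ifs
      · rw [h1 i]; push_cast
        have : (2 : ZMod 2) = 0 := rfl
        rw [this]; ring
      · simp
    rw [this]
    exact golayCode.sub_mem h2 (golayCode.smul_mem _ (mem_codeSets.1 hc))
  · rw [sum_signFun]; omega

/-- The sign change on a code set as an element of `Co0`. -/
def signCo0 (c : Finset GolayPt) (hc : c ∈ CodeSets) : Co0 :=
  mkCo0 (signFun c) (signFun c) (fun _ h => signFun_mem hc h) (fun _ h => signFun_mem hc h)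
    (fun x _ => signFun_signFun c x) (fun x _ => signFun_signFun c x)
    (fun x _ y _ => by funext i; simp only [signFun, Pi.add_apply]; split_ifs <;> ring)
    (fun x _ => sum_congr rfl fun i _ => signFun_sq c x i)

theorem signCo0_smul (c : Finset GolayPt) (hc : c ∈ CodeSets) (v : leechLattice) :
    ((signCo0 c hc • v : leechLattice) : GolayPt → ℤ) = signFun c v := rfl

theorem signCo0_smul_apply (c : Finset GolayPt) (hc : c ∈ CodeSets) (v : leechLattice)
    (i : GolayPt) : ((signCo0 c hc • v : leechLattice) : GolayPt → ℤ) i =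
      if i ∈ c then -(v : GolayPt → ℤ) i else (v : GolayPt → ℤ) i := rfl

theorem signCo0_mul_self (c : Finset GolayPt) (hc : c ∈ CodeSets) :
    signCo0 c hc * signCo0 c hc = 1 :=
  Co0_ext fun v => by rw [mul_smul, signCo0_smul, signCo0_smul, signFun_signFun, one_smul]

theorem signCo0_inv (c : Finset GolayPt) (hc : c ∈ CodeSets) : (signCo0 c hc)⁻¹ = signCo0 c hc :=
  inv_eq_of_mul_eq_one_left (signCo0_mul_self c hc)

theorem signCo0_mul (c d : Finset GolayPt) (hc : c ∈ CodeSets) (hd : d ∈ CodeSets) :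
    signCo0 c hc * signCo0 d hd = signCo0 (symmDiff c d) (symmDiff_mem_codeSets hc hd) :=
  Co0_ext fun v => by
    funext i
    rw [mul_smul]; simp only [signCo0_smul_apply, mem_symmDiff]
    by_cases h1 : i ∈ c <;> by_cases h2 : i ∈ d <;> simp [h1, h2]

theorem signCo0_empty : signCo0 ∅ empty_mem_codeSets = 1 :=
  Co0_ext fun v => by funext i; simp [signCo0_smul_apply]

theorem signCo0_univ : signCo0 univ univ_mem_codeSets = negOne :=
  Co0_ext fun v => by funext i; simp [signCo0_smul_apply, negOne_smul]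

theorem signCo0_e8 (c : Finset GolayPt) (hc : c ∈ CodeSets) (i : GolayPt) :
    signCo0 c hc • e8 i = if i ∈ c then -e8 i else e8 i := by
  apply Subtype.ext; funext j
  rw [signCo0_smul_apply]
  by_cases h : j = i
  · subst h; split_ifs <;> simp
  · split_ifs <;> simp [coe_e8, h]

theorem permCo0_mul_signCo0 (σ : M24) (c : Finset GolayPt) (hc : c ∈ CodeSets) :
    permCo0 σ * signCo0 c hc =
      signCo0 ((σ : Equiv.Perm GolayPt) • c) (smul_mem_codeSets σ.2 hc) * permCo0 σ :=
  Co0_ext fun v => by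
    funext i
    simp only [mul_smul, signCo0_smul_apply, permCo0_smul, mem_smul_iff']

/-- The monomial element `x ↦ signedPerm σ c x` of `Co0`. -/
def mono (σ : M24) (c : Finset GolayPt) (hc : c ∈ CodeSets) : Co0 := signCo0 c hc * permCo0 σ

theorem mono_smul (σ : M24) (c : Finset GolayPt) (hc : c ∈ CodeSets) (v : leechLattice) :
    ((mono σ c hc • v : leechLattice) : GolayPt → ℤ) = signedPerm σ c v := rfl

theorem mono_smul_apply (σ : M24) (c : Finset GolayPt) (hc : c ∈ CodeSets) (v : leechLattice)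
    (i : GolayPt) : ((mono σ c hc • v : leechLattice) : GolayPt → ℤ) i =
      if i ∈ c then -(v : GolayPt → ℤ) ((σ : Equiv.Perm GolayPt).symm i)
      else (v : GolayPt → ℤ) ((σ : Equiv.Perm GolayPt).symm i) := rfl

theorem mono_e8 (σ : M24) (c : Finset GolayPt) (hc : c ∈ CodeSets) (i : GolayPt) :
    mono σ c hc • e8 i = if (σ : Equiv.Perm GolayPt) i ∈ c then -e8 ((σ : Equiv.Perm GolayPt) i)
      else e8 ((σ : Equiv.Perm GolayPt) i) := by
  rw [mono, mul_smul, permCo0_e8, signCo0_e8]

theorem mono_mul (σ τ : M24) (c d : Finset GolayPt) (hc : c ∈ CodeSets) (hd : d ∈ CodeSets) :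
    mono σ c hc * mono τ d hd = mono (σ * τ) (symmDiff c ((σ : Equiv.Perm GolayPt) • d))
      (symmDiff_mem_codeSets hc (smul_mem_codeSets σ.2 hd)) := by
  unfold mono
  rw [mul_assoc, ← mul_assoc (permCo0 σ), permCo0_mul_signCo0, map_mul,
    ← signCo0_mul _ _ hc (smul_mem_codeSets σ.2 hd)]
  simp only [mul_assoc]

theorem e8_ne_neg (i j : GolayPt) : e8 i ≠ -e8 j := by
  intro h
  have := congrFun (congrArg (fun z : leechLattice => (z : GolayPt → ℤ)) h) i
  simp only [coe_e8, Pi.single_eq_same, NegMemClass.coe_neg, Pi.neg_apply, Pi.single_apply] at this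
  split_ifs at this
  omega

theorem mono_inj {σ τ : M24} {c d : Finset GolayPt} {hc : c ∈ CodeSets} {hd : d ∈ CodeSets}
    (h : mono σ c hc = mono τ d hd) : σ = τ ∧ c = d := by
  have key : ∀ i, (σ : Equiv.Perm GolayPt) i = (τ : Equiv.Perm GolayPt) i ∧
      ((σ : Equiv.Perm GolayPt) i ∈ c ↔ (τ : Equiv.Perm GolayPt) i ∈ d) := by
    intro i
    have h1 := mono_e8 σ c hc i
    rw [h, mono_e8] at h1
    split_ifs at h1 with h2 h3 h3
    · exact ⟨e8_injective (neg_injective h1).symm, by simp [h2, h3]⟩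
    · exact absurd h1.symm (e8_ne_neg _ _)
    · exact absurd h1 (e8_ne_neg _ _)
    · exact ⟨e8_injective h1.symm, by simp [h2, h3]⟩
  have hσ : σ = τ := Subtype.ext (Equiv.ext fun i => (key i).1)
  subst hσ
  refine ⟨rfl, ?_⟩
  ext i
  simpa using (key ((σ : Equiv.Perm GolayPt).symm i)).2

/-- The monomial group `2^12 : M24` as a subgroup of `Co0`. -/
def monoGroup : Subgroup Co0 where
  carrier := {g | ∃ (σ : M24) (c : Finset GolayPt) (hc : c ∈ CodeSets), g = mono σ c hc}
  mul_mem' := by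
    rintro _ _ ⟨σ, c, hc, rfl⟩ ⟨τ, d, hd, rfl⟩
    exact ⟨_, _, _, mono_mul σ τ c d hc hd⟩
  one_mem' := ⟨1, ∅, empty_mem_codeSets, by simp [mono, signCo0_empty]⟩
  inv_mem' := by
    rintro _ ⟨σ, c, hc, rfl⟩
    refine ⟨σ⁻¹, _, smul_mem_codeSets (σ⁻¹).2 hc, ?_⟩
    unfold mono
    rw [mul_inv_rev, signCo0_inv, ← map_inv, permCo0_mul_signCo0]

theorem mem_monoGroup {g : Co0} : g ∈ monoGroup ↔
    ∃ (σ : M24) (c : Finset GolayPt) (hc : c ∈ CodeSets), g = mono σ c hc := Iff.rfl

theorem mono_mem (σ : M24) (c : Finset GolayPt) (hc : c ∈ CodeSets) : mono σ c hc ∈ monoGroup :=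
  ⟨σ, c, hc, rfl⟩

theorem mono_empty (σ : M24) : mono σ ∅ empty_mem_codeSets = permCo0 σ := by
  simp [mono, signCo0_empty]

theorem mono_one (c : Finset GolayPt) (hc : c ∈ CodeSets) : mono 1 c hc = signCo0 c hc := by
  simp [mono]

theorem permCo0_mem (σ : M24) : permCo0 σ ∈ monoGroup := mono_empty σ ▸ mono_mem σ _ _

theorem signCo0_mem (c : Finset GolayPt) (hc : c ∈ CodeSets) : signCo0 c hc ∈ monoGroup :=
  mono_one c hc ▸ mono_mem 1 c hc

theorem negOne_mem : negOne ∈ monoGroup := signCo0_univ ▸ signCo0_mem _ _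

/-- The monomial group is in bijection with pairs (permutation, code set). -/
noncomputable def monoEquiv : M24 × CodeSets ≃ monoGroup :=
  Equiv.ofBijective (fun p => ⟨mono p.1 p.2.1 p.2.2, mono_mem _ _ _⟩)
    ⟨fun _ _ h => by
      obtain ⟨h1, h2⟩ := mono_inj (congrArg Subtype.val h)
      exact Prod.ext h1 (Subtype.ext h2),
     by rintro ⟨_, σ, c, hc, rfl⟩; exact ⟨(σ, ⟨c, hc⟩), rfl⟩⟩

theorem card_monoGroup : Nat.card monoGroup = 4096 * Nat.card M24 := by
  rw [← Nat.card_congr monoEquiv, Nat.card_prod, mul_comm]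
  congr 1
  exact ncard_codeSets

/-! ### Evenness and minimal norm -/

theorem sum_sq_mod_four (u : GolayPt → ℤ) :
    (∑ i, u i ^ 2) % 4 = ((univ.filter fun i => u i % 2 = 1).card : ℤ) % 4 := by
  rw [card_filter]; push_cast
  apply Int.ModEq.sum
  intro i _
  unfold Int.ModEq
  rcases Int.emod_two_eq_zero_or_one (u i) with h | h
  · obtain ⟨k, hk⟩ : ∃ k, u i = 2 * k := ⟨u i / 2, by omega⟩
    have : u i ^ 2 = 4 * k ^ 2 := by rw [hk]; ring
    simp only [h]; norm_num; omega
  · obtain ⟨k, hk⟩ : ∃ k, u i = 2 * k + 1 := ⟨u i / 2, by omega⟩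
    have : u i ^ 2 = 4 * (k ^ 2 + k) + 1 := by rw [hk]; ring
    simp only [h]; norm_num; omega

theorem sum_sq_mod_two (u : GolayPt → ℤ) : (∑ i, u i ^ 2) % 2 = (∑ i, u i) % 2 := by
  apply Int.ModEq.sum
  intro i _
  unfold Int.ModEq
  rcases Int.emod_two_eq_zero_or_one (u i) with h | h <;> simp [sq, Int.mul_emod, h]

theorem sixteen_dvd_sqNorm {x : GolayPt → ℤ} (hx : x ∈ leechLattice) : (16 : ℤ) ∣ sqNorm x := by
  rcases even_or_odd hx with h | h
  · obtain ⟨h1, h2⟩ := (mem_iff_of_even h).1 hx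
    set u : GolayPt → ℤ := fun i => x i / 2 with hu
    have hx2 : ∀ i, x i = 2 * u i := fun i => by have := h i; simp only [hu]; omega
    have h3 := sum_sq_mod_four u
    have h4 : (univ.filter fun i => u i % 2 = 1) = univ.filter fun i => x i % 4 = 2 :=
      filter_congr fun i _ => by rw [hx2 i]; omega
    have h5 := card_mod_four h1
    have h6 : sqNorm x = 4 * ∑ i, u i ^ 2 := by
      simp only [sqNorm, hx2, mul_pow, mul_sum]; norm_num
    rw [h4] at h3
    omega
  · obtain ⟨h1, h2⟩ := (mem_iff_of_odd h).1 hx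
    set u : GolayPt → ℤ := fun i => x i / 2 with hu
    have hx2 : ∀ i, x i = 2 * u i + 1 := fun i => by have := h i; simp only [hu]; omega
    have h3 := sum_sq_mod_four u
    have h4 : (univ.filter fun i => u i % 2 = 1) = univ.filter fun i => x i % 4 = 3 :=
      filter_congr fun i _ => by rw [hx2 i]; omega
    have h5 := card_mod_four h1
    have h6 : sqNorm x = 4 * ∑ i, u i ^ 2 + 4 * ∑ i, u i + 24 := by
      have : ∀ i, x i ^ 2 = 4 * u i ^ 2 + 4 * u i + 1 := fun i => by rw [hx2]; ring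
      simp only [sqNorm, this, sum_add_distrib, ← mul_sum, sum_const, card_univ, card_golayPt]
      norm_num
    have h7 : ∑ i, x i = 2 * ∑ i, u i + 24 := by
      simp only [hx2, sum_add_distrib, ← mul_sum, sum_const, card_univ, card_golayPt]
      norm_num
    rw [h4] at h3
    omega

theorem eight_dvd_dotInt {x y : GolayPt → ℤ} (hx : x ∈ leechLattice) (hy : y ∈ leechLattice) :
    (8 : ℤ) ∣ dotInt x y := by
  have h1 := sixteen_dvd_sqNorm hx
  have h2 := sixteen_dvd_sqNorm hy
  have h3 := sixteen_dvd_sqNorm (add_mem hx hy)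
  rw [sqNorm_add] at h3
  omega

theorem card_filter_le_sum_sq (u : GolayPt → ℤ) (p : GolayPt → Prop) [DecidablePred p] (a : ℤ)
    (h : ∀ i, p i → a ≤ u i ^ 2) : a * ((univ.filter p).card : ℤ) ≤ ∑ i, u i ^ 2 := by
  calc a * ((univ.filter p).card : ℤ) = ∑ _i ∈ univ.filter p, a := by simp [mul_comm]
    _ ≤ ∑ i ∈ univ.filter p, u i ^ 2 := sum_le_sum fun i hi => h i (mem_filter.1 hi).2
    _ ≤ ∑ i, u i ^ 2 :=
      sum_le_sum_of_subset_of_nonneg (subset_univ _) fun _ _ _ => sq_nonneg _

theorem twentyfour_le_of_odd {x : GolayPt → ℤ} (h : ∀ i, x i % 2 = 1) : 24 ≤ sqNorm x := by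
  have := card_filter_le_sum_sq x (fun _ => True) 1 (fun i _ => by
    have := h i
    have : x i ≠ 0 := by omega
    exact (one_le_sq_iff_one_le_abs _).2 (Int.one_le_abs this))
  simpa [sqNorm, ZMod.card] using this

theorem thirtytwo_le_sqNorm {x : GolayPt → ℤ} (hx : x ∈ leechLattice) (h0 : x ≠ 0) :
    32 ≤ sqNorm x := by
  have h16 := sixteen_dvd_sqNorm hx
  have hpos : sqNorm x ≠ 0 := fun h => h0 (sqNorm_eq_zero.1 h)
  have hnn := sqNorm_nonneg x
  by_contra hlt
  have hN : sqNorm x = 16 := by omega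
  rcases even_or_odd hx with h | h
  · obtain ⟨h1, h2⟩ := (mem_iff_of_even h).1 hx
    have h3 := card_filter_le_sum_sq x (fun i => x i % 4 = 2) 4 (fun i hi => by
      have : 2 ≤ x i ∨ x i ≤ -2 := by omega
      rcases this with h | h <;> nlinarith)
    have h4 := eq_empty_of_card_lt h1 (by unfold sqNorm at hN; omega)
    set u : GolayPt → ℤ := fun i => x i / 4 with hu
    have hx2 : ∀ i, x i = 4 * u i := fun i => by
      have := h i
      have h5 : ¬ x i % 4 = 2 := by simpa using (filter_eq_empty_iff.1 h4) (mem_univ i)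
      simp only [hu]; omega
    have h6 : sqNorm x = 16 * ∑ i, u i ^ 2 := by
      simp only [sqNorm, hx2, mul_pow, mul_sum]; norm_num
    have h7 : ∑ i, x i = 4 * ∑ i, u i := by simp only [hx2, mul_sum]
    have := sum_sq_mod_two u
    omega
  · have := twentyfour_le_of_odd h; omega

end CL.Leech
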