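import Cfsg.Agent.Base
import Cfsg.Agent.Spor.LeechMono

/-!
# Generators of the Leech lattice; constructing elements of `Co0`; Conway's element `ξ`
-/

set_option autoImplicit false

namespace CL.Leech

open Cfsg Finset
open scoped Pointwise Matrix

/-- `(-3, 1^23)` with the `-3` at `j`. -/
def oddVec (j : GolayPt) : GolayPt → ℤ := fun i => if i = j then -3 else 1

theorem oddVec_odd (j i : GolayPt) : oddVec j i % 2 = 1 := by unfold oddVec; split_ifs <;> rfl

theorem sum_ite_eq_const (j : GolayPt) (a b : ℤ) :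
    ∑ i, (if i = j then a else b) = a + 23 * b := by
  have : ∀ i : GolayPt, (if i = j then a else b) = (if i = j then a - b else 0) + b := by
    intro i; split_ifs <;> ring
  simp only [this, sum_add_distrib, sum_ite_eq', mem_univ, if_true, sum_const, card_univ,
    card_golayPt]
  simp; ring

theorem oddVec_mem (j : GolayPt) : oddVec j ∈ leechLattice := by
  rw [mem_iff_of_odd (oddVec_odd j)]
  refine ⟨?_, ?_⟩
  · convert empty_mem_codeSets using 1
    apply filter_false_of_mem; intro i _; unfold oddVec; split_ifs <;> decide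
  · unfold oddVec; rw [sum_ite_eq_const]; rfl

theorem sqNorm_oddVec (j : GolayPt) : sqNorm (oddVec j) = 32 := by
  have : ∀ i, oddVec j i ^ 2 = if i = j then 9 else 1 := by
    intro i; unfold oddVec; split_ifs <;> rfl
  unfold sqNorm; simp only [this]; rw [sum_ite_eq_const]; rfl

/-- `2` on a set of points, `0` elsewhere. -/
def twoVec (c : Finset GolayPt) : GolayPt → ℤ := fun i => if i ∈ c then 2 else 0

theorem sum_ite_mem_const (c : Finset GolayPt) (a : ℤ) :
    ∑ i, (if i ∈ c then a else 0) = a * c.card := by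
  rw [← sum_filter, filter_mem_eq_inter, univ_inter, sum_const]; simp [mul_comm]

theorem twoVec_mem {c : Finset GolayPt} (hc : c ∈ CodeSets) : twoVec c ∈ leechLattice := by
  rw [mem_iff_of_even (fun i => by unfold twoVec; split_ifs <;> rfl)]
  refine ⟨?_, ?_⟩
  · convert hc using 1
    ext i; rw [mem_filter]; by_cases h : i ∈ c <;> simp [twoVec, h]
  · unfold twoVec; rw [sum_ite_mem_const]; have := card_mod_four hc; omega

theorem sqNorm_twoVec (c : Finset GolayPt) : sqNorm (twoVec c) = 4 * c.card := by
  have : ∀ i, twoVec c i ^ 2 = if i ∈ c then 4 else 0 := by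
    intro i; unfold twoVec; split_ifs <;> rfl
  unfold sqNorm; simp only [this]; rw [sum_ite_mem_const]

/-- `a e_i + b e_j`. -/
def pairVec (i j : GolayPt) (a b : ℤ) : GolayPt → ℤ := Pi.single i a + Pi.single j b

theorem pairVec_apply (i j : GolayPt) (a b : ℤ) (k : GolayPt) :
    pairVec i j a b k = (if k = i then a else 0) + (if k = j then b else 0) := by
  simp [pairVec, Pi.single_apply]

theorem sum_pairVec (i j : GolayPt) (a b : ℤ) : ∑ k, pairVec i j a b k = a + b := by
  simp only [pairVec_apply, sum_add_distrib, sum_ite_eq', mem_univ, if_true]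

theorem pairVec_mem (i j : GolayPt) {a b : ℤ} (ha : a % 4 = 0) (hb : b % 4 = 0)
    (hab : (a + b) % 8 = 0) : pairVec i j a b ∈ leechLattice := by
  have := four_mul_mem (y := pairVec i j (a / 4) (b / 4)) (by rw [sum_pairVec]; omega)
  convert this using 2 with k
  simp only [pairVec_apply]; split_ifs <;> omega

theorem sqNorm_pairVec {i j : GolayPt} (h : i ≠ j) (a b : ℤ) :
    sqNorm (pairVec i j a b) = a ^ 2 + b ^ 2 := by
  rw [pairVec, sqNorm_add, sqNorm_single, sqNorm_single, dotInt_single_right]
  simp [h.symm]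

theorem four_mul_mem_of_gens (H : AddSubgroup (GolayPt → ℤ))
    (h3 : ∀ i, pairVec i none 4 4 ∈ H) {y : GolayPt → ℤ} (hy : (∑ i, y i) % 2 = 0) :
    (fun i => 4 * y i) ∈ H := by
  have : (fun i => 4 * y i) =
      ∑ i, y i • pairVec i none 4 4 - ((∑ i, y i) / 2) • pairVec none none 4 4 := by
    funext k
    simp only [Pi.sub_apply, Finset.sum_apply, Pi.smul_apply, smul_eq_mul, pairVec_apply, mul_add,
      sum_add_distrib, mul_ite, mul_zero, sum_ite_eq, mem_univ, if_true]
    split_ifs
    · rw [← sum_mul]; omega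
    · simp [mul_comm]
  rw [this]
  exact H.sub_mem (H.sum_mem fun i _ => H.zsmul_mem (h3 i) _) (H.zsmul_mem (h3 none) _)

theorem leech_le_of_gens' (H : AddSubgroup (GolayPt → ℤ)) (h1 : oddVec none ∈ H)
    (h2 : ∀ c ∈ CodeSets, twoVec c ∈ H) (h3 : ∀ i, pairVec i none 4 4 ∈ H) :
    leechLattice ≤ H := by
  have even : ∀ x ∈ leechLattice, (∀ i, x i % 2 = 0) → x ∈ H := by
    intro x hx h
    obtain ⟨hc, hs⟩ := (mem_iff_of_even h).1 hx
    set c := univ.filter fun i => x i % 4 = 2 with hcdef
    have h4 : (fun i => 4 * ((x i - twoVec c i) / 4)) = x - twoVec c := by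
      funext i
      have := h i
      simp only [Pi.sub_apply, twoVec, hcdef, mem_filter, mem_univ, true_and]
      split_ifs <;> omega
    have h5 := four_mul_mem_of_gens H h3 (y := fun i => (x i - twoVec c i) / 4) (by
      have h6 : ∑ i, (x - twoVec c) i = 4 * ∑ i, (x i - twoVec c i) / 4 := by
        rw [← h4, mul_sum]
      simp only [Pi.sub_apply, sum_sub_distrib, twoVec, sum_ite_mem_const] at h6 ⊢
      have := card_mod_four hc
      omega)
    rw [h4] at h5
    simpa using H.add_mem h5 (h2 c hc)
  intro x hx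
  rcases even_or_odd hx with h | h
  · exact even x hx h
  · have := even (x - oddVec none) (sub_mem hx (oddVec_mem none)) (fun i => by
      have := h i; have := oddVec_odd none i; simp only [Pi.sub_apply]; omega)
    simpa using H.add_mem this h1

/-- The Leech lattice is generated by `(-3, 1^23)`, the vectors `2` on a translate of the squares,
and the vectors `4 e_i + 4 e_∞`. -/
theorem leech_le_of_gens (H : AddSubgroup (GolayPt → ℤ)) (h1 : oddVec none ∈ H)
    (h2 : ∀ t, twoVec (support₂ (qrWord t)) ∈ H) (h3 : ∀ i, pairVec i none 4 4 ∈ H) :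
    leechLattice ≤ H := by
  apply leech_le_of_gens' H h1 _ h3
  have key : ∀ w ∈ golayCode, twoVec (support₂ w) ∈ H := by
    intro w hw
    induction hw using Submodule.span_induction with
    | mem x hx =>
      rcases hx with ⟨t, rfl⟩ | rfl
      · exact h2 t
      · have : twoVec (support₂ 1) = oddVec none + oddVec none + pairVec none none 4 4 := by
          funext i
          simp only [twoVec, mem_support₂, Pi.one_apply, if_true, Pi.add_apply, oddVec,
            pairVec_apply]
          split_ifs <;> rfl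
        rw [this]; exact H.add_mem (H.add_mem h1 h1) (h3 none)
    | zero =>
      have : twoVec (support₂ 0) = 0 := by funext i; simp [twoVec, mem_support₂]
      rw [this]; exact H.zero_mem
    | add x y hx' hy' hx hy =>
      have he := inter_even (support₂_mem_codeSets.2 hx') (support₂_mem_codeSets.2 hy')
      have h4 := four_mul_mem_of_gens H h3
        (y := fun i => if i ∈ support₂ x ∩ support₂ y then 1 else 0)
        (by rw [sum_ite_mem_const]; omega)
      have : twoVec (support₂ (x + y)) = twoVec (support₂ x) + twoVec (support₂ y) -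
          fun i => 4 * if i ∈ support₂ x ∩ support₂ y then 1 else 0 := by
        funext i
        simp only [twoVec, mem_support₂, Pi.add_apply, Pi.sub_apply, mem_inter]
        rcases zmod2_cases (x i) with h | h <;> rcases zmod2_cases (y i) with h' | h' <;>
          simp [h, h']
      rw [this]; exact H.sub_mem (H.add_mem hx hy) h4
    | smul a x _ hx =>
      rcases zmod2_cases a with rfl | rfl
      · have : twoVec (support₂ ((0 : ZMod 2) • x)) = 0 := by funext i; simp [twoVec, mem_support₂]
        rw [this]; exact H.zero_mem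
      · rw [one_smul]; exact hx
  rintro _ ⟨w, hw, rfl⟩
  exact key w hw

/-- The Leech lattice is generated by its minimal vectors. -/
theorem leech_le_of_min (H : AddSubgroup (GolayPt → ℤ))
    (h : ∀ x ∈ leechLattice, sqNorm x = 32 → x ∈ H) : leechLattice ≤ H := by
  have h3 : ∀ i, pairVec i none 4 4 ∈ H := by
    have h3 : ∀ i j (a b : ℤ), i ≠ j → (a = 4 ∨ a = -4) → (b = 4 ∨ b = -4) →
        pairVec i j a b ∈ H := by
      intro i j a b hij ha hb
      apply h _ (pairVec_mem i j (by omega) (by omega) (by omega))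
      rw [sqNorm_pairVec hij]; rcases ha with rfl | rfl <;> rcases hb with rfl | rfl <;> rfl
    intro i
    by_cases hi : i = none
    · subst hi
      have : pairVec none none 4 4 = pairVec none (some 0) 4 4 + pairVec none (some 0) 4 (-4) := by
        funext k; simp only [Pi.add_apply, pairVec_apply]; split_ifs <;> rfl
      rw [this]
      exact H.add_mem (h3 _ _ _ _ (by simp) (by simp) (by simp))
        (h3 _ _ _ _ (by simp) (by simp) (by simp))
    · exact h3 _ _ _ _ hi (by simp) (by simp)
  have h1 : ∀ j, oddVec j ∈ H := fun j => h _ (oddVec_mem j) (sqNorm_oddVec j)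
  apply leech_le_of_gens H (h1 none) _ h3
  intro t
  have hc := support₂_mem_codeSets.2 (qrWord_mem t)
  have hn : none ∉ support₂ (qrWord t) := by simp [mem_support₂, qrWord]
  have : twoVec (support₂ (qrWord t)) =
      oddVec none + signFun (support₂ (qrWord t))ᶜ (oddVec none) := by
    funext i
    simp only [twoVec, Pi.add_apply, signFun, mem_compl, oddVec]
    by_cases h1 : i ∈ support₂ (qrWord t)
    · have : i ≠ none := by rintro rfl; exact hn h1
      simp [h1, this]
    · simp [h1]
  rw [this]
  refine H.add_mem (h1 none) (h _ (signFun_mem (compl_mem_codeSets hc) (oddVec_mem none)) ?_)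
  rw [← sqNorm_oddVec none]
  exact sum_congr rfl fun i _ => signFun_sq _ _ i

theorem finite_sqNorm_le (N : ℤ) : {x : GolayPt → ℤ | sqNorm x ≤ N}.Finite := by
  apply Set.Finite.subset (Set.Finite.pi (fun _ : GolayPt => Set.finite_Icc (-N) N))
  intro x hx i _
  have h1 := sq_le_sqNorm x i
  have h2 : sqNorm x ≤ N := hx
  constructor <;> nlinarith [sq_nonneg (x i + 1), sq_nonneg (x i - 1), Int.le_self_sq (x i),
    Int.le_self_sq (-x i)]

theorem finite_sqNorm_eq (N : ℤ) : {x : GolayPt → ℤ | x ∈ leechLattice ∧ sqNorm x = N}.Finite :=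
  (finite_sqNorm_le N).subset fun _ hx => hx.2.le

theorem finite_lattice_sqNorm_eq (N : ℤ) :
    {x : leechLattice | sqNorm (x : GolayPt → ℤ) = N}.Finite :=
  Set.Finite.of_finite_image (f := Subtype.val)
    ((finite_sqNorm_eq N).subset (by rintro _ ⟨x, hx, rfl⟩; exact ⟨x.2, hx⟩))
    Subtype.val_injective.injOn

theorem bijective_of_norm (f : leechLattice →+ leechLattice)
    (hn : ∀ v, sqNorm ((f v : leechLattice) : GolayPt → ℤ) = sqNorm (v : GolayPt → ℤ)) :
    Function.Bijective f := by
  have hinj : Function.Injective f := by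
    rw [injective_iff_map_eq_zero]
    intro v hv
    have := hn v
    rw [hv] at this
    exact Subtype.ext (sqNorm_eq_zero.1 (this.symm.trans (sqNorm_eq_zero.2 rfl)))
  refine ⟨hinj, ?_⟩
  have hsurj := ((finite_lattice_sqNorm_eq 32).injOn_iff_bijOn_of_mapsTo (f := f)
    (fun v hv => (hn v).trans hv)).1 hinj.injOn
  intro y
  have := leech_le_of_min (f.range.map leechLattice.subtype) (by
    intro x hx h32
    obtain ⟨v, -, hv⟩ := hsurj.surjOn (show (⟨x, hx⟩ : leechLattice) ∈ _ from h32)
    exact ⟨⟨x, hx⟩, ⟨v, hv⟩, rfl⟩) y.2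
  obtain ⟨z, ⟨v, hv⟩, hz⟩ := this
  exact ⟨v, hv.trans (Subtype.ext hz)⟩

/-- A norm-preserving additive self-map of the lattice is an element of `Co0`. -/
noncomputable def ofHom (f : leechLattice →+ leechLattice)
    (hn : ∀ v, sqNorm ((f v : leechLattice) : GolayPt → ℤ) = sqNorm (v : GolayPt → ℤ)) : Co0 :=
  ⟨Equiv.ofBijective f (bijective_of_norm f hn), fun v w => f.map_add v w, hn⟩

theorem ofHom_smul (f : leechLattice →+ leechLattice) (hn) (v : leechLattice) :
    ofHom f hn • v = f v := rfl

/-- A function on `ℤ^24` that maps the lattice to itself additively and isometrically gives an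
element of `Co0`. -/
noncomputable def ofFun (f : (GolayPt → ℤ) → (GolayPt → ℤ))
    (hf : ∀ x ∈ leechLattice, f x ∈ leechLattice)
    (hadd : ∀ x ∈ leechLattice, ∀ y ∈ leechLattice, f (x + y) = f x + f y)
    (hn : ∀ x ∈ leechLattice, sqNorm (f x) = sqNorm x) : Co0 :=
  ofHom (AddMonoidHom.mk' (fun v => ⟨f v, hf v v.2⟩) fun v w => Subtype.ext (hadd v v.2 w w.2))
    fun v => hn v v.2

theorem ofFun_smul (f : (GolayPt → ℤ) → (GolayPt → ℤ)) (hf hadd hn) (v : leechLattice) :
    ((ofFun f hf hadd hn • v : leechLattice) : GolayPt → ℤ) = f v := rfl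

/-- An integer matrix `M` with `Mᵀ M = d² I` that maps the generators of the lattice into `d` times
the lattice defines an element `M / d` of `Co0`. -/
theorem exists_Co0_of_matrix (M : Matrix GolayPt GolayPt ℤ) (d : ℤ) (hd : d ≠ 0)
    (hM : Mᵀ * M = (d ^ 2) • (1 : Matrix GolayPt GolayPt ℤ))
    (h1 : ∃ y ∈ leechLattice, M *ᵥ oddVec none = d • y)
    (h2 : ∀ t, ∃ y ∈ leechLattice, M *ᵥ twoVec (support₂ (qrWord t)) = d • y)
    (h3 : ∀ i, ∃ y ∈ leechLattice, M *ᵥ pairVec i none 4 4 = d • y) :
    ∃ g : Co0, ∀ v : leechLattice,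
      d • ((g • v : leechLattice) : GolayPt → ℤ) = M *ᵥ (v : GolayPt → ℤ) := by
  let H : AddSubgroup (GolayPt → ℤ) :=
    { carrier := {x | ∃ y ∈ leechLattice, M *ᵥ x = d • y}
      add_mem' := by
        rintro a b ⟨y, hy, h⟩ ⟨z, hz, h'⟩
        exact ⟨y + z, add_mem hy hz, by rw [Matrix.mulVec_add, h, h', smul_add]⟩
      zero_mem' := ⟨0, zero_mem _, by simp⟩
      neg_mem' := by
        rintro a ⟨y, hy, h⟩
        exact ⟨-y, neg_mem hy, by rw [Matrix.mulVec_neg, h, smul_neg]⟩ }
  have hH := leech_le_of_gens H h1 h2 h3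
  choose! f hf1 hf2 using fun x (hx : x ∈ leechLattice) => (hH hx : ∃ y ∈ leechLattice, M *ᵥ x = d • y)
  have hinj : ∀ a b : GolayPt → ℤ, d • a = d • b → a = b := fun a b h =>
    smul_right_injective _ hd h
  refine ⟨ofFun f hf1 (fun x hx y hy => hinj _ _ ?_) (fun x hx => ?_), fun v => (hf2 v v.2).symm⟩
  · rw [smul_add, ← hf2 _ (add_mem hx hy), ← hf2 _ hx, ← hf2 _ hy, Matrix.mulVec_add]
  · have h4 : sqNorm (M *ᵥ x) = d ^ 2 * sqNorm x := by
      have : sqNorm (M *ᵥ x) = x ⬝ᵥ ((Mᵀ * M) *ᵥ x) := by
        rw [← Matrix.mulVec_mulVec, Matrix.dotProduct_mulVec, Matrix.vecMul_transpose,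
          sqNorm_eq_dot]; rfl
      rw [this, hM, Matrix.smul_mulVec, Matrix.one_mulVec, dotProduct_smul, sqNorm_eq_dot]; rfl
    rw [hf2 x hx, sqNorm_zsmul] at h4
    exact mul_left_cancel₀ (pow_ne_zero 2 hd) h4

end CL.Leech
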