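import Cfsg.Agent.Base
import Cfsg.Agent.Spor.CoOrbPack
import Cfsg.Agent.Spor.GolayCode
import Cfsg.Agent.Spor.LeechGens

/-!
# Elements of `Co0` given by packed matrices
-/

set_option autoImplicit false

namespace CL.Co

open Cfsg Finset CL.Leech
open CL.Golay (idx pt idx_lt pt_idx idx_pt sum_pt allTo allTo_iff allL allL_iff isCode ofMask)
open scoped Matrix

/-- Strict evaluation for the kernel. -/
noncomputable def force {β : Type} (x : ℕ) (k : ℕ → β) : β :=
  @Nat.rec (fun _ => β) (k 0) (fun n _ => k (Nat.succ n)) x

theorem force_eq {β : Type} (x : ℕ) (k : ℕ → β) : force x k = k x := by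
  cases x <;> rfl

/-- Kernel-friendly digit. -/
def dg (k N : ℕ) : ℕ := Nat.land (Nat.shiftRight N (Nat.mul 12 k)) 4095

theorem dg_eq (k N : ℕ) : dg k N = dig k N := by
  show (N >>> (12 * k)) &&& (2 ^ 12 - 1) = _
  rw [Nat.and_two_pow_sub_one_eq_mod, Nat.shiftRight_eq_div_pow, pow_mul]; rfl

/-- Kernel-friendly sum `∑ k < n, f k`. -/
noncomputable def sumTo (f : ℕ → ℕ) (n : ℕ) : ℕ :=
  @Nat.rec (fun _ => ℕ → ℕ) (fun acc => acc) (fun k ih acc => force (Nat.add acc (f k)) ih) n 0

theorem sumTo_eq (f : ℕ → ℕ) (n : ℕ) : sumTo f n = ∑ k ∈ range n, f k := by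
  have : ∀ a, (@Nat.rec (fun _ => ℕ → ℕ) (fun acc => acc)
      (fun k ih acc => force (Nat.add acc (f k)) ih) n a) = a + ∑ k ∈ range n, f k := by
    induction n with
    | zero => intro a; rfl
    | succ n ih =>
      intro a
      show force (Nat.add a (f n)) _ = _
      rw [force_eq, ih, sum_range_succ]; simp only [Nat.add_eq]; ring
  rw [sumTo, this, zero_add]

/-- All 24 digits are at most 16 and there are no further digits. -/
noncomputable def bdT (X : ℕ) : Bool :=
  Nat.beq (Nat.shiftRight X 288) 0 && allTo (fun k => Nat.ble (dg k X) 16) 24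

theorem bdT_spec {X : ℕ} (h : bdT X = true) : Bd (unpack X) ∧ pack (unpack X) = X := by
  simp only [bdT, Bool.and_eq_true, Nat.beq_eq, allTo_iff, Nat.ble_eq, dg_eq] at h
  refine ⟨fun p => ?_, pack_unpack ?_⟩
  · have := h.2 _ (idx_lt p); unfold unpack; omega
  · have h1 : X >>> 288 = 0 := h.1
    rw [Nat.shiftRight_eq_div_pow, Nat.div_eq_zero_iff_lt (by positivity)] at h1
    exact lt_of_lt_of_eq h1 (by decide +kernel)

/-- Membership test for the Leech lattice. -/
noncomputable def memT (X : ℕ) : Bool :=
  allTo (fun k => Nat.beq (Nat.land (dg k X) 1) (Nat.land X 1)) 24 &&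
  isCode (sumTo (fun k => Nat.shiftLeft (Nat.land (Nat.shiftRight (dg k X) 1) 1) k) 24) &&
  Nat.beq (Nat.land (sumTo (fun k => dg k X) 24) 7) (Nat.mul 4 (Nat.land X 1))

theorem memT_spec {X : ℕ} (h : memT X = true) : unpack X ∈ leechLattice := by
  simp only [memT, Bool.and_eq_true, Nat.beq_eq, allTo_iff, dg_eq, sumTo_eq] at h
  obtain ⟨⟨h1, h2⟩, h3⟩ := h
  have e1 : ∀ a : ℕ, Nat.land a 1 = a % 2 := fun a => Nat.and_one_is_mod a
  have e7 : ∀ a : ℕ, Nat.land a 7 = a % 8 := fun a => Nat.and_two_pow_sub_one_eq_mod a 3
  have e2 : ∀ a : ℕ, Nat.shiftRight a 1 = a / 2 := fun a => Nat.shiftRight_one a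
  have e3 : ∀ a k : ℕ, Nat.shiftLeft a k = a * 2 ^ k := fun a k => Nat.shiftLeft_eq a k
  simp only [e1, e7, e2, e3, Nat.mul_eq] at h1 h2 h3
  have hsum : ∑ p, unpack X p = ((∑ k ∈ range 24, dig k X : ℕ) : ℤ) - 192 := by
    rw [sum_pt, Nat.cast_sum]
    have : ∀ k ∈ range 24, unpack X (pt k) = (dig k X : ℤ) - 8 := fun k hk => by
      rw [unpack, idx_pt (mem_range.1 hk)]
    rw [sum_congr rfl this, sum_sub_distrib]; simp
  have hmask : ofMask (∑ k ∈ range 24, dig k X / 2 % 2 * 2 ^ k) =
      univ.filter fun p => dig (idx p) X / 2 % 2 = 1 := by
    have : ∑ k ∈ range 24, dig k X / 2 % 2 * 2 ^ k =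
        ∑ k ∈ (range 24).filter (fun k => dig k X / 2 % 2 = 1), 2 ^ k := by
      rw [sum_filter]
      refine sum_congr rfl fun k _ => ?_
      rcases Nat.mod_two_eq_zero_or_one (dig k X / 2) with h | h <;> simp [h]
    ext p
    rw [this, CL.Golay.mem_ofMask, CL.Golay.testBit_sum_two_pow]
    simp [idx_lt]
  have hc := CL.Golay.ofMask_mem_CSet_iff.2 h2
  rw [hmask] at hc
  rcases Nat.mod_two_eq_zero_or_one X with hX | hX
  · have hp : ∀ p, dig (idx p) X % 2 = 0 := fun p => (h1 _ (idx_lt p)).trans hX
    rw [mem_iff_of_even fun p => by have := hp p; unfold unpack; omega]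
    refine ⟨?_, by rw [hsum]; omega⟩
    convert hc using 2 with p
    have := hp p; unfold unpack; omega
  · have hp : ∀ p, dig (idx p) X % 2 = 1 := fun p => (h1 _ (idx_lt p)).trans hX
    rw [mem_iff_of_odd fun p => by have := hp p; unfold unpack; omega]
    refine ⟨?_, by rw [hsum]; omega⟩
    convert hc using 2 with p
    have := hp p; unfold unpack; omega

/-- The image of a packed vector under `M / 8` is a (bounded) lattice vector. -/
noncomputable def imgT (P C X : ℕ) : Bool :=
  force (app P C X) fun Y => Nat.beq (raw P C X) (Nat.add KS (Nat.mul 8 Y)) && bdT Y && memT Y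

theorem imgT_spec {M : ℕ} (hM : MBd M) {x : GolayPt → ℤ} (hx : Bd x)
    (h : imgT (mP M) (mC M) (pack x) = true) : ∃ y ∈ leechLattice, mulv M x = (8 : ℤ) • y := by
  rw [imgT, force_eq] at h
  simp only [Bool.and_eq_true, Nat.beq_eq, Nat.add_eq, Nat.mul_eq] at h
  obtain ⟨⟨h1, h2⟩, h3⟩ := h
  generalize app (mP M) (mC M) (pack x) = Y at h1 h2 h3
  obtain ⟨hb, hp⟩ := bdT_spec h2
  refine ⟨unpack Y, memT_spec h3, funext fun p => ?_⟩
  rw [raw_eq hM hx, ← hp, KS, O24_eq, pack, ← pk_mul, ← pk_mul, ← pk_add] at h1
  have := pk_inj (fun k _ => by have := mulv_bd hM hx (pt k); omega)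
    (fun k _ => by have := hb (pt k); omega) h1 _ (idx_lt p)
  rw [pt_idx] at this
  have h4 := hb p
  have h5 := mulv_bd hM hx p
  simp only [Pi.smul_apply, smul_eq_mul]; omega

/-- The packed generators of the lattice. -/
def latGens : List ℕ := [607350878943098813930315288451968273560181039242124938237517176451338757297672327177, 971571646221805406130785276031627177881514554978044569426403931090663181363850551306, 971571646221806268638505450978199799034410811288816846838686602080414766064853884936, 971571646225339100260342032139656041297476660212065127548506976102905701374508433416, 971571660695817423302978469464424350815193849837022914972758972225776729719539007496, 971630931775028605941825751715420135384802553664120204708935091505508830964770439176, 971571660695816560795361113441213869171752574573101523929843110070832495782063538186, 971630931771495774741135480645287323849339072642102492925563704853926623065248145416, 971571646225339962768010810177217819913334308388554059240643385190108939338748297226, 971571660699350254714293311317469561368120780735687125963490593410239431246021173256, 971630946245506066687417981788602560173511514592728422745655463064734283435721392136,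 971630931771495774741135493196425803723656538152362602336485016658285816797166862346, 971571646225339962768062219640431385117673038413962206374336535845366465277812842506, 971571660699350254924866472640232638339558964807457785570635677345065677654398640136, 971630946245506929195086759826165835184313472565350173611919260113039572149825732616, 971630931775028606152450335055600247968476394011054150552997726516748389768545468426, 971571660695817423513654474818955011899802635614543701210396116108065356044583346186, 971630931775029468870743683873007937942389098389260634070676433359722258346381713416, 971571660699351117643211230920853145046239768748300189622379344929031050861842825226, 971630946249040623535216677247761305748886414255837169553981684035208229841207861256, 971630946249040623324592093910647680459245558245789529240686111719570293669744377866, 971630946249039760606298745093238494090299341090654805982021906866583735355316412426, 971630946245506066476741988985211126886593873658828338493438829033640879458369970186, 971630931771494911812268970505115060508999272897617505257152025299703125565742555146,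 1457238869278237673650026156846189060190186375545399163468926683666783696722612748300, 1457238869278237673650026156846189060190186375545399163468926683666783696722612764680, 1457238869278237673650026156846189060190186375545399163468926683666783696722679857160, 1457238869278237673650026156846189060190186375545399163468926683666783696997490655240, 1457238869278237673650026156846189060190186375545399163468926683666784822622519590920, 1457238869278237673650026156846189060190186375545399163468926683671395382741040136200, 1457238869278237673650026156846189060190186375545399163468926702556249628201193603080, 1457238869278237673650026156846189060190186375545399163469004054919239032989793943560, 1457238869278237673650026156846189060190186375545399163785839333723841047096788549640, 1457238869278237673650026156846189060190186375545400461543141317373690829346695053320, 1457238869278237673650026156846189060190186375550716075452066347158398924963734126600, 1457238869278237673650026156846189060190186397323470646408988345322758572355778281480, 1457238869278237673650026156846189060190275578526193285961492826539874290168636669960,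 1457238869278237673650026156846189060555561784878124893019847891845854451636595884040, 1457238869278237673650026156846190556767863002389987404042195385140595824397536755720, 1457238869278237673650026156852319042353649930978832551577527920401258653211347157000, 1457238869278237673650026181954596001736909430888556856299592348076205474578750799880, 1457238869278237673650129000881021635567821061119308997875488104658385795464072036360, 1457238869278237674071275323520417806981858486280080892744507065268980141739856658440, 1457238869278239399086612854487135918879151944801762276246169726263422487353668698120, 1457238869285305061909139694164522250193158049608709099056429159499270121527783227400, 1457238898226259982979075012738935312362163338862895329879067693531179698700895158280, 1457357440377616685434139893534837956607828124009696779406503088232807799767364042760, 1942906092334669941379891633552068786850788085308434043781879786101509768023914872840]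

theorem latGens_odd : pack (oddVec none) ∈ latGens := by decide +kernel
theorem latGens_two : ∀ t, pack (twoVec (support₂ (qrWord t))) ∈ latGens := by decide +kernel
theorem latGens_pair : ∀ i, pack (pairVec i none 4 4) ∈ latGens := by decide +kernel

/-- The transposed matrix. -/
noncomputable def trM (M : ℕ) : ℕ :=
  sumTo (fun a => Nat.shiftLeft (dg (Nat.add (Nat.mul 24 (Nat.sub 23 (Nat.mod a 24)))
    (Nat.sub 23 (Nat.div a 24))) M) (Nat.mul 12 a)) 576

theorem trM_eq (M : ℕ) : trM M = pk (fun a => dig (24 * (23 - a % 24) + (23 - a / 24)) M) 576 := by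
  rw [trM, sumTo_eq, pk]
  refine sum_congr rfl fun a _ => ?_
  show dg (24 * (23 - a % 24) + (23 - a / 24)) M <<< (12 * a) = _
  rw [dg_eq, Nat.shiftLeft_eq, pow_mul]; rfl

theorem MBd.trM {M : ℕ} (h : MBd M) : MBd (trM M) := by
  rw [trM_eq]
  refine ⟨pk_lt fun _ _ => dig_lt _ _, fun a ha => ?_⟩
  rw [dig_pk (fun _ _ => dig_lt _ _) ha]
  exact h.2 _ (by omega)

theorem ent_trM (M : ℕ) (p q : GolayPt) : ent (trM M) p q = ent M q p := by
  have h1 := idx_lt p
  have h2 := idx_lt q
  rw [ent, ent, trM_eq, dig_pk (fun _ _ => dig_lt _ _) (by omega)]
  congr 3; omega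

def KU : ℕ := 2040 * O24
def KV : ℕ := 2048 * O24

/-- Orthogonality test `Mᵀ M = 64`. -/
noncomputable def orthT (P C Pt Ct : ℕ) : Bool :=
  allTo (fun q => Nat.beq (raw Pt Ct (Nat.sub (raw P C (Nat.add K8 (Nat.pow 4096 q))) KU))
    (Nat.add KV (Nat.mul 64 (Nat.pow 4096 q)))) 24

theorem pk_single (c : ℕ) {q n : ℕ} (hq : q < n) :
    pk (fun k => if k = q then c else 0) n = c * 4096 ^ q := by
  simp only [pk, ite_mul, zero_mul]
  rw [sum_ite_eq' (range n) q (fun k => c * 4096 ^ k), if_pos (mem_range.2 hq)]

theorem orthT_spec {M : ℕ} (hM : MBd M)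
    (h : orthT (mP M) (mC M) (mP (trM M)) (mC (trM M)) = true) (p q : GolayPt) :
    ∑ r, ent M r p * ent M r q = if p = q then 64 else 0 := by
  simp only [orthT, allTo_iff, Nat.beq_eq, Nat.add_eq, Nat.mul_eq, Nat.sub_eq, Nat.pow_eq] at h
  have h1 := h _ (idx_lt q)
  have hs : Bd (Pi.single q 1) := fun r => by
    rw [Pi.single_apply]; split_ifs <;> omega
  have e1 : K8 + 4096 ^ idx q = pack (Pi.single q 1) := by
    rw [← one_mul (4096 ^ idx q), ← pk_single 1 (idx_lt q), K8, O24_eq, ← pk_mul, ← pk_add, pack]
    refine pk_congr fun k hk => ?_
    rw [Pi.single_apply]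
    simp only [CL.Golay.eq_pt_iff hk, eq_comm (a := pt k), eq_comm (a := k)]
    split_ifs <;> rfl
  have e2 : mulv M (Pi.single q 1) = fun r => ent M r q := by
    funext r; simp [mulv, Pi.single_apply]
  have hc : Bd fun r => ent M r q := fun r => hM.ent_bd r q
  have e3 : raw (mP M) (mC M) (pack (Pi.single q 1)) = KU + pack fun r => ent M r q := by
    rw [raw_eq hM hs, e2, KU, O24_eq, pack, ← pk_mul, ← pk_add]
    refine pk_congr fun k _ => ?_
    have := hc (pt k); simp only at this ⊢; omega
  rw [e1, e3, Nat.add_sub_cancel_left, raw_eq hM.trM hc, ← pk_single 64 (idx_lt q), KV, O24_eq,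
    ← pk_mul, ← pk_add] at h1
  have := pk_inj (fun k _ => by have := mulv_bd hM.trM hc (pt k); omega)
    (fun k _ => by split_ifs <;> omega) h1 _ (idx_lt p)
  rw [pt_idx] at this
  have h5 := mulv_bd hM.trM hc p
  simp only [mulv, ent_trM, CL.Golay.idx_inj] at this h5
  split_ifs at this ⊢ <;> omega

/-- The test that the packed matrix `M` is eight times an element of `Co0`. -/
noncomputable def isCo (M : ℕ) : Bool :=
  Nat.beq (Nat.shiftRight M 6912) 0 && allTo (fun a => Nat.ble (dg a M) 16) 576 &&
  force (mP M) fun P => force (mC M) fun C => force (trM M) fun T =>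
    orthT P C (mP T) (mC T) && allL (imgT P C) latGens

/-- The element `g` of `Co0` has the packed matrix `M` (which is `8 g`). -/
structure Rep (g : Co0) (M : ℕ) : Prop where
  bd : MBd M
  eq : ∀ (v : leechLattice) (p : GolayPt),
    mulv M v p = 8 * ((g • v : leechLattice) : GolayPt → ℤ) p

theorem exists_rep {M : ℕ} (h : isCo M = true) : ∃ g, Rep g M := by
  simp only [isCo, force_eq, Bool.and_eq_true, Nat.beq_eq, allTo_iff, Nat.ble_eq, dg_eq,
    allL_iff] at h
  obtain ⟨⟨h1, h2⟩, h3, h4⟩ := h
  have hM : MBd M := by
    refine ⟨?_, h2⟩
    have h1 : M >>> 6912 = 0 := h1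
    rw [Nat.shiftRight_eq_div_pow, Nat.div_eq_zero_iff_lt (by positivity)] at h1
    exact lt_of_lt_of_eq h1 (by decide +kernel)
  have hmul : ∀ x, Matrix.of (ent M) *ᵥ x = mulv M x := fun x => rfl
  obtain ⟨g, hg⟩ := exists_Co0_of_matrix (Matrix.of (ent M)) 8 (by norm_num)
    (by
      ext p q
      rw [Matrix.mul_apply, Matrix.smul_apply, Matrix.one_apply]
      simp only [Matrix.transpose_apply, Matrix.of_apply, orthT_spec hM h3]
      split_ifs <;> rfl)
    (imgT_spec hM (fun p => by unfold oddVec; split_ifs <;> omega) (h4 _ latGens_odd))
    (fun t => imgT_spec hM (fun p => by unfold twoVec; split_ifs <;> omega) (h4 _ (latGens_two t)))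
    (fun i => imgT_spec hM (fun p => by rw [pairVec_apply]; split_ifs <;> omega)
      (h4 _ (latGens_pair i)))
  exact ⟨g, hM, fun v p => (congrFun (hg v) p).symm⟩

open Classical in
/-- The element of `Co0` with a given packed matrix. -/
noncomputable def toCo (M : ℕ) : Co0 := if h : ∃ g, Rep g M then h.choose else 1

theorem rep_toCo {M : ℕ} (h : isCo M = true) : Rep (toCo M) M := by
  have := exists_rep h
  rw [toCo, dif_pos this]; exact this.choose_spec

/-- The packed form of a lattice vector. -/
def pv (v : leechLattice) : ℕ := pack (v : GolayPt → ℤ)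

/-- The sum of squares of a lattice vector. -/
abbrev nrm (v : leechLattice) : ℤ := sqNorm (v : GolayPt → ℤ)

/-- The dot product of two lattice vectors. -/
abbrev ip (v w : leechLattice) : ℤ := dotInt (v : GolayPt → ℤ) (w : GolayPt → ℤ)

theorem pv_inj {v w : leechLattice} (hv : nrm v ≤ 64) (hw : nrm w ≤ 64) (h : pv v = pv w) :
    v = w := Subtype.ext (pack_inj (bd_of_sqNorm hv) (bd_of_sqNorm hw) h)

theorem Rep.app {g : Co0} {M : ℕ} (h : Rep g M) {v : leechLattice} (hv : nrm v ≤ 64) :
    app (mP M) (mC M) (pv v) = pv (g • v) :=
  app_eq h.bd (bd_of_sqNorm hv) (bd_of_sqNorm (by rw [Co0_sqNorm]; exact hv)) (h.eq v)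

theorem Rep.smul_eq {g : Co0} {M : ℕ} (h : Rep g M) {v w : leechLattice} (hv : nrm v ≤ 64)
    (hw : nrm w ≤ 64) (e : CL.Co.app (mP M) (mC M) (pv v) = pv w) : g • v = w :=
  pv_inj (by rw [nrm, Co0_sqNorm]; exact hv) hw (by rw [← h.app hv, e])

open Classical in
/-- The lattice vector with a given packed form (zero if there is none). -/
noncomputable def toV (X : ℕ) : leechLattice :=
  if h : unpack X ∈ leechLattice then ⟨unpack X, h⟩ else 0

/-- `X` is the packed form of a lattice vector. -/
noncomputable def vecT (X : ℕ) : Bool := bdT X && memT X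

theorem coe_toV {X : ℕ} (h : vecT X = true) : (toV X : GolayPt → ℤ) = unpack X := by
  rw [vecT, Bool.and_eq_true] at h
  rw [toV, dif_pos (memT_spec h.2)]

theorem pv_toV {X : ℕ} (h : vecT X = true) : pv (toV X) = X := by
  rw [pv, coe_toV h]
  rw [vecT, Bool.and_eq_true] at h
  exact (bdT_spec h.1).2

end CL.Co
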