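import Cfsg.Agent.Spor.M24Fix

/-!
# A stabiliser chain of `M24` for the base `∞, 0, 1, 2, 3, 5, 4`
-/

set_option autoImplicit false

namespace CL.M24

open Cfsg CL.Golay CL.Chain
open scoped Pointwise

/-- The translation `x ↦ x + 1`. -/
abbrev shift : Equiv.Perm GolayPt := Equiv.optionCongr (Equiv.addRight (1 : ZMod 23))

/-- The subgroup generated by the three standard permutations (it is all of `M24`). -/
def genM24 : Subgroup (Equiv.Perm GolayPt) := Subgroup.closure {shift, projInv, cubeTwist}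

theorem genM24_le : genM24 ≤ M24 := by
  rw [genM24, Subgroup.closure_le]
  rintro g (rfl | rfl | rfl)
  exacts [shift_mem_M24, projInv_mem_M24, cubeTwist_mem_M24]

/-- Generators of `M24`. -/
def g0 : List ℕ := [shiftP, projInvP, cubeP]
/-- Generators of the stabiliser of `∞`. -/
def g1 : List ℕ := [shiftP, cubeP]
/-- Generators of the stabiliser of `∞, 0`. -/
def g2 : List ℕ := [cubeP, 962646859440912962280617536895820128]
/-- Generators of the stabiliser of `∞, 0, 1`. -/
def g3 : List ℕ := [962606095268170686379997665747948576, 976406709171497796261417468780074016]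
/-- Generators of the stabiliser of `∞, 0, 1, 2`. -/
def g4 : List ℕ := [974170022460305514761438201600378912, 960825417957425906109012642839791648]
/-- Generators of the stabiliser of `∞, 0, 1, 2, 3`. -/
def g5 : List ℕ := [981515887986994088769278604842469408, 966039336168793943308839874394687520,
  976448692869377735270425038196672544]
/-- Generators of the stabiliser of `∞, 0, 1, 2, 3, 5`. -/
def g6 : List ℕ := [976448692869377735270425038196672544, 966182099583441531322624363496310816,
  981818691054096003685363657089320992, 972512676110088067912772961567868960]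

theorem in_g0 : ∀ p ∈ g0, In genM24 p := by
  intro p hp
  simp only [g0, List.mem_cons, List.not_mem_nil, or_false] at hp
  rcases hp with rfl | rfl | rfl
  · exact In.of_rep rep_shift (Subgroup.subset_closure (by simp))
  · exact In.of_rep rep_projInv (Subgroup.subset_closure (by simp))
  · exact In.of_rep rep_cubeTwist (Subgroup.subset_closure (by simp))

theorem in_g1 : ∀ p ∈ g1, In genM24 p := In.words in_g0 [[0], [2]] (by decide +kernel)
theorem in_g2 : ∀ p ∈ g2, In genM24 p :=
  In.words in_g1 [[1], [0, 0, 0, 0, 0, 1, 0]] (by decide +kernel)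
theorem in_g3 : ∀ p ∈ g3, In genM24 p :=
  In.words in_g2 [[0, 0, 0, 1, 0], [0, 1, 1, 0, 0, 1]] (by decide +kernel)
theorem in_g4 : ∀ p ∈ g4, In genM24 p :=
  In.words in_g3 [[0, 0, 0, 0, 1], [0, 1, 0, 1, 1, 0]] (by decide +kernel)
theorem in_g5 : ∀ p ∈ g5, In genM24 p :=
  In.words in_g4 [[0, 1, 0, 1, 0], [0, 0, 0, 1, 0, 0], [1, 1, 0, 1, 1, 0]] (by decide +kernel)
theorem in_g6 : ∀ p ∈ g6, In genM24 p :=
  In.words in_g5 [[2], [0, 0, 1], [0, 1, 0], [0, 0, 2, 0]] (by decide +kernel)

/-- Initial segments of the base (latest point first). -/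
def B1 : List GolayPt := [none]
def B2 : List GolayPt := some 0 :: B1
def B3 : List GolayPt := some 1 :: B2
def B4 : List GolayPt := some 2 :: B3
def B5 : List GolayPt := some 3 :: B4
def B6 : List GolayPt := some 5 :: B5
def B7 : List GolayPt := some 4 :: B6

theorem fix_g1 : ∀ p ∈ g1, In (fix genM24 B1) p := In.fixes in_g1 (by decide +kernel)
theorem fix_g2 : ∀ p ∈ g2, In (fix genM24 B2) p := In.fixes in_g2 (by decide +kernel)
theorem fix_g3 : ∀ p ∈ g3, In (fix genM24 B3) p := In.fixes in_g3 (by decide +kernel)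
theorem fix_g4 : ∀ p ∈ g4, In (fix genM24 B4) p := In.fixes in_g4 (by decide +kernel)
theorem fix_g5 : ∀ p ∈ g5, In (fix genM24 B5) p := In.fixes in_g5 (by decide +kernel)
theorem fix_g6 : ∀ p ∈ g6, In (fix genM24 B6) p := In.fixes in_g6 (by decide +kernel)

theorem orb0 (x : GolayPt) : ∃ g ∈ fix genM24 ([] : List GolayPt), g • (none : GolayPt) = x := by
  rw [fix_nil]
  exact exists_of_orb_eq in_g0 none 6 16777215 (by decide +kernel) x (testBit_full x)

theorem orb1 (x : GolayPt) (hx : x ∉ B1) : ∃ g ∈ fix genM24 B1, g • (some 0 : GolayPt) = x :=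
  exists_of_orb_eq fix_g1 _ 7 8388607 (by decide +kernel) x (by revert x; decide +kernel)

theorem orb2 (x : GolayPt) (hx : x ∉ B2) : ∃ g ∈ fix genM24 B2, g • (some 1 : GolayPt) = x :=
  exists_of_orb_eq fix_g2 _ 5 8388606 (by decide +kernel) x (by revert x; decide +kernel)

theorem orb3 (x : GolayPt) (hx : x ∉ B3) : ∃ g ∈ fix genM24 B3, g • (some 2 : GolayPt) = x :=
  exists_of_orb_eq fix_g3 _ 6 8388604 (by decide +kernel) x (by revert x; decide +kernel)

theorem orb4 (x : GolayPt) (hx : x ∉ B4) : ∃ g ∈ fix genM24 B4, g • (some 3 : GolayPt) = x :=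
  exists_of_orb_eq fix_g4 _ 5 8388600 (by decide +kernel) x (by revert x; decide +kernel)

theorem orb5 (x : GolayPt) (hx : x ∈ ofMask 147488) :
    ∃ g ∈ fix genM24 B5, g • (some 5 : GolayPt) = x :=
  exists_of_orb_eq fix_g5 _ 2 147488 (by decide +kernel) x (mem_ofMask.1 hx)

theorem orb6 (x : GolayPt) (hx : x ∈ ofMask 8241104) :
    ∃ g ∈ fix genM24 B6, g • (some 4 : GolayPt) = x :=
  exists_of_orb_eq fix_g6 _ 4 8241104 (by decide +kernel) x (mem_ofMask.1 hx)

theorem trans_genM24 : Trans genM24 B5 :=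
  ⟨⟨⟨⟨⟨trivial, fun x _ => orb0 x⟩, orb1⟩, orb2⟩, orb3⟩, orb4⟩

/-- `M24` is transitive along the five-point base. -/
theorem trans_M24 : Trans M24 B5 := trans_genM24.mono genM24_le

/-- The octad `{0, 1, 2, 3, 5, 14, 17, ∞}` as a mask. -/
def O0 : ℕ := 8536111

theorem isOctad_O0 : isOctad O0 = true := by decide +kernel

theorem not_mem_of_fix {K : Subgroup (Equiv.Perm GolayPt)} {l : List GolayPt}
    {g : Equiv.Perm GolayPt} (hg : g ∈ fix K l) {a : GolayPt} (ha : a ∉ l) : g • a ∉ l := by
  intro h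
  have := hg.2 _ h
  rw [smul_left_cancel_iff] at this
  exact ha (this ▸ h)

theorem testBit_O0 {g : Equiv.Perm GolayPt} (hg : g ∈ fix M24 B5) (x : GolayPt) :
    O0.testBit (idx (g x)) = O0.testBit (idx x) :=
  testBit_of_fix hg.1 (F := 8388623) (fun y hy => hg.2 y (by revert y; decide +kernel)) isOctad_O0
    (by decide +kernel) x

theorem up5 (g : Equiv.Perm GolayPt) (hg : g ∈ fix M24 B5) :
    g • (some 5 : GolayPt) ∈ ofMask 147488 := by
  have h1 := testBit_O0 hg (some 5)
  have h2 := not_mem_of_fix hg (a := some 5) (by decide)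
  rw [mem_ofMask]
  change g (some 5) ∉ _ at h2
  change Nat.testBit _ (idx (g (some 5))) = true
  generalize g (some 5) = y at h1 h2
  revert y
  decide +kernel

theorem up6 (g : Equiv.Perm GolayPt) (hg : g ∈ fix M24 B6) :
    g • (some 4 : GolayPt) ∈ ofMask 8241104 := by
  have h1 := testBit_O0 (fix_anti M24 (fun x hx => List.mem_cons_of_mem _ hx) hg) (some 4)
  rw [mem_ofMask]
  change Nat.testBit _ (idx (g (some 4))) = true
  generalize g (some 4) = y at h1
  revert y
  decide +kernel

theorem fix_B7 : fix M24 B7 = ⊥ := by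
  rw [eq_bot_iff]
  intro g hg
  refine eq_one_of_propagate hg.1 8388671 [(6, 2162811, 8391797), (7, 5279, 8421811),
    (8, 10558, 8421811), (9, 786999, 10486557), (10, 5279, 8391797), (11, 10558, 8391797),
    (12, 5279, 5279), (13, 10558, 10558), (15, 5275709, 8421811), (16, 2162811, 8978620),
    (18, 786999, 8663097), (19, 786999, 786999), (20, 5275709, 9963547), (21, 2162811, 2162811),
    (22, 5275709, 5275709), (14, 18147, 18147), (17, 133817, 133817)] (by decide +kernel) ?_
  exact fun y hy => hg.2 y (by revert y; decide +kernel)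

theorem card_fix_cons_of_trans {l : List GolayPt} {a : GolayPt} (ha : a ∉ l)
    (h : ∀ x, x ∉ l → ∃ g ∈ fix genM24 l, g • a = x) (n : ℕ)
    (hn : (Finset.univ.filter fun x : GolayPt => x ∉ l).card = n) :
    Nat.card (fix M24 l) = n * Nat.card (fix M24 (a :: l)) := by
  rw [← hn]
  refine card_fix M24 a l _ (fun g hg => ?_) (fun x hx => ?_)
  · simpa using not_mem_of_fix hg ha
  · obtain ⟨g, hg, hga⟩ := h x (by simpa using hx)
    exact ⟨g, fix_mono genM24_le l hg, hga⟩

theorem card_fix_B7 : Nat.card (fix M24 B7) = 1 := by rw [fix_B7]; simp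

theorem card_fix_B6 : Nat.card (fix M24 B6) = 16 := by
  rw [card_fix M24 (some 4) B6 (ofMask 8241104) up6 (fun x hx => by
    obtain ⟨g, hg, hga⟩ := orb6 x hx
    exact ⟨g, fix_mono genM24_le _ hg, hga⟩), card_ofMask]
  change _ * Nat.card (fix M24 B7) = _
  rw [card_fix_B7]; decide +kernel

theorem card_fix_B5 : Nat.card (fix M24 B5) = 48 := by
  rw [card_fix M24 (some 5) B5 (ofMask 147488) up5 (fun x hx => by
    obtain ⟨g, hg, hga⟩ := orb5 x hx
    exact ⟨g, fix_mono genM24_le _ hg, hga⟩), card_ofMask]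
  change _ * Nat.card (fix M24 B6) = _
  rw [card_fix_B6]; decide +kernel

theorem card_fix_B4 : Nat.card (fix M24 B4) = 960 := by
  rw [card_fix_cons_of_trans (a := some 3) (by decide) orb4 20 (by decide +kernel)]
  change _ * Nat.card (fix M24 B5) = _
  rw [card_fix_B5]

theorem card_fix_B3 : Nat.card (fix M24 B3) = 20160 := by
  rw [card_fix_cons_of_trans (a := some 2) (by decide) orb3 21 (by decide +kernel)]
  change _ * Nat.card (fix M24 B4) = _
  rw [card_fix_B4]

theorem card_fix_B2 : Nat.card (fix M24 B2) = 443520 := by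
  rw [card_fix_cons_of_trans (a := some 1) (by decide) orb2 22 (by decide +kernel)]
  change _ * Nat.card (fix M24 B3) = _
  rw [card_fix_B3]

theorem card_fix_B1 : Nat.card (fix M24 B1) = 10200960 := by
  rw [card_fix_cons_of_trans (a := some 0) (by decide) orb1 23 (by decide +kernel)]
  change _ * Nat.card (fix M24 B2) = _
  rw [card_fix_B2]

theorem card_M24 : Nat.card M24 = 244823040 := by
  rw [← fix_nil (α := GolayPt) M24, card_fix_cons_of_trans (a := none) (by decide)
    (fun x _ => orb0 x) 24 (by decide +kernel)]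
  change _ * Nat.card (fix M24 B1) = _
  rw [card_fix_B1]

/-- A subgroup `H` containing the generators `gens` of one level and the next stabiliser contains
the stabiliser of this level. -/
theorem fix_le_step {H : Subgroup (Equiv.Perm GolayPt)} {l : List GolayPt} {a : GolayPt}
    {gens : List ℕ} (hH : ∀ p ∈ gens, toPerm p ∈ H) (hg : ∀ p ∈ gens, In (fix genM24 l) p)
    (n m : ℕ) (hm : orb gens (2 ^ idx a) n = m)
    (hup : ∀ g ∈ fix M24 l, m.testBit (idx (g • a)) = true) (hs : fix M24 (a :: l) ≤ H) :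
    fix M24 l ≤ H := by
  refine le_of_stabilizer_le _ H a (fun g hg' => ?_) (by rwa [← fix_cons])
  obtain ⟨x, hx, hxa⟩ := exists_of_orb_eq (K := H ⊓ fix M24 l)
    (fun p hp => ⟨(hg p hp).1, hH p hp, fix_mono genM24_le l (hg p hp).2⟩) a n m hm _ (hup g hg')
  exact ⟨x, hx.1, hx.2, hxa⟩

theorem toPerm_mem_of_words {H : Subgroup (Equiv.Perm GolayPt)} {gens gens' : List ℕ}
    (hp : ∀ p ∈ gens, Rep (toPerm p) p) (hH : ∀ p ∈ gens, toPerm p ∈ H) (ws : List (List ℕ))
    (hw : ws.map (word gens) = gens') : ∀ p ∈ gens', toPerm p ∈ H := fun p h =>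
  (In.words (K := H) (fun q hq => ⟨hp q hq, hH q hq⟩) ws hw p h).2

theorem fix_B6_le {H : Subgroup (Equiv.Perm GolayPt)} (hH : ∀ p ∈ g6, toPerm p ∈ H) :
    fix M24 B6 ≤ H :=
  fix_le_step hH fix_g6 4 8241104 (a := some 4) (by decide +kernel)
    (fun g hg => mem_ofMask.1 (up6 g hg)) (by change fix M24 B7 ≤ H; rw [fix_B7]; exact bot_le)

theorem fix_B5_le {H : Subgroup (Equiv.Perm GolayPt)} (hH : ∀ p ∈ g5, toPerm p ∈ H) :
    fix M24 B5 ≤ H :=
  fix_le_step hH fix_g5 2 147488 (a := some 5) (by decide +kernel)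
    (fun g hg => mem_ofMask.1 (up5 g hg))
    (fix_B6_le (toPerm_mem_of_words (fun p hp => (in_g5 p hp).1) hH
      [[2], [0, 0, 1], [0, 1, 0], [0, 0, 2, 0]] (by decide +kernel)))

theorem fix_B4_le {H : Subgroup (Equiv.Perm GolayPt)} (hH : ∀ p ∈ g4, toPerm p ∈ H) :
    fix M24 B4 ≤ H :=
  fix_le_step hH fix_g4 5 8388600 (a := some 3) (by decide +kernel)
    (fun g hg => by
      have := not_mem_of_fix hg (a := some 3) (by decide)
      revert this; generalize g • (some 3 : GolayPt) = y; revert y; decide +kernel)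
    (fix_B5_le (toPerm_mem_of_words (fun p hp => (in_g4 p hp).1) hH
      [[0, 1, 0, 1, 0], [0, 0, 0, 1, 0, 0], [1, 1, 0, 1, 1, 0]] (by decide +kernel)))

/-- `M21` is generated by `g3`. -/
theorem fix_B3_le {H : Subgroup (Equiv.Perm GolayPt)} (hH : ∀ p ∈ g3, toPerm p ∈ H) :
    fix M24 B3 ≤ H :=
  fix_le_step hH fix_g3 6 8388604 (a := some 2) (by decide +kernel)
    (fun g hg => by
      have := not_mem_of_fix hg (a := some 2) (by decide)
      revert this; generalize g • (some 2 : GolayPt) = y; revert y; decide +kernel)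
    (fix_B4_le (toPerm_mem_of_words (fun p hp => (in_g3 p hp).1) hH
      [[0, 0, 0, 0, 1], [0, 1, 0, 1, 1, 0]] (by decide +kernel)))

/-- `M22` is generated by `g2`. -/
theorem fix_B2_le {H : Subgroup (Equiv.Perm GolayPt)} (hH : ∀ p ∈ g2, toPerm p ∈ H) :
    fix M24 B2 ≤ H :=
  fix_le_step hH fix_g2 5 8388606 (a := some 1) (by decide +kernel)
    (fun g hg => by
      have := not_mem_of_fix hg (a := some 1) (by decide)
      revert this; generalize g • (some 1 : GolayPt) = y; revert y; decide +kernel)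
    (fix_B3_le (toPerm_mem_of_words (fun p hp => (in_g2 p hp).1) hH
      [[0, 0, 0, 1, 0], [0, 1, 1, 0, 0, 1]] (by decide +kernel)))

/-- `M23` is generated by `g1`. -/
theorem fix_B1_le {H : Subgroup (Equiv.Perm GolayPt)} (hH : ∀ p ∈ g1, toPerm p ∈ H) :
    fix M24 B1 ≤ H :=
  fix_le_step hH fix_g1 7 8388607 (a := some 0) (by decide +kernel)
    (fun g hg => by
      have := not_mem_of_fix hg (a := some 0) (by decide)
      revert this; generalize g • (some 0 : GolayPt) = y; revert y; decide +kernel)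
    (fix_B2_le (toPerm_mem_of_words (fun p hp => (in_g1 p hp).1) hH
      [[1], [0, 0, 0, 0, 0, 1, 0]] (by decide +kernel)))

/-- `M24` is generated by `g0`. -/
theorem M24_le {H : Subgroup (Equiv.Perm GolayPt)} (hH : ∀ p ∈ g0, toPerm p ∈ H) : M24 ≤ H := by
  rw [← fix_nil (α := GolayPt) M24]
  exact fix_le_step hH (by rw [fix_nil]; exact in_g0) 6 16777215 (a := none) (by decide +kernel)
    (fun g _ => testBit_full _)
    (fix_B1_le (toPerm_mem_of_words (fun p hp => (in_g0 p hp).1) hH [[0], [2]] (by decide +kernel)))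

theorem genM24_eq : genM24 = M24 :=
  le_antisymm genM24_le (M24_le fun p hp => (in_g0 p hp).2)

theorem isMultiplyPretransitive_M24 : MulAction.IsMultiplyPretransitive M24 GolayPt 5 :=
  trans_M24.isMultiplyPretransitive

/-- Five-fold transitivity on lists of points. -/
theorem exists_map_eq (x y : List GolayPt) (hx : x.Nodup) (hy : y.Nodup) (hxy : x.length = y.length)
    (h5 : x.length ≤ 5) : ∃ g ∈ M24, (x.map fun a => g • a) = y := by
  have h0 : Trans M24 ([] : List GolayPt) := trivial
  have h : x.length = 0 ∨ x.length = 1 ∨ x.length = 2 ∨ x.length = 3 ∨ x.length = 4 ∨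
    x.length = 5 := by omega
  rcases h with h | h | h | h | h | h
  · exact h0.exists_map_eq' x y hx hy h (hxy ▸ h)
  · exact trans_M24.1.1.1.1.exists_map_eq' x y hx hy h (hxy ▸ h)
  · exact trans_M24.1.1.1.exists_map_eq' x y hx hy h (hxy ▸ h)
  · exact trans_M24.1.1.exists_map_eq' x y hx hy h (hxy ▸ h)
  · exact trans_M24.1.exists_map_eq' x y hx hy h (hxy ▸ h)
  · exact trans_M24.exists_map_eq' x y hx hy h (hxy ▸ h)

/-- Transitivity on sets of at most five points. -/
theorem exists_smul_finset_eq (s t : Finset GolayPt) (hst : s.card = t.card) (h5 : s.card ≤ 5) :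
    ∃ g ∈ M24, g • s = t := by
  obtain ⟨g, hg, h⟩ := exists_map_eq s.toList t.toList s.nodup_toList t.nodup_toList
    (by simpa using hst) (by simpa using h5)
  refine ⟨g, hg, ?_⟩
  ext y
  rw [← Finset.mem_toList (s := t), ← h, List.mem_map, Finset.mem_smul_finset]
  simp

/-- Transitivity on octads. -/
theorem exists_smul_octad_eq {o o' : Finset GolayPt} (ho : o ∈ octads) (ho' : o' ∈ octads) :
    ∃ g ∈ M24, g • o = o' := by
  obtain ⟨s, hs, hc⟩ := Finset.exists_subset_card_eq (n := 5) (s := o) (by rw [ho.2]; norm_num)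
  obtain ⟨t, ht, hc'⟩ := Finset.exists_subset_card_eq (n := 5) (s := o') (by rw [ho'.2]; norm_num)
  obtain ⟨g, hg, h⟩ := exists_smul_finset_eq s t (by rw [hc, hc']) hc.le
  refine ⟨g, hg, smul_octad_eq_of_five hg ho ho' hs hc.ge fun x hx => ht ?_⟩
  rw [← h]
  exact Finset.smul_mem_smul_finset hx

/-- Pointwise stabilisers of at most five points depend only on their number. -/
theorem nonempty_fix_equiv (x y : List GolayPt) (hx : x.Nodup) (hy : y.Nodup)
    (hxy : x.length = y.length) (h5 : x.length ≤ 5) : Nonempty (fix M24 x ≃* fix M24 y) := by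
  obtain ⟨g, hg, h⟩ := exists_map_eq x y hx hy hxy h5
  exact ⟨fixEquiv hg x y h⟩

end CL.M24
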