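import Cfsg.Agent.Base

/-! Counting in abstract Steiner systems: the numbers of blocks through a set, the
intersection triangle, and double counting sums. -/

set_option autoImplicit false

namespace CL.Steiner

open Finset Cfsg

variable {α : Type*} [Fintype α] [DecidableEq α]

open Classical in
/-- The blocks, as a finset. -/
noncomputable def blk (B : Set (Finset α)) : Finset (Finset α) := univ.filter (· ∈ B)

omit [DecidableEq α] in
theorem mem_blk {B : Set (Finset α)} {c : Finset α} : c ∈ blk B ↔ c ∈ B := by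
  simp [blk]

omit [DecidableEq α] in
theorem coe_blk (B : Set (Finset α)) : (blk B : Set (Finset α)) = B := by
  ext c; simp [mem_blk]

omit [DecidableEq α] in
theorem ncard_eq_blk (B : Set (Finset α)) : B.ncard = (blk B).card := by
  rw [← Set.ncard_coe_finset, coe_blk]

omit [DecidableEq α] in
theorem ncard_sep_eq (B : Set (Finset α)) (P : Finset α → Prop) [DecidablePred P] :
    {c | c ∈ B ∧ P c}.ncard = ((blk B).filter P).card := by
  rw [← Set.ncard_coe_finset]
  congr 1
  ext c; simp [mem_blk]

/-- The number of blocks containing `s` and disjoint from `u`. -/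
noncomputable def cnt (B : Set (Finset α)) (s u : Finset α) : ℕ :=
  ((blk B).filter fun c => s ⊆ c ∧ Disjoint u c).card

/-- The number of blocks containing `s`. -/
noncomputable def lam (B : Set (Finset α)) (s : Finset α) : ℕ :=
  ((blk B).filter fun c => s ⊆ c).card

theorem cnt_empty (B : Set (Finset α)) (s : Finset α) : cnt B s ∅ = lam B s := by
  simp [cnt, lam]

theorem lam_empty (B : Set (Finset α)) : lam B ∅ = (blk B).card := by
  simp [lam]

theorem cnt_step (B : Set (Finset α)) (s u : Finset α) (x : α) :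
    cnt B s u = cnt B (insert x s) u + cnt B s (insert x u) := by
  unfold cnt
  rw [← Finset.card_filter_add_card_filter_not (s := (blk B).filter fun c => s ⊆ c ∧ Disjoint u c)
    (fun c => x ∈ c)]
  congr 1
  · rw [Finset.filter_filter]
    congr 1
    ext c
    simp only [mem_filter, insert_subset_iff]
    tauto
  · rw [Finset.filter_filter]
    congr 1
    ext c
    simp only [mem_filter, disjoint_insert_left]
    tauto

/-- The intersection triangle generated by `f`. -/
def tri (f : ℕ → ℤ) : ℕ → ℕ → ℤ
  | 0, i => f i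
  | j + 1, i => tri f j i - tri f j (i + 1)

theorem cnt_eq_tri (B : Set (Finset α)) (T : Finset α) (f : ℕ → ℤ)
    (h : ∀ s ⊆ T, (lam B s : ℤ) = f s.card) (u : Finset α) :
    ∀ s : Finset α, s ⊆ T → u ⊆ T → Disjoint s u → (cnt B s u : ℤ) = tri f u.card s.card := by
  induction u using Finset.induction_on with
  | empty => intro s hs _ _; simp [cnt_empty, tri, h s hs]
  | insert x u hx ih =>
    intro s hs hu hd
    have hxs : x ∉ s := fun hxs => (Finset.disjoint_left.1 hd hxs) (mem_insert_self x u)
    have hu' : u ⊆ T := (subset_insert x u).trans hu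
    have hd' : Disjoint s u := hd.mono_right (subset_insert x u)
    have h1 := ih s hs hu' hd'
    have h2 := ih (insert x s) (insert_subset (hu (mem_insert_self x u)) hs) hu'
      (by rw [disjoint_insert_left]; exact ⟨hx, hd'⟩)
    rw [card_insert_of_notMem hxs] at h2
    rw [card_insert_of_notMem hx, tri, ← h1, ← h2, cnt_step B s u x]
    push_cast; ring

variable {t k : ℕ} {B : Set (Finset α)}

omit [Fintype α] [DecidableEq α] in
theorem eq_of_subset (hB : IsSteinerSystem t k B) {b c s : Finset α} (hb : b ∈ B) (hc : c ∈ B)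
    (hsb : s ⊆ b) (hsc : s ⊆ c) (hs : t ≤ s.card) : b = c := by
  obtain ⟨s', hs', hcard⟩ := Finset.exists_subset_card_eq hs
  obtain ⟨d, -, hd⟩ := hB.2 s' hcard
  rw [hd b ⟨hb, hs'.trans hsb⟩, hd c ⟨hc, hs'.trans hsc⟩]

omit [Fintype α] in
theorem card_inter_lt (hB : IsSteinerSystem t k B) {b c : Finset α} (hb : b ∈ B) (hc : c ∈ B)
    (hbc : b ≠ c) : (b ∩ c).card < t := by
  by_contra h
  exact hbc (eq_of_subset hB hb hc inter_subset_left inter_subset_right (not_lt.1 h))

omit [Fintype α] [DecidableEq α] in
theorem exists_block (hB : IsSteinerSystem t k B) {s : Finset α} (hs : s.card = t) :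
    ∃ b ∈ B, s ⊆ b := by
  obtain ⟨b, hb, -⟩ := hB.2 s hs
  exact ⟨b, hb.1, hb.2⟩

theorem lam_of_subset_block (hB : IsSteinerSystem t k B) {b s : Finset α} (hb : b ∈ B)
    (hsb : s ⊆ b) (hs : t ≤ s.card) : lam B s = 1 := by
  unfold lam
  rw [Finset.card_eq_one]
  refine ⟨b, ?_⟩
  ext c
  simp only [mem_filter, mem_blk, mem_singleton]
  constructor
  · rintro ⟨hc, hsc⟩
    exact eq_of_subset hB hc hb hsc hsb hs
  · rintro rfl
    exact ⟨hb, hsb⟩

theorem lam_of_card_eq (hB : IsSteinerSystem t k B) {s : Finset α} (hs : s.card = t) :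
    lam B s = 1 := by
  obtain ⟨b, hb, hsb⟩ := exists_block hB hs
  exact lam_of_subset_block hB hb hsb hs.ge

theorem lam_le_one (hB : IsSteinerSystem t k B) {s : Finset α} (hs : t ≤ s.card) :
    lam B s ≤ 1 := by
  unfold lam
  rw [Finset.card_le_one]
  intro b hb c hc
  simp only [mem_filter, mem_blk] at hb hc
  exact eq_of_subset hB hb.1 hc.1 hb.2 hc.2 hs

/-- Double counting of pairs (block through `s`, further point of the block). -/
theorem sum_lam_insert (hk : ∀ b ∈ B, b.card = k) (s : Finset α) :
    ∑ x ∈ sᶜ, lam B (insert x s) = lam B s * (k - s.card) := by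
  unfold lam
  have h1 : ∀ x ∈ sᶜ, ((blk B).filter fun c => insert x s ⊆ c).card
      = ∑ c ∈ (blk B).filter (fun c => s ⊆ c), if x ∈ c then 1 else 0 := by
    intro x _
    rw [Finset.sum_boole, Finset.filter_filter]
    simp only [Nat.cast_id]
    congr 1
    ext c
    simp only [mem_filter, insert_subset_iff]
    tauto
  rw [Finset.sum_congr rfl h1, Finset.sum_comm, ← smul_eq_mul, ← Finset.sum_const]
  refine Finset.sum_congr rfl fun c hc => ?_
  simp only [mem_filter, mem_blk] at hc
  rw [Finset.sum_boole, ← hk c hc.1, ← Finset.card_sdiff_of_subset hc.2]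
  simp only [Nat.cast_id]
  congr 1
  ext x
  simp [and_comm]

/-- One step down in the computation of the numbers `λ_i`. -/
theorem lam_step (hk : ∀ b ∈ B, b.card = k) {i l l' : ℕ}
    (h : ∀ s : Finset α, s.card = i + 1 → lam B s = l) (hik : i < k)
    (hl : (Fintype.card α - i) * l = l' * (k - i)) (s : Finset α) (hs : s.card = i) :
    lam B s = l' := by
  have h1 := sum_lam_insert hk s
  rw [Finset.sum_congr rfl (g := fun _ => l) (fun x hx => h _ (by
    rw [card_insert_of_notMem (mem_compl.1 hx), hs])), Finset.sum_const, card_compl, hs,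
    smul_eq_mul, hl] at h1
  exact (Nat.eq_of_mul_eq_mul_right (by omega) h1).symm

theorem block_count (hB : IsSteinerSystem t k B) :
    (blk B).card * Nat.choose k t = Nat.choose (Fintype.card α) t := by
  have h := Finset.sum_card_bipartiteAbove_eq_sum_card_bipartiteBelow
    (fun (b : Finset α) (s : Finset α) => s ⊆ b) (s := blk B) (t := powersetCard t univ)
  rw [Finset.sum_congr rfl (g := fun _ => k.choose t),
    Finset.sum_congr (s₁ := powersetCard t univ) rfl (g := fun _ => 1)] at h
  · simpa using h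
  · intro s hs
    exact lam_of_card_eq hB (mem_powersetCard.1 hs).2
  · intro b hb
    rw [← hB.1 b (mem_blk.1 hb), ← card_powersetCard]
    congr 1
    ext s
    simp [bipartiteAbove, mem_powersetCard, and_comm]

/-- The number of blocks meeting `b` exactly in `s`. -/
theorem cnt_sdiff (B : Set (Finset α)) {b s : Finset α} (hs : s ⊆ b) :
    cnt B s (b \ s) = ((blk B).filter fun c => b ∩ c = s).card := by
  unfold cnt
  congr 1
  ext c
  simp only [mem_filter, and_congr_right_iff]
  intro _
  constructor
  · rintro ⟨h1, h2⟩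
    ext x
    simp only [mem_inter]
    constructor
    · rintro ⟨hxb, hxc⟩
      by_contra hxs
      exact Finset.disjoint_left.1 h2 (mem_sdiff.2 ⟨hxb, hxs⟩) hxc
    · intro hx
      exact ⟨hs hx, h1 hx⟩
  · rintro rfl
    refine ⟨inter_subset_right, Finset.disjoint_left.2 fun x hx hxc => ?_⟩
    rw [mem_sdiff, mem_inter] at hx
    exact hx.2 ⟨hx.1, hxc⟩

theorem card_inter_eq_tri (B : Set (Finset α)) (b : Finset α) (f : ℕ → ℤ)
    (h : ∀ s ⊆ b, (lam B s : ℤ) = f s.card) {s : Finset α} (hs : s ⊆ b) :
    (((blk B).filter fun c => b ∩ c = s).card : ℤ) = tri f (b.card - s.card) s.card := by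
  rw [← cnt_sdiff B hs, cnt_eq_tri B b f h (b \ s) s hs sdiff_subset disjoint_sdiff,
    card_sdiff_of_subset hs]

theorem card_inter_ne_of_tri (B : Set (Finset α)) (b : Finset α) (f : ℕ → ℤ)
    (h : ∀ s ⊆ b, (lam B s : ℤ) = f s.card) {i : ℕ} (hi : tri f (b.card - i) i = 0)
    {c : Finset α} (hc : c ∈ B) : (b ∩ c).card ≠ i := by
  intro hci
  have h1 := card_inter_eq_tri B b f h (s := b ∩ c) inter_subset_left
  rw [hci, hi, Nat.cast_eq_zero, card_eq_zero] at h1
  have : c ∈ (blk B).filter fun d => b ∩ d = b ∩ c := by simp [mem_blk, hc]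
  rw [h1] at this
  simp at this

theorem sum_card_inter (B : Set (Finset α)) (s u : Finset α) :
    ∑ d ∈ (blk B).filter (fun d => s ⊆ d), (d ∩ u).card = ∑ x ∈ u, lam B (insert x s) := by
  have h1 : ∀ d ∈ (blk B).filter (fun d => s ⊆ d),
      (d ∩ u).card = ∑ x ∈ u, if x ∈ d then 1 else 0 := by
    intro d _
    rw [Finset.sum_boole]
    simp only [Nat.cast_id]
    congr 1
    ext x; simp [and_comm]
  rw [Finset.sum_congr rfl h1, Finset.sum_comm]
  refine Finset.sum_congr rfl fun x _ => ?_
  rw [Finset.sum_boole, Finset.filter_filter]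
  simp only [Nat.cast_id, lam]
  congr 1
  ext c
  simp only [mem_filter, insert_subset_iff]
  tauto

theorem sum_card_inter_mul (B : Set (Finset α)) (u w : Finset α) :
    ∑ d ∈ blk B, (d ∩ u).card * (d ∩ w).card = ∑ x ∈ u, ∑ y ∈ w, lam B {y, x} := by
  have h1 : ∀ d ∈ blk B,
      (d ∩ u).card * (d ∩ w).card = ∑ x ∈ u, if {x} ⊆ d then (d ∩ w).card else 0 := by
    intro d _
    rw [← Finset.sum_filter, Finset.sum_const, smul_eq_mul]
    congr 2
    ext x; simp [and_comm]
  rw [Finset.sum_congr rfl h1, Finset.sum_comm]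
  refine Finset.sum_congr rfl fun x _ => ?_
  rw [← Finset.sum_filter, sum_card_inter]

end CL.Steiner
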