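import Cfsg.Agent.Base
import Cfsg.Agent.Spor.SteinerBasic

/-! The numbers `λ_i` and block intersection numbers of the Steiner systems with the parameters
of the Witt designs. -/

set_option autoImplicit false

namespace CL.Steiner

open Finset Cfsg

variable {α : Type*} [Fintype α] [DecidableEq α] {B : Set (Finset α)}

/-! ### S(5,8,24) -/

/-- `λ_i` of S(5,8,24) (value 1 for `i ≥ 5`, valid inside a block). -/
def f24 : ℕ → ℤ
  | 0 => 759 | 1 => 253 | 2 => 77 | 3 => 21 | 4 => 5 | _ => 1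

theorem lam24 (hα : Fintype.card α = 24) (hB : IsSteinerSystem 5 8 B) (s : Finset α)
    (hs : s.card ≤ 5) : (lam B s : ℤ) = f24 s.card := by
  have h5 : ∀ s : Finset α, s.card = 5 → lam B s = 1 := fun s hs => lam_of_card_eq hB hs
  have h4 := lam_step (i := 4) (l' := 5) hB.1 h5 (by norm_num) (by rw [hα])
  have h3 := lam_step (i := 3) (l' := 21) hB.1 h4 (by norm_num) (by rw [hα])
  have h2 := lam_step (i := 2) (l' := 77) hB.1 h3 (by norm_num) (by rw [hα])
  have h1 := lam_step (i := 1) (l' := 253) hB.1 h2 (by norm_num) (by rw [hα])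
  have h0 := lam_step (i := 0) (l' := 759) hB.1 h1 (by norm_num) (by rw [hα])
  obtain ⟨n, hn⟩ : ∃ n, s.card = n := ⟨_, rfl⟩
  rw [hn] at hs ⊢
  interval_cases n
  · rw [h0 s hn]; rfl
  · rw [h1 s hn]; rfl
  · rw [h2 s hn]; rfl
  · rw [h3 s hn]; rfl
  · rw [h4 s hn]; rfl
  · rw [h5 s hn]; rfl

theorem lam24_block (hα : Fintype.card α = 24) (hB : IsSteinerSystem 5 8 B) {b : Finset α}
    (hb : b ∈ B) (s : Finset α) (hs : s ⊆ b) : (lam B s : ℤ) = f24 s.card := by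
  rcases le_or_gt s.card 5 with h | h
  · exact lam24 hα hB s h
  · rw [lam_of_subset_block hB hb hs h.le]
    obtain ⟨n, hn⟩ : ∃ n, s.card = n + 5 := ⟨s.card - 5, by omega⟩
    rw [hn]; rfl

theorem inter24 (hα : Fintype.card α = 24) (hB : IsSteinerSystem 5 8 B) {b c : Finset α}
    (hb : b ∈ B) (hc : c ∈ B) (hbc : b ≠ c) :
    (b ∩ c).card = 0 ∨ (b ∩ c).card = 2 ∨ (b ∩ c).card = 4 := by
  have h5 := card_inter_lt hB hb hc hbc
  have h1 := card_inter_ne_of_tri B b f24 (lam24_block hα hB hb) (i := 1)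
    (by rw [hB.1 b hb]; decide) hc
  have h3 := card_inter_ne_of_tri B b f24 (lam24_block hα hB hb) (i := 3)
    (by rw [hB.1 b hb]; decide) hc
  omega

theorem even_inter24 (hα : Fintype.card α = 24) (hB : IsSteinerSystem 5 8 B) {b c : Finset α}
    (hb : b ∈ B) (hc : c ∈ B) : Even (b ∩ c).card := by
  by_cases hbc : b = c
  · subst hbc; rw [inter_self, hB.1 b hb]; decide
  · rcases inter24 hα hB hb hc hbc with h | h | h <;> rw [h] <;> decide

/-! ### S(4,7,23) -/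

/-- `λ_i` of S(4,7,23). -/
def f23 : ℕ → ℤ
  | 0 => 253 | 1 => 77 | 2 => 21 | 3 => 5 | _ => 1

theorem lam23 (hα : Fintype.card α = 23) (hB : IsSteinerSystem 4 7 B) (s : Finset α)
    (hs : s.card ≤ 4) : (lam B s : ℤ) = f23 s.card := by
  have h4 : ∀ s : Finset α, s.card = 4 → lam B s = 1 := fun s hs => lam_of_card_eq hB hs
  have h3 := lam_step (i := 3) (l' := 5) hB.1 h4 (by norm_num) (by rw [hα])
  have h2 := lam_step (i := 2) (l' := 21) hB.1 h3 (by norm_num) (by rw [hα])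
  have h1 := lam_step (i := 1) (l' := 77) hB.1 h2 (by norm_num) (by rw [hα])
  have h0 := lam_step (i := 0) (l' := 253) hB.1 h1 (by norm_num) (by rw [hα])
  obtain ⟨n, hn⟩ : ∃ n, s.card = n := ⟨_, rfl⟩
  rw [hn] at hs ⊢
  interval_cases n
  · rw [h0 s hn]; rfl
  · rw [h1 s hn]; rfl
  · rw [h2 s hn]; rfl
  · rw [h3 s hn]; rfl
  · rw [h4 s hn]; rfl

theorem lam23_block (hα : Fintype.card α = 23) (hB : IsSteinerSystem 4 7 B) {b : Finset α}
    (hb : b ∈ B) (s : Finset α) (hs : s ⊆ b) : (lam B s : ℤ) = f23 s.card := by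
  rcases le_or_gt s.card 4 with h | h
  · exact lam23 hα hB s h
  · rw [lam_of_subset_block hB hb hs h.le]
    obtain ⟨n, hn⟩ : ∃ n, s.card = n + 4 := ⟨s.card - 4, by omega⟩
    rw [hn]; rfl

theorem inter23 (hα : Fintype.card α = 23) (hB : IsSteinerSystem 4 7 B) {b c : Finset α}
    (hb : b ∈ B) (hc : c ∈ B) (hbc : b ≠ c) : (b ∩ c).card = 1 ∨ (b ∩ c).card = 3 := by
  have h5 := card_inter_lt hB hb hc hbc
  have h0 := card_inter_ne_of_tri B b f23 (lam23_block hα hB hb) (i := 0)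
    (by rw [hB.1 b hb]; decide) hc
  have h2 := card_inter_ne_of_tri B b f23 (lam23_block hα hB hb) (i := 2)
    (by rw [hB.1 b hb]; decide) hc
  omega

/-! ### S(3,6,22) -/

/-- `λ_i` of S(3,6,22). -/
def f22 : ℕ → ℤ
  | 0 => 77 | 1 => 21 | 2 => 5 | _ => 1

theorem lam22 (hα : Fintype.card α = 22) (hB : IsSteinerSystem 3 6 B) (s : Finset α)
    (hs : s.card ≤ 3) : (lam B s : ℤ) = f22 s.card := by
  have h3 : ∀ s : Finset α, s.card = 3 → lam B s = 1 := fun s hs => lam_of_card_eq hB hs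
  have h2 := lam_step (i := 2) (l' := 5) hB.1 h3 (by norm_num) (by rw [hα])
  have h1 := lam_step (i := 1) (l' := 21) hB.1 h2 (by norm_num) (by rw [hα])
  have h0 := lam_step (i := 0) (l' := 77) hB.1 h1 (by norm_num) (by rw [hα])
  obtain ⟨n, hn⟩ : ∃ n, s.card = n := ⟨_, rfl⟩
  rw [hn] at hs ⊢
  interval_cases n
  · rw [h0 s hn]; rfl
  · rw [h1 s hn]; rfl
  · rw [h2 s hn]; rfl
  · rw [h3 s hn]; rfl

theorem lam22_block (hα : Fintype.card α = 22) (hB : IsSteinerSystem 3 6 B) {b : Finset α}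
    (hb : b ∈ B) (s : Finset α) (hs : s ⊆ b) : (lam B s : ℤ) = f22 s.card := by
  rcases le_or_gt s.card 3 with h | h
  · exact lam22 hα hB s h
  · rw [lam_of_subset_block hB hb hs h.le]
    obtain ⟨n, hn⟩ : ∃ n, s.card = n + 3 := ⟨s.card - 3, by omega⟩
    rw [hn]; rfl

theorem inter22 (hα : Fintype.card α = 22) (hB : IsSteinerSystem 3 6 B) {b c : Finset α}
    (hb : b ∈ B) (hc : c ∈ B) (hbc : b ≠ c) : (b ∩ c).card = 0 ∨ (b ∩ c).card = 2 := by
  have h5 := card_inter_lt hB hb hc hbc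
  have h1 := card_inter_ne_of_tri B b f22 (lam22_block hα hB hb) (i := 1)
    (by rw [hB.1 b hb]; decide) hc
  omega

/-! ### S(5,6,12) -/

/-- `λ_i` of S(5,6,12). -/
def f12 : ℕ → ℤ
  | 0 => 132 | 1 => 66 | 2 => 30 | 3 => 12 | 4 => 4 | _ => 1

theorem lam12 (hα : Fintype.card α = 12) (hB : IsSteinerSystem 5 6 B) (s : Finset α)
    (hs : s.card ≤ 5) : (lam B s : ℤ) = f12 s.card := by
  have h5 : ∀ s : Finset α, s.card = 5 → lam B s = 1 := fun s hs => lam_of_card_eq hB hs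
  have h4 := lam_step (i := 4) (l' := 4) hB.1 h5 (by norm_num) (by rw [hα])
  have h3 := lam_step (i := 3) (l' := 12) hB.1 h4 (by norm_num) (by rw [hα])
  have h2 := lam_step (i := 2) (l' := 30) hB.1 h3 (by norm_num) (by rw [hα])
  have h1 := lam_step (i := 1) (l' := 66) hB.1 h2 (by norm_num) (by rw [hα])
  have h0 := lam_step (i := 0) (l' := 132) hB.1 h1 (by norm_num) (by rw [hα])
  obtain ⟨n, hn⟩ : ∃ n, s.card = n := ⟨_, rfl⟩
  rw [hn] at hs ⊢
  interval_cases n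
  · rw [h0 s hn]; rfl
  · rw [h1 s hn]; rfl
  · rw [h2 s hn]; rfl
  · rw [h3 s hn]; rfl
  · rw [h4 s hn]; rfl
  · rw [h5 s hn]; rfl

theorem lam12_block (hα : Fintype.card α = 12) (hB : IsSteinerSystem 5 6 B) {b : Finset α}
    (hb : b ∈ B) (s : Finset α) (hs : s ⊆ b) : (lam B s : ℤ) = f12 s.card := by
  rcases le_or_gt s.card 5 with h | h
  · exact lam12 hα hB s h
  · rw [lam_of_subset_block hB hb hs h.le]
    obtain ⟨n, hn⟩ : ∃ n, s.card = n + 5 := ⟨s.card - 5, by omega⟩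
    rw [hn]; rfl

theorem compl_mem12 (hα : Fintype.card α = 12) (hB : IsSteinerSystem 5 6 B) {b : Finset α}
    (hb : b ∈ B) : bᶜ ∈ B := by
  have h := card_inter_eq_tri B b f12 (lam12_block hα hB hb) (s := ∅) (empty_subset _)
  rw [hB.1 b hb, card_empty, show tri f12 (6 - 0) 0 = 1 by decide] at h
  have h' : ((blk B).filter fun c => b ∩ c = ∅).card = 1 := by exact_mod_cast h
  obtain ⟨c, hc⟩ := Finset.card_eq_one.1 h'
  have : c ∈ (blk B).filter fun c => b ∩ c = ∅ := by rw [hc]; exact mem_singleton_self c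
  rw [mem_filter, mem_blk] at this
  have hsub : c ⊆ bᶜ := fun x hx => mem_compl.2 fun hxb => by
    have : x ∈ b ∩ c := mem_inter.2 ⟨hxb, hx⟩
    simp_all
  have : c = bᶜ := eq_of_subset_of_card_le hsub (by
    rw [card_compl, hα, hB.1 b hb, hB.1 c this.1])
  rw [← this]
  simp_all

theorem inter12 (hα : Fintype.card α = 12) (hB : IsSteinerSystem 5 6 B) {b c : Finset α}
    (hb : b ∈ B) (hc : c ∈ B) (hbc : b ≠ c) :
    (b ∩ c).card = 0 ∨ (b ∩ c).card = 2 ∨ (b ∩ c).card = 3 ∨ (b ∩ c).card = 4 := by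
  have h5 := card_inter_lt hB hb hc hbc
  have h1 := card_inter_ne_of_tri B b f12 (lam12_block hα hB hb) (i := 1)
    (by rw [hB.1 b hb]; decide) hc
  omega

/-! ### S(4,5,11) -/

/-- `λ_i` of S(4,5,11). -/
def f11 : ℕ → ℤ
  | 0 => 66 | 1 => 30 | 2 => 12 | 3 => 4 | _ => 1

theorem lam11 (hα : Fintype.card α = 11) (hB : IsSteinerSystem 4 5 B) (s : Finset α)
    (hs : s.card ≤ 4) : (lam B s : ℤ) = f11 s.card := by
  have h4 : ∀ s : Finset α, s.card = 4 → lam B s = 1 := fun s hs => lam_of_card_eq hB hs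
  have h3 := lam_step (i := 3) (l' := 4) hB.1 h4 (by norm_num) (by rw [hα])
  have h2 := lam_step (i := 2) (l' := 12) hB.1 h3 (by norm_num) (by rw [hα])
  have h1 := lam_step (i := 1) (l' := 30) hB.1 h2 (by norm_num) (by rw [hα])
  have h0 := lam_step (i := 0) (l' := 66) hB.1 h1 (by norm_num) (by rw [hα])
  obtain ⟨n, hn⟩ : ∃ n, s.card = n := ⟨_, rfl⟩
  rw [hn] at hs ⊢
  interval_cases n
  · rw [h0 s hn]; rfl
  · rw [h1 s hn]; rfl
  · rw [h2 s hn]; rfl
  · rw [h3 s hn]; rfl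
  · rw [h4 s hn]; rfl

end CL.Steiner
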