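import Cfsg.Agent.Base
import Cfsg.Agent.Spor.SteinerBasic

/-! Derived designs, and transport of Steiner systems along bijections. -/

set_option autoImplicit false

namespace CL.Steiner

open Finset Cfsg

variable {α β : Type*} [DecidableEq α] [DecidableEq β] {t k : ℕ}

/-- The derived family at a point. -/
def derived (B : Set (Finset α)) (p : α) : Set (Finset {a : α // a ≠ p}) :=
  {b' | ∃ b ∈ B, p ∈ b ∧ b' = Finset.subtype (fun a => a ≠ p) b}

theorem card_subtype_ne {p : α} {b : Finset α} (hp : p ∈ b) :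
    (Finset.subtype (fun a => a ≠ p) b).card + 1 = b.card := by
  rw [Finset.card_subtype, Finset.filter_ne', Finset.card_erase_add_one hp]

theorem derived_steiner {B : Set (Finset α)} (hB : IsSteinerSystem (t + 1) (k + 1) B) (p : α) :
    IsSteinerSystem t k (derived B p) := by
  constructor
  · rintro b' ⟨b, hb, hp, rfl⟩
    have := card_subtype_ne hp
    rw [hB.1 b hb] at this
    omega
  · intro s hs
    have hps : p ∉ s.map (Function.Embedding.subtype _) := by
      simp
    obtain ⟨b, ⟨hb, hsb⟩, hu⟩ := hB.2 (insert p (s.map (Function.Embedding.subtype _)))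
      (by rw [card_insert_of_notMem hps, card_map, hs])
    rw [insert_subset_iff] at hsb
    refine ⟨Finset.subtype (fun a => a ≠ p) b, ⟨⟨b, hb, hsb.1, rfl⟩, ?_⟩, ?_⟩
    · intro x hx
      rw [mem_subtype]
      exact hsb.2 (mem_map_of_mem _ hx)
    · rintro b' ⟨⟨c, hc, hpc, rfl⟩, hsc⟩
      rw [hu c ⟨hc, insert_subset hpc ?_⟩]
      intro x hx
      obtain ⟨y, hy, rfl⟩ := mem_map.1 hx
      exact mem_subtype.1 (hsc hy)

/-- The image of a family of subsets under a map of the points. -/
def imageFam (e : α → β) (B : Set (Finset α)) : Set (Finset β) := (fun b => b.image e) '' B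

omit [DecidableEq α] in
theorem mem_imageFam {e : α → β} {B : Set (Finset α)} {c : Finset β} :
    c ∈ imageFam e B ↔ ∃ b ∈ B, b.image e = c := Iff.rfl

theorem mem_imageFam_equiv (e : α ≃ β) {B : Set (Finset α)} {c : Finset β} :
    c ∈ imageFam e B ↔ c.image e.symm ∈ B := by
  constructor
  · rintro ⟨b, hb, rfl⟩
    simpa [Finset.image_image] using hb
  · intro h
    exact ⟨_, h, by simp [Finset.image_image]⟩

theorem imageFam_steiner (e : α ≃ β) {B : Set (Finset α)} (hB : IsSteinerSystem t k B) :
    IsSteinerSystem t k (imageFam e B) := by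
  constructor
  · rintro c ⟨b, hb, rfl⟩
    simp only
    rw [card_image_of_injective _ e.injective, hB.1 b hb]
  · intro s hs
    obtain ⟨b, ⟨hb, hsb⟩, hu⟩ := hB.2 (s.image e.symm)
      (by rw [card_image_of_injective _ e.symm.injective, hs])
    refine ⟨b.image e, ⟨⟨b, hb, rfl⟩, fun x hx => ?_⟩, ?_⟩
    · exact mem_image.2 ⟨e.symm x, hsb (mem_image_of_mem _ hx), by simp⟩
    · rintro c ⟨⟨d, hd, rfl⟩, hsd⟩
      rw [hu d ⟨hd, ?_⟩]
      intro x hx
      obtain ⟨y, hy, rfl⟩ := mem_image.1 hx
      obtain ⟨z, hz, rfl⟩ := mem_image.1 (hsd hy)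
      simpa using hz

omit [DecidableEq α] in
/-- A Steiner system contained in a family whose distinct members of the right size share fewer
than `t` points is the whole family. -/
theorem eq_of_subset_steiner {B B' : Set (Finset α)} (hB : IsSteinerSystem t k B)
    (hB' : IsSteinerSystem t k B') (htk : t ≤ k) (h : B ⊆ B') : B = B' := by
  refine Set.Subset.antisymm h fun c hc => ?_
  obtain ⟨s, hs, hcard⟩ := Finset.exists_subset_card_eq (s := c) (n := t) (by rw [hB'.1 c hc]; exact htk)
  obtain ⟨b, hb, hsb⟩ := exists_block hB hcard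
  rw [eq_of_subset hB' hc (h hb) hs hsb hcard.ge]
  exact hb

theorem setSystemIso_symm {B : Set (Finset α)} {B' : Set (Finset β)} (h : SetSystemIso B B') :
    SetSystemIso B' B := by
  obtain ⟨e, rfl⟩ := h
  refine ⟨e.symm, ?_⟩
  rw [Set.image_image]
  simp [Finset.image_image]

omit [DecidableEq α] in
theorem setSystemIso_trans {γ : Type*} [DecidableEq γ] {B : Set (Finset α)} {B' : Set (Finset β)}
    {B'' : Set (Finset γ)} (h : SetSystemIso B B') (h' : SetSystemIso B' B'') :
    SetSystemIso B B'' := by
  obtain ⟨e, rfl⟩ := h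
  obtain ⟨e', rfl⟩ := h'
  refine ⟨e.trans e', ?_⟩
  rw [Set.image_image]
  simp [Finset.image_image]

end CL.Steiner
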