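import Cfsg.Agent.Base
import Cfsg.Agent.Spor.LeechGens

/-!
# Conway's element `ξ` of `Co0`, and the stabiliser of the standard cross
-/

set_option autoImplicit false

namespace CL.Leech

open Cfsg Finset
open scoped Pointwise

/-- A labelled sextet: a labelling of the points by six labels, each used four times, such that the
points with label `0` or `k` form a code set. -/
structure IsSextetFun (τ : GolayPt → Fin 6) : Prop where
  card : ∀ k, (univ.filter fun i => τ i = k).card = 4
  mem : ∀ k, k ≠ 0 → (univ.filter fun i => τ i = 0 ∨ τ i = k) ∈ CodeSets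

/-- The sum of the coordinates over the tetrad with label `k`. -/
def tetSum (τ : GolayPt → Fin 6) (x : GolayPt → ℤ) (k : Fin 6) : ℤ :=
  ∑ j ∈ univ.filter fun j => τ j = k, x j

/-- Conway's map: subtract half the tetrad sum from each coordinate, then negate on tetrad `s`. -/
def xiFun (τ : GolayPt → Fin 6) (s : Fin 6) (x : GolayPt → ℤ) : GolayPt → ℤ :=
  fun i => if τ i = s then tetSum τ x (τ i) / 2 - x i else x i - tetSum τ x (τ i) / 2

theorem sum_tetSum (τ : GolayPt → Fin 6) (x : GolayPt → ℤ) : ∑ k, tetSum τ x k = ∑ i, x i :=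
  sum_fiberwise univ τ x

theorem tetSum_congr (τ : GolayPt → Fin 6) {x y : GolayPt → ℤ} {k : Fin 6}
    (h : ∀ i, τ i = k → x i = y i) : tetSum τ x k = tetSum τ y k :=
  sum_congr rfl fun i hi => h i (mem_filter.1 hi).2

theorem tetSum_affine {τ : GolayPt → Fin 6} (hτ : IsSextetFun τ) (a b : ℤ) (x : GolayPt → ℤ)
    (k : Fin 6) : tetSum τ (fun i => a + b * x i) k = 4 * a + b * tetSum τ x k := by
  simp only [tetSum, sum_add_distrib, ← mul_sum, sum_const, hτ.card k]; simp

theorem tetSum_even {τ : GolayPt → Fin 6} (hτ : IsSextetFun τ) {x : GolayPt → ℤ}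
    (hx : x ∈ leechLattice) (k : Fin 6) : tetSum τ x k % 2 = 0 := by
  obtain ⟨m, u, h1, -, -⟩ := mem_leech_iff.1 hx
  have : x = fun i => m + 2 * u i := funext h1
  rw [this, tetSum_affine hτ]; omega

theorem xiFun_zero_mem {τ : GolayPt → Fin 6} (hτ : IsSextetFun τ) {x : GolayPt → ℤ}
    (hx : x ∈ leechLattice) : xiFun τ 0 x ∈ leechLattice := by
  obtain ⟨m, u, h1, h2, h3⟩ := mem_leech_iff.1 hx
  have hx' : x = fun i => m + 2 * u i := funext h1
  have hs : ∀ k, tetSum τ x k = 4 * m + 2 * tetSum τ u k := fun k => by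
    rw [hx', tetSum_affine hτ]
  have hpar : ∀ k, (tetSum τ u 0 - tetSum τ u k) % 2 = 0 := by
    intro k
    by_cases hk : k = 0
    · subst hk; simp
    · have := sum_even_of_red (hτ.mem k hk) h2
      rw [filter_or, sum_union] at this
      · unfold tetSum; omega
      · rw [disjoint_filter]; intro i _ h0 h; exact hk (h.symm.trans h0)
  have hsum := sum_tetSum τ x
  rw [Fin.sum_univ_six] at hsum
  simp only [hs] at hsum
  set U := tetSum τ u with hU
  let d : Fin 6 → ℤ := fun k => if k = 0 then m + U 0 else (U 0 - U k) / 2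
  refine mem_leech_iff.2 ⟨-m - U 0, fun i => if τ i = 0 then m + U 0 - u i else u i + d (τ i),
    fun i => ?_, ?_, ?_⟩
  · simp only [xiFun, hs, d]
    have := hpar (τ i); have := h1 i
    split_ifs with h
    · rw [h]; omega
    · omega
  · have : red (fun i => if τ i = 0 then m + U 0 - u i else u i + d (τ i)) =
        red u + ∑ k ∈ univ.erase 0, (d k : ZMod 2) • ind (univ.filter fun i => τ i = 0 ∨ τ i = k) := by
      funext i
      simp only [red, Pi.add_apply, Finset.sum_apply, Pi.smul_apply, smul_eq_mul, ind, mem_filter,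
        mem_univ, true_and]
      split_ifs with h
      · simp only [h, true_or, if_true, mul_one]
        rw [← Int.cast_sum, ← Int.cast_add, ZMod.intCast_eq_intCast_iff']
        have : ∑ k ∈ univ.erase (0 : Fin 6), d k = d 1 + d 2 + d 3 + d 4 + d 5 := by
          have := sum_erase_add univ d (mem_univ (0 : Fin 6))
          rw [Fin.sum_univ_six] at this
          omega
        rw [this]
        have := hpar 1; have := hpar 2; have := hpar 3; have := hpar 4; have := hpar 5
        simp only [d, Fin.reduceEq, if_false]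
        push_cast
        omega
      · rw [sum_eq_single (τ i)]
        · simp
        · intro k _ hk; simp [h, Ne.symm hk]
        · intro hk; simp [h] at hk
    rw [this]
    refine golayCode.add_mem h2 (golayCode.sum_mem fun k hk => golayCode.smul_mem _ ?_)
    exact mem_codeSets.1 (hτ.mem k (ne_of_mem_erase hk))
  · have h4 : ∀ k, tetSum τ (xiFun τ 0 x) k =
        if k = 0 then tetSum τ x k else -tetSum τ x k := by
      intro k
      have := tetSum_even hτ hx k
      split_ifs with hk
      · rw [tetSum_congr τ (y := fun i => tetSum τ x k / 2 + (-1) * x i), tetSum_affine hτ]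
        · omega
        · intro i hi; simp only [xiFun, hi, hk, if_true]; ring
      · rw [tetSum_congr τ (y := fun i => -(tetSum τ x k / 2) + 1 * x i), tetSum_affine hτ]
        · omega
        · intro i hi; simp only [xiFun, hi, hk, if_false]; ring
    rw [← sum_tetSum τ, Fin.sum_univ_six]
    simp only [h4, hs, Fin.reduceEq, if_false, if_true]
    omega

theorem xiFun_mem {τ : GolayPt → Fin 6} (hτ : IsSextetFun τ) (s : Fin 6) {x : GolayPt → ℤ}
    (hx : x ∈ leechLattice) : xiFun τ s x ∈ leechLattice := by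
  by_cases hs : s = 0
  · subst hs; exact xiFun_zero_mem hτ hx
  · convert signFun_mem (hτ.mem s hs) (xiFun_zero_mem hτ hx) using 1
    funext i
    simp only [xiFun, signFun, mem_filter, mem_univ, true_and]
    by_cases h1 : τ i = 0
    · have : τ i ≠ s := fun h => hs (h.symm.trans h1)
      simp [h1, Ne.symm hs]
    · by_cases h2 : τ i = s
      · simp [h2, hs]
      · simp [h1, h2]

theorem xiFun_add {τ : GolayPt → Fin 6} (hτ : IsSextetFun τ) (s : Fin 6) {x y : GolayPt → ℤ}
    (hx : x ∈ leechLattice) (hy : y ∈ leechLattice) :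
    xiFun τ s (x + y) = xiFun τ s x + xiFun τ s y := by
  funext i
  have h1 := tetSum_even hτ hx (τ i)
  have h2 := tetSum_even hτ hy (τ i)
  have h3 : tetSum τ (x + y) (τ i) = tetSum τ x (τ i) + tetSum τ y (τ i) := by
    simp [tetSum, sum_add_distrib]
  simp only [xiFun, Pi.add_apply, h3]
  split_ifs <;> omega

theorem sqNorm_xiFun {τ : GolayPt → Fin 6} (hτ : IsSextetFun τ) (s : Fin 6) {x : GolayPt → ℤ}
    (hx : x ∈ leechLattice) : sqNorm (xiFun τ s x) = sqNorm x := by
  unfold sqNorm
  rw [← sum_tetSum τ, ← sum_tetSum τ]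
  refine sum_congr rfl fun k _ => ?_
  obtain ⟨h, hh⟩ : ∃ h, tetSum τ x k = 2 * h :=
    ⟨tetSum τ x k / 2, by have := tetSum_even hτ hx k; omega⟩
  rw [tetSum_congr τ (y := fun i => x i ^ 2 + (h ^ 2 + (-2 * h) * x i))]
  · have := tetSum_affine hτ (h ^ 2) (-2 * h) x k
    unfold tetSum at this hh ⊢
    rw [sum_add_distrib, this, hh]; ring
  · intro i hi
    have : tetSum τ x k / 2 = h := by omega
    simp only [xiFun, hi, this]
    split_ifs <;> ring

/-- Conway's element of `Co0` attached to a labelled sextet and one of its tetrads. -/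
noncomputable def xi {τ : GolayPt → Fin 6} (hτ : IsSextetFun τ) (s : Fin 6) : Co0 :=
  ofFun (xiFun τ s) (fun _ h => xiFun_mem hτ s h) (fun _ hx _ hy => xiFun_add hτ s hx hy)
    (fun _ h => sqNorm_xiFun hτ s h)

theorem xi_smul {τ : GolayPt → Fin 6} (hτ : IsSextetFun τ) (s : Fin 6) (v : leechLattice) :
    ((xi hτ s • v : leechLattice) : GolayPt → ℤ) = xiFun τ s v := rfl

/-- The standard labelled sextet, with tetrads `{∞,0,1,2}`, `{9,10,15,20}`, `{4,13,16,22}`,
`{8,11,12,18}`, `{6,7,19,21}`, `{3,5,14,17}`. -/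
def tet : GolayPt → Fin 6
  | none => 0
  | some x => ![0, 0, 0, 5, 2, 5, 4, 4, 3, 1, 1, 3, 3, 2, 5, 1, 2, 5, 3, 4, 1, 4, 2] x

theorem isSextetFun_tet : IsSextetFun tet where
  card := by decide +kernel
  mem := by simp only [mem_codeSets, mem_golay_iff_gens]; decide +kernel

/-! ### The standard cross -/

/-- A lattice vector of norm 64 congruent to `8 e_j` modulo twice the lattice is some `± 8 e_k`. -/
theorem eq_single_of_cong {y z : GolayPt → ℤ} (hn : sqNorm y = 64) (hz : z ∈ leechLattice)
    (j : GolayPt) {s : ℤ} (hs : s = 8 ∨ s = -8) (h : Pi.single j s - y = 2 • z) :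
    ∃ k, y = Pi.single k 8 ∨ y = Pi.single k (-8) := by
  set w : GolayPt → ℤ := fun i => (if i = j then s / 2 else 0) - z i with hw
  have hy : ∀ i, y i = 2 * w i := by
    intro i
    have := congrFun h i
    simp only [Pi.sub_apply, Pi.single_apply, Pi.smul_apply, nsmul_eq_mul, Nat.cast_ofNat] at this
    simp only [hw]; split_ifs at this ⊢ <;> omega
  have hwn : ∑ i, w i ^ 2 = 16 := by
    have : sqNorm y = 4 * ∑ i, w i ^ 2 := by
      simp only [sqNorm, hy, mul_pow, mul_sum]; norm_num
    omega
  have hw4 : ∀ i, (w i + z i) % 4 = 0 := by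
    intro i; simp only [hw]; split_ifs <;> omega
  rcases even_or_odd hz with he | he
  · obtain ⟨h1, -⟩ := (mem_iff_of_even he).1 hz
    have h3 := card_filter_le_sum_sq w (fun i => z i % 4 = 2) 4 (fun i hi => by
      have := hw4 i
      have : 2 ≤ w i ∨ w i ≤ -2 := by omega
      rcases this with h | h <;> nlinarith)
    have h4 := eq_empty_of_card_lt h1 (by omega)
    have h5 : ∀ i, w i % 4 = 0 := fun i => by
      have := he i; have := hw4 i
      have h5 : ¬ z i % 4 = 2 := by simpa using (filter_eq_empty_iff.1 h4) (mem_univ i)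
      omega
    obtain ⟨k, hk⟩ : ∃ k, w k ≠ 0 := by
      by_contra hc; push Not at hc; simp [hc] at hwn
    have h6 : 16 ≤ w k ^ 2 := by
      have := h5 k
      have : 4 ≤ w k ∨ w k ≤ -4 := by omega
      rcases this with h | h <;> nlinarith
    have h7 := add_sum_erase univ (fun i => w i ^ 2) (mem_univ k)
    have h8 : 0 ≤ ∑ i ∈ univ.erase k, w i ^ 2 := sum_nonneg fun _ _ => sq_nonneg _
    have h9 : ∑ i ∈ univ.erase k, w i ^ 2 = 0 := by beta_reduce at h7; omega
    have h10 : w k ^ 2 = 16 := by beta_reduce at h7; omega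
    rw [sum_eq_zero_iff_of_nonneg fun _ _ => sq_nonneg _] at h9
    have h11 : w k = 4 ∨ w k = -4 := by
      have : (w k - 4) * (w k + 4) = 0 := by ring_nf; omega
      rcases mul_eq_zero.1 this with h | h <;> omega
    refine ⟨k, ?_⟩
    have h12 : y = Pi.single k (2 * w k) := by
      funext i
      by_cases hi : i = k
      · subst hi; simp [hy]
      · have := h9 i (by simp [hi])
        simp [hy, hi, pow_eq_zero_iff two_ne_zero |>.1 this]
    rcases h11 with h | h <;> rw [h] at h12
    · left; exact h12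
    · right; exact h12
  · have := twentyfour_le_of_odd (x := w) (fun i => by have := he i; have := hw4 i; omega)
    unfold sqNorm at this; omega

theorem coe_neg_e8 (i : GolayPt) : ((-e8 i : leechLattice) : GolayPt → ℤ) = Pi.single i (-8) := by
  rw [NegMemClass.coe_neg, coe_e8, Pi.single_neg]

/-- If one vector `8 e_i` is mapped into the standard cross then all are. -/
theorem smul_e8_of_one {g : Co0} {i j : GolayPt} (h : g • e8 i = e8 j ∨ g • e8 i = -e8 j)
    (k : GolayPt) : ∃ l, g • e8 k = e8 l ∨ g • e8 k = -e8 l := by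
  have hz : pairVec i k 4 (-4) ∈ leechLattice := pairVec_mem i k (by rfl) (by rfl) (by rfl)
  have h1 : e8 i - e8 k = 2 • (⟨_, hz⟩ : leechLattice) := by
    apply Subtype.ext; funext l
    simp only [AddSubgroupClass.coe_sub, coe_e8, Pi.sub_apply, Pi.single_apply,
      AddSubmonoidClass.coe_nsmul, Pi.smul_apply, pairVec_apply, nsmul_eq_mul]
    split_ifs <;> rfl
  have h2 : g • e8 i - g • e8 k = 2 • (g • (⟨_, hz⟩ : leechLattice)) := by
    rw [← Co0_sub, h1, Co0_nsmul]
  have h3 : sqNorm ((g • e8 k : leechLattice) : GolayPt → ℤ) = 64 := by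
    rw [Co0_sqNorm, coe_e8, sqNorm_single]; rfl
  have h4 := congrArg (fun z : leechLattice => (z : GolayPt → ℤ)) h2
  simp only [AddSubgroupClass.coe_sub, AddSubmonoidClass.coe_nsmul] at h4
  have : ∃ l, ((g • e8 k : leechLattice) : GolayPt → ℤ) = Pi.single l 8 ∨
      ((g • e8 k : leechLattice) : GolayPt → ℤ) = Pi.single l (-8) := by
    rcases h with h | h <;> rw [h] at h4
    · exact eq_single_of_cong h3 (Subtype.property _) j (Or.inl rfl) h4
    · rw [coe_neg_e8] at h4
      exact eq_single_of_cong h3 (Subtype.property _) j (Or.inr rfl) h4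
  obtain ⟨l, hl⟩ := this
  refine ⟨l, hl.imp (fun h => Subtype.ext h) (fun h => Subtype.ext ?_)⟩
  rw [coe_neg_e8]; exact h

theorem dotInt_e8 (i : GolayPt) (v : GolayPt → ℤ) : dotInt v (e8 i : GolayPt → ℤ) = 8 * v i := by
  rw [coe_e8, dotInt_single_right, mul_comm]

/-- An element of `Co0` mapping one `8 e_i` into the standard cross is monomial. -/
theorem mem_monoGroup_of_e8 {g : Co0} {i j : GolayPt} (h : g • e8 i = e8 j ∨ g • e8 i = -e8 j) :
    g ∈ monoGroup := by
  choose l hl using smul_e8_of_one h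
  have hinj : Function.Injective l := by
    intro a b hab
    apply e8_injective
    have h1 := hl a
    have h2 := hl b
    rw [hab] at h1
    rcases h1 with h1 | h1 <;> rcases h2 with h2 | h2
    · exact MulAction.injective g (h1.trans h2.symm)
    · exfalso; apply e8_ne_neg a b; apply MulAction.injective g
      simp only [Co0_neg, h1, h2, neg_neg]
    · exfalso; apply e8_ne_neg a b; apply MulAction.injective g
      simp only [Co0_neg, h1, h2]
    · exact MulAction.injective g (h1.trans h2.symm)
  let σ : Equiv.Perm GolayPt := Equiv.ofBijective l hinj.bijective_of_finite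
  let c : Finset GolayPt := univ.filter fun k => g • e8 (σ.symm k) = -e8 k
  have key : ∀ (v : leechLattice) (k : GolayPt), ((g • v : leechLattice) : GolayPt → ℤ) k =
      if k ∈ c then -(v : GolayPt → ℤ) (σ.symm k) else (v : GolayPt → ℤ) (σ.symm k) := by
    intro v k
    have h1 := Co0_dotInt g v (e8 (σ.symm k))
    have h2 := hl (σ.symm k)
    have h3 : l (σ.symm k) = k := σ.apply_symm_apply k
    rw [h3] at h2
    rw [dotInt_e8] at h1
    split_ifs with hk
    · rw [(mem_filter.1 hk).2, NegMemClass.coe_neg, dotInt_neg_right, dotInt_e8] at h1; omega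
    · have h4 : g • e8 (σ.symm k) = e8 k := h2.resolve_right fun h => hk (by simp [c, h])
      rw [h4, dotInt_e8] at h1; omega
  have hc : c ∈ CodeSets := by
    convert filter_mod_four_mem (g • (⟨_, oddVec_mem none⟩ : leechLattice)).2 3 using 1
    ext k
    clear_value c
    rw [mem_filter, key]
    by_cases hk : k ∈ c <;> simp only [hk, if_true, if_false, oddVec] <;> split_ifs <;> simp
  have hσ : σ ∈ M24 := by
    apply mem_M24_of_forall
    intro d hd
    convert filter_mod_four_mem (g • (⟨_, twoVec_mem hd⟩ : leechLattice)).2 2 using 1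
    ext k
    rw [mem_filter (s := univ) (a := k), key, mem_smul_iff']
    simp only [twoVec]
    split_ifs with h1 h2 h2 <;> simp [h2]
  exact ⟨⟨σ, hσ⟩, c, hc, Co0_ext fun v => funext fun k => key v k⟩

theorem smul_e8_of_mem_monoGroup {g : Co0} (hg : g ∈ monoGroup) (i : GolayPt) :
    ∃ j, g • e8 i = e8 j ∨ g • e8 i = -e8 j := by
  obtain ⟨σ, c, hc, rfl⟩ := hg
  refine ⟨(σ : Equiv.Perm GolayPt) i, ?_⟩
  rw [mono_e8]; split_ifs <;> simp

theorem mem_stdCross_iff {v : leechLattice} :
    (v : GolayPt → ℤ) ∈ stdCross ↔ ∃ j, v = e8 j ∨ v = -e8 j := by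
  constructor
  · rintro ⟨i, s, hs | hs, h⟩ <;> subst hs
    · exact ⟨i, Or.inl (Subtype.ext h)⟩
    · exact ⟨i, Or.inr (Subtype.ext (h.trans (coe_neg_e8 i).symm))⟩
  · rintro ⟨j, rfl | rfl⟩
    · exact ⟨j, 8, Or.inl rfl, rfl⟩
    · exact ⟨j, -8, Or.inr rfl, coe_neg_e8 j⟩

/-- The stabiliser of the standard cross is the monomial group. -/
theorem mem_monoGroup_iff_stdCross {g : Co0} : g ∈ monoGroup ↔
    ∀ v : leechLattice, (v : GolayPt → ℤ) ∈ stdCross →
      ((g • v : leechLattice) : GolayPt → ℤ) ∈ stdCross := by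
  constructor
  · intro hg v hv
    rw [mem_stdCross_iff] at hv ⊢
    obtain ⟨i, hi⟩ := hv
    obtain ⟨j, hj⟩ := smul_e8_of_mem_monoGroup hg i
    refine ⟨j, ?_⟩
    rcases hi with rfl | rfl <;> rcases hj with hj | hj <;> simp [Co0_neg, hj]
  · intro h
    obtain ⟨j, hj⟩ := mem_stdCross_iff.1 (h (e8 none) (mem_stdCross_iff.2 ⟨none, Or.inl rfl⟩))
    exact mem_monoGroup_of_e8 hj

end CL.Leech
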