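import Cfsg.Agent.Base

/-!
# Simplicity criteria based on a Sylow subgroup of prime order

* `CL.SimpleCrit.isSimpleGroup_of_selfCentralizing` (Chapman's argument, generalised).
* `CL.SimpleCrit.normal_cases`, `CL.SimpleCrit.isSimpleGroup_of_simple_subgroup`:
  a simple subgroup containing the normaliser of a Sylow subgroup of prime order.
-/

set_option autoImplicit false

namespace CL.SimpleCrit

open Subgroup

variable {G : Type*} [Group G]

/-- The Sylow subgroup generated by an element of prime order `p` when `p ^ 2` does not divide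
the group order. -/
theorem exists_sylow_eq_zpowers [Finite G] {p : ℕ} [hp : Fact p.Prime] (t : G)
    (ht : orderOf t = p) (hp2 : ¬ p ^ 2 ∣ Nat.card G) :
    ∃ P : Sylow p G, (P : Subgroup G) = zpowers t := by
  have hc : Nat.card (zpowers t) = p := by rw [Nat.card_zpowers, ht]
  have hpg : IsPGroup p (zpowers t) := IsPGroup.of_card (n := 1) (by rw [hc, pow_one])
  refine ⟨hpg.toSylow ?_, rfl⟩
  intro h
  apply hp2
  rw [← (zpowers t).card_mul_index, hc, pow_two]
  exact Nat.mul_dvd_mul_left p h

/-- A normal subgroup of order divisible by `p` contains the Sylow subgroup of order `p`. -/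
theorem mem_of_prime_dvd_card [Finite G] {p : ℕ} [hp : Fact p.Prime] (t : G)
    (ht : orderOf t = p) (hp2 : ¬ p ^ 2 ∣ Nat.card G) (N : Subgroup G) [hN : N.Normal]
    (h : p ∣ Nat.card N) : t ∈ N := by
  obtain ⟨P, hP⟩ := exists_sylow_eq_zpowers t ht hp2
  obtain ⟨x, hx⟩ := exists_prime_orderOf_dvd_card' p h
  have hx' : orderOf (x : G) = p := by rw [Subgroup.orderOf_coe, hx]
  obtain ⟨Q, hQ⟩ := exists_sylow_eq_zpowers (x : G) hx' hp2
  obtain ⟨g, hg⟩ := MulAction.exists_smul_eq G Q P
  have h1 : t ∈ ((g • Q : Sylow p G) : Subgroup G) := by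
    rw [hg, hP]; exact mem_zpowers t
  rw [Sylow.coe_subgroup_smul, hQ, Subgroup.mem_pointwise_smul_iff_inv_smul_mem] at h1
  have h2 : (MulAut.conj g)⁻¹ • t ∈ N := (zpowers_le.2 x.2) h1
  have h3 := hN.conj_mem _ h2 g
  simpa [mul_assoc] using h3

theorem mem_normalizer_zpowers_iff [Finite G] (t g : G) :
    g ∈ normalizer ((zpowers t : Subgroup G) : Set G) ↔ g * t * g⁻¹ ∈ zpowers t := by
  constructor
  · intro h
    exact (h t).1 (mem_zpowers t)
  · intro h
    apply mem_normalizer_fintype
    rintro n ⟨k, rfl⟩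
    have : g * t ^ k * g⁻¹ = (g * t * g⁻¹) ^ k := by simp
    simp only [this]
    exact zpow_mem h k

/-- An element of prime order `p` normalising a subgroup `Q` and centralising only the identity of
`Q` forces `|Q| ≡ 1 mod p`. -/
theorem card_modEq_one_of_fpf [Finite G] {p : ℕ} [hp : Fact p.Prime] (t : G) (ht : orderOf t = p)
    (Q : Subgroup G) (hn : t ∈ normalizer (Q : Set G))
    (hc : ∀ x ∈ Q, t * x = x * t → x = 1) : Nat.card Q ≡ 1 [MOD p] := by
  have hle : zpowers t ≤ normalizer (Q : Set G) := zpowers_le.2 hn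
  have hcard : Nat.card (zpowers t) = p := by rw [Nat.card_zpowers, ht]
  have hpg : IsPGroup p (zpowers t) := IsPGroup.of_card (n := 1) (by rw [hcard, pow_one])
  let : MulAction (zpowers t) Q :=
    MulAction.compHom Q (Q.normalizerMonoidHom.comp (Subgroup.inclusion hle))
  have h1 := hpg.card_modEq_card_fixedPoints Q
  have h2 : MulAction.fixedPoints (zpowers t) Q = {1} := by
    ext x
    simp only [MulAction.mem_fixedPoints, Set.mem_singleton_iff]
    constructor
    · intro h
      have h3 := h ⟨t, mem_zpowers t⟩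
      have h4 : t * (x : G) * t⁻¹ = x := congrArg Subtype.val h3
      apply Subtype.ext
      apply hc x x.2
      calc t * x = t * x * t⁻¹ * t := by simp
        _ = x * t := by rw [h4]
    · rintro rfl g
      apply Subtype.ext
      change (g : G) * 1 * (g : G)⁻¹ = 1
      simp
  rw [h2] at h1
  simpa using h1

/-- If `t` has prime order `p`, `N` is a normal subgroup of order prime to `p` in which only
the identity commutes with `t`, then every Sylow subgroup of `N` has order `≡ 1 mod p`. -/
theorem pow_factorization_modEq_one [Finite G] {p : ℕ} [hp : Fact p.Prime] (t : G)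
    (ht : orderOf t = p) (N : Subgroup G) [hN : N.Normal] (hpN : ¬ p ∣ Nat.card N)
    (hc : ∀ x ∈ N, t * x = x * t → x = 1) (q : ℕ) (hq : q.Prime) :
    q ^ (Nat.card N).factorization q ≡ 1 [MOD p] := by
  have := Fact.mk hq
  have hcard : Nat.card (zpowers t) = p := by rw [Nat.card_zpowers, ht]
  have hpg : IsPGroup p (zpowers t) := IsPGroup.of_card (n := 1) (by rw [hcard, pow_one])
  let : MulDistribMulAction (zpowers t) N :=
    MulDistribMulAction.compHom N
      ((MulAut.conjNormal : G →* MulAut N).comp (zpowers t).subtype)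
  have hnd : ¬ p ∣ Nat.card (Sylow q N) := by
    intro h
    apply hpN
    have P : Sylow q N := default
    exact h.trans (P.card_dvd_index.trans (Subgroup.index_dvd_card _))
  obtain ⟨Q, hQ⟩ := hpg.nonempty_fixed_point_of_prime_not_dvd_card (Sylow q N) hnd
  have hQt : (⟨t, mem_zpowers t⟩ : zpowers t) • Q = Q := hQ _
  have hnorm : t ∈ normalizer (((Q : Subgroup N).map N.subtype : Subgroup G) : Set G) := by
    apply mem_normalizer_fintype
    rintro n ⟨x, hx, rfl⟩
    have hx' : (⟨t, mem_zpowers t⟩ : zpowers t) • x ∈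
        (((⟨t, mem_zpowers t⟩ : zpowers t) • Q : Sylow q N) : Subgroup N) := by
      rw [Sylow.pointwise_smul_def]
      exact Subgroup.smul_mem_pointwise_smul _ _ _ hx
    rw [hQt] at hx'
    exact ⟨_, hx', rfl⟩
  have h1 := card_modEq_one_of_fpf t ht _ hnorm (by
    rintro x ⟨y, -, rfl⟩ h
    exact hc _ y.2 h)
  rwa [Subgroup.card_map_of_injective N.subtype_injective, Sylow.card_eq_multiplicity] at h1

/-- Let `S` be a simple subgroup containing the normaliser of the Sylow subgroup `⟨t⟩` of prime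
order `p`. A normal subgroup `N` is everything, or meets `S` trivially, has order dividing the
index of `S`, and all its Sylow subgroups have order `≡ 1 mod p`. -/
theorem normal_cases [Finite G] {p : ℕ} (hp : p.Prime) (S : Subgroup G) [IsSimpleGroup S]
    (t : G) (ht : orderOf t = p) (hp2 : ¬ p ^ 2 ∣ Nat.card G)
    (hS : ∀ g : G, g * t * g⁻¹ ∈ zpowers t → g ∈ S) (N : Subgroup G) [hN : N.Normal] :
    N = ⊤ ∨ (N ⊓ S = ⊥ ∧ Nat.card N ∣ S.index ∧
      ∀ q : ℕ, q.Prime → q ^ (Nat.card N).factorization q ≡ 1 [MOD p]) := by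
  have := Fact.mk hp
  have htS : t ∈ S := hS t (by simp)
  have ht1 : t ≠ 1 := by
    rintro rfl
    rw [orderOf_one] at ht
    exact hp.one_lt.ne ht
  obtain ⟨P, hP⟩ := exists_sylow_eq_zpowers t ht hp2
  rcases (hN.subgroupOf S).eq_bot_or_eq_top with h | h
  · right
    have hNS : N ⊓ S = ⊥ := by
      rw [subgroupOf_eq_bot] at h
      exact disjoint_iff.1 h
    have hpN : ¬ p ∣ Nat.card N := by
      intro hd
      have h1 := mem_of_prime_dvd_card t ht hp2 N hd
      have h2 : t ∈ N ⊓ S := ⟨h1, htS⟩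
      rw [hNS, mem_bot] at h2
      exact ht1 h2
    refine ⟨hNS, ?_, pow_factorization_modEq_one t ht N hpN ?_⟩
    · have h1 : Nat.card (N ⊔ S : Subgroup G) = Nat.card N * Nat.card S := by
        have h2 := relIndex_sup_right S N
        have h3 : N.relIndex S = Nat.card S := by
          rw [← inf_relIndex_right, hNS, relIndex_bot_left]
        have h4 := (N.subgroupOf (S ⊔ N)).card_mul_index
        rw [sup_comm, ← h4, ← relIndex, h2, h3]
        congr 1
        exact Nat.card_congr (subgroupOfEquivOfLe le_sup_right).toEquiv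
      have h5 : Nat.card (N ⊔ S : Subgroup G) ∣ Nat.card G := card_subgroup_dvd_card _
      rw [h1, ← S.card_mul_index, mul_comm (Nat.card S)] at h5
      exact Nat.dvd_of_mul_dvd_mul_right Nat.card_pos h5
    · intro x hx hxt
      have h1 : x ∈ S := hS x (by rw [← hxt]; simp)
      have h2 : x ∈ N ⊓ S := ⟨hx, h1⟩
      rwa [hNS, mem_bot] at h2
  · left
    rw [subgroupOf_eq_top] at h
    have h1 : (P : Subgroup G) ≤ N := by
      rw [hP]; exact (zpowers_le.2 htS).trans h
    have h2 := Sylow.normalizer_sup_eq_top' P h1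
    rw [eq_top_iff, ← h2, sup_le_iff]
    refine ⟨fun g hg => h (hS g ?_), le_rfl⟩
    rw [← P.coe_coe, hP] at hg
    exact (mem_normalizer_zpowers_iff t g).1 hg

/-- Criterion B. -/
theorem isSimpleGroup_of_simple_subgroup [Finite G] {p : ℕ} (hp : p.Prime) (S : Subgroup G)
    [IsSimpleGroup S] (t : G) (ht : orderOf t = p) (hp2 : ¬ p ^ 2 ∣ Nat.card G)
    (hS : ∀ g : G, g * t * g⁻¹ ∈ zpowers t → g ∈ S)
    (hidx : ∀ q a : ℕ, q.Prime → 0 < a → q ^ a ∣ S.index → q ^ a % p ≠ 1) :
    IsSimpleGroup G := by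
  have : Nontrivial G := S.subtype_injective.nontrivial
  refine ⟨fun N hN => ?_⟩
  rcases normal_cases hp S t ht hp2 hS N with h | ⟨-, h1, h2⟩
  · exact Or.inr h
  · left
    rw [← card_eq_one]
    by_contra hne
    obtain ⟨q, hq, hqd⟩ := Nat.exists_prime_and_dvd hne
    have hpos : 0 < (Nat.card N).factorization q := hq.factorization_pos_of_dvd Nat.card_pos.ne' hqd
    apply hidx q _ hq hpos ((Nat.ordProj_dvd _ _).trans h1)
    have := h2 q hq
    rwa [Nat.ModEq, Nat.mod_eq_of_lt hp.one_lt] at this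

/-- A decidable form of the arithmetic hypothesis of criterion B. -/
theorem primePow_check {n p : ℕ} (B K : ℕ) (hn : n ∣ B.factorial ^ K) (hn0 : 0 < n)
    (hK : n < 2 ^ K)
    (h : ∀ q ∈ List.range (B + 1), ∀ a ∈ List.range K,
      2 ≤ q → (∀ m ∈ List.range q, m ∣ q → m = 1) → 0 < a → q ^ a ∣ n → q ^ a % p ≠ 1) :
    ∀ q a : ℕ, q.Prime → 0 < a → q ^ a ∣ n → q ^ a % p ≠ 1 := by
  intro q a hq ha hd
  have h1 : q ∣ n := (dvd_pow_self q ha.ne').trans hd
  have h2 : q ≤ B := hq.dvd_factorial.1 (hq.dvd_of_dvd_pow (h1.trans hn))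
  have h3 : a < K := by
    have h4 : 2 ^ a ≤ q ^ a := Nat.pow_le_pow_left hq.two_le a
    have h5 : q ^ a ≤ n := Nat.le_of_dvd hn0 hd
    exact (Nat.pow_lt_pow_iff_right (by norm_num : 1 < 2)).1 (by omega)
  refine h q (List.mem_range.2 (by omega)) a (List.mem_range.2 h3) hq.two_le ?_ ha hd
  intro m hm hmq
  exact (Nat.prime_def_lt.1 hq).2 m (List.mem_range.1 hm) hmq

/-- Criterion C (Chapman's argument): `|G| = p r m` with `p`, `r` primes, `r < p`,
`1 < m ≡ 1 mod p`, a self-centralising element of order `p`, and every nontrivial normal subgroup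
of order divisible by `p`. -/
theorem isSimpleGroup_of_selfCentralizing [Finite G] {p r m : ℕ} (hp : p.Prime) (hr : r.Prime)
    (hrp : r < p) (hm : m % p = 1) (hm1 : 1 < m) (hG : Nat.card G = p * r * m)
    (t : G) (ht : orderOf t = p) (hC : ∀ g : G, g * t = t * g → g ∈ zpowers t)
    (hN : ∀ N : Subgroup G, N.Normal → N ≠ ⊥ → p ∣ Nat.card N) : IsSimpleGroup G := by
  have := Fact.mk hp
  have hpr : ¬ p ∣ r := Nat.not_dvd_of_pos_of_lt hr.pos hrp
  have hpm : ¬ p ∣ m := by
    intro h
    rw [Nat.mod_eq_zero_of_dvd h] at hm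
    exact zero_ne_one hm
  have hp2 : ¬ p ^ 2 ∣ Nat.card G := by
    rw [hG, pow_two, mul_assoc]
    intro h
    rcases (Nat.Prime.dvd_mul hp).1 (Nat.dvd_of_mul_dvd_mul_left hp.pos h) with h | h
    exacts [hpr h, hpm h]
  obtain ⟨P, hP⟩ := exists_sylow_eq_zpowers t ht hp2
  have hcP : Nat.card (P : Subgroup G) = p := by rw [hP, Nat.card_zpowers, ht]
  have hcen : centralizer ((P : Subgroup G) : Set G) = P := by
    apply le_antisymm
    · intro g hg
      rw [hP] at hg ⊢
      exact hC g (hg t (mem_zpowers t)).symm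
    · rw [hP]
      rintro _ ⟨k, rfl⟩ _ ⟨l, rfl⟩
      exact zpow_mul_comm t l k
  -- order of the normaliser
  set NP := normalizer ((P : Subgroup G) : Set G) with hNP
  have hs : (P : Subgroup G).relIndex NP ∣ p - 1 := by
    have key := card_dvd_of_injective _
      (QuotientGroup.kerLift_injective (P : Subgroup G).normalizerMonoidHom)
    rw [normalizerMonoidHom_ker, ← index, ← relIndex, hcen] at key
    have : IsCyclic (P : Subgroup G) := isCyclic_of_prime_card hcP
    rwa [IsCyclic.card_mulAut, hcP, Nat.totient_prime hp] at key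
  have hidx : (P : Subgroup G).relIndex NP * NP.index = r * m := by
    rw [relIndex_mul_index le_normalizer]
    have := (P : Subgroup G).card_mul_index
    rw [hcP, hG, mul_assoc] at this
    exact Nat.eq_of_mul_eq_mul_left hp.pos this
  have hnp : NP.index ≡ 1 [MOD p] := by
    have h1 := card_sylow_modEq_one p G
    rwa [P.card_eq_index_normalizer] at h1
  have hsr : (P : Subgroup G).relIndex NP = r := by
    have h1 : (P : Subgroup G).relIndex NP * NP.index ≡ (P : Subgroup G).relIndex NP * 1 [MOD p] :=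
      hnp.mul_left _
    have h2 : r * m ≡ r * 1 [MOD p] := by
      apply Nat.ModEq.mul_left
      rw [Nat.ModEq, hm, Nat.mod_eq_of_lt hp.one_lt]
    rw [hidx, mul_one] at h1
    rw [mul_one] at h2
    have h3 := h1.symm.trans h2
    have h4 : (P : Subgroup G).relIndex NP < p :=
      lt_of_le_of_lt (Nat.le_of_dvd (by have := hp.one_lt; omega) hs) (by have := hp.pos; omega)
    rwa [Nat.ModEq, Nat.mod_eq_of_lt h4, Nat.mod_eq_of_lt hrp] at h3
  have hNPidx : NP.index = m := by
    rw [hsr] at hidx
    exact Nat.eq_of_mul_eq_mul_left hr.pos hidx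
  have : Nontrivial G := by
    rw [← Finite.one_lt_card_iff_nontrivial, hG]
    have h1 := hp.one_lt
    have h2 := hr.one_lt
    calc 1 < p := h1
      _ = p * 1 * 1 := by ring
      _ ≤ p * r * m := by gcongr
  refine ⟨fun N hNn => ?_⟩
  by_contra hcon
  push Not at hcon
  obtain ⟨hbot, htop⟩ := hcon
  have htN : t ∈ N := mem_of_prime_dvd_card t ht hp2 N (hN N hNn hbot)
  have hPN : (P : Subgroup G) ≤ N := by rw [hP]; exact zpowers_le.2 htN
  have hfr := Sylow.normalizer_sup_eq_top' P hPN
  -- `N ⊓ NP = P`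
  have hinf : N ⊓ NP = P := by
    have h1 : (P : Subgroup G) ≤ N ⊓ NP := le_inf hPN le_normalizer
    have h2 := relIndex_mul_relIndex (P : Subgroup G) (N ⊓ NP) NP h1 inf_le_right
    rw [hsr] at h2
    rcases (Nat.dvd_prime hr).1 (Dvd.intro _ h2) with h3 | h3
    · exact le_antisymm (relIndex_eq_one.1 h3) h1
    · exfalso
      rw [h3] at h2
      have h4 : (N ⊓ NP).relIndex NP = 1 := by
        have := Nat.eq_of_mul_eq_mul_left hr.pos (h2.trans (mul_one r).symm)
        exact this
      have h5 : NP ≤ N := (relIndex_eq_one.1 h4).trans inf_le_left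
      apply htop
      rw [eq_top_iff, ← hfr]
      exact sup_le h5 le_rfl
  -- Burnside in `N`
  have hB : normalizer ((P.subtype hPN : Sylow p N) : Set N) ≤
      centralizer ((P.subtype hPN : Sylow p N) : Set N) := by
    intro x hx y hy
    have hxN : (x : G) ∈ NP := by
      rw [hNP, hP, mem_normalizer_zpowers_iff, ← hP]
      have := (hx ⟨t, htN⟩).1 (by
        change t ∈ (P : Subgroup G)
        rw [hP]; exact mem_zpowers t)
      exact this
    have hxP : (x : G) ∈ (P : Subgroup G) := by rw [← hinf]; exact ⟨x.2, hxN⟩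
    have hyP : (y : G) ∈ (P : Subgroup G) := hy
    rw [← hcen] at hxP
    exact Subtype.ext (hxP y hyP)
  set f := MonoidHom.transferSylow (P.subtype hPN) hB with hf
  have hK : ¬ p ∣ Nat.card f.ker := MonoidHom.not_dvd_card_ker_transferSylow _ hB
  have hcomp := MonoidHom.ker_transferSylow_isComplement' (P.subtype hPN) hB
  have hcP' : Nat.card (P.subtype hPN : Subgroup N) = p := by
    rw [Sylow.coe_subtype]
    exact (Nat.card_congr (subgroupOfEquivOfLe hPN).toEquiv).trans hcP
  have hKn : (f.ker.map N.subtype).Normal := by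
    refine ⟨?_⟩
    rintro _ ⟨x, hx, rfl⟩ g
    refine ⟨⟨g * x * g⁻¹, hNn.conj_mem _ x.2 g⟩, ?_, rfl⟩
    have h1 : x ^ Nat.card f.ker = 1 := by
      have := pow_card_eq_one' (G := f.ker) (x := ⟨x, hx⟩)
      exact congrArg Subtype.val this
    have h2 : (⟨g * x * g⁻¹, hNn.conj_mem _ x.2 g⟩ : N) ^ Nat.card f.ker = 1 := by
      apply Subtype.ext
      have h3 : (x : G) ^ Nat.card f.ker = 1 := congrArg Subtype.val h1
      change (g * x * g⁻¹) ^ Nat.card f.ker = 1
      rw [conj_pow, h3]; simp
    set y : N := ⟨g * x * g⁻¹, hNn.conj_mem _ x.2 g⟩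
    have h4 : f y ^ Nat.card f.ker = 1 := by rw [← map_pow, h2, map_one]
    have h5 : f y ^ p = 1 := by
      have := pow_card_eq_one' (x := f y)
      rwa [hcP'] at this
    have h6 : orderOf (f y) ∣ Nat.gcd p (Nat.card f.ker) :=
      Nat.dvd_gcd (orderOf_dvd_of_pow_eq_one h5) (orderOf_dvd_of_pow_eq_one h4)
    rw [(Nat.Prime.coprime_iff_not_dvd hp).2 hK, Nat.dvd_one, orderOf_eq_one_iff] at h6
    exact h6
  by_cases hKb : f.ker.map N.subtype = ⊥
  · -- then `N = P` is normal
    have h1 : f.ker = ⊥ := by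
      rwa [map_eq_bot_iff_of_injective _ N.subtype_injective] at hKb
    have h2 : Nat.card N = p := by
      rw [← hcomp.card_mul_card, ← hf, h1, hcP']; simp
    have h3 : (P : Subgroup G) = N := by
      apply Subgroup.eq_of_le_of_card_ge hPN
      rw [h2, hcP]
    have h4 : NP = ⊤ := by
      rw [hNP, h3, normalizer_eq_top_iff]; exact hNn
    rw [h4, index_top] at hNPidx
    omega
  · apply hK
    have := hN _ hKn hKb
    rwa [Subgroup.card_map_of_injective N.subtype_injective] at this

/-- In a faithful quasi-primitive action on a set of size divisible by `p`, nontrivial normal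
subgroups have order divisible by `p`. -/
theorem dvd_card_of_preprimitive [Finite G] (α : Type*) [MulAction G α] [FaithfulSMul G α]
    [MulAction.IsQuasiPreprimitive G α] [Nonempty α] (N : Subgroup G) [N.Normal] (hN : N ≠ ⊥) :
    Nat.card α ∣ Nat.card N := by
  have h1 : MulAction.fixedPoints N α ≠ .univ := by
    intro h
    apply hN
    rw [eq_bot_iff]
    intro n hn
    rw [mem_bot]
    apply FaithfulSMul.eq_of_smul_eq_smul (α := α)
    intro a
    have ha : a ∈ MulAction.fixedPoints N α := by rw [h]; trivial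
    rw [one_smul]
    exact ha ⟨n, hn⟩
  have := MulAction.IsQuasiPreprimitive.isPretransitive_of_normal (X := α) h1
  obtain ⟨a⟩ := ‹Nonempty α›
  rw [← MulAction.index_stabilizer_of_transitive N a]
  exact index_dvd_card _

/-- An element commuting with `t` lies in `⟨t⟩` as soon as it agrees with a power of `t` at one
point `a` and only the identity fixes the whole `⟨t⟩`-orbit of `a`. -/
theorem mem_zpowers_of_commute {α : Type*} [MulAction G α] (t g : G) (a : α)
    (hg : g * t = t * g) (k : ℤ) (hk : g • a = t ^ k • a)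
    (hfix : ∀ x : G, x * t = t * x → (∀ n : ℕ, x • (t ^ n • a) = t ^ n • a) → x = 1) :
    g ∈ zpowers t := by
  have hc : Commute g t := hg
  have h1 : (t ^ k)⁻¹ * g = 1 := by
    have hc' : Commute ((t ^ k)⁻¹ * g) t :=
      Commute.mul_left ((Commute.refl t).zpow_left k).inv_left hc
    apply hfix _ hc'
    intro n
    rw [← mul_smul, (hc'.pow_right n).eq, mul_smul, mul_smul, hk, inv_smul_smul]
  rw [inv_mul_eq_one] at h1
  exact ⟨k, h1⟩

/-- An element normalising `⟨t⟩` fixes the point `a` if `a` is the only fixed point of `t` in its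
orbit. -/
theorem smul_eq_of_conj_mem_zpowers {α : Type*} [MulAction G α] (t g : G) (a : α)
    (ha : t • a = a) (huniq : t • (g⁻¹ • a) = g⁻¹ • a → g⁻¹ • a = a)
    (h : g * t * g⁻¹ ∈ zpowers t) : g • a = a := by
  have h1 : (g * t * g⁻¹) • a = a :=
    (zpowers_le.2 (show t ∈ MulAction.stabilizer G a from ha)) h
  have h2 : g⁻¹ • a = a := by
    apply huniq
    rw [mul_smul, mul_smul] at h1
    exact (inv_smul_eq_iff.2 h1.symm).symm
  rw [inv_smul_eq_iff] at h2
  exact h2.symm

/-- Criterion B for a point stabiliser: the stabiliser of `a` is simple and contains an element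
`t` generating a Sylow subgroup of prime order whose only fixed point in the orbit of `a` is `a`. -/
theorem isSimpleGroup_of_stabilizer [Finite G] {α : Type*} [MulAction G α] {p : ℕ} (hp : p.Prime)
    (a : α) [IsSimpleGroup (MulAction.stabilizer G a)] (t : G) (ht : orderOf t = p)
    (hp2 : ¬ p ^ 2 ∣ Nat.card G) (ha : t • a = a)
    (huniq : ∀ g : G, t • (g • a) = g • a → g • a = a)
    (hidx : ∀ q k : ℕ, q.Prime → 0 < k → q ^ k ∣ (MulAction.stabilizer G a).index →
      q ^ k % p ≠ 1) : IsSimpleGroup G :=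
  isSimpleGroup_of_simple_subgroup hp (MulAction.stabilizer G a) t ht hp2
    (fun g hg => smul_eq_of_conj_mem_zpowers t g a ha (huniq g⁻¹) hg) hidx

/-- A nontrivial normal subgroup of a group acting faithfully and doubly transitively on an
invariant finite set `Ω` has order divisible by `|Ω|`. -/
theorem card_dvd_of_two_transitive {α : Type*} [MulAction G α] (Ω : Finset α)
    (hinv : ∀ g : G, ∀ x ∈ Ω, g • x ∈ Ω) (hfaith : ∀ g : G, (∀ x ∈ Ω, g • x = x) → g = 1)
    (h2 : ∀ x ∈ Ω, ∀ y ∈ Ω, ∀ z ∈ Ω, y ≠ x → z ≠ x → ∃ g : G, g • x = x ∧ g • y = z)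
    (N : Subgroup G) [hN : N.Normal] (hN0 : N ≠ ⊥) : Ω.card ∣ Nat.card N := by
  obtain ⟨⟨n, hn⟩, hn1⟩ := ne_bot_iff_exists_ne_one.1 hN0
  have hn1' : n ≠ 1 := fun h => hn1 (Subtype.ext h)
  have : ∃ x ∈ Ω, n • x ≠ x := by
    by_contra hc
    push Not at hc
    exact hn1' (hfaith n hc)
  obtain ⟨x, hx, hnx⟩ := this
  have h1 : MulAction.orbit N x = (Ω : Set α) := by
    ext z
    constructor
    · rintro ⟨g, rfl⟩; exact hinv g x hx
    · intro hz
      by_cases hzx : z = x
      · subst hzx; exact MulAction.mem_orbit_self z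
      · obtain ⟨g, hgx, hgy⟩ := h2 x hx (n • x) (hinv n x hx) z hz hnx hzx
        refine ⟨⟨g * n * g⁻¹, hN.conj_mem n hn g⟩, ?_⟩
        change (g * n * g⁻¹) • x = z
        rw [mul_smul, mul_smul, inv_smul_eq_iff.2 hgx.symm, hgy]
  rw [← Set.ncard_coe_finset, ← h1, ← MulAction.index_stabilizer]
  exact index_dvd_card _

end CL.SimpleCrit
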