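import Cfsg.Agent.Spor.M24Chain
import Cfsg.Agent.Spor.SimpleCrit

/-!
# Simplicity of `M22`, `M23`, `M24`
-/

set_option autoImplicit false

namespace CL.M24

open Cfsg CL.Golay CL.Chain CL.SimpleCrit
open scoped Pointwise

theorem orderOf_eq_prime_of_rep {σ : Equiv.Perm GolayPt} {g p : ℕ} (hp : p.Prime) (h : Rep σ g)
    (h1 : eqP (powP g p) idP = true) (h2 : eqP g idP = false) : orderOf σ = p := by
  have := Fact.mk hp
  refine orderOf_eq_prime (((h.pow p).eq_iff_eqP rep_one).2 h1) fun h3 => ?_
  rw [(h.eq_iff_eqP rep_one).1 h3] at h2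
  exact absurd h2 (by simp)

theorem orderOf_shift : orderOf shift = 23 :=
  orderOf_eq_prime_of_rep (by norm_num) rep_shift (by decide +kernel) (by decide +kernel)

theorem shift_fixed {x : GolayPt} (h : shift x = x) : x = none := by
  revert x; decide +kernel

theorem shift_pow_zero (x : ZMod 23) : (shift ^ x.val) (some 0) = some x := by
  rw [(rep_shift.pow _).apply]
  revert x; decide +kernel

/-- A nontrivial normal subgroup of the pointwise stabiliser of at most three points is transitive
on the remaining points. -/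
theorem card_dvd_of_normal_fix (l : List GolayPt) (hl : l.Nodup) (h3 : l.length ≤ 3) (n : ℕ)
    (hn : (Finset.univ.filter fun x : GolayPt => x ∉ l).card = n)
    (N : Subgroup (fix M24 l)) [N.Normal] (hN : N ≠ ⊥) : n ∣ Nat.card N := by
  rw [← hn]
  refine card_dvd_of_two_transitive _ (fun g x hx => ?_) (fun g hg => ?_) ?_ N hN
  · exact Finset.mem_filter.2 ⟨Finset.mem_univ _, not_mem_of_fix g.2 (by simpa using hx)⟩
  · refine Subtype.ext (Equiv.ext fun x => ?_)
    by_cases hx : x ∈ l
    · exact g.2.2 x hx
    · exact hg x (by simpa using hx)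
  · intro x hx y hy z hz hyx hzx
    simp only [Finset.mem_filter, Finset.mem_univ, true_and] at hx hy hz
    obtain ⟨g, hg, h⟩ := exists_map_eq (y :: x :: l) (z :: x :: l) (by simp [*]) (by simp [*]) rfl
      (by simp only [List.length_cons]; omega)
    simp only [List.map_cons, List.cons.injEq] at h
    refine ⟨⟨g, hg, fun a ha => ?_⟩, h.2.1, h.1⟩
    have h4 : (l.map fun a => g • a) = l.map id := by rw [h.2.2, List.map_id]
    exact List.map_inj_left.1 h4 a ha

theorem shift_mem_fix : shift ∈ fix M24 B1 := ⟨shift_mem_M24, by decide⟩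

/-- An element of `M24` fixing `∞` and commuting with the translation is a translation. -/
theorem mem_zpowers_shift {g : Equiv.Perm GolayPt} (hg : g none = none)
    (hc : g * shift = shift * g) : g ∈ Subgroup.zpowers shift := by
  have h0 : g (some 0) ≠ none := by
    intro h
    rw [← hg] at h
    exact absurd (g.injective h) (by simp)
  obtain ⟨k, hk⟩ := Option.ne_none_iff_exists'.1 h0
  refine mem_zpowers_of_commute shift g (some 0 : GolayPt) hc (k.val : ℤ) (by
    rw [zpow_natCast]; exact hk.trans (shift_pow_zero k).symm) ?_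
  intro x hx h
  have h1 : ∀ y : ZMod 23, x (some y) = some y := by
    intro y
    have := h y.val
    change x ((shift ^ y.val) (some 0)) = (shift ^ y.val) (some 0) at this
    rwa [shift_pow_zero] at this
  refine Equiv.ext fun y => ?_
  cases y with
  | some y => exact h1 y
  | none =>
    cases h2 : x none with
    | none => rfl
    | some z => exact absurd (x.injective (h2.trans (h1 z).symm)) (by simp)

theorem isSimpleGroup_fix_B1 : IsSimpleGroup (fix M24 B1) := by
  refine isSimpleGroup_of_selfCentralizing (p := 23) (r := 11) (m := 40320) (by norm_num)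
    (by norm_num) (by norm_num) (by norm_num) (by norm_num) (by rw [card_fix_B1])
    ⟨shift, shift_mem_fix⟩ (by rw [← Subgroup.orderOf_coe]; exact orderOf_shift) ?_ ?_
  · intro g hg
    obtain ⟨k, hk⟩ := mem_zpowers_shift (g.2.2 none (by decide)) (congrArg Subtype.val hg)
    exact ⟨k, Subtype.ext (by simpa using hk)⟩
  · intro N hN hN0
    exact card_dvd_of_normal_fix B1 (by decide) (by decide) 23 (by decide +kernel) N hN0

/-- The multiplication `x ↦ 2 x`, packed. -/
def dblP : ℕ := 983435072843990828779021698901151808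

theorem in_dblP : In (fix M24 B2) dblP :=
  (In.of_isM24 (by decide +kernel)).fix (by decide +kernel)

/-- The multiplication `x ↦ 2 x`. -/
noncomputable def dbl : Equiv.Perm GolayPt := toPerm dblP

theorem rep_dbl : Rep dbl dblP := in_dblP.1

theorem dbl_mem_fix : dbl ∈ fix M24 B2 := in_dblP.2

theorem orderOf_dbl : orderOf dbl = 11 :=
  orderOf_eq_prime_of_rep (by norm_num) rep_dbl (by decide +kernel) (by decide +kernel)

theorem exists_dbl_pow {x : GolayPt} (hx : x ∈ ofMask 340830) :
    ∃ n : ℕ, (dbl ^ n) (some 1) = x := by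
  have : ∀ x ∈ ofMask 340830, ∃ n < 11, pt (app (powP dblP n) (idx (some 1))) = x := by
    simp only [mem_ofMask]
    decide +kernel
  obtain ⟨n, -, hn⟩ := this x hx
  exact ⟨n, by rw [(rep_dbl.pow n).apply, hn]⟩

theorem dbl_smul_squares : dbl • ofMask 340831 = ofMask 340831 :=
  (rep_dbl.smul_eq_iff (by norm_num)).2 (by decide +kernel)

/-- An element of `M24` fixing the dodecad of squares pointwise and `∞` is trivial. -/
theorem eq_one_of_fix_squares {g : Equiv.Perm GolayPt} (hg : g ∈ M24)
    (h : ∀ x, Nat.testBit 8729439 (idx x) = true → g x = x) : g = 1 :=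
  eq_one_of_propagate hg 8729439 [(5, 10558, 21116), (7, 5279, 72588), (10, 5279, 5279),
    (11, 10558, 10558), (14, 21116, 21116), (15, 39257, 39257), (17, 140167, 140167),
    (19, 525274, 525274), (20, 1053483, 1053483), (21, 2106966, 2106966), (22, 4196943, 4196943)]
    (by decide +kernel) h

/-- The element `x ↦ 2 x` of order 11 is self-centralising in `M22`. -/
theorem mem_zpowers_dbl {g : Equiv.Perm GolayPt} (hg : g ∈ fix M24 B2)
    (hc : g * dbl = dbl * g) : g ∈ Subgroup.zpowers dbl := by
  have hcm : Commute g dbl := hc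
  have h0 : g (some 0) = some 0 := hg.2 _ (by decide)
  have hD : ofMask 340831 ∈ CSet := ofMask_mem_CSet_iff.2 (by decide +kernel)
  have h1 : g (some 1) ∈ ofMask 340831 := by
    by_contra hn
    have h2 := even_card_inter hD (smul_mem_CSet hg.1 hD)
    have h3 : ofMask 340831 ∩ g • ofMask 340831 = {some 0} := by
      ext y
      rw [Finset.mem_inter, Finset.mem_singleton]
      constructor
      · rintro ⟨hy, hy'⟩
        obtain ⟨x, hx, rfl⟩ := Finset.mem_smul_finset.1 hy'
        by_cases hx0 : x = some 0
        · rw [hx0]; exact h0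
        · exfalso
          obtain ⟨n, rfl⟩ := exists_dbl_pow (x := x) (by
            revert hx hx0; simp only [mem_ofMask]; generalize x = y; revert y; decide +kernel)
          apply hn
          change (g * dbl ^ n) (some 1) ∈ _ at hy
          rw [(hcm.pow_right n).eq] at hy
          have h4 : (dbl ^ n) • ofMask 340831 = ofMask 340831 :=
            (MulAction.stabilizer _ (ofMask 340831)).pow_mem dbl_smul_squares n
          rw [← h4] at hy
          exact Finset.smul_mem_smul_finset_iff (dbl ^ n) |>.1 hy
      · rintro rfl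
        have h5 : (some 0 : GolayPt) ∈ ofMask 340831 := by rw [mem_ofMask]; decide +kernel
        refine ⟨h5, ?_⟩
        rw [← h0]
        exact Finset.smul_mem_smul_finset h5
    rw [h3, Finset.card_singleton] at h2
    exact absurd h2 (by decide)
  have h6 : g (some 1) ≠ some 0 := by
    intro h
    rw [← h0] at h
    exact absurd (g.injective h) (by decide)
  obtain ⟨n, hn⟩ := exists_dbl_pow (x := g (some 1)) (by
    revert h1 h6; simp only [mem_ofMask]; generalize g (some 1) = y; revert y; decide +kernel)
  have h7 : (⟨g, hg⟩ : fix M24 B2) ∈ Subgroup.zpowers (⟨dbl, dbl_mem_fix⟩ : fix M24 B2) := by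
    refine mem_zpowers_of_commute _ _ (some 1 : GolayPt) (Subtype.ext hc) (n : ℤ) (by
      rw [zpow_natCast]; exact hn.symm) ?_
    intro x _ h
    refine Subtype.ext (eq_one_of_fix_squares x.2.1 fun y hy => ?_)
    by_cases hy' : y ∈ B2
    · exact x.2.2 y hy'
    · obtain ⟨m, rfl⟩ := exists_dbl_pow (x := y) (by
        revert hy hy'; simp only [mem_ofMask]; generalize y = z; revert z; decide +kernel)
      exact h m
  obtain ⟨k, hk⟩ := h7
  exact ⟨k, by simpa using congrArg Subtype.val hk⟩

theorem isSimpleGroup_fix_B2 : IsSimpleGroup (fix M24 B2) := by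
  refine isSimpleGroup_of_selfCentralizing (p := 11) (r := 5) (m := 8064) (by norm_num)
    (by norm_num) (by norm_num) (by norm_num) (by norm_num) (by rw [card_fix_B2])
    ⟨dbl, dbl_mem_fix⟩ (by rw [← Subgroup.orderOf_coe]; exact orderOf_dbl) ?_ ?_
  · intro g hg
    obtain ⟨k, hk⟩ := mem_zpowers_dbl g.2 (congrArg Subtype.val hg)
    exact ⟨k, Subtype.ext (by simpa using hk)⟩
  · intro N hN hN0
    exact Dvd.dvd.trans (by norm_num)
      (card_dvd_of_normal_fix B2 (by decide) (by decide) 22 (by decide +kernel) N hN0)

/-- The point stabiliser inside `↥M24` against the ambient form. -/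
def stabEquivFix (p : GolayPt) : MulAction.stabilizer M24 p ≃* fix M24 [p] :=
  equivOfMemIff _ _ (fix_le _ _) fun g => by
    simp only [MulAction.mem_stabilizer_iff, mem_fix, g.2, true_and, List.mem_singleton,
      forall_eq]; rfl

/-- The two-point stabiliser inside `↥M24` against the ambient form. -/
def stabEquivFix₂ (p q : GolayPt) :
    ↥(MulAction.stabilizer M24 p ⊓ MulAction.stabilizer M24 q) ≃* fix M24 [p, q] :=
  equivOfMemIff _ _ (fix_le _ _) fun g => by
    simp only [Subgroup.mem_inf, MulAction.mem_stabilizer_iff, mem_fix, g.2, true_and,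
      List.mem_cons, List.not_mem_nil, or_false, forall_eq_or_imp, forall_eq]; rfl

/-- The three-point stabiliser inside `↥M24` against the ambient form. -/
def stabEquivFix₃ (p q r : GolayPt) :
    ↥(MulAction.stabilizer M24 p ⊓ MulAction.stabilizer M24 q ⊓ MulAction.stabilizer M24 r) ≃*
      fix M24 [p, q, r] :=
  equivOfMemIff _ _ (fix_le _ _) fun g => by
    simp only [Subgroup.mem_inf, MulAction.mem_stabilizer_iff, mem_fix, g.2, true_and,
      List.mem_cons, List.not_mem_nil, or_false, forall_eq_or_imp, forall_eq, and_assoc]; rfl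

theorem card_fix_one (p : GolayPt) : Nat.card (fix M24 [p]) = 10200960 := by
  obtain ⟨e⟩ := nonempty_fix_equiv [p] B1 (by simp) (by decide) rfl (by simp)
  rw [Nat.card_congr e.toEquiv, card_fix_B1]

theorem isSimpleGroup_fix_one (p : GolayPt) : IsSimpleGroup (fix M24 [p]) := by
  obtain ⟨e⟩ := nonempty_fix_equiv [p] B1 (by simp) (by decide) rfl (by simp)
  have := isSimpleGroup_fix_B1
  exact e.isSimpleGroup

theorem card_fix_two {p q : GolayPt} (h : p ≠ q) : Nat.card (fix M24 [p, q]) = 443520 := by
  obtain ⟨e⟩ := nonempty_fix_equiv [p, q] B2 (by simp [h]) (by decide) rfl (by simp)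
  rw [Nat.card_congr e.toEquiv, card_fix_B2]

theorem isSimpleGroup_fix_two {p q : GolayPt} (h : p ≠ q) : IsSimpleGroup (fix M24 [p, q]) := by
  obtain ⟨e⟩ := nonempty_fix_equiv [p, q] B2 (by simp [h]) (by decide) rfl (by simp)
  have := isSimpleGroup_fix_B2
  exact e.isSimpleGroup

theorem card_fix_three {p q r : GolayPt} (hpq : p ≠ q) (hpr : p ≠ r) (hqr : q ≠ r) :
    Nat.card (fix M24 [p, q, r]) = 20160 := by
  obtain ⟨e⟩ := nonempty_fix_equiv [p, q, r] B3 (by simp [*]) (by decide) rfl (by simp)
  rw [Nat.card_congr e.toEquiv, card_fix_B3]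

theorem card_stabilizer (p : GolayPt) : Nat.card (MulAction.stabilizer M24 p) = 10200960 := by
  rw [Nat.card_congr (stabEquivFix p).toEquiv, card_fix_one]

theorem isSimpleGroup_stabilizer (p : GolayPt) : IsSimpleGroup (MulAction.stabilizer M24 p) := by
  have := isSimpleGroup_fix_one p
  exact (stabEquivFix p).isSimpleGroup

theorem isSimpleGroup_M24 : IsSimpleGroup M24 := by
  have := isSimpleGroup_stabilizer none
  refine isSimpleGroup_of_stabilizer (p := 23) (by norm_num) (none : GolayPt)
    ⟨shift, shift_mem_M24⟩ (by rw [← Subgroup.orderOf_coe]; exact orderOf_shift)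
    (by rw [card_M24]; norm_num) rfl (fun g h => shift_fixed h) ?_
  have h1 := (MulAction.stabilizer M24 (none : GolayPt)).card_mul_index
  rw [card_stabilizer, card_M24] at h1
  have h2 : (MulAction.stabilizer M24 (none : GolayPt)).index = 24 := by omega
  rw [h2]
  exact primePow_check 3 5 (by norm_num [Nat.factorial]) (by norm_num) (by norm_num)
    (by decide +kernel)

end CL.M24
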