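import Cfsg.Agent.Base
import Cfsg.Agent.Spor.LeechXi
import Cfsg.Agent.Spor.M24Simple
import Cfsg.Agent.Auto.ACL_M24_B2_b0a0d2
import Cfsg.Agent.Auto.ACL_M24_B1_9dca3a

/-!
# Standard Leech vectors whose stabilisers in `Co0` are `M22` and `M23`; the centre of `Co0`
-/

set_option autoImplicit false

namespace CL.Conway

open Cfsg CL.Leech CL.Chain CL.Golay CL.M24 Finset

/-- The orbits of `x ↦ 2 x` on the 24 points: `∞`, `0`, nonzero squares, non-squares. -/
def cls (p : GolayPt) : Fin 4 :=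
  if p = none then 0 else if p = some 0 then 1 else if Nat.testBit 340830 (idx p) then 2 else 3

/-- A vector constant on the orbits of `x ↦ 2 x`. -/
def vec (a b c d : ℤ) : GolayPt → ℤ := fun p => ![a, b, c, d] (cls p)

theorem sum_cls (F : Fin 4 → ℤ) : ∑ p, F (cls p) = F 0 + F 1 + 11 * F 2 + 11 * F 3 := by
  rw [← sum_fiberwise univ cls]
  have h : ∀ k, ∑ p ∈ univ.filter fun p => cls p = k, F (cls p) =
      ((univ.filter fun p => cls p = k).card : ℤ) * F k := by
    intro k
    rw [sum_congr rfl fun p hp => congrArg F (mem_filter.1 hp).2, sum_const, nsmul_eq_mul]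
  have h0 : (univ.filter fun p => cls p = 0).card = 1 := by decide +kernel
  have h1 : (univ.filter fun p => cls p = 1).card = 1 := by decide +kernel
  have h2 : (univ.filter fun p => cls p = 2).card = 11 := by decide +kernel
  have h3 : (univ.filter fun p => cls p = 3).card = 11 := by decide +kernel
  simp only [h, Fin.sum_univ_four, h0, h1, h2, h3]
  push_cast; ring

theorem dotInt_vec (a b c d a' b' c' d' : ℤ) :
    dotInt (vec a b c d) (vec a' b' c' d') = a * a' + b * b' + 11 * (c * c') + 11 * (d * d') :=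
  sum_cls fun k => ![a, b, c, d] k * ![a', b', c', d'] k

theorem sqNorm_vec (a b c d : ℤ) :
    sqNorm (vec a b c d) = a * a + b * b + 11 * (c * c) + 11 * (d * d) := by
  rw [sqNorm_eq_dot, dotInt_vec]

theorem sum_vec (a b c d : ℤ) : ∑ p, vec a b c d p = a + b + 11 * c + 11 * d :=
  sum_cls fun k => ![a, b, c, d] k

theorem vec_apply (a b c : ℤ) (p : GolayPt) :
    vec a b c c p = if p = none then a else if p = some 0 then b else c := by
  unfold vec cls; split_ifs <;> rfl

theorem vec_add (a b c d a' b' c' d' : ℤ) :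
    vec a b c d + vec a' b' c' d' = vec (a + a') (b + b') (c + c') (d + d') := by
  funext p; simp only [vec, Pi.add_apply]; generalize cls p = k; fin_cases k <;> rfl

theorem vec_neg (a b c d : ℤ) : -vec a b c d = vec (-a) (-b) (-c) (-d) := by
  funext p; simp only [vec, Pi.neg_apply]; generalize cls p = k; fin_cases k <;> rfl

theorem vec_sub (a b c d a' b' c' d' : ℤ) :
    vec a b c d - vec a' b' c' d' = vec (a - a') (b - b') (c - c') (d - d') := by
  funext p; simp only [vec, Pi.sub_apply]; generalize cls p = k; fin_cases k <;> rfl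

theorem coe_e8_none : (e8 none : GolayPt → ℤ) = vec 8 0 0 0 := by
  funext p; rw [vec_apply, coe_e8, Pi.single_apply]; simp

theorem coe_e8_zero : (e8 (some 0) : GolayPt → ℤ) = vec 0 8 0 0 := by
  funext p; rw [vec_apply, coe_e8, Pi.single_apply]
  by_cases h : p = some 0
  · simp [h]
  · simp [h]

theorem vec_mem_of_mod (a b c : ℤ) (ha : a % 4 = c % 4) (hb : b % 4 = c % 4)
    (h : (a + b + 22 * c) % 8 = (4 * c) % 8) : vec a b c c ∈ leechLattice := by
  refine AddSubgroup.subset_closure (Spor.mem_leechSet_of_const_mod_four _ c c rfl ?_ ?_)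
  · intro p; rw [vec_apply]; split_ifs
    exacts [ha, hb, rfl]
  · rw [sum_vec]; unfold Int.ModEq; omega

/-- `(4, 4, 0²²)`. -/
def vU : leechLattice := ⟨vec 4 4 0 0, vec_mem_of_mod _ _ _ rfl rfl rfl⟩
/-- `(-4, 4, 0²²)`. -/
def vU' : leechLattice := ⟨vec (-4) 4 0 0, vec_mem_of_mod _ _ _ rfl rfl rfl⟩
/-- `(-3, 1²³)`. -/
def vX : leechLattice := ⟨vec (-3) 1 1 1, vec_mem_of_mod _ _ _ rfl rfl rfl⟩
/-- `(5, 1²³)`. -/
def vV : leechLattice := ⟨vec 5 1 1 1, vec_mem_of_mod _ _ _ rfl rfl rfl⟩
/-- `(-1, -5, -1²²)`. -/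
def vW : leechLattice := ⟨vec (-1) (-5) (-1) (-1), vec_mem_of_mod _ _ _ rfl rfl rfl⟩

theorem coe_vU : (vU : GolayPt → ℤ) = vec 4 4 0 0 := rfl
theorem coe_vU' : (vU' : GolayPt → ℤ) = vec (-4) 4 0 0 := rfl
theorem coe_vX : (vX : GolayPt → ℤ) = vec (-3) 1 1 1 := rfl
theorem coe_vV : (vV : GolayPt → ℤ) = vec 5 1 1 1 := rfl
theorem coe_vW : (vW : GolayPt → ℤ) = vec (-1) (-5) (-1) (-1) := rfl

theorem e8_none_eq : e8 none = vU - vU' :=
  Subtype.ext (by rw [coe_e8_none, AddSubgroup.coe_sub, coe_vU, coe_vU', vec_sub]; rfl)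

theorem e8_zero_eq : e8 (some 0) = vU + vU' :=
  Subtype.ext (by rw [coe_e8_zero, AddSubgroup.coe_add, coe_vU, coe_vU', vec_add]; rfl)

theorem e8_none_eq' : e8 none = vV - vX :=
  Subtype.ext (by rw [coe_e8_none, AddSubgroup.coe_sub, coe_vV, coe_vX, vec_sub]; rfl)

theorem vV_add_vW : vV + vW = -vU' :=
  Subtype.ext (by
    rw [AddSubgroup.coe_add, coe_vV, coe_vW, vec_add, NegMemClass.coe_neg, coe_vU', vec_neg]; rfl)

/-! ### Coordinate permutations -/

theorem permCo0_smul_eq_iff (σ : M24) (x : leechLattice) :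
    permCo0 σ • x = x ↔ ∀ p, (x : GolayPt → ℤ) ((σ : Equiv.Perm GolayPt) p) = (x : GolayPt → ℤ) p := by
  constructor
  · intro h p
    rw [← permCo0_smul_apply σ x p, h]
  · intro h
    apply Subtype.ext; funext p
    rw [permCo0_smul, ← h, Equiv.apply_symm_apply]

/-- An element of `Co0` fixing some `8 e_i` and a vector with all coordinates `1` modulo 4 is a
coordinate permutation. -/
theorem exists_perm_of_fix {g : Co0} {i : GolayPt} (hi : g • e8 i = e8 i) {x : leechLattice}
    (hx : ∀ p, (x : GolayPt → ℤ) p % 4 = 1) (hg : g • x = x) : ∃ σ : M24, g = permCo0 σ := by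
  obtain ⟨σ, c, hc, rfl⟩ := mem_monoGroup_of_e8 (Or.inl hi)
  have h : c = ∅ := by
    rw [eq_empty_iff_forall_notMem]
    intro p hp
    have h1 := mono_smul_apply σ c hc x p
    rw [hg, if_pos hp] at h1
    have h2 := hx p
    have h3 := hx ((σ : Equiv.Perm GolayPt).symm p)
    omega
  subst h
  exact ⟨σ, mono_empty σ⟩

/-- The coordinate permutations fixing the points of `l`. -/
def permHom (l : List GolayPt) : fix M24 l →* Co0 :=
  permCo0.comp (Subgroup.inclusion (fix_le _ _))

theorem permHom_injective (l : List GolayPt) : Function.Injective (permHom l) :=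
  permCo0_injective.comp (Subgroup.inclusion_injective _)

theorem permHom_apply (l : List GolayPt) (σ : fix M24 l) :
    permHom l σ = permCo0 ⟨σ, σ.2.1⟩ := rfl

/-- A criterion for a vector stabiliser to consist of coordinate permutations. -/
theorem fix_eq_range (L : List leechLattice) (l : List GolayPt) {i : GolayPt} (hi : i ∈ l)
    {x : leechLattice} (hxL : x ∈ L) (hx : ∀ p, (x : GolayPt → ℤ) p % 4 = 1)
    (h1 : ∀ g : Co0, (∀ y ∈ L, g • y = y) → ∀ j ∈ l, g • e8 j = e8 j)
    (h2 : ∀ σ ∈ fix M24 l, ∀ y ∈ L, ∀ p, (y : GolayPt → ℤ) (σ p) = (y : GolayPt → ℤ) p) :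
    fix (⊤ : Subgroup Co0) L = (permHom l).range := by
  ext g
  constructor
  · rintro ⟨-, hg⟩
    obtain ⟨σ, rfl⟩ := exists_perm_of_fix (h1 g hg i hi) hx (hg x hxL)
    refine ⟨⟨σ, σ.2, fun j hj => ?_⟩, rfl⟩
    have := h1 _ hg j hj
    rw [permCo0_e8] at this
    exact e8_injective this
  · rintro ⟨σ, rfl⟩
    exact ⟨trivial, fun y hy => (permCo0_smul_eq_iff _ _).2 (h2 σ σ.2 y hy)⟩

theorem vec_comp_of_fix_B2 {σ : Equiv.Perm GolayPt} (hσ : σ ∈ fix M24 B2) (a b c : ℤ)
    (p : GolayPt) : vec a b c c (σ p) = vec a b c c p := by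
  have h1 : σ none = none := hσ.2 _ (by decide)
  have h2 : σ (some 0) = some 0 := hσ.2 _ (by decide)
  have h3 : σ p = none ↔ p = none := by rw [← h1, σ.injective.eq_iff, h1]
  have h4 : σ p = some 0 ↔ p = some 0 := by rw [← h2, σ.injective.eq_iff, h2]
  simp only [vec_apply, h3, h4]

theorem vec_comp_of_fix_B1 {σ : Equiv.Perm GolayPt} (hσ : σ ∈ fix M24 B1) (a c : ℤ)
    (p : GolayPt) : vec a c c c (σ p) = vec a c c c p := by
  have h1 : σ none = none := hσ.2 _ (by decide)
  have h3 : σ p = none ↔ p = none := by rw [← h1, σ.injective.eq_iff, h1]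
  simp only [vec_apply, h3, ite_self]

theorem vX_mod (p : GolayPt) : (vX : GolayPt → ℤ) p % 4 = 1 := by
  rw [coe_vX, vec_apply]; split_ifs <;> rfl

theorem vV_mod (p : GolayPt) : (vV : GolayPt → ℤ) p % 4 = 1 := by
  rw [coe_vV, vec_apply]; split_ifs <;> rfl

/-- The stabiliser of `(4, 4, 0²²)`, `(-3, 1²³)`, `(-4, 4, 0²²)` is `M22`. -/
theorem fix_McL_eq : fix (⊤ : Subgroup Co0) [vU', vX, vU] = (permHom B2).range := by
  refine fix_eq_range _ B2 (i := none) (by decide) (x := vX) (by simp) vX_mod ?_ ?_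
  · intro g hg j hj
    have h1 := hg vU (by simp)
    have h2 := hg vU' (by simp)
    have h3 : j = some 0 ∨ j = none := by simpa [B2, B1] using hj
    rcases h3 with rfl | rfl
    · rw [e8_zero_eq, Co0_add, h1, h2]
    · rw [e8_none_eq, Co0_sub, h1, h2]
  · intro σ hσ y hy p
    simp only [List.mem_cons, List.not_mem_nil, or_false] at hy
    rcases hy with rfl | rfl | rfl <;> exact vec_comp_of_fix_B2 hσ _ _ _ p

/-- The stabiliser of `(5, 1²³)`, `(-1, -5, -1²²)`, `(4, 4, 0²²)` is `M22`. -/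
theorem fix_HS_eq : fix (⊤ : Subgroup Co0) [vU, vW, vV] = (permHom B2).range := by
  refine fix_eq_range _ B2 (i := none) (by decide) (x := vV) (by simp) vV_mod ?_ ?_
  · intro g hg j hj
    have h1 := hg vU (by simp)
    have h2 : g • vU' = vU' := by
      have h4 : g • (vV + vW) = vV + vW := by rw [Co0_add, hg vV (by simp), hg vW (by simp)]
      rw [vV_add_vW, Co0_neg] at h4
      exact neg_injective h4
    have h3 : j = some 0 ∨ j = none := by simpa [B2, B1] using hj
    rcases h3 with rfl | rfl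
    · rw [e8_zero_eq, Co0_add, h1, h2]
    · rw [e8_none_eq, Co0_sub, h1, h2]
  · intro σ hσ y hy p
    simp only [List.mem_cons, List.not_mem_nil, or_false] at hy
    rcases hy with rfl | rfl | rfl <;> exact vec_comp_of_fix_B2 hσ _ _ _ p

/-- The stabiliser of `(5, 1²³)` and `(-3, 1²³)` is `M23`. -/
theorem fix_M23_eq : fix (⊤ : Subgroup Co0) [vX, vV] = (permHom B1).range := by
  refine fix_eq_range _ B1 (i := none) (by decide) (x := vV) (by simp) vV_mod ?_ ?_
  · intro g hg j hj
    have h3 : j = none := by simpa [B1] using hj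
    rw [h3, e8_none_eq', Co0_sub, hg vV (by simp), hg vX (by simp)]
  · intro σ hσ y hy p
    simp only [List.mem_cons, List.not_mem_nil, or_false] at hy
    rcases hy with rfl | rfl <;> exact vec_comp_of_fix_B1 hσ _ _ p

theorem fix_M23_eq' : fix (⊤ : Subgroup Co0) [vV, vX] = (permHom B1).range := by
  rw [← fix_M23_eq]
  exact le_antisymm (fix_anti _ (by simp)) (fix_anti _ (by simp))

/-- A subgroup equal to the group of coordinate permutations fixing `l`. -/
noncomputable def equivOfEqRange {K : Subgroup Co0} {l : List GolayPt}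
    (h : K = (permHom l).range) : K ≃* fix M24 l :=
  (MulEquiv.subgroupCongr h).trans (MonoidHom.ofInjective (permHom_injective l)).symm

/-! ### The elements of order 11 and 23 and their fixed vectors -/

/-- The coordinate permutation `x ↦ 2 x`. -/
noncomputable def t11 : Co0 := permHom B2 ⟨dbl, dbl_mem_fix⟩

/-- The coordinate permutation `x ↦ x + 1`. -/
def t23 : Co0 := permHom B1 ⟨shift, shift_mem_fix⟩

theorem orderOf_t11 : orderOf t11 = 11 := by
  rw [t11, orderOf_injective _ (permHom_injective _), ← Subgroup.orderOf_coe]; exact orderOf_dbl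

theorem orderOf_t23 : orderOf t23 = 23 := by
  rw [t23, orderOf_injective _ (permHom_injective _), ← Subgroup.orderOf_coe]; exact orderOf_shift

theorem apply_pow_of_forall {σ : Equiv.Perm GolayPt} {y : GolayPt → ℤ} (h : ∀ p, y (σ p) = y p)
    (n : ℕ) (p : GolayPt) : y ((σ ^ n) p) = y p := by
  induction n with
  | zero => rfl
  | succ n ih => rw [pow_succ', Equiv.Perm.mul_apply, h, ih]

theorem eq_vec_of_t11 {y : leechLattice} (h : t11 • y = y) :
    ∃ a b c d : ℤ, (y : GolayPt → ℤ) = vec a b c d := by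
  have h1 := (permCo0_smul_eq_iff _ _).1 h
  have h2 : ∀ p : GolayPt, ∃ n < 11,
      pt (app (powP dblP n) (idx (![none, some 0, some 1, some 5] (cls p)))) = p := by
    decide +kernel
  refine ⟨y.1 none, y.1 (some 0), y.1 (some 1), y.1 (some 5), funext fun p => ?_⟩
  obtain ⟨n, -, hn⟩ := h2 p
  rw [← (rep_dbl.pow n).apply] at hn
  have h3 := apply_pow_of_forall (σ := dbl) h1 n (![none, some 0, some 1, some 5] (cls p))
  rw [hn] at h3
  rw [h3, vec]
  generalize cls p = k
  fin_cases k <;> rfl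

theorem eq_vec_of_t23 {y : leechLattice} (h : t23 • y = y) :
    ∃ a b : ℤ, (y : GolayPt → ℤ) = vec a b b b := by
  have h1 := (permCo0_smul_eq_iff _ _).1 h
  refine ⟨y.1 none, y.1 (some 0), funext fun p => ?_⟩
  rw [vec_apply]
  cases p with
  | none => simp
  | some x =>
    have h3 := apply_pow_of_forall (σ := shift) h1 x.val (some 0)
    rw [shift_pow_zero] at h3
    simp [h3]

theorem eq_vU'_of_t11 {y : leechLattice} (h : t11 • y = y) (hn : sqNorm (y : GolayPt → ℤ) = 32)
    (h1 : dotInt (vU : GolayPt → ℤ) y = 0) (h2 : dotInt (vX : GolayPt → ℤ) y = 16) : y = vU' := by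
  obtain ⟨a, b, c, d, hy⟩ := eq_vec_of_t11 h
  apply Subtype.ext
  rw [hy, sqNorm_vec] at hn
  rw [hy, coe_vU, dotInt_vec] at h1
  rw [hy, coe_vX, dotInt_vec] at h2
  obtain rfl : b = -a := by omega
  have hc : -2 < c ∧ c < 2 := by constructor <;> nlinarith
  have hd : -2 < d ∧ d < 2 := by constructor <;> nlinarith
  have ha : -5 < a ∧ a < 5 := by constructor <;> nlinarith
  obtain ⟨ha1, ha2⟩ := ha
  obtain ⟨hc1, hc2⟩ := hc
  obtain ⟨hd1, hd2⟩ := hd
  rw [hy, coe_vU']
  interval_cases a <;> interval_cases c <;> interval_cases d <;> first | rfl | omega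

theorem eq_vU_of_t11 {y : leechLattice} (h : t11 • y = y) (hn : sqNorm (y : GolayPt → ℤ) = 32)
    (h1 : dotInt (vV : GolayPt → ℤ) y = 24) (h2 : dotInt (vW : GolayPt → ℤ) y = -24) : y = vU := by
  obtain ⟨a, b, c, d, hy⟩ := eq_vec_of_t11 h
  apply Subtype.ext
  rw [hy, sqNorm_vec] at hn
  rw [hy, coe_vV, dotInt_vec] at h1
  rw [hy, coe_vW, dotInt_vec] at h2
  obtain rfl : b = a := by omega
  have hc : -2 < c ∧ c < 2 := by constructor <;> nlinarith
  have hd : -2 < d ∧ d < 2 := by constructor <;> nlinarith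
  have ha : -5 < b ∧ b < 5 := by constructor <;> nlinarith
  obtain ⟨ha1, ha2⟩ := ha
  obtain ⟨hc1, hc2⟩ := hc
  obtain ⟨hd1, hd2⟩ := hd
  rw [hy, coe_vU]
  interval_cases b <;> interval_cases c <;> interval_cases d <;> first | rfl | omega

theorem eq_vX_or_of_t23 {y : leechLattice} (h : t23 • y = y)
    (hn : sqNorm (y : GolayPt → ℤ) = 32) : y = vX ∨ y = -vX := by
  obtain ⟨a, b, hy⟩ := eq_vec_of_t23 h
  have h8 := eight_dvd_dotInt vX.2 y.2
  rw [Subtype.ext_iff, Subtype.ext_iff, NegMemClass.coe_neg, coe_vX, vec_neg, hy]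
  rw [hy, sqNorm_vec] at hn
  rw [hy, coe_vX, dotInt_vec] at h8
  have hb : -2 < b ∧ b < 2 := by constructor <;> nlinarith
  have ha : -6 < a ∧ a < 6 := by constructor <;> nlinarith
  obtain ⟨ha1, ha2⟩ := ha
  obtain ⟨hb1, hb2⟩ := hb
  interval_cases a <;> interval_cases b <;>
    first | exact Or.inl rfl | exact Or.inr rfl | omega

theorem eq_vX_of_t23 {y : leechLattice} (h : t23 • y = y) (hn : sqNorm (y : GolayPt → ℤ) = 32)
    (h1 : dotInt (vV : GolayPt → ℤ) y = 8) : y = vX := by
  rcases eq_vX_or_of_t23 h hn with rfl | rfl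
  · rfl
  · rw [NegMemClass.coe_neg, dotInt_neg_right, coe_vV, coe_vX, dotInt_vec] at h1
    omega

theorem eq_vV_of_t23 {y : leechLattice} (h : t23 • y = y) (hn : sqNorm (y : GolayPt → ℤ) = 48)
    (h1 : dotInt (vX : GolayPt → ℤ) y = 8) : y = vV := by
  obtain ⟨a, b, hy⟩ := eq_vec_of_t23 h
  apply Subtype.ext
  rw [hy, sqNorm_vec] at hn
  rw [hy, coe_vX, dotInt_vec] at h1
  have hb : -2 < b ∧ b < 2 := by constructor <;> nlinarith
  have ha : -7 < a ∧ a < 7 := by constructor <;> nlinarith
  obtain ⟨ha1, ha2⟩ := ha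
  obtain ⟨hb1, hb2⟩ := hb
  rw [hy, coe_vV]
  interval_cases a <;> interval_cases b <;> first | rfl | omega

/-! ### The centre -/

theorem negOne_ne_one : negOne ≠ 1 := by
  intro h
  have h1 := negOne_smul (e8 none)
  rw [h, one_smul] at h1
  exact e8_ne_neg _ _ h1

theorem negOne_mul_self : negOne * negOne = 1 :=
  Co0_ext fun v => by rw [mul_smul, negOne_smul, negOne_smul, neg_neg, one_smul]

theorem mem_center_iff {g : Co0} : g ∈ Subgroup.center Co0 ↔ g = 1 ∨ g = negOne := by
  constructor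
  · intro hg
    rw [Subgroup.mem_center_iff] at hg
    have h1 : ∀ j, j ≠ none → ((g • e8 none : leechLattice) : GolayPt → ℤ) j = 0 := by
      intro j hj
      obtain ⟨c, hc, hcj⟩ := exists_codeSet_inter_eq_of_small (X := {none, j}) (S := {j})
        (by simp) (lt_of_le_of_lt card_le_two (by norm_num))
      have h2 : j ∈ c := (mem_inter.1 (hcj ▸ mem_singleton_self j)).1
      have h3 : none ∉ c := fun h => by
        have : none ∈ c ∩ {none, j} := mem_inter.2 ⟨h, by simp⟩
        rw [hcj, mem_singleton] at this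
        exact hj this.symm
      have h4 : signCo0 c hc • g • e8 none = g • e8 none := by
        rw [← mul_smul, hg, mul_smul, signCo0_e8, if_neg h3]
      have h5 := signCo0_smul_apply c hc (g • e8 none) j
      rw [h4, if_pos h2] at h5
      omega
    set a := ((g • e8 none : leechLattice) : GolayPt → ℤ) none with ha
    have h2 : ((g • e8 none : leechLattice) : GolayPt → ℤ) = Pi.single none a := by
      funext j
      by_cases hj : j = none
      · rw [hj, Pi.single_eq_same]
      · rw [h1 j hj, Pi.single_eq_of_ne hj]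
    have h3 := Co0_sqNorm g (e8 none)
    rw [h2, coe_e8, sqNorm_single, sqNorm_single] at h3
    have h4 : ∀ i, ∃ σ : M24, permCo0 σ • e8 none = e8 i := by
      intro i
      obtain ⟨σ, hσ, h⟩ := exists_map_eq [none] [i] (by simp) (by simp) rfl (by simp)
      refine ⟨⟨σ, hσ⟩, ?_⟩
      rw [permCo0_e8]
      exact congrArg e8 (by simpa using h)
    rcases sq_eq_sq_iff_eq_or_eq_neg.1 h3 with h | h
    · left
      have h5 : g • e8 none = e8 none := Subtype.ext (by rw [h2, h, coe_e8])
      refine Co0_ext_e8 fun i => ?_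
      obtain ⟨σ, hσ⟩ := h4 i
      rw [one_smul, ← hσ, ← mul_smul, ← hg, mul_smul, h5]
    · right
      have h5 : g • e8 none = -e8 none := Subtype.ext (by rw [h2, h, coe_neg_e8])
      refine Co0_ext_e8 fun i => ?_
      obtain ⟨σ, hσ⟩ := h4 i
      rw [negOne_smul, ← hσ, ← mul_smul, ← hg, mul_smul, h5, Co0_neg]
  · rintro (rfl | rfl)
    · exact Subgroup.one_mem _
    · rw [Subgroup.mem_center_iff]
      intro h
      exact Co0_ext fun v => by rw [mul_smul, mul_smul, negOne_smul, negOne_smul, Co0_neg]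

theorem card_center : Nat.card (Subgroup.center Co0) = 2 := by
  have h : (Subgroup.center Co0 : Set Co0) = {1, negOne} := by
    ext g; exact mem_center_iff
  change Nat.card (Subgroup.center Co0 : Set Co0) = 2
  rw [h, Nat.card_coe_set_eq, Set.ncard_pair negOne_ne_one.symm]

end CL.Conway
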