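import Cfsg.Agent.Base

/-!
# Stabiliser chains

`fix K l` is the pointwise stabiliser in `K` of the points of the list `l`.
-/

set_option autoImplicit false

namespace CL.Chain

open MulAction

variable {G α : Type*} [Group G] [MulAction G α]

/-- The elements of `K` fixing every point of `l`. -/
def fix (K : Subgroup G) (l : List α) : Subgroup G where
  carrier := {g | g ∈ K ∧ ∀ x ∈ l, g • x = x}
  one_mem' := ⟨K.one_mem, fun x _ => one_smul G x⟩
  mul_mem' := fun ha hb => ⟨K.mul_mem ha.1 hb.1, fun x hx => by rw [mul_smul, hb.2 x hx, ha.2 x hx]⟩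
  inv_mem' := fun ha => ⟨K.inv_mem ha.1, fun x hx => by rw [inv_smul_eq_iff, ha.2 x hx]⟩

theorem mem_fix {K : Subgroup G} {l : List α} {g : G} :
    g ∈ fix K l ↔ g ∈ K ∧ ∀ x ∈ l, g • x = x := Iff.rfl

theorem fix_nil (K : Subgroup G) : fix K ([] : List α) = K := by
  ext g; simp [mem_fix]

theorem fix_cons (K : Subgroup G) (a : α) (l : List α) :
    fix K (a :: l) = fix K l ⊓ stabilizer G a := by
  ext g
  simp only [mem_fix, List.mem_cons, forall_eq_or_imp, Subgroup.mem_inf, mem_stabilizer_iff]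
  tauto

theorem fix_le (K : Subgroup G) (l : List α) : fix K l ≤ K := fun _ h => h.1

theorem fix_mono {K K' : Subgroup G} (h : K ≤ K') (l : List α) : fix K l ≤ fix K' l :=
  fun _ hg => ⟨h hg.1, hg.2⟩

theorem fix_anti (K : Subgroup G) {l l' : List α} (h : ∀ x ∈ l, x ∈ l') : fix K l' ≤ fix K l :=
  fun _ hg => ⟨hg.1, fun x hx => hg.2 x (h x hx)⟩

/-- A subgroup of `↥K` is isomorphic to the subgroup of `G` with the same elements. -/
def equivOfMemIff {K : Subgroup G} (H : Subgroup K) (H' : Subgroup G) (hle : H' ≤ K)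
    (h : ∀ g : K, g ∈ H ↔ (g : G) ∈ H') : H ≃* H' where
  toFun x := ⟨x.1.1, (h x.1).1 x.2⟩
  invFun y := ⟨⟨y.1, hle y.2⟩, (h _).2 y.2⟩
  left_inv _ := rfl
  right_inv _ := rfl
  map_mul' _ _ := rfl

/-- The stabiliser in `↥K` of a point, as a subgroup of the ambient group. -/
def stabilizerEquivInf (K : Subgroup G) (a : α) :
    stabilizer K a ≃* (K ⊓ stabilizer G a : Subgroup G) :=
  equivOfMemIff _ _ inf_le_left fun g => ⟨fun h => ⟨g.2, h⟩, fun h => h.2⟩

/-- Conjugate subgroups are isomorphic, in the form of a membership criterion. -/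
def equivOfConj (H H' : Subgroup G) (g : G) (h : ∀ x : G, x ∈ H ↔ g * x * g⁻¹ ∈ H') : H ≃* H' where
  toFun x := ⟨g * x * g⁻¹, (h x).1 x.2⟩
  invFun y := ⟨g⁻¹ * y * g, (h _).2 (by simp [mul_assoc])⟩
  left_inv x := by ext; simp [mul_assoc]
  right_inv x := by ext; simp [mul_assoc]
  map_mul' x y := by ext; simp [mul_assoc]

theorem mem_fix_conj {K : Subgroup G} {g : G} (hg : g ∈ K) (l : List α) (x : G) :
    x ∈ fix K l ↔ g * x * g⁻¹ ∈ fix K (l.map fun a => g • a) := by
  simp only [mem_fix, List.mem_map, forall_exists_index, and_imp, forall_apply_eq_imp_iff₂,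
    mul_smul, inv_smul_smul, smul_left_cancel_iff]
  refine and_congr_left fun _ => ⟨fun h => K.mul_mem (K.mul_mem hg h) (K.inv_mem hg), fun h => ?_⟩
  have := K.mul_mem (K.mul_mem (K.inv_mem hg) h) hg
  simpa [mul_assoc] using this

/-- Pointwise stabilisers of lists in one orbit are isomorphic. -/
def fixEquiv {K : Subgroup G} {g : G} (hg : g ∈ K) (l l' : List α)
    (h : (l.map fun a => g • a) = l') : fix K l ≃* fix K l' :=
  equivOfConj _ _ g fun x => h ▸ mem_fix_conj hg l x

/-- Orbit-stabiliser for a subgroup `K` whose orbit of `a` is the set `Δ`. -/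
theorem card_eq_ncard_mul (K : Subgroup G) (a : α) (Δ : Set α)
    (hup : ∀ g ∈ K, g • a ∈ Δ) (hlow : ∀ x ∈ Δ, ∃ g ∈ K, g • a = x) :
    Nat.card K = Δ.ncard * Nat.card (K ⊓ stabilizer G a : Subgroup G) := by
  have h1 : orbit K a = Δ := by
    ext x
    constructor
    · rintro ⟨g, rfl⟩; exact hup g g.2
    · intro hx
      obtain ⟨g, hg, rfl⟩ := hlow x hx
      exact ⟨⟨g, hg⟩, rfl⟩
  rw [← Nat.card_congr (stabilizerEquivInf K a).toEquiv, ← h1, ← index_stabilizer,
    Subgroup.index_mul_card]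

theorem card_eq_card_mul (K : Subgroup G) (a : α) (Δ : Finset α)
    (hup : ∀ g ∈ K, g • a ∈ Δ) (hlow : ∀ x ∈ Δ, ∃ g ∈ K, g • a = x) :
    Nat.card K = Δ.card * Nat.card (K ⊓ stabilizer G a : Subgroup G) := by
  rw [card_eq_ncard_mul K a (Δ : Set α) hup hlow, Set.ncard_coe_finset]

theorem card_fix (K : Subgroup G) (a : α) (l : List α) (Δ : Finset α)
    (hup : ∀ g ∈ fix K l, g • a ∈ Δ) (hlow : ∀ x ∈ Δ, ∃ g ∈ fix K l, g • a = x) :
    Nat.card (fix K l) = Δ.card * Nat.card (fix K (a :: l)) := by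
  rw [fix_cons]; exact card_eq_card_mul _ a Δ hup hlow

/-- If `H` contains the stabiliser of `a` in `K` and moves `a` everywhere `K` does by elements of
`K`, then `K ≤ H`. -/
theorem le_of_stabilizer_le (K H : Subgroup G) (a : α)
    (h : ∀ g ∈ K, ∃ x ∈ H, x ∈ K ∧ x • a = g • a) (hs : K ⊓ stabilizer G a ≤ H) : K ≤ H := by
  intro g hg
  obtain ⟨x, hx, hxK, hxa⟩ := h g hg
  have h1 : x⁻¹ * g ∈ K ⊓ stabilizer G a :=
    ⟨K.mul_mem (K.inv_mem hxK) hg, by
      change (x⁻¹ * g) • a = a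
      rw [mul_smul, ← hxa, inv_smul_smul]⟩
  simpa using H.mul_mem hx (hs h1)

theorem fix_le_of_cons (K H : Subgroup G) (hHK : H ≤ K) (a : α) (l : List α)
    (h : ∀ g ∈ fix K l, ∃ x ∈ fix H l, x • a = g • a) (hs : fix K (a :: l) ≤ H) :
    fix K l ≤ H := by
  refine le_of_stabilizer_le _ H a (fun g hg => ?_) (by rwa [← fix_cons])
  obtain ⟨x, hx, hxa⟩ := h g hg
  exact ⟨x, hx.1, fix_mono hHK l hx, hxa⟩

/-- `K` is transitive on everything, the stabiliser of the last point of `l` is transitive on the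
remaining points, and so on along `l` (read from the right). -/
def Trans (K : Subgroup G) : List α → Prop
  | [] => True
  | a :: l => Trans K l ∧ ∀ x, x ∉ l → ∃ g ∈ fix K l, g • a = x

theorem Trans.exists_map_eq {K : Subgroup G} :
    ∀ {l : List α}, Trans K l → ∀ y : List α, y.Nodup → y.length = l.length →
      ∃ g ∈ K, (l.map fun a => g • a) = y
  | [], _, y, _, hy => ⟨1, K.one_mem, by
      rw [List.length_nil, List.length_eq_zero_iff] at hy; simp [hy]⟩
  | a :: l, h, [], _, hy => by simp at hy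
  | a :: l, h, b :: y, hnd, hy => by
      rw [List.nodup_cons] at hnd
      obtain ⟨g, hg, hgl⟩ := h.1.exists_map_eq y hnd.2 (by simpa using hy)
      have hb : g⁻¹ • b ∉ l := by
        intro hb
        apply hnd.1
        rw [← hgl]
        exact List.mem_map.2 ⟨_, hb, smul_inv_smul g b⟩
      obtain ⟨x, hx, hxa⟩ := h.2 _ hb
      refine ⟨g * x, K.mul_mem hg hx.1, ?_⟩
      rw [List.map_cons, mul_smul, hxa, smul_inv_smul, ← hgl]
      congr 1
      apply List.map_congr_left
      intro c hc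
      rw [mul_smul, hx.2 c hc]

/-- Any two duplicate-free lists of the right length are in one orbit. -/
theorem Trans.exists_map_eq' {K : Subgroup G} {l : List α} (h : Trans K l) (x y : List α)
    (hx : x.Nodup) (hy : y.Nodup) (hxl : x.length = l.length) (hyl : y.length = l.length) :
    ∃ g ∈ K, (x.map fun a => g • a) = y := by
  obtain ⟨g, hg, rfl⟩ := h.exists_map_eq x hx hxl
  obtain ⟨g', hg', rfl⟩ := h.exists_map_eq y hy hyl
  refine ⟨g' * g⁻¹, K.mul_mem hg' (K.inv_mem hg), ?_⟩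
  simp [mul_smul]

theorem Trans.isMultiplyPretransitive {K : Subgroup G} {l : List α} (h : Trans K l) :
    IsMultiplyPretransitive K α l.length := by
  rw [isMultiplyPretransitive_iff]
  intro x y
  obtain ⟨g, hg, hxy⟩ := h.exists_map_eq' (List.ofFn x) (List.ofFn y)
    (List.nodup_ofFn.2 x.injective) (List.nodup_ofFn.2 y.injective) (by simp) (by simp)
  refine ⟨⟨g, hg⟩, ?_⟩
  ext i
  rw [List.map_ofFn, List.ofFn_inj] at hxy
  exact congrFun hxy i

theorem Trans.mono {K K' : Subgroup G} (hK : K ≤ K') : ∀ {l : List α}, Trans K l → Trans K' l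
  | [], _ => trivial
  | _ :: l, h => ⟨h.1.mono hK, fun x hx => by
      obtain ⟨g, hg, hga⟩ := h.2 x hx
      exact ⟨g, fix_mono hK l hg, hga⟩⟩

end CL.Chain
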