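import Cfsg.Agent.Base
import Cfsg.Agent.Spor.GolaySteiner
import Cfsg.Agent.Spor.M24Chain
import Cfsg.Agent.Perm.SharpMathieu

/-!
# The stabiliser of a dodecad (`M12`) and of a dodecad and one of its points (`M11`)
-/

set_option autoImplicit false

namespace CL.M12
open Cfsg Finset CL.Golay CL.Chain CL.M24 CL.Perm MulAction
open scoped Pointwise

section TransOn
variable {G α : Type*} [Group G] [MulAction G α]

/-- Relative version of `Chain.Trans`: transitivity along `l` inside the set `S`. -/
def TransOn (K : Subgroup G) (S : Set α) : List α → Prop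
  | [] => True
  | a :: l => TransOn K S l ∧ ∀ x ∈ S, x ∉ l → ∃ g ∈ fix K l, g • a = x

theorem TransOn.exists_map_eq {K : Subgroup G} {S : Set α} (hS : ∀ g ∈ K, ∀ x ∈ S, g • x ∈ S) :
    ∀ {l : List α}, TransOn K S l → ∀ y : List α, y.Nodup → (∀ b ∈ y, b ∈ S) →
      y.length = l.length → ∃ g ∈ K, (l.map fun a => g • a) = y
  | [], _, y, _, _, hy => ⟨1, K.one_mem, by
      rw [List.length_nil, List.length_eq_zero_iff] at hy; simp [hy]⟩
  | a :: l, h, [], _, _, hy => by simp at hy
  | a :: l, h, b :: y, hnd, hyS, hy => by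
      rw [List.nodup_cons] at hnd
      obtain ⟨g, hg, hgl⟩ := h.1.exists_map_eq hS y hnd.2
        (fun c hc => hyS c (List.mem_cons_of_mem _ hc)) (by simpa using hy)
      have hb : g⁻¹ • b ∉ l := by
        intro hb
        apply hnd.1
        rw [← hgl]
        exact List.mem_map.2 ⟨_, hb, smul_inv_smul g b⟩
      obtain ⟨x, hx, hxa⟩ := h.2 _ (hS _ (K.inv_mem hg) b (hyS b List.mem_cons_self)) hb
      refine ⟨g * x, K.mul_mem hg hx.1, ?_⟩
      rw [List.map_cons, mul_smul, hxa, smul_inv_smul, ← hgl]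
      congr 1
      apply List.map_congr_left
      intro c hc
      rw [mul_smul, hx.2 c hc]

theorem TransOn.exists_smul {K : Subgroup G} {S : Set α} (hS : ∀ g ∈ K, ∀ x ∈ S, g • x ∈ S)
    {l : List α} (h : TransOn K S l) {n : ℕ} (hn : n = l.length) {x y : Fin n → α}
    (hx : Function.Injective x) (hy : Function.Injective y) (hxS : ∀ i, x i ∈ S)
    (hyS : ∀ i, y i ∈ S) : ∃ g ∈ K, ∀ i, g • x i = y i := by
  obtain ⟨g, hg, h1⟩ := h.exists_map_eq hS (List.ofFn x) (List.nodup_ofFn.2 hx)
    (by simpa using hxS) (by simp [hn])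
  obtain ⟨g', hg', h2⟩ := h.exists_map_eq hS (List.ofFn y) (List.nodup_ofFn.2 hy)
    (by simpa using hyS) (by simp [hn])
  refine ⟨g' * g⁻¹, K.mul_mem hg' (K.inv_mem hg), ?_⟩
  have : (List.ofFn x).map (fun a => (g' * g⁻¹) • a) = List.ofFn y := by
    rw [← h1, ← h2]; simp [mul_smul]
  rw [List.map_ofFn, List.ofFn_inj] at this
  exact congrFun this

end TransOn

/-- The stabiliser in `M24` of a set of points, as a group of permutations of the 24 points. -/
def stabS (d : Finset GolayPt) : Subgroup (Equiv.Perm GolayPt) :=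
  M24 ⊓ stabilizer (Equiv.Perm GolayPt) d

theorem mem_stabS {d : Finset GolayPt} {g : Equiv.Perm GolayPt} :
    g ∈ stabS d ↔ g ∈ M24 ∧ g • d = d := Iff.rfl

theorem M12_eq : Spor.M12 = stabS (ofMask dod0) := by rw [Spor.M12, squareDodecad_eq]; rfl

theorem apply_mem_iff {d : Finset GolayPt} {g : Equiv.Perm GolayPt} (hg : g ∈ stabS d)
    (x : GolayPt) : g x ∈ d ↔ x ∈ d := smul_eq_self_iff.1 hg.2 x

theorem conj_mem_stabS {d : Finset GolayPt} {σ g : Equiv.Perm GolayPt} (hσ : σ ∈ M24) :
    g ∈ stabS d ↔ σ * g * σ⁻¹ ∈ stabS (σ • d) := by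
  simp only [mem_stabS, mul_smul, inv_smul_smul, smul_left_cancel_iff]
  refine and_congr_left fun _ => ⟨fun h => mul_mem (mul_mem hσ h) (inv_mem hσ), fun h => ?_⟩
  have := mul_mem (mul_mem (inv_mem hσ) h) hσ
  simpa [mul_assoc] using this

theorem In_stabS {g v : ℕ} (h : isM24 g = true) (hv : act g v = v) : In (stabS (ofMask v)) g :=
  ⟨rep_of_isM24 h, toPerm_mem_M24 h, by
    change toPerm g • ofMask v = ofMask v
    rw [(rep_of_isM24 h).smul_ofMask, hv]⟩

theorem In_stabS_all {gens : List ℕ} {v : ℕ}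
    (h : allL (fun g => isM24 g && Nat.beq (act g v) v) gens = true) :
    ∀ p ∈ gens, In (stabS (ofMask v)) p := fun p hp => by
  have := allL_iff.1 h p hp
  rw [Bool.and_eq_true, Nat.beq_eq] at this
  exact In_stabS this.1 this.2

theorem card_stabS_dodecad {d : Finset GolayPt} (hd : d ∈ dodecads) :
    Nat.card (stabS d) = 95040 := by
  have := card_eq_ncard_mul M24 d dodecads (fun g hg => smul_mem_dodecads hg hd)
    (fun x hx => dodecad_trans hd hx)
  rw [card_M24, ncard_dodecads] at this
  change _ = _ * Nat.card (stabS d) at this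
  omega

theorem card_stabS_octad {o : Finset GolayPt} (ho : o ∈ octads) :
    Nat.card (stabS o) = 322560 := by
  have := card_eq_ncard_mul M24 o octads (fun g hg => smul_mem_octads hg ho)
    (fun x hx => octad_trans ho hx)
  rw [card_M24, ncard_octads] at this
  change _ = _ * Nat.card (stabS o) at this
  omega

/-- Base points inside the dodecad of squares. -/
def D5 : List GolayPt := [some 4, some 3, some 2, some 1, some 0]

theorem transOn_step {K : Subgroup (Equiv.Perm GolayPt)} {S : Finset GolayPt} {l : List GolayPt}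
    {a : GolayPt} {gens : List ℕ} (hg : ∀ p ∈ gens, In K p)
    (hl : (gens.all fun p => fixes p (l.map idx)) = true) (n m : ℕ)
    (hm : orb gens (2 ^ idx a) n = m) (hS : ∀ x ∈ S, x ∉ l → m.testBit (idx x) = true) :
    ∀ x ∈ (S : Set GolayPt), x ∉ l → ∃ g ∈ fix K l, g • a = x := fun x hx hxl =>
  exists_of_orb_eq (In.fixes hg hl) a n m hm x (hS x hx hxl)

theorem transOn_dod0 : TransOn (stabS (ofMask dod0)) (ofMask dod0 : Set GolayPt) D5 := by
  refine ⟨⟨⟨⟨⟨trivial, ?_⟩, ?_⟩, ?_⟩, ?_⟩, ?_⟩
  · exact transOn_step (In_stabS_all (gens := [235742061483406767849477376128910432,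
      964928913160769001738379240108343337]) (by decide +kernel)) (by decide +kernel) 9 340831
      (by decide +kernel) (by simp only [mem_ofMask]; decide +kernel)
  · exact transOn_step (In_stabS_all (gens := [819394694692359954670684048546250880])
      (by decide +kernel)) (by decide +kernel) 10 340830
      (by decide +kernel) (by simp only [mem_ofMask]; decide +kernel)
  · exact transOn_step (In_stabS_all (gens := [321259003727121015303179553761017888,
      648159310229650812104752762628218912]) (by decide +kernel)) (by decide +kernel) 3 340828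
      (by decide +kernel) (by simp only [mem_ofMask]; decide +kernel)
  · exact transOn_step (In_stabS_all (gens := [438084364835391119001047119775926304,
      928718206277989008510816407558424608]) (by decide +kernel)) (by decide +kernel) 4 340824
      (by decide +kernel) (by simp only [mem_ofMask]; decide +kernel)
  · exact transOn_step (In_stabS_all (gens := [232652365823391711183829569059784736,
      609271311764373893382231684089481248]) (by decide +kernel)) (by decide +kernel) 3 340816
      (by decide +kernel) (by simp only [mem_ofMask]; decide +kernel)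

theorem card_fix_step {d : Finset GolayPt} {l : List GolayPt} {a : GolayPt} (ha : a ∈ d)
    (hal : a ∉ l) (h : ∀ x ∈ (d : Set GolayPt), x ∉ l → ∃ g ∈ fix (stabS d) l, g • a = x) :
    Nat.card (fix (stabS d) l) =
      (d.filter fun x => x ∉ l).card * Nat.card (fix (stabS d) (a :: l)) := by
  refine card_fix _ a l _ (fun g hg => ?_) (fun x hx => ?_)
  · exact mem_filter.2 ⟨(apply_mem_iff hg.1 a).2 ha, not_mem_of_fix hg hal⟩
  · exact h x (mem_filter.1 hx).1 (mem_filter.1 hx).2

theorem fix_D5 : fix (stabS (ofMask dod0)) D5 = ⊥ := by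
  obtain ⟨⟨⟨⟨⟨-, h1⟩, h2⟩, h3⟩, h4⟩, h5⟩ := transOn_dod0
  have e1 := card_fix_step (by rw [mem_ofMask]; decide +kernel) (by decide) h1
  have e2 := card_fix_step (by rw [mem_ofMask]; decide +kernel) (by decide) h2
  have e3 := card_fix_step (by rw [mem_ofMask]; decide +kernel) (by decide) h3
  have e4 := card_fix_step (by rw [mem_ofMask]; decide +kernel) (by decide) h4
  have e5 := card_fix_step (by rw [mem_ofMask]; decide +kernel) (by decide) h5
  rw [fix_nil, card_stabS_dodecad dod0_mem] at e1
  have c1 : ((ofMask dod0).filter fun x => x ∉ ([] : List GolayPt)).card = 12 := by decide +kernel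
  have c2 : ((ofMask dod0).filter fun x => x ∉ ([some 0] : List GolayPt)).card = 11 := by
    decide +kernel
  have c3 : ((ofMask dod0).filter fun x => x ∉ ([some 1, some 0] : List GolayPt)).card = 10 := by
    decide +kernel
  have c4 : ((ofMask dod0).filter fun x =>
      x ∉ ([some 2, some 1, some 0] : List GolayPt)).card = 9 := by decide +kernel
  have c5 : ((ofMask dod0).filter fun x =>
      x ∉ ([some 3, some 2, some 1, some 0] : List GolayPt)).card = 8 := by decide +kernel
  rw [c1] at e1; rw [c2] at e2; rw [c3] at e3; rw [c4] at e4; rw [c5] at e5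
  apply Subgroup.eq_bot_of_card_eq
  change Nat.card (fix (stabS (ofMask dod0)) [some 4, some 3, some 2, some 1, some 0]) = 1
  omega

/-- The stabiliser of a dodecad is 5-transitive on it. -/
theorem exists_smul_five {d : Finset GolayPt} (hd : d ∈ dodecads) {x y : Fin 5 → GolayPt}
    (hx : Function.Injective x) (hy : Function.Injective y) (hxd : ∀ i, x i ∈ d)
    (hyd : ∀ i, y i ∈ d) : ∃ g ∈ stabS d, ∀ i, g (x i) = y i := by
  obtain ⟨σ, hσ, rfl⟩ := exists_smul_dod0 hd
  obtain ⟨g, hg, h⟩ := transOn_dod0.exists_smul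
    (fun g hg x hx => (apply_mem_iff hg x).2 hx) (n := 5) rfl
    (x := fun i => σ⁻¹ (x i)) (y := fun i => σ⁻¹ (y i))
    (σ⁻¹.injective.comp hx) (σ⁻¹.injective.comp hy)
    (fun i => mem_smul_iff.1 (hxd i)) (fun i => mem_smul_iff.1 (hyd i))
  refine ⟨σ * g * σ⁻¹, (conj_mem_stabS hσ).1 hg, fun i => ?_⟩
  have := h i
  rw [Equiv.Perm.smul_def] at this
  simp only [Equiv.Perm.mul_apply, this]
  simp

/-- An element of the stabiliser of a dodecad fixing five of its points is trivial. -/
theorem eq_one_of_fix_five {d : Finset GolayPt} (hd : d ∈ dodecads) {x : Fin 5 → GolayPt}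
    (hx : Function.Injective x) (hxd : ∀ i, x i ∈ d) {g : Equiv.Perm GolayPt}
    (hg : g ∈ stabS d) (h : ∀ i, g (x i) = x i) : g = 1 := by
  obtain ⟨σ, hσ, rfl⟩ := exists_smul_dod0 hd
  obtain ⟨τ, hτ, hτx⟩ := exists_smul_five hd
    (x := fun i => σ (![some 4, some 3, some 2, some 1, some 0] i)) (y := x)
    (σ.injective.comp (by decide)) hx
    (fun i => apply_mem_smul_iff.2 (by rw [mem_ofMask]; revert i; decide +kernel)) hxd
  have h1 : σ⁻¹ * (τ⁻¹ * g * τ) * σ ∈ fix (stabS (ofMask dod0)) D5 := by
    refine ⟨(conj_mem_stabS hσ).2 ?_, ?_⟩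
    · have : σ * (σ⁻¹ * (τ⁻¹ * g * τ) * σ) * σ⁻¹ = τ⁻¹ * g * τ := by group
      rw [this]; exact mul_mem (mul_mem (inv_mem hτ) hg) hτ
    · have key : ∀ i, (σ⁻¹ * (τ⁻¹ * g * τ) * σ) • (![some 4, some 3, some 2, some 1, some 0] i
          : GolayPt) = ![some 4, some 3, some 2, some 1, some 0] i := by
        intro i
        simp only [Equiv.Perm.smul_def, Equiv.Perm.mul_apply, hτx i, h i]
        rw [← hτx i]; simp
      intro a ha
      simp only [D5, List.mem_cons, List.not_mem_nil, or_false] at ha
      rcases ha with rfl | rfl | rfl | rfl | rfl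
      exacts [key 0, key 1, key 2, key 3, key 4]
  rw [fix_D5, Subgroup.mem_bot] at h1
  have : g = τ * (σ * (σ⁻¹ * (τ⁻¹ * g * τ) * σ) * σ⁻¹) * τ⁻¹ := by group
  rw [this, h1]; group

/-- `k`-transitivity on the dodecad for `k ≤ 5`, in the form of lists. -/
theorem exists_apply_eq {d : Finset GolayPt} (hd : d ∈ dodecads) {p q : GolayPt} (hp : p ∈ d)
    (hq : q ∈ d) : ∃ g ∈ stabS d, g p = q := by
  obtain ⟨σ, hσ, rfl⟩ := exists_smul_dod0 hd
  obtain ⟨g, hg, h⟩ := transOn_dod0.1.1.1.1.exists_smul
    (fun g hg x hx => (apply_mem_iff hg x).2 hx) (n := 1) rfl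
    (x := fun _ => σ⁻¹ p) (y := fun _ => σ⁻¹ q)
    (Function.injective_of_subsingleton _) (Function.injective_of_subsingleton _)
    (fun _ => mem_smul_iff.1 hp) (fun _ => mem_smul_iff.1 hq)
  refine ⟨σ * g * σ⁻¹, (conj_mem_stabS hσ).1 hg, ?_⟩
  have := h 0
  rw [Equiv.Perm.smul_def] at this
  simp only [Equiv.Perm.mul_apply, this]
  simp

/-- `M24` is transitive on the pairs (dodecad, point of it). -/
theorem exists_smul_dod0_zero {d : Finset GolayPt} (hd : d ∈ dodecads) {p : GolayPt}
    (hp : p ∈ d) : ∃ σ ∈ M24, σ • ofMask dod0 = d ∧ σ (some 0) = p := by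
  obtain ⟨σ, hσ, rfl⟩ := exists_smul_dod0 hd
  obtain ⟨g, hg, h⟩ := exists_apply_eq hd (p := σ (some 0))
    (apply_mem_smul_iff.2 (by rw [mem_ofMask]; decide +kernel)) hp
  exact ⟨g * σ, mul_mem hg.1 hσ, by rw [mul_smul, hg.2], h⟩

/-- The points of a set `d`, acted on by the stabiliser of `d` in `M24`. -/
def setAct (d : Finset GolayPt) : SubMulAction (stabilizer M24 d) GolayPt where
  carrier := d
  smul_mem' g _ hx := (smul_eq_self_iff.1 g.2 _).2 hx

theorem card_setAct (d : Finset GolayPt) : Nat.card (setAct d) = d.card := by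
  rw [← Nat.card_eq_finsetCard]; rfl

theorem isSharp_dodecad {d : Finset GolayPt} (hd : d ∈ dodecads) :
    IsSharp (stabilizer M24 d) (setAct d) 5 := by
  constructor
  · rw [isMultiplyPretransitive_iff]
    intro x y
    obtain ⟨g, hg, h⟩ := exists_smul_five hd (x := fun i => (x i).1) (y := fun i => (y i).1)
      (Subtype.val_injective.comp x.injective) (Subtype.val_injective.comp y.injective)
      (fun i => (x i).2) (fun i => (y i).2)
    refine ⟨⟨⟨g, hg.1⟩, hg.2⟩, ?_⟩
    ext i : 2
    exact h i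
  · intro x
    rw [eq_bot_iff]
    intro g hg
    rw [Subgroup.mem_bot]
    apply Subtype.ext; apply Subtype.ext
    refine eq_one_of_fix_five hd (x := fun i => (x i).1)
      (Subtype.val_injective.comp x.injective) (fun i => (x i).2) ⟨g.1.2, g.2⟩ fun i => ?_
    have := congrArg (fun e : Fin 5 ↪ setAct d => (e i).1) (mem_stabilizer_iff.1 hg)
    exact this

theorem simple_stabilizer_dodecad {d : Finset GolayPt} (hd : d ∈ dodecads) :
    IsSimpleGroup (stabilizer M24 d) ∧ Nat.card (stabilizer M24 d) = 95040 :=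
  (isSharp_dodecad hd).simple_twelve (by rw [card_setAct, hd.2])

theorem simple_stabilizer_dodecad_point {d : Finset GolayPt} (hd : d ∈ dodecads) {p : GolayPt}
    (hp : p ∈ d) : IsSimpleGroup ↥(stabilizer M24 d ⊓ stabilizer M24 p) ∧
      Nat.card ↥(stabilizer M24 d ⊓ stabilizer M24 p) = 7920 := by
  have hs := isSharp_dodecad hd
  have hc : Nat.card (setAct d) = 12 := by rw [card_setAct, hd.2]
  have : IsPretransitive (stabilizer M24 d) (setAct d) :=
    isPretransitive_of_succ hs.trans (by omega)
  have h := (hs.ofStabilizer (⟨p, hp⟩ : setAct d)).simple_eleven (by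
    have := SubMulAction.nat_card_ofStabilizer_add_one_eq (stabilizer M24 d) (⟨p, hp⟩ : setAct d)
    omega)
  let e := equivOfMemIff (stabilizer (stabilizer M24 d) (⟨p, hp⟩ : setAct d))
    (stabilizer M24 d ⊓ stabilizer M24 p) inf_le_left (fun g =>
      ⟨fun h => ⟨g.2, congrArg Subtype.val (mem_stabilizer_iff.1 h)⟩,
        fun h => mem_stabilizer_iff.2 (Subtype.ext h.2)⟩)
  have := h.1
  exact ⟨e.symm.isSimpleGroup, by rw [← Nat.card_congr e.toEquiv, h.2]⟩

/-- The stabiliser of `d` as a subgroup of `M24` and as a group of permutations. -/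
def stabilizerEquivStabS (d : Finset GolayPt) : stabilizer M24 d ≃* stabS d :=
  stabilizerEquivInf M24 d

/-- The joint stabiliser of `d` and `p` as a subgroup of `M24` and as a group of permutations. -/
def stabilizerInfEquiv (d : Finset GolayPt) (p : GolayPt) :
    ↥(stabilizer M24 d ⊓ stabilizer M24 p) ≃* ↥(stabS d ⊓ stabilizer (Equiv.Perm GolayPt) p) :=
  equivOfMemIff _ _ (fun _ h => h.1.1) fun g => ⟨fun h => ⟨⟨g.2, h.1⟩, h.2⟩, fun h => ⟨h.1.2, h.2⟩⟩

theorem M11_eq : Spor.M11 =
    stabS (ofMask dod0) ⊓ stabilizer (Equiv.Perm GolayPt) (some 0 : GolayPt) := by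
  rw [Spor.M11, M12_eq]

theorem zero_mem_dod0 : (some 0 : GolayPt) ∈ ofMask dod0 := by rw [mem_ofMask]; decide +kernel

theorem isSimpleGroup_M12 : IsSimpleGroup Spor.M12 := by
  rw [M12_eq]
  have := (simple_stabilizer_dodecad dod0_mem).1
  exact (stabilizerEquivStabS _).symm.isSimpleGroup

theorem card_M12 : Nat.card Spor.M12 = 95040 := by rw [M12_eq, card_stabS_dodecad dod0_mem]

theorem isSimpleGroup_M11 : IsSimpleGroup Spor.M11 := by
  rw [M11_eq]
  have := (simple_stabilizer_dodecad_point dod0_mem zero_mem_dod0).1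
  exact (stabilizerInfEquiv _ _).symm.isSimpleGroup

theorem card_M11 : Nat.card Spor.M11 = 7920 := by
  rw [M11_eq, ← Nat.card_congr (stabilizerInfEquiv _ _).toEquiv,
    (simple_stabilizer_dodecad_point dod0_mem zero_mem_dod0).2]

theorem transOn_compl : TransOn (fix (stabS (ofMask dod0)) [(some 0 : GolayPt)])
    ((ofMask dod0)ᶜ : Finset GolayPt) [(some 10 : GolayPt), some 7, some 5] := by
  refine ⟨⟨⟨trivial, ?_⟩, ?_⟩, ?_⟩
  · exact transOn_step (In.fixes (In_stabS_all (gens := [485002728117560650162649541856343296,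
      470721058936465114454329643086783520]) (by decide +kernel)) (by decide +kernel))
      (by decide +kernel) 4 16436384
      (by decide +kernel) (by simp only [mem_compl, mem_ofMask]; decide +kernel)
  · exact transOn_step (In.fixes (In_stabS_all (gens := [311040308567657799878035427719463040])
      (by decide +kernel)) (by decide +kernel)) (by decide +kernel) 10 16436352
      (by decide +kernel) (by simp only [mem_compl, mem_ofMask]; decide +kernel)
  · exact transOn_step (In.fixes (In_stabS_all (gens := [609636766906207105165638742985410848,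
      434271311026020896944170343679989888]) (by decide +kernel)) (by decide +kernel))
      (by decide +kernel) 4 16436224
      (by decide +kernel) (by simp only [mem_compl, mem_ofMask]; decide +kernel)

/-- The stabiliser of a dodecad and one of its points is 3-transitive on the complement. -/
theorem exists_smul_three_compl {d : Finset GolayPt} (hd : d ∈ dodecads) {p : GolayPt}
    (hp : p ∈ d) {x y : Fin 3 → GolayPt} (hx : Function.Injective x) (hy : Function.Injective y)
    (hxd : ∀ i, x i ∉ d) (hyd : ∀ i, y i ∉ d) :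
    ∃ g ∈ stabS d, g p = p ∧ ∀ i, g (x i) = y i := by
  obtain ⟨σ, hσ, rfl, rfl⟩ := exists_smul_dod0_zero hd hp
  obtain ⟨g, hg, h⟩ := transOn_compl.exists_smul
    (fun g hg x hx => by
      rw [mem_coe, mem_compl] at hx ⊢
      exact fun h => hx ((apply_mem_iff hg.1 x).1 h)) (n := 3) rfl
    (x := fun i => σ⁻¹ (x i)) (y := fun i => σ⁻¹ (y i))
    (σ⁻¹.injective.comp hx) (σ⁻¹.injective.comp hy)
    (fun i => mem_coe.2 (mem_compl.2 fun h => hxd i (mem_smul_iff.2 h)))
    (fun i => mem_coe.2 (mem_compl.2 fun h => hyd i (mem_smul_iff.2 h)))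
  refine ⟨σ * g * σ⁻¹, (conj_mem_stabS hσ).1 hg.1, ?_, fun i => ?_⟩
  · have := hg.2 (some 0) List.mem_cons_self
    rw [Equiv.Perm.smul_def] at this
    simp [this]
  · have := h i
    rw [Equiv.Perm.smul_def] at this
    simp only [Equiv.Perm.mul_apply, this]
    simp

/-- The pointwise stabiliser of an octad has order 16. -/
theorem card_fixing_octad {o : Finset GolayPt} (ho : o ∈ octads) :
    Nat.card ↥(M24 ⊓ fixingSubgroup (Equiv.Perm GolayPt) (o : Set GolayPt)) = 16 := by
  have h0 : ofMask O0 ∈ octads := ofMask_mem_octads isOctad_O0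
  obtain ⟨σ, hσ, rfl⟩ := octad_trans h0 ho
  have e1 : (M24 ⊓ fixingSubgroup (Equiv.Perm GolayPt) (ofMask O0 : Set GolayPt)) = fix M24 B6 := by
    apply le_antisymm
    · intro g hg
      rw [Subgroup.mem_inf, mem_fixingSubgroup_iff] at hg
      refine ⟨hg.1, fun x hx => hg.2 x ?_⟩
      rw [mem_coe, mem_ofMask]; revert x; decide +kernel
    · refine fix_B6_le fun p hp => ?_
      have h1 := in_g6 p hp
      rw [Subgroup.mem_inf, mem_fixingSubgroup_iff]
      refine ⟨genM24_le h1.2, fun y hy => ?_⟩
      have key : ∀ p ∈ g6, ∀ y : GolayPt, O0.testBit (idx y) = true →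
          pt (app p (idx y)) = y := by decide +kernel
      rw [Equiv.Perm.smul_def, h1.1.apply]
      exact key p hp y (mem_ofMask.1 (mem_coe.1 hy))
  rw [← card_fix_B6, ← e1]
  refine (Nat.card_congr (equivOfConj _ _ σ fun g => ?_).toEquiv).symm
  simp only [Subgroup.mem_inf, mem_fixingSubgroup_iff, mem_coe]
  constructor
  · rintro ⟨h1, h2⟩
    refine ⟨mul_mem (mul_mem hσ h1) (inv_mem hσ), fun y hy => ?_⟩
    have := h2 _ (mem_smul_iff.1 hy)
    rw [Equiv.Perm.smul_def] at this ⊢
    simp only [Equiv.Perm.mul_apply, this]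
    simp
  · rintro ⟨h1, h2⟩
    refine ⟨by simpa [mul_assoc] using mul_mem (mul_mem (inv_mem hσ) h1) hσ, fun y hy => ?_⟩
    have := h2 _ (apply_mem_smul_iff.2 hy)
    rw [Equiv.Perm.smul_def] at this ⊢
    simpa using this

end CL.M12
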