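import Cfsg.Agent.Base
import Cfsg.Agent.Char.Congr
import Cfsg.Agent.Char.Ito
import Cfsg.Agent.Char.Burnside
import Cfsg.Agent.Char.Inflate
import Cfsg.Agent.Char.DefectZero
import Cfsg.Agent.Small.SimpleEmbed
import Cfsg.Agent.Small.SelfCent
import Cfsg.Agent.D1.Defs
import Cfsg.Agent.S0840
import Cfsg.Agent.S0192

/-!
# Tools for recognising small simple groups from their order

Values of irreducible characters of simple groups at involutions, class multiplication
coefficients of involutions, multiplicities of the principal character in restrictions, and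
elementary consequences of Brauer's defect-one data.
-/

set_option autoImplicit false

open Cfsg CL.Char Subgroup
open scoped ComplexConjugate

namespace CL.Ord

variable {G : Type*} [Group G] [Finite G]

section Values

omit [Finite G] in
theorem irr_ne_one {χ : IrrCharacter G} (h : χ ≠ irrOne G) : (χ : G → ℂ) ≠ fun _ => 1 :=
  fun e => h (Subtype.ext e)

omit [Finite G] in
theorem deg_irrOne : deg (irrOne G : G → ℂ) = 1 := deg_eq_of_apply_one (by simp [irrOne_apply])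

omit [Finite G] in
theorem apply_one_eq (χ : IrrCharacter G) : (χ : G → ℂ) 1 = ((deg (χ : G → ℂ) : ℤ) : ℂ) := by
  rw [← irr_cast_deg χ.2]; simp

theorem irr_norm_lt [IsSimpleGroup G] (hG : ¬ IsMulCommutative G) {χ : IrrCharacter G}
    (h : χ ≠ irrOne G) {g : G} (hg : g ≠ 1) : ‖(χ : G → ℂ) g‖ < deg (χ : G → ℂ) := by
  have h1 : ‖(χ : G → ℂ) 1‖ = deg (χ : G → ℂ) := by
    rw [← irr_cast_deg χ.2, Complex.norm_natCast]
  rw [← h1]
  refine lt_of_le_of_ne (char_norm_le (irr_isCharacter χ.2) g) fun e => hg ?_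
  have := (char_mem_charCenter_iff (irr_isCharacter χ.2)).2 e
  rwa [irr_charCenter_eq_center χ.2 (irr_charKer_eq_bot_of_simple χ.2 (irr_ne_one h)),
    CL.Small.center_eq_bot_of_simple hG, mem_bot] at this

theorem abs_lt_deg [IsSimpleGroup G] (hG : ¬ IsMulCommutative G) {χ : IrrCharacter G}
    (h : χ ≠ irrOne G) {g : G} (hg : g ≠ 1) {a : ℤ} (ha : (χ : G → ℂ) g = a) :
    |a| < deg (χ : G → ℂ) := by
  have := irr_norm_lt hG h hg
  rw [ha, Complex.norm_intCast] at this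
  exact_mod_cast this

theorem one_lt_deg [IsSimpleGroup G] (hG : ¬ IsMulCommutative G) {χ : IrrCharacter G}
    (h : χ ≠ irrOne G) : 1 < deg (χ : G → ℂ) := by
  have h0 := irr_deg_pos χ.2
  by_contra h1
  have h2 : deg (χ : G → ℂ) = 1 := by omega
  have h3 := (irr_apply_one_eq_one_iff χ.2).1 (by rw [← irr_cast_deg χ.2, h2, Nat.cast_one])
  rw [CL.Small.commutator_eq_top_of_simple hG,
    irr_charKer_eq_bot_of_simple χ.2 (irr_ne_one h)] at h3
  exact top_ne_bot (le_bot_iff.1 h3)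

theorem deg_sq_lt {χ : IrrCharacter G} (h : χ ≠ irrOne G) :
    deg (χ : G → ℂ) ^ 2 < Nat.card G := by
  classical
  have h1 := Finset.sum_le_sum_of_subset (f := fun ψ : IrrCharacter G => deg (ψ : G → ℂ) ^ 2)
    (Finset.subset_univ {χ, irrOne G})
  rw [Finset.sum_pair h, sum_deg_sq, deg_irrOne] at h1
  omega

omit [Finite G] in
/-- the value at an involution is congruent to the degree modulo four in a perfect group -/
theorem exists_int_invol [IsSimpleGroup G] (hG : ¬ IsMulCommutative G) (χ : IrrCharacter G)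
    {s : G} (hs : s ^ 2 = 1) :
    ∃ a : ℤ, (χ : G → ℂ) s = a ∧ a ≡ deg (χ : G → ℂ) [ZMOD 4] := by
  classical
  obtain ⟨χ, n, ρ, hρ, rfl⟩ := χ
  obtain ⟨b, l, hl, hb⟩ := exists_eigenbasis_of_pow_eq_one (ρ s) (n := 2) (by norm_num)
    (by rw [← map_pow, hs, map_one])
  have htr := trace_eq_sum_of_eigenbasis _ b l hb
  have hdet := det_eq_prod_of_eigenbasis _ b l hb
  have h1 : LinearMap.det (ρ s) = 1 := by
    have := CL.Small.hom_eq_one_of_comm hG
      ((LinearMap.det : (Module.End ℂ (Fin n → ℂ)) →* ℂ).comp ρ).toHomUnits s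
    simpa using congrArg Units.val this
  set T := Finset.univ.filter fun i => l i = -1 with hT
  have hl' : ∀ i, l i = if i ∈ T then -1 else 1 := fun i => by
    split_ifs with h
    · simpa [hT] using h
    · exact (sq_eq_one_iff.1 (hl i)).resolve_right (by simpa [hT] using h)
  have hprod : ∏ i, l i = (-1) ^ T.card := by
    rw [Finset.prod_congr rfl fun i _ => hl' i, Finset.prod_ite]
    simp
  have hsum : ∑ i, l i = (Module.finrank ℂ (Fin n → ℂ) : ℂ) - 2 * T.card := by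
    have : ∀ i, l i = 1 - 2 * if i ∈ T then 1 else 0 := fun i => by
      rw [hl' i]; split_ifs <;> norm_num
    rw [Finset.sum_congr rfl fun i _ => this i, Finset.sum_sub_distrib, ← Finset.mul_sum]
    simp
  have heven : Even T.card := by
    rw [h1, hprod] at hdet
    exact (neg_one_pow_eq_one_iff_even (by norm_num)).1 hdet.symm
  obtain ⟨m, hm⟩ := heven
  refine ⟨(Module.finrank ℂ (Fin n → ℂ) : ℤ) - 4 * m, ?_, ?_⟩
  · change LinearMap.trace ℂ _ (ρ s) = _
    rw [htr, hsum, hm]; push_cast; ring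
  · change _ ≡ (deg ρ.character : ℤ) [ZMOD 4]
    rw [deg_character]
    exact Int.modEq_iff_dvd.2 ⟨m, by ring⟩

end Values

section ClassSum

/-- class multiplication coefficient of two classes of involutions -/
theorem exists_classSum {s t : G} (hs : s ^ 2 = 1) (ht : t ^ 2 = 1) (y : G) :
    ∃ c : ℕ, c ≤ Nat.card {g : G // g * y * g⁻¹ = y⁻¹ ∧ IsConj s g} ∧
      (c : ℂ) * Nat.card G = ((centralizer ({s} : Set G)).index : ℂ) *
        ((centralizer ({t} : Set G)).index : ℂ) *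
        ∑ χ : IrrCharacter G, (χ : G → ℂ) s * (χ : G → ℂ) t * conj ((χ : G → ℂ) y) /
          (χ : G → ℂ) 1 := by
  have h := Cfsg.Agent.S0840.result s t y
  rw [card_isConj_eq_index, card_isConj_eq_index, finsum_eq_sum_of_fintype] at h
  have hsq : ∀ {a b : G}, a ^ 2 = 1 → IsConj a b → b⁻¹ = b := by
    intro a b ha hab
    obtain ⟨c, rfl⟩ := isConj_iff.1 hab
    rw [inv_eq_iff_mul_eq_one, ← pow_two, conj_pow, ha]
    simp
  refine ⟨_, Nat.card_le_card_of_injective
    (fun q : {q : G × G // IsConj s q.1 ∧ IsConj t q.2 ∧ q.1 * q.2 = y} =>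
      (⟨q.1.1, ?_, q.2.1⟩ : {g : G // g * y * g⁻¹ = y⁻¹ ∧ IsConj s g})) ?_, ?_⟩
  · obtain ⟨⟨a, b⟩, ha, hb, rfl⟩ := q
    have ha' := hsq hs ha
    have hb' := hsq ht hb
    dsimp only at ha' hb' ⊢
    rw [mul_inv_rev, ha', hb', ← mul_assoc, show a * a = 1 by rw [← mul_inv_cancel a, ha'],
      one_mul]
  · rintro ⟨⟨a, b⟩, ha, hb, h1⟩ ⟨⟨a', b'⟩, ha', hb', h2⟩ e
    have e1 : a = a' := congrArg Subtype.val e
    subst e1
    have e2 : b = b' := mul_left_cancel (h1.trans h2.symm)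
    subst e2
    rfl
  · rw [h]
    have : (Nat.card G : ℂ) ≠ 0 := Nat.cast_ne_zero.2 Nat.card_pos.ne'
    field_simp

theorem card_inverting_le (s y : G) :
    Nat.card {g : G // g * y * g⁻¹ = y⁻¹ ∧ IsConj s g} ≤
      Nat.card (centralizer ({y} : Set G)) := by
  by_cases h : IsConj y⁻¹ y
  · rw [card_centralizer_eq_of_isConj h.symm, ← card_conjugators_of_isConj h]
    exact Nat.card_le_card_of_injective (fun g => ⟨g.1, g.2.1⟩) fun a b e =>
      Subtype.ext (congrArg Subtype.val e :)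
  · have : IsEmpty {g : G // g * y * g⁻¹ = y⁻¹ ∧ IsConj s g} :=
      ⟨fun g => h (isConj_iff.2 ⟨g.1, g.2.1⟩ : IsConj y y⁻¹).symm⟩
    rw [Nat.card_of_isEmpty]
    exact Nat.zero_le _

/-- a non-real element is not a product of two involutions -/
theorem classSum_eq_zero {s t : G} (hs : s ^ 2 = 1) (ht : t ^ 2 = 1) {y : G}
    (hy : ¬ IsConj y y⁻¹) :
    ∑ χ : IrrCharacter G, (χ : G → ℂ) s * (χ : G → ℂ) t * conj ((χ : G → ℂ) y) /
      (χ : G → ℂ) 1 = 0 := by
  obtain ⟨c, hc, h⟩ := exists_classSum hs ht y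
  have : IsEmpty {g : G // g * y * g⁻¹ = y⁻¹ ∧ IsConj s g} :=
    ⟨fun g => hy (isConj_iff.2 ⟨g.1, g.2.1⟩)⟩
  rw [Nat.card_of_isEmpty, Nat.le_zero] at hc
  rw [hc, Nat.cast_zero, zero_mul] at h
  have h1 : ∀ a : G, ((centralizer ({a} : Set G)).index : ℂ) ≠ 0 := fun a =>
    Nat.cast_ne_zero.2 index_ne_zero_of_finite
  exact (mul_eq_zero.1 h.symm).resolve_left (mul_ne_zero (h1 s) (h1 t))

end ClassSum

section Restrict

theorem sum_eq_sum_add (H P : Subgroup G) [Fintype H] [Fintype P] (hPH : P ≤ H) (f : G → ℂ)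
    (c : ℂ) (hc : ∀ g ∈ H, g ∉ P → f g = c) :
    ∑ g : H, f g = ∑ g : P, f g + ((Nat.card H : ℂ) - Nat.card P) * c := by
  classical
  have := Fintype.ofFinite G
  have e : ∀ (K : Subgroup G) [Fintype K], ∑ g : K, f g - Nat.card K * c =
      ∑ g ∈ Finset.univ.filter (· ∈ K), (f g - c) := by
    intro K _
    rw [Finset.sum_subtype (p := (· ∈ K)) (F := inferInstance) _ (by simp),
      Finset.sum_sub_distrib]
    simp
  have h := Finset.sum_subset (s₁ := Finset.univ.filter (· ∈ P))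
    (s₂ := Finset.univ.filter (· ∈ H)) (f := fun g => f g - c)
    (fun g hg => by simpa using hPH (by simpa using hg))
    (fun g hg hg' => by rw [hc g (by simpa using hg) (by simpa using hg'), sub_self])
  rw [← e, ← e] at h
  linear_combination -h

theorem sum_eq_of_const (P : Subgroup G) [Fintype P] (f : G → ℂ) (c : ℂ)
    (hc : ∀ g ∈ P, g ≠ 1 → f g = c) : ∑ g : P, f g = f 1 + ((Nat.card P : ℂ) - 1) * c := by
  classical
  have := Fintype.ofFinite (⊥ : Subgroup G)
  rw [sum_eq_sum_add P ⊥ bot_le f c fun g hg hg' => hc g hg (by simpa using hg')]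
  have : Unique (⊥ : Subgroup G) := inferInstance
  simp [(Subsingleton.elim default 1 : (default : (⊥ : Subgroup G)) = 1)]

theorem inner_one_eq (H P : Subgroup G) [Fintype H] (hPH : P ≤ H) (f : G → ℂ) (c m : ℂ)
    (hc : ∀ g ∈ P, g ≠ 1 → f g = c) (hm : f 1 + ((Nat.card P : ℂ) - 1) * c = Nat.card P * m)
    (hH : ∀ g ∈ H, g ∉ P → f g = m) : classInner (fun g : H => f g) (fun _ => 1) = m := by
  have := Fintype.ofFinite P
  rw [classInner_one_right, sum_eq_sum_add H P hPH f m hH, sum_eq_of_const P f c hc, hm]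
  have : (Nat.card H : ℂ) ≠ 0 := Nat.cast_ne_zero.2 Nat.card_pos.ne'
  field_simp
  ring

/-- Brauer's trick in the form used for the Mathieu groups. -/
theorem sup_ne_top [IsSimpleGroup G] {χ : IrrCharacter G} (hχ : χ ≠ irrOne G)
    (H₁ H₂ P Q : Subgroup G) (hP : P ≤ H₁) (hQ : H₁ ⊓ H₂ = Q) (c m : ℕ)
    (h1 : ∀ g ∈ P, g ≠ 1 → (χ : G → ℂ) g = 0) (h2 : deg (χ : G → ℂ) = Nat.card P)
    (h3 : ∀ g ∈ H₁, g ∉ P → (χ : G → ℂ) g = 1) (h4 : ∀ g ∈ Q, g ≠ 1 → (χ : G → ℂ) g = c)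
    (h5 : deg (χ : G → ℂ) + Nat.card Q * c = Nat.card Q * m + c)
    (h6 : ∀ g ∈ H₂, g ∉ Q → (χ : G → ℂ) g = m) : H₁ ⊔ H₂ ≠ ⊤ := by
  have := Fintype.ofFinite G
  have := Fintype.ofFinite H₁
  have := Fintype.ofFinite H₂
  have := Fintype.ofFinite ↥(H₁ ⊓ H₂)
  have h5' : (χ : G → ℂ) 1 + ((Nat.card Q : ℂ) - 1) * c = Nat.card Q * m := by
    have : ((deg (χ : G → ℂ) + Nat.card Q * c : ℕ) : ℂ) = (Nat.card Q * m + c : ℕ) := by rw [h5]
    push_cast at this
    rw [← irr_cast_deg χ.2]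
    linear_combination this
  refine Cfsg.Agent.S0192.result H₁ H₂ χ χ.2 (irr_ne_one hχ) ?_
  rw [inner_one_eq H₁ P hP χ 0 1 h1 (by rw [← irr_cast_deg χ.2, h2]; ring) h3,
    inner_one_eq H₂ Q (hQ ▸ inf_le_right) χ c m h4 h5' h6,
    inner_one_eq (H₁ ⊓ H₂) Q hQ.ge χ c m h4 h5' fun g hg hg' => absurd (hQ ▸ hg) hg']
  simp

end Restrict

section Local

theorem exists_sylow_eq_zpowers {p : ℕ} [hp : Fact p.Prime] {z : G} (hz : orderOf z = p)
    (hP : ¬ p ^ 2 ∣ Nat.card G) : ∃ P : Sylow p G, (P : Subgroup G) = zpowers z := by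
  have hcard : Nat.card (zpowers z) = p := by rw [Nat.card_zpowers, hz]
  have h1 : IsPGroup p (zpowers z) := IsPGroup.of_card (n := 1) (by simpa using hcard)
  obtain ⟨P, hle⟩ := h1.exists_le_sylow
  obtain ⟨k, hk⟩ := IsPGroup.iff_card.1 P.isPGroup'
  refine ⟨P, (eq_of_le_of_card_ge hle ?_).symm⟩
  rw [hk, hcard]
  have : k < 2 := by
    by_contra h
    exact hP ((pow_dvd_pow p (not_lt.1 h)).trans (hk ▸ card_subgroup_dvd_card _))
  calc p ^ k ≤ p ^ 1 := Nat.pow_le_pow_right hp.out.pos (by omega)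
    _ = p := pow_one p

/-- every element of order `p` is conjugate to a power of `z` -/
theorem exists_isConj_pow {p : ℕ} [hp : Fact p.Prime] {z : G} (hz : orderOf z = p)
    (hP : ¬ p ^ 2 ∣ Nat.card G) {g : G} (hg : orderOf g = p) :
    ∃ j : ℕ, 0 < j ∧ j < p ∧ IsConj g (z ^ j) := by
  classical
  obtain ⟨P, hP'⟩ := exists_sylow_eq_zpowers hz hP
  obtain ⟨c, hc⟩ := CL.Small.exists_conj_mem_sylow_of_orderOf P (k := 1) (by simpa using hg)
  rw [hP', mem_zpowers_iff_mem_range_orderOf] at hc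
  obtain ⟨j, hj, e⟩ := Finset.mem_image.1 hc
  have hc' : IsConj g (z ^ j) := isConj_iff.2 ⟨c⁻¹, by rw [e]; simp⟩
  refine ⟨j, Nat.pos_of_ne_zero ?_, hz ▸ Finset.mem_range.1 hj, hc'⟩
  rintro rfl
  rw [pow_zero, isConj_one_left] at hc'
  rw [hc', orderOf_one] at hg
  exact hp.out.ne_one hg.symm

/-- if an element of order `p` is self-centralising, `p`-singular elements have order `p` -/
theorem orderOf_eq_of_selfCent {p : ℕ} [hp : Fact p.Prime] {z : G} (hz : orderOf z = p)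
    (hC : centralizer ({z} : Set G) = zpowers z) {g : G} (hg : p ∣ orderOf g) :
    orderOf g = p := by
  have h1 : orderOf (g ^ (orderOf g / p)) = p := orderOf_pow_orderOf_div (orderOf_pos g).ne' hg
  have h2 := CL.Small.card_centralizer_of_self_centralizing hz hC h1
  have h3 : g ∈ centralizer ({g ^ (orderOf g / p)} : Set G) :=
    mem_centralizer_singleton_iff.2 (Commute.self_pow g _).eq
  have h4 := Subgroup.orderOf_dvd_natCard _ h3
  rw [h2] at h4
  exact Nat.dvd_antisymm h4 hg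

omit [Finite G] in
theorem mem_normalizer_zpowers {z g : G} {k : ℕ} (hz : IsOfFinOrder z) (h : g * z * g⁻¹ = z ^ k) :
    g ∈ normalizer ((zpowers z : Subgroup G) : Set G) := by
  have : Finite (zpowers z) := finite_zpowers.2 hz
  refine mem_normalizer_fintype (S := ((zpowers z : Subgroup G) : Set G)) ?_
  rintro _ ⟨j, rfl⟩
  exact ⟨k * j, by simp only; rw [← conj_zpow, h, zpow_mul, zpow_natCast]⟩

/-- the elements centralising or inverting `y` -/
def extCent (y : G) : Subgroup G where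
  carrier := {g | g * y * g⁻¹ = y ∨ g * y * g⁻¹ = y⁻¹}
  one_mem' := Or.inl (by simp)
  mul_mem' := by
    intro a b ha hb
    have e : a * b * y * (a * b)⁻¹ = a * (b * y * b⁻¹) * a⁻¹ := by group
    have e' : a * y⁻¹ * a⁻¹ = (a * y * a⁻¹)⁻¹ := by group
    rcases ha with ha | ha <;> rcases hb with hb | hb <;>
      simp only [Set.mem_ofPred_eq, e, hb, e', ha, inv_inv, true_or, or_true]
  inv_mem' := by
    intro a ha
    rcases ha with ha | ha
    · left
      conv_lhs => rw [← ha]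
      group
    · right
      calc a⁻¹ * y * a⁻¹⁻¹ = (a⁻¹ * y⁻¹ * a)⁻¹ := by group
        _ = (a⁻¹ * (a * y * a⁻¹) * a)⁻¹ := by rw [ha]
        _ = y⁻¹ := by group

omit [Finite G] in
/-- an element inverting a self-centralising element of odd order is an involution -/
theorem sq_eq_one_of_inverts {y g : G} (hy : Odd (orderOf y))
    (hC : centralizer ({y} : Set G) = zpowers y) (h : g * y * g⁻¹ = y⁻¹) : g ^ 2 = 1 := by
  have h1 : g ^ 2 ∈ centralizer ({y} : Set G) := by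
    rw [mem_centralizer_singleton_iff, ← mul_inv_eq_iff_eq_mul]
    calc g ^ 2 * y * (g ^ 2)⁻¹ = g * (g * y * g⁻¹) * g⁻¹ := by rw [pow_two]; group
      _ = g * y⁻¹ * g⁻¹ := by rw [h]
      _ = (g * y * g⁻¹)⁻¹ := by group
      _ = y := by rw [h, inv_inv]
  rw [hC] at h1
  obtain ⟨j, hj⟩ := h1
  dsimp only at hj
  have h2 : (y ^ j) ^ 2 = 1 := by
    have h3 : g * y ^ j * g⁻¹ = (y ^ j)⁻¹ := by rw [← conj_zpow, h, inv_zpow]
    rw [hj] at h3 ⊢
    rw [pow_two, ← eq_inv_iff_mul_eq_one, ← h3]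
    group
  have h4 : (y ^ j) ^ orderOf y = 1 := by
    rw [← zpow_natCast, ← zpow_mul, mul_comm, zpow_mul, zpow_natCast, pow_orderOf_eq_one, one_zpow]
  rw [← hj]
  have h5 := pow_gcd_eq_one.2 ⟨h2, h4⟩
  rwa [(Nat.coprime_two_left.2 hy).gcd_eq_one, pow_one] at h5

end Local

theorem sum_eq_sum_card_mul {ι : Type*} (S : Finset ι) (f : ι → ℕ) (L : Finset ℕ)
    (h : ∀ i ∈ S, f i ∈ L) (g : ℕ → ℤ) :
    ∑ i ∈ S, g (f i) = ∑ v ∈ L, ((S.filter fun i => f i = v).card : ℤ) * g v := by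
  rw [← Finset.sum_fiberwise_of_maps_to' h]
  simp

/-- the support of an integer vector of squared length two -/
theorem exists_pair_of_sum_sq {ι : Type*} (S : Finset ι) (c : ι → ℤ) (h : ∑ i ∈ S, c i ^ 2 = 2) :
    ∃ a ∈ S, ∃ b ∈ S, a ≠ b ∧ c a ^ 2 = 1 ∧ c b ^ 2 = 1 ∧ ∀ i ∈ S, i ≠ a → i ≠ b → c i = 0 := by
  classical
  obtain ⟨a, ha, ha0⟩ : ∃ a ∈ S, c a ≠ 0 := by
    by_contra h0
    push Not at h0
    rw [Finset.sum_eq_zero fun i hi => by rw [h0 i hi]; norm_num] at h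
    omega
  have hsq : ∀ z : ℤ, z ≠ 0 → z ^ 2 ≤ 2 → z ^ 2 = 1 := fun z h0 h1 => by
    have : z < 2 := by nlinarith
    have : -2 < z := by nlinarith
    interval_cases z <;> simp_all
  rw [← Finset.add_sum_erase S _ ha] at h
  have hn := Finset.sum_nonneg (s := S.erase a) (f := fun i => c i ^ 2) fun i _ => sq_nonneg _
  have ha1 := hsq _ ha0 (by omega)
  obtain ⟨b, hb, hb0⟩ : ∃ b ∈ S.erase a, c b ≠ 0 := by
    by_contra h0
    push Not at h0
    rw [Finset.sum_eq_zero fun i hi => by rw [h0 i hi]; norm_num] at h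
    omega
  rw [← Finset.add_sum_erase _ _ hb] at h
  have hn' := Finset.sum_nonneg (s := (S.erase a).erase b) (f := fun i => c i ^ 2)
    fun i _ => sq_nonneg _
  have hb1 := hsq _ hb0 (by omega)
  refine ⟨a, ha, b, Finset.mem_of_mem_erase hb, (Finset.ne_of_mem_erase hb).symm, ha1, hb1,
    fun i hi hia hib => ?_⟩
  have h0 : ∑ i ∈ (S.erase a).erase b, c i ^ 2 = 0 := by omega
  have := (Finset.sum_eq_zero_iff_of_nonneg fun i _ => sq_nonneg _).1 h0 i
    (by simp [hi, hia, hib])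
  exact pow_eq_zero_iff two_ne_zero |>.1 this

section Data

variable {p : ℕ} [hp : Fact p.Prime] {z : G} (D : CL.D1.Data G p z)

theorem deg_A_modEq (hz : orderOf z = p) {χ : IrrCharacter G} (h : χ ∈ D.A) :
    (deg (χ : G → ℂ) : ℤ) ≡ D.δ χ [ZMOD p] :=
  (gen_modEq_apply_one (gen_of_irr χ.2) (a := 1) hp.out
    (by rw [pow_one, ← hz, pow_orderOf_eq_one]) (D.apply_A χ h z (hz ▸ dvd_rfl))
    (apply_one_eq χ)).symm

/-- values at elements commuting with `z` -/
theorem val_A_modEq (hz : orderOf z = p) {χ : IrrCharacter G} (h : χ ∈ D.A) {k : G}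
    (hk : k ∈ D.K) {a : ℤ} (ha : (χ : G → ℂ) k = a) : a ≡ D.δ χ [ZMOD p] := by
  obtain ⟨h1, h2⟩ := (D.mem_K k).1 hk
  refine (gen_modEq_of_commute (gen_of_irr χ.2) (a := 1) h1.eq hp.out
    (by rw [pow_one, ← hz, pow_orderOf_eq_one]) (D.apply_A χ h _ ?_) ha).symm
  rw [h1.orderOf_mul_eq_mul_orderOf_of_coprime
    (hz ▸ (Nat.Prime.coprime_iff_not_dvd hp.out).2 h2), hz]
  exact dvd_mul_right _ _

theorem rel_int (a : (ZMod p)ˣ) {g : G} (hg : ¬ p ∣ orderOf g) (v : IrrCharacter G → ℤ)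
    (hv : ∀ χ ∈ D.A, (χ : G → ℂ) g = v χ) :
    (D.θ a : G → ℂ) g = ((-D.ε * ∑ χ ∈ D.A, D.δ χ * v χ : ℤ) : ℂ) := by
  have h := D.rel a g hg
  rw [Finset.sum_congr rfl fun χ hχ => by rw [hv χ hχ]] at h
  have h2 : (D.ε : ℂ) * D.ε = 1 := by rcases D.ε_sign with e | e <;> simp [e]
  push_cast
  linear_combination D.ε * h - (D.θ a : G → ℂ) g * h2

theorem rel_one (a : (ZMod p)ˣ) :
    (deg (D.θ a : G → ℂ) : ℤ) = -D.ε * ∑ χ ∈ D.A, D.δ χ * deg (χ : G → ℂ) := by
  have h := rel_int D a (g := 1) (by simpa using hp.out.ne_one) (fun χ => deg (χ : G → ℂ))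
    fun χ _ => apply_one_eq χ
  rw [apply_one_eq] at h
  exact_mod_cast h

theorem θ_ne_one (a : (ZMod p)ˣ) : D.θ a ≠ irrOne G := fun e => D.θ_notMem a (e ▸ D.one_mem_A)

theorem card_H_dvd : Nat.card D.H ∣ p - 1 := by
  have := card_subgroup_dvd_card D.H
  rwa [Nat.card_eq_fintype_card (α := (ZMod p)ˣ), ZMod.card_units] at this

theorem one_lt_card_H [IsSimpleGroup G] (hG : ¬ IsMulCommutative G) : 1 < Nat.card D.H := by
  by_contra h
  have h0 : 0 < Nat.card D.H := Nat.card_pos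
  have h1 : D.A.card = 1 := by rw [D.card_A]; omega
  obtain ⟨χ, hχ⟩ := Finset.card_eq_one.1 h1
  have h2 : χ = irrOne G := (Finset.mem_singleton.1 (hχ ▸ D.one_mem_A)).symm
  have h3 := rel_one D 1
  rw [hχ, Finset.sum_singleton, h2, D.δ_one, deg_irrOne] at h3
  have h4 := one_lt_deg hG (θ_ne_one D 1)
  rcases D.ε_sign with e | e <;> rw [e] at h3 <;> omega

theorem card_normalizer_eq :
    Nat.card (normalizer ((zpowers z : Subgroup G) : Set G)) =
      Nat.card D.H * (Nat.card D.K * p) := by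
  rw [D.card_K, D.card_H]
  have hle : centralizer ({z} : Set G) ≤ normalizer ((zpowers z : Subgroup G) : Set G) := by
    rw [← CL.Small.centralizer_zpowers_eq]
    exact centralizer_le_normalizer _
  rw [relIndex, ← Nat.card_congr (subgroupOfEquivOfLe hle).toEquiv, index_mul_card]

omit D in
theorem index_normalizer_modEq (hz : orderOf z = p) (hP : ¬ p ^ 2 ∣ Nat.card G) :
    (normalizer ((zpowers z : Subgroup G) : Set G)).index % p = 1 := by
  obtain ⟨P, hP'⟩ := exists_sylow_eq_zpowers hz hP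
  have h := card_sylow_modEq_one p G
  rw [P.card_eq_index_normalizer] at h
  change (normalizer ((P : Subgroup G) : Set G)).index ≡ 1 [MOD p] at h
  rw [hP'] at h
  rw [h, Nat.mod_eq_of_lt hp.out.one_lt]

omit D in
theorem relIndex_normalizer_modEq (hz : orderOf z = p) (hP : ¬ p ^ 2 ∣ Nat.card G)
    (M : Subgroup G) (hM : z ∈ M) :
    (normalizer ((zpowers z : Subgroup G) : Set G)).relIndex M % p = 1 := by
  have h := index_normalizer_modEq (G := M) (z := ⟨z, hM⟩) (by rw [← hz, ← orderOf_coe])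
    fun h => hP (h.trans (card_subgroup_dvd_card M))
  have e : (zpowers (⟨z, hM⟩ : M)) = (zpowers z).subgroupOf M := by
    ext g
    simp only [mem_zpowers_iff, mem_subgroupOf, Subtype.ext_iff, SubgroupClass.coe_zpow]
  rwa [e, ← subgroupOf_normalizer_eq (zpowers_le.2 hM)] at h

omit D in
theorem exists_card_subgroup_eq (hz : orderOf z = p) (hP : ¬ p ^ 2 ∣ Nat.card G)
    (M : Subgroup G) (hM : z ∈ M) : ∃ m, m % p = 1 ∧
      m * Nat.card ↥(normalizer ((zpowers z : Subgroup G) : Set G) ⊓ M) = Nat.card M :=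
  ⟨_, relIndex_normalizer_modEq hz hP M hM, by
    rw [← inf_relIndex_right, relIndex,
      ← Nat.card_congr (subgroupOfEquivOfLe (inf_le_right)).toEquiv, index_mul_card]⟩

theorem exists_card_eq (hz : orderOf z = p) (hP : ¬ p ^ 2 ∣ Nat.card G) :
    ∃ n, n % p = 1 ∧ n * (Nat.card D.H * (Nat.card D.K * p)) = Nat.card G :=
  ⟨_, index_normalizer_modEq hz hP, by rw [← card_normalizer_eq D, index_mul_card]⟩

theorem selfCent_of_card_K (hz : orderOf z = p) (hK : Nat.card D.K = 1) :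
    centralizer ({z} : Set G) = zpowers z := by
  refine (eq_of_le_of_card_ge (zpowers_le.2 (mem_centralizer_singleton_iff.2 rfl)) ?_).symm
  rw [← D.card_K, hK, one_mul, Nat.card_zpowers, hz]

theorem other_eq_zero (hK : Nat.card D.K = 1) {χ : IrrCharacter G} (h1 : χ ∉ D.A)
    (h2 : ∀ a, χ ≠ D.θ a) : (χ : G → ℂ) z = 0 := by
  have h := D.other χ h1 h2 1 (by simpa using hp.out.ne_one)
  have : Subsingleton D.K := (Nat.card_eq_one_iff_unique.1 hK).1
  rw [finsum_eq_single _ (1 : D.K) fun y hy => absurd (Subsingleton.elim _ _) hy] at h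
  simpa using h

theorem dvd_deg_other (hz : orderOf z = p) (hK : Nat.card D.K = 1) {χ : IrrCharacter G}
    (h1 : χ ∉ D.A) (h2 : ∀ a, χ ≠ D.θ a) : p ∣ deg (χ : G → ℂ) :=
  char_prime_dvd_deg_of_eq_zero (irr_isCharacter χ.2) (a := 1) hp.out
    (by rw [pow_one, ← hz, pow_orderOf_eq_one]) (other_eq_zero D hK h1 h2)

/-- an element of prime order `q` in `K` -/
theorem exists_mem_K {q : ℕ} (hq : q.Prime) (h : q ∣ Nat.card D.K) :
    ∃ k ∈ D.K, orderOf k = q := by
  have : Fact q.Prime := ⟨hq⟩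
  obtain ⟨k, hk⟩ := exists_prime_orderOf_dvd_card' q h
  exact ⟨k, k.2, by rw [← hk, orderOf_coe]⟩

theorem isConj_pow_of_card_H (h : Nat.card D.H = p - 1) {j : ℕ} (hj : ¬ p ∣ j) (hz : orderOf z = p) :
    IsConj z (z ^ j) := by
  have hH : D.H = ⊤ := eq_top_of_card_eq _ (by
    rw [h, Nat.card_eq_fintype_card (α := (ZMod p)ˣ), ZMod.card_units])
  have hj' : (j : ZMod p) ≠ 0 := by rwa [Ne, ZMod.natCast_eq_zero_iff]
  have := (D.mem_H (Units.mk0 _ hj')).1 (hH ▸ mem_top _)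
  rwa [Units.val_mk0, ZMod.val_natCast, ← pow_eq_pow_mod j (hz ▸ pow_orderOf_eq_one z)] at this

end Data

end CL.Ord
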