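import Cfsg.Agent.Base
import Cfsg.Agent.Spor.OrdTools

/-!
# Simple groups of order 7920: the principal 11-block
-/

set_option autoImplicit false

open Cfsg CL.Char Subgroup
open scoped ComplexConjugate

namespace CL.Ord.M11

instance instFactPrimeEleven : Fact (Nat.Prime 11) := ⟨by norm_num⟩

set_option synthInstance.maxSize 100000 in
set_option synthInstance.maxHeartbeats 200000 in
theorem arith_block : ∀ a ≤ 4, ∀ b ≤ 4, ∀ c ≤ 4, a + b + c = 4 → ∀ t ≤ 88, t ∣ 7920 →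
    a * 100 + b * 144 + c * 2025 + 2 * t ^ 2 ≤ 7920 →
    (t + 10 * a = 1 + 12 * b + 45 * c → (t = 16 ∧ b = 0) ∨ (t = 5 ∧ b = 2)) ∧
      t + 1 + 12 * b + 45 * c ≠ 10 * a := by decide +kernel

variable {G : Type*} [Group G] [Finite G] [IsSimpleGroup G] (hG : Nat.card G = 7920)
include hG

omit [Finite G] in
theorem not_comm : ¬ IsMulCommutative G :=
  CL.Small.not_comm_of_simple_of_not_prime (by rw [hG]; norm_num)

omit [IsSimpleGroup G] in
theorem deg_le {χ : IrrCharacter G} (h : χ ≠ irrOne G) :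
    deg (χ : G → ℂ) ≤ 88 ∧ deg (χ : G → ℂ) ∣ 7920 := by
  have h1 := deg_sq_lt h
  rw [hG] at h1
  exact ⟨by nlinarith, hG ▸ irr_deg_dvd_card χ.2⟩

variable {x : G} (hx : orderOf x = 11) (D : CL.D1.Data G 11 x)
include hx

theorem deg_A {χ : IrrCharacter G} (h : χ ∈ D.A) (h1 : χ ≠ irrOne G) :
    (deg (χ : G → ℂ) = 10 ∧ D.δ χ = -1) ∨ (deg (χ : G → ℂ) = 12 ∧ D.δ χ = 1) ∨
      (deg (χ : G → ℂ) = 45 ∧ D.δ χ = 1) := by
  obtain ⟨h2, h3⟩ := deg_le hG h1
  have h4 := one_lt_deg (not_comm hG) h1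
  have h5 := deg_A_modEq D hx h
  have key : ∀ d ≤ 88, 1 < d → d ∣ 7920 → (d % 11 = 1 ∨ d % 11 = 10) →
      d = 10 ∨ d = 12 ∨ d = 45 := by decide +kernel
  rw [Int.ModEq] at h5
  rcases D.δ_sign χ h with e | e <;> rw [e] at h5 ⊢ <;>
    rcases key _ h2 h4 h3 (by omega) with e | e | e <;> simp only [e] at h5 ⊢ <;> simp_all

theorem card_K_H : Nat.card D.K = 1 ∧ Nat.card D.H = 5 := by
  classical
  obtain ⟨n, hn, e⟩ := exists_card_eq D hx (by rw [hG]; norm_num)
  have h1 := one_lt_card_H D (not_comm hG)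
  have h2 := card_H_dvd D
  have h3 : Nat.card D.H = 2 ∨ Nat.card D.H = 5 ∨ Nat.card D.H = 10 := by
    have := Nat.le_of_dvd (by norm_num) h2
    generalize Nat.card D.H = m at h1 h2 this ⊢
    interval_cases m <;> simp_all
  by_cases hK : 2 ∣ Nat.card D.K
  · exfalso
    obtain ⟨s, hs, hs2⟩ := exists_mem_K D Nat.prime_two hK
    have hs1 : s ≠ 1 := by rintro rfl; simp at hs2
    have h45 : ∀ χ ∈ D.A.erase (irrOne G), D.δ χ * deg (χ : G → ℂ) = 45 := by
      intro χ hχ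
      obtain ⟨hne, hA⟩ := Finset.mem_erase.1 hχ
      obtain ⟨a, ha, h4⟩ := exists_int_invol (not_comm hG) χ (hs2 ▸ pow_orderOf_eq_one s)
      have h5 := val_A_modEq D hx hA hs ha
      have h6 := abs_lt.1 (abs_lt_deg (not_comm hG) hne hs1 ha)
      rw [Int.ModEq] at h4 h5
      rcases deg_A hG hx D hA hne with ⟨e1, e2⟩ | ⟨e1, e2⟩ | ⟨e1, e2⟩ <;>
        rw [e1] at h4 h6 ⊢ <;> rw [e2] at h5 ⊢ <;> omega
    have h7 := rel_one D 1
    rw [← Finset.add_sum_erase _ _ D.one_mem_A, Finset.sum_congr rfl h45, D.δ_one, deg_irrOne,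
      Finset.sum_const, Finset.card_erase_of_mem D.one_mem_A, D.card_A] at h7
    obtain ⟨h8, h9⟩ := deg_le hG (θ_ne_one D 1)
    generalize deg (D.θ 1 : G → ℂ) = t at h7 h8 h9
    rcases h3 with e | e | e <;> rw [e] at h7 <;> rcases D.ε_sign with e' | e' <;>
      rw [e'] at h7 <;> simp only [nsmul_eq_mul] at h7 <;>
      first
        | omega
        | (obtain rfl : t = 46 := by omega
           norm_num at h9)
  · rw [hG] at e
    have hn' : n ∣ 720 := ⟨Nat.card D.H * Nat.card D.K, by nlinarith⟩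
    have key : ∀ n ≤ 720, n ∣ 720 → n % 11 = 1 → n = 1 ∨ n = 12 ∨ n = 45 ∨ n = 144 := by
      decide +kernel
    rcases key n (Nat.le_of_dvd (by norm_num) hn') hn' hn with e1 | e1 | e1 | e1 <;>
      rcases h3 with e2 | e2 | e2 <;> rw [e1, e2] at e <;> omega

/-- a non-residue modulo 11 -/
def two : (ZMod 11)ˣ := ⟨2, 6, by decide, by decide⟩

theorem θ_ne : D.θ 1 ≠ D.θ two := by
  rw [Ne, D.θ_eq_iff, inv_one, one_mul]
  intro h
  have h1 := Subgroup.orderOf_dvd_natCard _ h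
  rw [(card_K_H hG hx D).2, orderOf_dvd_iff_pow_eq_one] at h1
  exact absurd (congrArg Units.val h1) (by decide)

include D in
theorem isConj_cube : IsConj x (x ^ 3) := by
  have h1 : D.H.index = 2 := by
    have := D.H.index_mul_card
    rw [(card_K_H hG hx D).2, Nat.card_eq_fintype_card, ZMod.card_units] at this
    omega
  have h2 := (D.mem_H _).1 (D.H.sq_mem_of_index_two h1 ⟨5, 9, by decide, by decide⟩)
  exact h2

theorem block_cases :
    (D.ε = -1 ∧ (∀ a, deg (D.θ a : G → ℂ) = 16) ∧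
      ∀ χ ∈ D.A, χ ≠ irrOne G → 5 ∣ deg (χ : G → ℂ)) ∨
    (deg (D.θ 1 : G → ℂ) = 5 ∧ ∃ χ ψ : IrrCharacter G, χ ≠ ψ ∧ deg (χ : G → ℂ) = 12 ∧
      deg (ψ : G → ℂ) = 12) := by
  classical
  set S := D.A.erase (irrOne G) with hS
  have hmem : ∀ χ ∈ S, deg (χ : G → ℂ) ∈ ({10, 12, 45} : Finset ℕ) := fun χ hχ => by
    obtain ⟨hne, hA⟩ := Finset.mem_erase.1 hχ
    rcases deg_A hG hx D hA hne with h | h | h <;> simp [h.1]
  have hc := fun g => sum_eq_sum_card_mul S (fun χ => deg (χ : G → ℂ)) _ hmem g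
  have c0 := hc fun _ => 1
  have c1 := hc fun d => if d = 10 then -10 else d
  have c2 := hc fun d => d ^ 2
  have hrel : ∀ a, (deg (D.θ a : G → ℂ) : ℤ) =
      -D.ε * (1 + ∑ χ ∈ S, if deg (χ : G → ℂ) = 10 then -10 else (deg (χ : G → ℂ) : ℤ)) := by
    intro a
    rw [rel_one D a, ← Finset.add_sum_erase _ _ D.one_mem_A, D.δ_one, deg_irrOne]
    congr 2
    refine Finset.sum_congr rfl fun χ hχ => ?_
    obtain ⟨hne, hA⟩ := Finset.mem_erase.1 hχ
    rcases deg_A hG hx D hA hne with h | h | h <;> simp [h.1, h.2]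
  have hsq : ∑ χ ∈ S, (deg (χ : G → ℂ) : ℤ) ^ 2 + 2 * (deg (D.θ 1 : G → ℂ) : ℤ) ^ 2 ≤ 7920 := by
    have h1 := Finset.sum_le_sum_of_subset (f := fun ψ : IrrCharacter G => deg (ψ : G → ℂ) ^ 2)
      (Finset.subset_univ (insert (D.θ 1) (insert (D.θ two) S)))
    rw [Finset.sum_insert (by simp [θ_ne hG hx D, hS, D.θ_notMem]),
      Finset.sum_insert (by simp [hS, D.θ_notMem]), sum_deg_sq, hG] at h1
    have h2 : deg (D.θ two : G → ℂ) = deg (D.θ 1 : G → ℂ) := by
      have := (hrel two).trans (hrel 1).symm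
      exact_mod_cast this
    rw [h2] at h1
    zify at h1
    omega
  rw [c1] at hrel
  rw [c2] at hsq
  simp only [Finset.sum_const, hS, Finset.card_erase_of_mem D.one_mem_A, D.card_A,
    (card_K_H hG hx D).2] at c0
  rw [← hS] at c0
  rw [Finset.sum_insert (by decide), Finset.sum_pair (by decide)] at c0 hsq
  simp only [Finset.sum_insert (show 10 ∉ ({12, 45} : Finset ℕ) by decide),
    Finset.sum_pair (show 12 ≠ 45 by decide)] at hrel
  obtain ⟨b, hb⟩ : ∃ b, b = (S.filter fun χ : IrrCharacter G => deg (χ : G → ℂ) = 12).card := ⟨_, rfl⟩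
  rw [← hb] at c0 hsq hrel
  generalize (S.filter fun χ : IrrCharacter G => deg (χ : G → ℂ) = 10).card = a at c0 hsq hrel
  generalize (S.filter fun χ : IrrCharacter G => deg (χ : G → ℂ) = 45).card = c at c0 hsq hrel
  norm_num at c0 hsq hrel
  obtain ⟨hle, hd⟩ := deg_le hG (θ_ne_one D 1)
  have h1 := hrel 1
  have hpos := irr_deg_pos (D.θ 1).2
  have key : (D.ε = -1 ∧ deg (D.θ 1 : G → ℂ) = 16 ∧ b = 0) ∨
      (deg (D.θ 1 : G → ℂ) = 5 ∧ b = 2) := by
    generalize deg (D.θ 1 : G → ℂ) = t at *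
    have := arith_block a (by omega) b (by omega) c (by omega) (by omega) t hle hd (by zify; omega)
    rcases D.ε_sign with e | e <;> rw [e] at h1 ⊢ <;> omega
  rcases key with ⟨k1, k2, k3⟩ | ⟨k1, k2⟩
  · refine Or.inl ⟨k1, fun a => ?_, fun χ hA hne => ?_⟩
    · have := (hrel a).trans h1.symm
      rw [k2] at this
      exact_mod_cast this
    · rcases deg_A hG hx D hA hne with h | h | h
      · simp [h.1]
      · rw [k3, eq_comm, Finset.card_eq_zero, Finset.filter_eq_empty_iff] at hb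
        exact absurd h.1 (hb (Finset.mem_erase.2 ⟨hne, hA⟩))
      · simp [h.1]
  · rw [k2, eq_comm, Finset.card_eq_two] at hb
    obtain ⟨χ, ψ, hne, e⟩ := hb
    have m1 : χ ∈ S.filter fun χ : IrrCharacter G => deg (χ : G → ℂ) = 12 := by simp [e]
    have m2 : ψ ∈ S.filter fun χ : IrrCharacter G => deg (χ : G → ℂ) = 12 := by simp [e]
    exact Or.inr ⟨k1, χ, ψ, hne, (Finset.mem_filter.1 m1).2, (Finset.mem_filter.1 m2).2⟩

end CL.Ord.M11
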