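import Cfsg.Agent.Base
import Cfsg.Agent.Spor.M11OrdA
import Cfsg.Agent.D1.Main

/-!
# Simple groups of order 7920: elements of order 5 and involutions
-/

set_option autoImplicit false

open Cfsg CL.Char Subgroup
open scoped ComplexConjugate

namespace CL.Ord.M11

instance instFactPrimeFive : Fact (Nat.Prime 5) := ⟨by norm_num⟩

set_option synthInstance.maxSize 100000 in
set_option synthInstance.maxHeartbeats 200000 in
theorem arith_five : ∀ d ≤ 88, d ∣ 7920 → (11 ∣ d ∨ d = 16) → ∀ d' ≤ 88, d' ∣ 7920 →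
    (11 ∣ d' ∨ d' = 16) → (d % 5 = 1 → d' % 5 = 4 → 33 + d = d' → d = 11 ∧ d' = 44) := by
  decide +kernel

set_option synthInstance.maxSize 100000 in
set_option synthInstance.maxHeartbeats 200000 in
theorem arith_invol_aux : ∀ k ≤ 204, k ∣ 7920 → ∀ c ≤ 5, ∀ a ≤ 20,
    c * 348480 + k ^ 2 * (62 * a) = k ^ 2 * (3 * a ^ 2 + 363) → k = 165 ∧ a = 13 := by
  decide +kernel

theorem arith_invol (k : ℕ) (hk : k ∣ 7920) (c : ℕ) (hc : c ≤ 5) (a : ℕ) (ha : a ≤ 20)
    (h : c * 348480 + k ^ 2 * (62 * a) = k ^ 2 * (3 * a ^ 2 + 363)) : k = 165 ∧ a = 13 := by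
  refine arith_invol_aux k ?_ hk c hc a ha h
  have h1 : 62 * a + 42 ≤ 3 * a ^ 2 + 363 := by interval_cases a <;> norm_num
  have h2 := Nat.mul_le_mul_left (k ^ 2) h1
  have h3 : k ^ 2 * 42 ≤ 5 * 348480 := by nlinarith
  nlinarith

variable {G : Type*} [Group G] [Finite G] [IsSimpleGroup G] (hG : Nat.card G = 7920)
  {x : G} (hx : orderOf x = 11) (D : CL.D1.Data G 11 x)
include hG

omit [IsSimpleGroup G] in
theorem vanish {p n : ℕ} (hp : p.Prime) (hn : ¬ p ^ (n + 1) ∣ 7920) (χ : IrrCharacter G)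
    (h : p ^ n ∣ deg (χ : G → ℂ)) {g : G} (hg : p ∣ orderOf g) : (χ : G → ℂ) g = 0 :=
  irr_eq_zero_of_pow_dvd_deg χ.2 hp (hG ▸ hn) h hg

include hx D

theorem selfCent_x : centralizer ({x} : Set G) = zpowers x :=
  selfCent_of_card_K D hx (card_K_H hG hx D).1

theorem θ_five (hε : D.ε = -1) (hA : ∀ χ ∈ D.A, χ ≠ irrOne G → 5 ∣ deg (χ : G → ℂ))
    (a : (ZMod 11)ˣ) {g : G} (hg : 5 ∣ orderOf g) : (D.θ a : G → ℂ) g = 1 := by
  classical
  have h11 : ¬ 11 ∣ orderOf g := fun h => by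
    rw [orderOf_eq_of_selfCent hx (selfCent_x hG hx D) h] at hg
    norm_num at hg
  rw [rel_int D a h11 (fun χ => if χ = irrOne G then 1 else 0) fun χ hχ => by
    split_ifs with h
    · simp [h, irrOne_apply]
    · simpa using vanish hG (n := 1) Nat.prime_five (by norm_num) χ (by simpa using hA χ hχ h) hg]
  simp [hε, D.one_mem_A, D.δ_one]

theorem no_ten {y s : G} (hy : orderOf y = 5) (hs : orderOf s = 2) (h : Commute y s) : False := by
  have ho : orderOf (y * s) = 10 := by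
    rw [h.orderOf_mul_eq_mul_orderOf_of_coprime (by rw [hy, hs]; norm_num), hy, hs]
  rcases block_cases hG hx D with ⟨h1, h2, h3⟩ | ⟨h1, -⟩
  · have e1 := θ_five hG hx D h1 h3 1 (g := y * s) (by rw [ho]; norm_num)
    rw [vanish hG (n := 4) Nat.prime_two (by norm_num) _ (by rw [h2]; norm_num)
      (by rw [ho]; norm_num)] at e1
    exact zero_ne_one e1
  · have e1 := vanish hG (n := 1) Nat.prime_five (by norm_num) (D.θ 1) (by rw [h1]; norm_num)
      (g := y * s) (by rw [ho]; norm_num)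
    obtain ⟨a, ha, h4⟩ := exists_int_invol (not_comm hG) (D.θ 1) (hs ▸ pow_orderOf_eq_one s)
    have h5 := gen_modEq_of_commute (gen_of_irr (D.θ 1).2) (a := 1) h.eq Nat.prime_five
      (by rw [pow_one, ← hy, pow_orderOf_eq_one]) (u := 0) (by simpa using e1) ha
    have h6 := abs_lt.1 (abs_lt_deg (not_comm hG) (θ_ne_one D 1)
      (by rintro rfl; simp at hs) ha)
    rw [h1] at h4 h6
    rw [Int.ModEq] at h4 h5
    omega

theorem card_K_H_five {y : G} (hy : orderOf y = 5) (E : CL.D1.Data G 5 y) :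
    Nat.card E.K = 1 ∧ Nat.card E.H = 4 := by
  obtain ⟨n, hn, e⟩ := exists_card_eq E hy (by rw [hG]; norm_num)
  have h1 := one_lt_card_H E (not_comm hG)
  have h3 : Nat.card E.H = 2 ∨ Nat.card E.H = 4 := by
    have h2 := card_H_dvd E
    have := Nat.le_of_dvd (by norm_num) h2
    generalize Nat.card E.H = m at h1 h2 this ⊢
    interval_cases m <;> simp_all
  have h2 : ¬ 2 ∣ Nat.card E.K := fun h => by
    obtain ⟨s, hs, hs2⟩ := exists_mem_K E Nat.prime_two h
    exact no_ten hG hx D hy hs2 ((E.mem_K s).1 hs).1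
  have h11 : ¬ 11 ∣ Nat.card E.K := fun h => by
    obtain ⟨s, hs, hs2⟩ := exists_mem_K E (q := 11) (by norm_num) h
    have ho : orderOf (y * s) = 55 := by
      rw [((E.mem_K s).1 hs).1.orderOf_mul_eq_mul_orderOf_of_coprime
        (by rw [hy, hs2]; norm_num), hy, hs2]
    have := orderOf_eq_of_selfCent hx (selfCent_x hG hx D) (g := y * s) (by rw [ho]; norm_num)
    omega
  rw [hG] at e
  have hk : Nat.card E.K ∣ 1584 := ⟨n * Nat.card E.H, by nlinarith⟩
  have key : ∀ k ≤ 1584, k ∣ 1584 → ¬ 2 ∣ k → ¬ 11 ∣ k → k = 1 ∨ k = 3 ∨ k = 9 := by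
    decide +kernel
  rcases key _ (Nat.le_of_dvd (by norm_num) hk) hk h2 h11 with e1 | e1 | e1 <;>
    rcases h3 with e2 | e2 <;> rw [e1, e2] at e <;> omega

theorem five_local {y : G} (hy : orderOf y = 5) :
    centralizer ({y} : Set G) = zpowers y ∧
      Nat.card (normalizer ((zpowers y : Subgroup G) : Set G)) = 20 ∧
      ∀ g : G, orderOf g = 5 → IsConj y g := by
  obtain ⟨E⟩ := CL.D1.nonempty_data hy (by rw [hG]; norm_num)
  obtain ⟨h1, h2⟩ := card_K_H_five hG hx D hy E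
  refine ⟨selfCent_of_card_K E hy h1, by rw [card_normalizer_eq E, h1, h2], fun g hg => ?_⟩
  obtain ⟨j, h3, h4, h5⟩ := exists_isConj_pow hy (by rw [hG]; norm_num) hg
  exact (isConj_pow_of_card_H E h2 (Nat.not_dvd_of_pos_of_lt h3 h4) hy).trans h5.symm

theorem five_column {y : G} (hy : orderOf y = 5) :
    ∃ c : IrrCharacter G → ℤ, (∀ χ : IrrCharacter G, (χ : G → ℂ) y = c χ) ∧
      (∀ χ, c χ ≡ deg (χ : G → ℂ) [ZMOD 5]) ∧ ∑ χ, c χ ^ 2 = 5 := by
  obtain ⟨h1, -, h3⟩ := five_local hG hx D hy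
  choose c hc using fun χ : IrrCharacter G => gen_exists_int_of_forall_isConj (gen_of_irr χ.2)
    (g := y) fun k hk => h3 _ (by rw [hk.symm.orderOf_pow, hy])
  refine ⟨c, hc, fun χ => ?_, ?_⟩
  · exact gen_modEq_apply_one (gen_of_irr χ.2) (a := 1) Nat.prime_five
      (by rw [pow_one, ← hy, pow_orderOf_eq_one]) (hc χ) (apply_one_eq χ)
  · have := sum_irr_norm_sq y
    rw [h1, Nat.card_zpowers, hy] at this
    simp only [hc, Complex.norm_intCast, sq_abs] at this
    exact_mod_cast this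

theorem caseA : D.ε = -1 ∧ (∀ a, deg (D.θ a : G → ℂ) = 16) ∧
    ∀ χ ∈ D.A, χ ≠ irrOne G → 5 ∣ deg (χ : G → ℂ) := by
  classical
  refine (block_cases hG hx D).resolve_right ?_
  rintro ⟨-, χ, ψ, hne, h1, h2⟩
  obtain ⟨y, hy⟩ := exists_prime_orderOf_dvd_card' (G := G) 5 (by rw [hG]; norm_num)
  obtain ⟨c, -, hc, hs⟩ := five_column hG hx D hy
  have h3 := Finset.sum_le_sum_of_subset_of_nonneg (f := fun χ => c χ ^ 2)
    (Finset.subset_univ {χ, ψ}) fun _ _ _ => sq_nonneg _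
  rw [Finset.sum_pair hne, hs] at h3
  have h4 := hc χ
  have h5 := hc ψ
  rw [Int.ModEq, h1] at h4
  rw [Int.ModEq, h2] at h5
  have key : ∀ z : ℤ, z % 5 = 2 → 4 ≤ z ^ 2 := fun z hz => by
    rcases (by omega : 2 ≤ z ∨ z ≤ -3) with h | h <;> nlinarith
  have := key _ h4
  have := key _ h5
  omega

/-- the column of the character table at an element of order five -/
theorem exists_column {y : G} (hy : orderOf y = 5) :
    ∃ χ ψ : IrrCharacter G, deg (χ : G → ℂ) = 11 ∧ deg (ψ : G → ℂ) = 44 ∧ (χ : G → ℂ) y = 1 ∧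
      ∀ F : IrrCharacter G → ℂ, ∑ φ, F φ * conj ((φ : G → ℂ) y) =
        F (irrOne G) + F (D.θ 1) + F (D.θ two) + F χ - F ψ := by
  classical
  obtain ⟨hε, h16, hA⟩ := caseA hG hx D
  obtain ⟨c, hc, hmod, hs⟩ := five_column hG hx D hy
  have cθ : ∀ a, c (D.θ a) = 1 := fun a => by
    have := θ_five hG hx D hε hA a (g := y) (by rw [hy])
    rw [hc] at this
    exact_mod_cast this
  have c1 : c (irrOne G) = 1 := by
    have := hc (irrOne G)
    rw [irrOne_apply] at this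
    exact_mod_cast this.symm
  set T : Finset (IrrCharacter G) := {irrOne G, D.θ 1, D.θ two} with hT
  have hsumT : ∀ {M : Type} [AddCommMonoid M] (f : IrrCharacter G → M),
      ∑ φ, f φ = f (irrOne G) + f (D.θ 1) + f (D.θ two) + ∑ φ ∈ Tᶜ, f φ := by
    intro M _ f
    rw [← Finset.sum_add_sum_compl T, hT, Finset.sum_insert
      (by simp [(θ_ne_one D _).symm]), Finset.sum_pair (θ_ne hG hx D), ← add_assoc]
  rw [hsumT, c1, cθ, cθ] at hs
  obtain ⟨χ, hχ, ψ, hψ, hne, h1, h2, h0⟩ := exists_pair_of_sum_sq Tᶜ c (by omega)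
  have hF : ∀ F : IrrCharacter G → ℂ, ∑ φ, F φ * conj ((φ : G → ℂ) y) =
      F (irrOne G) + F (D.θ 1) + F (D.θ two) + (F χ * c χ + F ψ * c ψ) := by
    intro F
    simp only [hc, map_intCast]
    rw [hsumT, c1, cθ, cθ, ← Finset.sum_subset (s₁ := {χ, ψ}) (by simp [Finset.insert_subset_iff,
      hχ, hψ]) (fun i hi hi' => by rw [h0 i hi (by rintro rfl; simp at hi')
        (by rintro rfl; simp at hi')]; simp), Finset.sum_pair hne]
    simp
  have hdeg : ∀ φ ∈ Tᶜ, c φ ^ 2 = 1 → deg (φ : G → ℂ) ≤ 88 ∧ deg (φ : G → ℂ) ∣ 7920 ∧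
      (11 ∣ deg (φ : G → ℂ) ∨ deg (φ : G → ℂ) = 16) := by
    intro φ hφ h
    have hφ1 : φ ≠ irrOne G := by rintro rfl; simp [hT] at hφ
    refine ⟨(deg_le hG hφ1).1, (deg_le hG hφ1).2, ?_⟩
    by_cases h' : ∃ a, φ = D.θ a
    · obtain ⟨a, rfl⟩ := h'
      exact Or.inr (h16 a)
    · push Not at h'
      refine Or.inl (dvd_deg_other D hx (card_K_H hG hx D).1 (fun hφA => ?_) h')
      have := vanish hG (n := 1) Nat.prime_five (by norm_num) φ (by simpa using hA φ hφA hφ1)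
        (g := y) (by rw [hy])
      rw [hc, Int.cast_eq_zero] at this
      simp [this] at h
  have horth := hF fun φ => (φ : G → ℂ) 1
  rw [sum_irr_mul_conj_of_not_isConj (by
    rw [isConj_one_right]; rintro rfl; simp at hy)] at horth
  simp only [apply_one_eq, deg_irrOne, h16] at horth
  have horth' : (0 : ℤ) = 33 + (deg (χ : G → ℂ) * c χ + deg (ψ : G → ℂ) * c ψ) := by
    have : ((0 : ℤ) : ℂ) = ((33 + (deg (χ : G → ℂ) * c χ + deg (ψ : G → ℂ) * c ψ) : ℤ) : ℂ) := by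
      push_cast at horth ⊢
      linear_combination horth
    exact_mod_cast this
  obtain ⟨a1, a2, a3⟩ := hdeg χ hχ h1
  obtain ⟨b1, b2, b3⟩ := hdeg ψ hψ h2
  have m1 := hmod χ
  have m2 := hmod ψ
  rw [Int.ModEq] at m1 m2
  rcases sq_eq_one_iff.1 h1 with e1 | e1 <;> rcases sq_eq_one_iff.1 h2 with e2 | e2 <;>
    rw [e1] at horth' m1 <;> rw [e2] at horth' m2
  · omega
  · obtain ⟨k1, k2⟩ := arith_five _ a1 a2 a3 _ b1 b2 b3 (by omega) (by omega) (by omega)
    refine ⟨χ, ψ, k1, k2, by rw [hc, e1]; simp, fun F => ?_⟩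
    rw [hF, e1, e2]; push_cast; ring
  · obtain ⟨k1, k2⟩ := arith_five _ b1 b2 b3 _ a1 a2 a3 (by omega) (by omega) (by omega)
    refine ⟨ψ, χ, k1, k2, by rw [hc, e2]; simp, fun F => ?_⟩
    rw [hF, e1, e2]; push_cast; ring
  · exfalso
    have key : ∀ d ≤ 33, (11 ∣ d ∨ d = 16) → d % 5 ≠ 4 := by decide
    exact key _ (by omega) a3 (by omega)

/-- the character of degree 11 and the involutions -/
theorem exists_eleven {y : G} (hy : orderOf y = 5) :
    ∃ χ : IrrCharacter G, deg (χ : G → ℂ) = 11 ∧ (χ : G → ℂ) y = 1 ∧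
      ∀ s : G, orderOf s = 2 → (χ : G → ℂ) s = 3 ∧ (centralizer ({s} : Set G)).index = 165 := by
  obtain ⟨χ, ψ, h11, h44, hχ, hF⟩ := exists_column hG hx D hy
  obtain ⟨hε, h16, hA⟩ := caseA hG hx D
  refine ⟨χ, h11, hχ, fun s hs => ?_⟩
  have hs2 : s ^ 2 = 1 := hs ▸ pow_orderOf_eq_one s
  obtain ⟨a, ha, -⟩ := exists_int_invol (not_comm hG) χ hs2
  have hθ : ∀ a, (D.θ a : G → ℂ) s = 0 := fun a =>
    vanish hG (n := 4) Nat.prime_two (by norm_num) _ (by rw [h16]; norm_num) (by rw [hs])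
  have h1 := hF fun φ => (φ : G → ℂ) s
  rw [sum_irr_mul_conj_of_not_isConj (fun h => by
    have := CL.Small.orderOf_eq_of_isConj h
    omega)] at h1
  simp only [hθ, irrOne_apply, ha] at h1
  have hb : (ψ : G → ℂ) s = a + 1 := by linear_combination h1
  obtain ⟨c, hc, h2⟩ := exists_classSum hs2 hs2 y
  have hc5 : c ≤ 5 := by
    have := card_inverting_le s y
    rw [(five_local hG hx D hy).1, Nat.card_zpowers, hy] at this
    omega
  have h3 := hF fun φ => (φ : G → ℂ) s * (φ : G → ℂ) s / (φ : G → ℂ) 1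
  simp only [hθ, irrOne_apply, ha, hb, ← irr_cast_deg χ.2, ← irr_cast_deg ψ.2, h11, h44] at h3
  rw [Finset.sum_congr rfl fun φ _ => mul_div_right_comm _ _ _, h3, hG] at h2
  have hlt := abs_lt.1 (abs_lt_deg (not_comm hG) (χ := χ)
    (by rintro rfl; rw [deg_irrOne] at h11; omega) (by rintro rfl; simp at hs) ha)
  rw [h11] at hlt
  obtain ⟨b, rfl⟩ : ∃ b : ℕ, a = b - 10 := ⟨(a + 10).toNat, by omega⟩
  have hk : (centralizer ({s} : Set G)).index ∣ 7920 := hG ▸ index_dvd_card _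
  generalize (centralizer ({s} : Set G)).index = k at h2 hk ⊢
  obtain ⟨k1, k2⟩ := arith_invol k hk c hc5 b (by omega) (by
    have : ((c * 348480 + k ^ 2 * (62 * b) : ℕ) : ℂ) = (k ^ 2 * (3 * b ^ 2 + 363) : ℕ) := by
      push_cast at h2 ⊢
      linear_combination 44 * h2
    exact_mod_cast this)
  rw [ha, k2]
  exact ⟨by norm_num, k1⟩

end CL.Ord.M11
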