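import Cfsg.Agent.Base
import Cfsg.Agent.Small.SimpleEmbed
import Cfsg.Agent.Small.FixedCosets

/-!
# Coordinates for permutation groups of degree `p + 1` containing a `p`-cycle

Permutations of `Fin n` are described by functions `ℕ → ℕ` (`Rep`), which the kernel evaluates
quickly.  `HasModel G n s` says that `G` has a faithful action on `Fin n` and generators acting as
the functions `s j`; two groups with the same model are isomorphic.
-/

set_option autoImplicit false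

open Subgroup MulAction

namespace CL.Ord

/-- `i ↦ i + k` on `ℤ/p ∪ {∞}`, with `∞` coded as `p` -/
def addf (p k i : ℕ) : ℕ := if i = p then p else (i + k) % p

/-- `i ↦ r * i` on `ℤ/p ∪ {∞}`, with `∞` coded as `p` -/
def mulf (p r i : ℕ) : ℕ := if i = p then p else (r * i) % p

/-- the permutation `σ` is given by the function `f` -/
def Rep {n : ℕ} (σ : Equiv.Perm (Fin n)) (f : ℕ → ℕ) : Prop :=
  ∀ i : Fin n, ((σ i : Fin n) : ℕ) = f i

/-- evaluation of a word -/
def evalW {ι : Type*} (s : ι → ℕ → ℕ) (w : List ι) (i : ℕ) : ℕ := w.foldr (fun j a => s j a) i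

section RepLemmas

variable {n : ℕ} {σ τ : Equiv.Perm (Fin n)} {f f' : ℕ → ℕ}

theorem Rep.one : Rep (1 : Equiv.Perm (Fin n)) id := fun _ => rfl

theorem Rep.mul (h : Rep σ f) (h' : Rep τ f') : Rep (σ * τ) (fun i => f (f' i)) := fun i => by
  rw [Equiv.Perm.mul_apply, h, h']

theorem Rep.congr (h : Rep σ f) (e : ∀ i < n, f i = f' i) : Rep σ f' := fun i => by
  rw [h, e i i.2]

theorem Rep.eq (h : Rep σ f) (h' : Rep τ f') (e : ∀ i < n, f i = f' i) : σ = τ :=
  Equiv.ext fun i => Fin.ext (by rw [h, h', e i i.2])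

theorem Rep.apply_eq (h : Rep σ f) (h' : Rep σ f') : ∀ i < n, f i = f' i := fun i hi => by
  have h1 := h ⟨i, hi⟩
  have h2 := h' ⟨i, hi⟩
  exact h1.symm.trans h2

theorem Rep.lt (h : Rep σ f) : ∀ i < n, f i < n := fun i hi => by
  have h1 := h ⟨i, hi⟩
  simp only at h1
  rw [← h1]
  exact (σ ⟨i, hi⟩).2

theorem Rep.inj (h : Rep σ f) : ∀ i < n, ∀ j < n, f i = f j → i = j := fun i hi j hj e => by
  have h1 := h ⟨i, hi⟩
  have h2 := h ⟨j, hj⟩
  have : σ ⟨i, hi⟩ = σ ⟨j, hj⟩ := Fin.ext (h1.trans (e.trans h2.symm))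
  exact congrArg Fin.val (σ.injective this)

theorem Rep.pow (h : Rep σ f) (m : ℕ) : Rep (σ ^ m) (f^[m]) := by
  induction m with
  | zero => exact Rep.one
  | succ m ih => rw [pow_succ]; exact ih.mul h

theorem exists_rep (σ : Equiv.Perm (Fin n)) : ∃ f, Rep σ f :=
  ⟨fun i => if h : i < n then (σ ⟨i, h⟩ : ℕ) else 0, fun i => by simp⟩

theorem exists_perm_rep (m m' : ℕ → ℕ)
    (h : ∀ i < n, m i < n ∧ m' i < n ∧ m' (m i) = i ∧ m (m' i) = i) :
    ∃ μ : Equiv.Perm (Fin n), Rep μ m :=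
  ⟨⟨fun i => ⟨m i, (h i i.2).1⟩, fun i => ⟨m' i, (h i i.2).2.1⟩,
    fun i => Fin.ext (h i i.2).2.2.1, fun i => Fin.ext (h i i.2).2.2.2⟩, fun _ => rfl⟩

theorem Rep.conj {μ : Equiv.Perm (Fin n)} {m : ℕ → ℕ} (hμ : Rep μ m) (h : Rep σ f)
    (e : ∀ i < n, f' (m i) = m (f i)) : Rep (μ * σ * μ⁻¹) f' := fun i => by
  obtain ⟨j, rfl⟩ := μ.surjective i
  rw [hμ j, e j j.2, ← h j, ← hμ]
  simp

end RepLemmas

section Words

variable {G : Type*} [Group G] {n : ℕ} {ι : Type*}

theorem rep_prod (ρ : G →* Equiv.Perm (Fin n)) (g : ι → G) (s : ι → ℕ → ℕ)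
    (h : ∀ j, Rep (ρ (g j)) (s j)) (w : List ι) : Rep (ρ (w.map g).prod) (evalW s w) := by
  induction w with
  | nil => rw [List.map_nil, List.prod_nil, map_one]; exact Rep.one
  | cons j w ih =>
    rw [List.map_cons, List.prod_cons, map_mul]
    exact (h j).mul ih

theorem Rep.map_mul {ρ : G →* Equiv.Perm (Fin n)} {g h : G} {f f' : ℕ → ℕ} (hg : Rep (ρ g) f)
    (hh : Rep (ρ h) f') : Rep (ρ (g * h)) (fun i => f (f' i)) := by
  rw [_root_.map_mul]; exact hg.mul hh

theorem Rep.map_pow {ρ : G →* Equiv.Perm (Fin n)} {g : G} {f : ℕ → ℕ} (hg : Rep (ρ g) f) (m : ℕ) :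
    Rep (ρ (g ^ m)) (f^[m]) := by
  rw [_root_.map_pow]; exact hg.pow m

theorem Rep.map_one (ρ : G →* Equiv.Perm (Fin n)) : Rep (ρ 1) id := by
  rw [_root_.map_one]; exact Rep.one

theorem Rep.map_eq {ρ : G →* Equiv.Perm (Fin n)} (hρ : Function.Injective ρ) {g h : G}
    {f f' : ℕ → ℕ} (hg : Rep (ρ g) f) (hh : Rep (ρ h) f') (e : ∀ i < n, f i = f' i) : g = h :=
  hρ (hg.eq hh e)

theorem Rep.map_ne {ρ : G →* Equiv.Perm (Fin n)} {g h : G}
    {f f' : ℕ → ℕ} (hg : Rep (ρ g) f) (hh : Rep (ρ h) f') (e : ∃ i < n, f i ≠ f' i) : g ≠ h := by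
  rintro rfl
  obtain ⟨i, hi, e⟩ := e
  exact e (hg.apply_eq hh i hi)

/-- a point of period `m` for an element with `g ^ N = 1` has period `gcd m N` -/
theorem Rep.iterate_gcd (ρ : G →* Equiv.Perm (Fin n)) {g : G} {f : ℕ → ℕ} (h : Rep (ρ g) f)
    {N : ℕ} (hN : g ^ N = 1) {m i : ℕ} (hi : i < n) (hm : f^[m] i = i) :
    f^[Nat.gcd m N] i = i := by
  have h1 : f^[N] i = i := by
    have h2 := h.pow N
    rw [← _root_.map_pow, hN, _root_.map_one] at h2
    exact (h2.apply_eq Rep.one i hi)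
  exact Function.IsPeriodicPt.gcd (f := f) hm h1

/-- `G` acts faithfully on `Fin n`, with generators acting as the functions `s j` -/
def HasModel (G : Type*) [Group G] (n : ℕ) (s : ι → ℕ → ℕ) : Prop :=
  ∃ (ρ : G →* Equiv.Perm (Fin n)) (g : ι → G), Function.Injective ρ ∧
    closure (Set.range g) = ⊤ ∧ ∀ j, Rep (ρ (g j)) (s j)

theorem HasModel.nonempty_equiv {G' : Type*} [Group G'] {s : ι → ℕ → ℕ} (h : HasModel G n s)
    (h' : HasModel G' n s) : Nonempty (G ≃* G') := by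
  obtain ⟨ρ, g, hρ, hg, hs⟩ := h
  obtain ⟨ρ', g', hρ', hg', hs'⟩ := h'
  have e : ρ.range = ρ'.range := by
    rw [MonoidHom.range_eq_map, MonoidHom.range_eq_map, ← hg, ← hg', MonoidHom.map_closure,
      MonoidHom.map_closure, ← Set.range_comp, ← Set.range_comp]
    congr 2
    funext j
    exact (hs j).eq (hs' j) fun _ _ => rfl
  exact ⟨(MonoidHom.ofInjective hρ).trans ((MulEquiv.subgroupCongr e).trans
    (MonoidHom.ofInjective hρ').symm)⟩

/-- change of coordinates -/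
theorem hasModel_of_conj (ρ : G →* Equiv.Perm (Fin n)) (hρ : Function.Injective ρ) (g : ι → G)
    (hg : closure (Set.range g) = ⊤) (t s : ι → ℕ → ℕ) (ht : ∀ j, Rep (ρ (g j)) (t j))
    (m m' : ℕ → ℕ) (hm : ∀ i < n, m i < n ∧ m' i < n ∧ m' (m i) = i ∧ m (m' i) = i)
    (e : ∀ j, ∀ i < n, s j (m i) = m (t j i)) : HasModel G n s := by
  obtain ⟨μ, hμ⟩ := exists_perm_rep m m' hm
  refine ⟨(MulAut.conj μ).toMonoidHom.comp ρ, g, (MulAut.conj μ).injective.comp hρ, hg,
    fun j => ?_⟩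
  exact hμ.conj (ht j) (e j)

end Words

section Coord

variable {G : Type*} [Group G]

theorem pow_smul_ne_of_prime {Ω : Type*} [MulAction G Ω] {p : ℕ} (hp : p.Prime) {x : G}
    (hx : x ^ p = 1) {b : Ω} (hb : x • b ≠ b) {k : ℕ} (hk : ¬ p ∣ k) : x ^ k • b ≠ b := by
  intro h
  have h1 : Function.IsPeriodicPt (fun a : Ω => x • a) k b := by
    simpa [Function.IsPeriodicPt, Function.IsFixedPt, smul_iterate] using h
  have h2 : Function.IsPeriodicPt (fun a : Ω => x • a) p b := by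
    simp [Function.IsPeriodicPt, Function.IsFixedPt, smul_iterate, hx]
  have h3 := h2.gcd h1
  rw [(Nat.Prime.coprime_iff_not_dvd hp).2 hk] at h3
  exact hb h3

/-- a `p`-element acting on an invariant set: the sizes of the set and of its fixed points agree
modulo `p` -/
theorem ncard_modEq_inter_fixedBy {Ω : Type*} [MulAction G Ω] [Finite Ω] {p n : ℕ} (hp : p.Prime)
    {x : G} (hx : x ^ p ^ n = 1) (S : Set Ω) (hS : ∀ a ∈ S, x • a ∈ S) :
    S.ncard ≡ (S ∩ fixedBy Ω x).ncard [MOD p] := by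
  classical
  have := Fintype.ofFinite S
  have : Fact p.Prime := ⟨hp⟩
  let f : Function.End S := fun a => ⟨x • a.1, hS a.1 a.2⟩
  have hf : ∀ (m : ℕ) (a : S), (((f ^ m : Function.End S) a : S) : Ω) = x ^ m • a.1 := by
    intro m
    induction m with
    | zero => intro a; rw [pow_zero, pow_zero, one_smul]; rfl
    | succ m ih => intro a; rw [pow_succ, pow_succ, mul_smul]; exact ih (f a)
  have h := Equiv.Perm.card_fixedPoints_modEq (p := p) (n := n) (f := f)
    (funext fun a => Subtype.ext (by rw [hf, hx, one_smul]; rfl))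
  rw [← Nat.card_eq_fintype_card, ← Nat.card_eq_fintype_card] at h
  have e : Nat.card (Function.fixedPoints f) = (S ∩ fixedBy Ω x).ncard :=
    Nat.card_congr
      { toFun := fun a => ⟨a.1.1, a.1.2, congrArg Subtype.val a.2⟩
        invFun := fun a => ⟨⟨a.1, a.2.1⟩, Subtype.ext a.2.2⟩
        left_inv := fun _ => rfl
        right_inv := fun _ => rfl }
  rwa [e] at h

theorem card_modEq_ncard_fixedBy {Ω : Type*} [MulAction G Ω] [Finite Ω] {p n : ℕ} (hp : p.Prime)
    {x : G} (hx : x ^ p ^ n = 1) : Nat.card Ω ≡ (fixedBy Ω x).ncard [MOD p] := by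
  simpa using ncard_modEq_inter_fixedBy hp hx (Set.univ : Set Ω) fun _ _ => trivial

theorem addf_lt {p : ℕ} (hp : 0 < p) (k i : ℕ) : addf p k i < p + 1 := by
  unfold addf
  split_ifs
  · omega
  · exact (Nat.mod_lt _ hp).trans (Nat.lt_succ_self p)

theorem mulf_lt {p : ℕ} (hp : 0 < p) (r i : ℕ) : mulf p r i < p + 1 := by
  unfold mulf
  split_ifs
  · omega
  · exact (Nat.mod_lt _ hp).trans (Nat.lt_succ_self p)

/-- Coordinates on a `G`-set of size `p + 1` on which `x` is a `p`-cycle. -/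
theorem exists_coords {Ω : Type*} [MulAction G Ω] [Finite Ω] {p : ℕ} (hp : p.Prime)
    (hΩ : Nat.card Ω = p + 1) {x y : G} {r : ℕ} (hx : x ^ p = 1) (hy : y * x * y⁻¹ = x ^ r)
    {a b : Ω} (hxa : x • a = a) (hya : y • a = a) (hxb : x • b ≠ b) (hyb : y • b = b) :
    ∃ (ρ : G →* Equiv.Perm (Fin (p + 1))) (φ : Fin (p + 1) ≃ Ω), φ (Fin.last p) = a ∧
      (∀ g i, φ (ρ g i) = g • φ i) ∧ (∀ k, Rep (ρ (x ^ k)) (addf p k)) ∧ Rep (ρ y) (mulf p r) := by
  classical
  let ψ : ℕ → Ω := fun i => if i = p then a else x ^ i • b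
  have hxa' : ∀ k : ℕ, x ^ k • a = a := fun k => (stabilizer G a).pow_mem hxa k
  have hlt : ∀ i j : ℕ, i < j → j ≤ p → ψ i ≠ ψ j := by
    intro i j hij hj e
    have hi : i ≠ p := by omega
    simp only [ψ, if_neg hi] at e
    split_ifs at e with h
    · apply hxb
      have hb : b = a := by
        rw [← inv_smul_smul (x ^ i) b, e, inv_smul_eq_iff, hxa']
      rw [hb, hxa]
    · obtain ⟨k, rfl⟩ := Nat.exists_eq_add_of_lt hij
      rw [add_assoc, pow_add, mul_smul, smul_left_cancel_iff] at e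
      exact pow_smul_ne_of_prime hp hx hxb (k := k + 1)
        (fun hd => absurd (Nat.le_of_dvd (by omega) hd) (by omega)) e.symm
  have hinj : Function.Injective (fun i : Fin (p + 1) => ψ i) := by
    intro i j e
    rcases lt_trichotomy (i : ℕ) j with h | h | h
    · exact absurd e (hlt i j h (Nat.lt_succ_iff.1 j.2))
    · exact Fin.ext h
    · exact absurd e.symm (hlt j i h (Nat.lt_succ_iff.1 i.2))
  have hbij : Function.Bijective (fun i : Fin (p + 1) => ψ i) :=
    hinj.bijective_of_nat_card_le (by simp [hΩ])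
  let φ := Equiv.ofBijective _ hbij
  let ρ : G →* Equiv.Perm (Fin (p + 1)) :=
    (φ.symm.permCongrHom.toMonoidHom).comp (toPermHom G Ω)
  have hρ : ∀ g i, φ (ρ g i) = g • φ i := fun g i => by simp [ρ]
  have key : ∀ (g : G) (f : ℕ → ℕ), (∀ i, f i < p + 1) → (∀ i, g • ψ i = ψ (f i)) →
      Rep (ρ g) f := by
    intro g f h1 h2 i
    have : φ (ρ g i) = φ ⟨f i, h1 i⟩ := by rw [hρ]; exact h2 i
    rw [φ.injective this]
  have hmod : ∀ k : ℕ, k % p ≠ p := fun k => (Nat.mod_lt _ hp.pos).ne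
  refine ⟨ρ, φ, by simp [φ, ψ], hρ, fun k => key _ _ (addf_lt hp.pos k) fun i => ?_,
    key _ _ (mulf_lt hp.pos r) fun i => ?_⟩
  · by_cases hi : i = p
    · simp [ψ, addf, hi, hxa']
    · simp only [ψ, addf, if_neg hi, if_neg (hmod _)]
      rw [← pow_eq_pow_mod _ hx, add_comm, pow_add, mul_smul]
  · by_cases hi : i = p
    · simp [ψ, mulf, hi, hya]
    · simp only [ψ, mulf, if_neg hi, if_neg (hmod _)]
      rw [← pow_eq_pow_mod _ hx, pow_mul, ← hy, conj_pow, mul_smul, mul_smul,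
        inv_smul_eq_iff.2 hyb.symm]

/-- Coordinates for the action of a simple group on the cosets of a subgroup of index `p + 1`. -/
theorem exists_coords_of_index [Finite G] [IsSimpleGroup G] {p q : ℕ} (hp : p.Prime)
    (hq : q.Prime) (hpq : p ≠ q) (M : Subgroup G) (hM : M.index = p + 1) {x y : G} {r : ℕ}
    (hx : orderOf x = p) (hyq : y ^ q = 1) (hy : y * x * y⁻¹ = x ^ r) (hxM : x ∈ M)
    (hyM : y ∈ M) :
    ∃ ρ : G →* Equiv.Perm (Fin (p + 1)), Function.Injective ρ ∧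
      (∀ g, g ∈ M ↔ ρ g (Fin.last p) = Fin.last p) ∧ (∀ k, Rep (ρ (x ^ k)) (addf p k)) ∧
      Rep (ρ y) (mulf p r) := by
  classical
  have hMt : M ≠ ⊤ := by
    rintro rfl
    have := hp.pos
    rw [index_top] at hM
    omega
  have hinj := CL.Small.toPermHom_injective_of_simple (CL.Small.exists_smul_ne_quotient hMt)
  have hfix : ∀ g : G, g • ((1 : G) : G ⧸ M) = ((1 : G) : G ⧸ M) ↔ g ∈ M := fun g => by
    rw [CL.Small.smul_mk_eq_iff]; simp
  have hxp : x ^ p = 1 := hx ▸ pow_orderOf_eq_one x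
  have hx1 : x ≠ 1 := by
    rintro rfl
    rw [orderOf_one] at hx
    exact hp.ne_one hx.symm
  obtain ⟨c, hc⟩ : ∃ c : G ⧸ M, x • c ≠ c := by
    by_contra h
    push Not at h
    exact hx1 (hinj (by rw [map_one]; exact Equiv.ext h))
  have hcard : Nat.card (G ⧸ M) = p + 1 := hM
  obtain ⟨ρ0, φ0, h0, h1, h2, -⟩ := exists_coords (y := 1) (r := 1) hp hcard hxp (by simp)
    ((hfix x).2 hxM) (one_smul _ _) hc (one_smul _ _)
  have hmove : ∀ b : G ⧸ M, b ≠ ((1 : G) : G ⧸ M) → x • b ≠ b := by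
    intro b hb e
    obtain ⟨i, rfl⟩ := φ0.surjective b
    rw [← h1, φ0.apply_eq_iff_eq] at e
    have h3 := h2 1 i
    rw [pow_one, e] at h3
    have hi : (i : ℕ) ≠ p := fun h => hb (by rw [← h0]; congr 1; exact Fin.ext h)
    rw [addf, if_neg hi] at h3
    have hi' : (i : ℕ) < p := lt_of_le_of_ne (Nat.lt_succ_iff.1 i.2) hi
    rcases Nat.lt_or_ge ((i : ℕ) + 1) p with h | h
    · rw [Nat.mod_eq_of_lt h] at h3; omega
    · have : (i : ℕ) + 1 = p := by omega
      rw [this, Nat.mod_self] at h3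
      have := hp.two_le
      omega
  obtain ⟨b, hb1, hb⟩ : ∃ b : G ⧸ M, b ≠ ((1 : G) : G ⧸ M) ∧ y • b = b := by
    by_contra h
    push Not at h
    have h3 := card_modEq_ncard_fixedBy (Ω := G ⧸ M) hq (n := 1) (x := y) (by simpa using hyq)
    have h4 : fixedBy (G ⧸ M) y = {((1 : G) : G ⧸ M)} := by
      refine Set.eq_singleton_iff_unique_mem.2 ⟨(hfix y).2 hyM, fun b hb => ?_⟩
      by_contra hb'
      exact h b hb' hb
    rw [h4, Set.ncard_singleton, hcard] at h3
    have h5 : q ∣ p := by simpa using (Nat.modEq_iff_dvd' (by omega)).1 h3.symm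
    exact hpq ((Nat.prime_dvd_prime_iff_eq hq hp).1 h5).symm
  obtain ⟨ρ, φ, g0, g1, g2, g3⟩ := exists_coords hp hcard hxp hy ((hfix x).2 hxM)
    ((hfix y).2 hyM) (hmove b hb1) hb
  refine ⟨ρ, fun g g' e => hinj (Equiv.ext fun b => ?_), fun g => ?_, g2, g3⟩
  · obtain ⟨i, rfl⟩ := φ.surjective b
    change g • φ i = g' • φ i
    rw [← g1, ← g1, e]
  · rw [← hfix, ← φ.apply_eq_iff_eq, g1, g0]

end Coord

end CL.Ord
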