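import Cfsg.Agent.Base
import Cfsg.Agent.Spor.OrdCoord

/-!
# A simple group of order 7920 with a suitable subgroup of index 12: the permutation model
-/

set_option autoImplicit false

open Subgroup MulAction

namespace CL.Ord.M11

/-- candidates for an element `u` with `u y u⁻¹ = y ^ 2` interchanging `0` and `∞` -/
def uf (a b i : ℕ) : ℕ :=
  [11, a, b, mulf 11 9 a, mulf 11 5 a, mulf 11 3 a, mulf 11 9 b, mulf 11 4 b, mulf 11 5 b,
    mulf 11 4 a, mulf 11 3 b, 0].getD i 0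

/-- letters for words -/
def letter (a b j : ℕ) : ℕ → ℕ := if j < 11 then addf 11 j else uf a b

/-- words with a point of period seven -/
def cert : List (List ℕ × ℕ) :=
  [([5, 11, 10, 11], 0), ([9, 11, 2, 11], 9), ([7, 11, 4, 11], 0), ([6, 11], 0), ([1, 11], 10),
    ([2, 11], 9), ([8, 11], 10), ([5, 11], 6), ([9, 11], 3), ([7, 11], 11)]

/-- the standard generators -/
def std : Fin 3 → ℕ → ℕ := ![addf 11 1, mulf 11 3, uf 2 4]

set_option synthInstance.maxSize 4000 in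
theorem check_cases : ∀ a < 12, ∀ b < 12,
    (∃ i < 12, ∃ j < 12, i ≠ j ∧ uf a b i = uf a b j) ∨
    (∃ w ∈ cert, w.2 < 12 ∧ (evalW (letter a b) w.1)^[7] w.2 = w.2 ∧
      evalW (letter a b) w.1 w.2 ≠ w.2) ∨
    ∃ c < 11, ∃ k < 11, k * c % 11 = 1 ∧
      (∀ i < 12, mulf 11 c i < 12 ∧ mulf 11 k i < 12 ∧ mulf 11 k (mulf 11 c i) = i ∧
        mulf 11 c (mulf 11 k i) = i) ∧
      ∀ j, ∀ i < 12, std j (mulf 11 c i) =
        mulf 11 c ((![addf 11 k, mulf 11 3, uf a b] : Fin 3 → ℕ → ℕ) j i) := by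
  decide +kernel

theorem rep_uf {f : ℕ → ℕ} (hlt : ∀ i < 12, f i < 12)
    (hinj : ∀ i < 12, ∀ j < 12, f i = f j → i = j)
    (h : ∀ i < 12, f (mulf 11 3 i) = mulf 11 3 (mulf 11 3 (f i))) (h11 : f 11 ≠ 11) :
    ∀ i < 12, f i = uf (f 1) (f 2) i := by
  have hfix : ∀ a < 12, a = mulf 11 3 (mulf 11 3 a) → a = 0 ∨ a = 11 := by decide
  have e1 : ∀ a < 12, mulf 11 3 (mulf 11 3 a) = mulf 11 9 a ∧
      mulf 11 3 (mulf 11 3 (mulf 11 9 a)) = mulf 11 4 a ∧
      mulf 11 3 (mulf 11 3 (mulf 11 4 a)) = mulf 11 3 a ∧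
      mulf 11 3 (mulf 11 3 (mulf 11 3 a)) = mulf 11 5 a := by decide
  have f11 : f 11 = 0 := (hfix _ (hlt 11 (by omega)) (h 11 (by omega))).resolve_right h11
  have f0 : f 0 = 11 := (hfix _ (hlt 0 (by omega)) (h 0 (by omega))).resolve_left fun e =>
    absurd (hinj 0 (by omega) 11 (by omega) (e.trans f11.symm)) (by omega)
  obtain ⟨a1, a2, a3, a4⟩ := e1 _ (hlt 1 (by omega))
  obtain ⟨b1, b2, b3, b4⟩ := e1 _ (hlt 2 (by omega))
  have f3 : f 3 = _ := (h 1 (by omega)).trans a1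
  have f9 : f 9 = _ := (h 3 (by omega)).trans (f3 ▸ a2)
  have f5 : f 5 = _ := (h 9 (by omega)).trans (f9 ▸ a3)
  have f4 : f 4 = _ := (h 5 (by omega)).trans (f5 ▸ a4)
  have f6 : f 6 = _ := (h 2 (by omega)).trans b1
  have f7 : f 7 = _ := (h 6 (by omega)).trans (f6 ▸ b2)
  have f10 : f 10 = _ := (h 7 (by omega)).trans (f7 ▸ b3)
  have f8 : f 8 = _ := (h 10 (by omega)).trans (f10 ▸ b4)
  intro i hi
  interval_cases i <;> first | rfl | assumption

variable {G : Type*} [Group G] [Finite G]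

theorem hasModel_of_index [IsSimpleGroup G] (hG : Nat.card G = 7920) (M : Subgroup G)
    (hM : M.index = 12) {x y u : G} (hx : orderOf x = 11) (hy5 : y ^ 5 = 1)
    (hy : y * x * y⁻¹ = x ^ 3) (hu : u * y * u⁻¹ = y ^ 2) (hxM : x ∈ M) (hyM : y ∈ M)
    (huM : u ∉ M) (hgen : ∀ H : Subgroup G, x ∈ H → y ∈ H → u ∈ H → H = ⊤) :
    HasModel G 12 std := by
  obtain ⟨ρ, hρ, hM', hX, hY⟩ := exists_coords_of_index (p := 11) (q := 5) (by norm_num)
    (by norm_num) (by norm_num) M hM hx hy5 hy hxM hyM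
  obtain ⟨f, hf⟩ := exists_rep (ρ u)
  have hrel : ∀ i < 12, f (mulf 11 3 i) = mulf 11 3 (mulf 11 3 (f i)) := by
    have e : ρ u * ρ y = ρ y * (ρ y * ρ u) := by
      rw [← map_mul, ← map_mul, ← map_mul, ← mul_assoc, ← pow_two, ← hu, inv_mul_cancel_right]
    exact (hf.mul hY).apply_eq (e ▸ hY.mul (hY.mul hf))
  have h11 : f 11 ≠ 11 := fun e => huM ((hM' u).2 (Fin.ext ((hf _).trans e)))
  have hU := hf.congr (rep_uf hf.lt hf.inj hrel h11)
  generalize hb : f 2 = b at hU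
  generalize ha : f 1 = a at hU
  rcases check_cases a (ha ▸ hf.lt 1 (by omega)) b (hb ▸ hf.lt 2 (by omega)) with
    ⟨i, hi, j, hj, hij, e⟩ | ⟨w, -, hw, h7, h1⟩ | ⟨c, -, k, -, hkc, hm, e⟩
  · exact absurd (hU.inj i hi j hj e) hij
  · have hr := rep_prod ρ (fun j => if j < 11 then x ^ j else u) (letter a b) (fun j => by
      unfold letter
      split_ifs
      exacts [hX j, hU]) w.1
    have := hr.iterate_gcd ρ (N := 7920) (hG ▸ pow_card_eq_one') hw h7
    exact absurd this h1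
  · refine hasModel_of_conj ρ hρ ![x ^ k, y, u] (hgen _ ?_ ?_ ?_) _ _ ?_ _ _ hm e
    · have h1 : x = (x ^ k) ^ c := by
        rw [← pow_mul, pow_eq_pow_mod _ (hx ▸ pow_orderOf_eq_one x : x ^ 11 = 1), hkc, pow_one]
      have h2 : x ^ k ∈ closure (Set.range ![x ^ k, y, u]) := Subgroup.subset_closure ⟨0, rfl⟩
      have h3 := pow_mem h2 c
      rwa [← h1] at h3
    · exact Subgroup.subset_closure ⟨1, rfl⟩
    · exact Subgroup.subset_closure ⟨2, rfl⟩
    · intro j
      fin_cases j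
      exacts [hX k, hY, hU]

/-- In the model there is a subgroup of order 9 normalised by an element of order 8. -/
theorem exists_nine (h : HasModel G 12 std) (hG : Nat.card G = 7920) :
    ∃ (P : Sylow 3 G) (g : G), g ∈ normalizer ((P : Subgroup G) : Set G) ∧ orderOf g = 8 := by
  obtain ⟨ρ, s, hρ, -, hs⟩ := h
  have hw := rep_prod ρ s std hs
  obtain ⟨a, ha⟩ : ∃ a, Rep (ρ a) (evalW std [1, 2, 0, 1, 2]) := ⟨_, hw _⟩
  obtain ⟨g, hg⟩ : ∃ g, Rep (ρ g) (evalW std [1, 2, 0, 0]) := ⟨_, hw _⟩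
  obtain ⟨b, hb⟩ : ∃ b, Rep (ρ b) fun i => [5, 1, 2, 11, 4, 7, 3, 0, 10, 8, 9, 6].getD i 0 :=
    ⟨_, ((hg.map_mul ha).map_mul (hg.map_pow 7)).congr (by decide +kernel)⟩
  have h1 := Rep.map_one ρ
  have a3 : a ^ 3 = 1 := (ha.map_pow 3).map_eq hρ h1 (by decide +kernel)
  have b3 : b ^ 3 = 1 := (hb.map_pow 3).map_eq hρ h1 (by decide +kernel)
  have ab : a * b = b * a := (ha.map_mul hb).map_eq hρ (hb.map_mul ha) (by decide +kernel)
  have ga : g * a = b * g := (hg.map_mul ha).map_eq hρ (hb.map_mul hg) (by decide +kernel)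
  have gb : g * b = a * b * g :=
    (hg.map_mul hb).map_eq hρ ((ha.map_mul hb).map_mul hg) (by decide +kernel)
  have g8 : g ^ 8 = 1 := (hg.map_pow 8).map_eq hρ h1 (by decide +kernel)
  have g4 : g ^ 4 ≠ 1 := (hg.map_pow 4).map_ne h1 (by decide +kernel)
  have a1 : a ≠ 1 := ha.map_ne h1 (by decide +kernel)
  have b1 : b ≠ 1 := hb.map_ne h1 (by decide +kernel)
  have ab1 : a ≠ b := ha.map_ne hb (by decide +kernel)
  have ab2 : a * b ≠ 1 := (ha.map_mul hb).map_ne h1 (by decide +kernel)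
  have : Fact (Nat.Prime 3) := ⟨by norm_num⟩
  have : Fact (Nat.Prime 2) := ⟨by norm_num⟩
  have oa : orderOf a = 3 := orderOf_eq_prime a3 a1
  have ob : orderOf b = 3 := orderOf_eq_prime b3 b1
  have og : orderOf g = 2 ^ (2 + 1) := orderOf_eq_prime_pow g4 g8
  have pa : IsPGroup 3 (zpowers a) := IsPGroup.of_card (n := 1) (by rw [Nat.card_zpowers, oa]; rfl)
  have pb : IsPGroup 3 (zpowers b) := IsPGroup.of_card (n := 1) (by rw [Nat.card_zpowers, ob]; rfl)
  have hab : zpowers a ≤ normalizer (zpowers b : Set G) := by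
    refine (zpowers_le.2 ?_).trans (centralizer_le_normalizer _)
    rintro _ ⟨k, rfl⟩
    exact (Commute.zpow_left (show Commute b a from ab.symm) k).eq
  have pT := IsPGroup.to_sup_of_normal_right' pa pb hab
  set T := zpowers a ⊔ zpowers b with hT
  have aT : a ∈ T := mem_sup_left (mem_zpowers a)
  have bT : b ∈ T := mem_sup_right (mem_zpowers b)
  obtain ⟨n, hn⟩ := IsPGroup.iff_card.1 pT
  have hdvd : 3 ^ n ∣ 7920 := hn ▸ hG ▸ T.card_subgroup_dvd_card
  have hn2 : n = 2 := by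
    have h1 : n < 3 := by
      by_contra h
      exact absurd ((pow_dvd_pow 3 (not_lt.1 h)).trans hdvd) (by norm_num)
    have h2 : 4 ≤ Nat.card T := by
      classical
      have : Function.Injective (![⟨1, T.one_mem⟩, ⟨a, aT⟩, ⟨b, bT⟩, ⟨a * b, mul_mem aT bT⟩] :
          Fin 4 → T) := by
        intro i j
        fin_cases i <;> fin_cases j <;>
          simp [a1, b1, ab1, ab2, a1.symm, b1.symm, ab1.symm, ab2.symm]
      simpa using Nat.card_le_card_of_injective _ this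
    rw [hn] at h2
    interval_cases n <;> simp_all
  subst hn2
  refine ⟨Sylow.ofCard T (by rw [hn, hG]; congr 1; decide +kernel), g, ?_, og⟩
  change g ∈ normalizer (T : Set G)
  refine mem_normalizer_fintype (S := (T : Set G)) fun t ht => ?_
  have hle : T ≤ T.comap (MulAut.conj g).toMonoidHom := by
    refine sup_le (zpowers_le.2 ?_) (zpowers_le.2 ?_)
    · change g * a * g⁻¹ ∈ T
      rwa [ga, mul_inv_cancel_right]
    · change g * b * g⁻¹ ∈ T
      rw [gb, mul_inv_cancel_right]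
      exact mul_mem aT bT
  exact hle ht

end CL.Ord.M11
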