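import Cfsg.Agent.Base
import Cfsg.Agent.Spor.M11OrdB
import Cfsg.Agent.Spor.M11OrdPerm

/-!
# Simple groups of order 7920 are isomorphic
-/

set_option autoImplicit false

open Cfsg CL.Char Subgroup

namespace CL.Ord.M11

variable {G : Type*} [Group G] [Finite G] [IsSimpleGroup G] (hG : Nat.card G = 7920)
include hG

theorem card_centralizer_invol {s : G} (hs : orderOf s = 2) :
    Nat.card (centralizer ({s} : Set G)) = 48 := by
  obtain ⟨x, hx⟩ := exists_prime_orderOf_dvd_card' (G := G) 11 (by rw [hG]; norm_num)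
  obtain ⟨y, hy⟩ := exists_prime_orderOf_dvd_card' (G := G) 5 (by rw [hG]; norm_num)
  obtain ⟨D⟩ := CL.D1.nonempty_data hx (by rw [hG]; norm_num)
  obtain ⟨χ, -, -, h⟩ := exists_eleven hG hx D hy
  have := (centralizer ({s} : Set G)).index_mul_card
  rw [(h s hs).2, hG] at this
  omega

theorem hasModel : HasModel G 12 std := by
  obtain ⟨x, hx⟩ := exists_prime_orderOf_dvd_card' (G := G) 11 (by rw [hG]; norm_num)
  have h121 : ¬ 11 ^ 2 ∣ Nat.card G := by rw [hG]; norm_num
  have h25 : ¬ 5 ^ 2 ∣ Nat.card G := by rw [hG]; norm_num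
  obtain ⟨D⟩ := CL.D1.nonempty_data hx h121
  have hCx := selfCent_x hG hx D
  set H₁ := normalizer ((zpowers x : Subgroup G) : Set G) with hH₁
  have c1 : Nat.card H₁ = 55 := by
    rw [card_normalizer_eq D, (card_K_H hG hx D).1, (card_K_H hG hx D).2]
  have hPH : zpowers x ≤ H₁ := le_normalizer
  have ho5 : ∀ g ∈ H₁, g ∉ zpowers x → orderOf g = 5 := by
    intro g hg hg'
    have h1 := Subgroup.orderOf_dvd_natCard _ hg
    rw [c1] at h1
    have h2 : ¬ 11 ∣ orderOf g := fun h => by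
      obtain ⟨P, hP⟩ := exists_sylow_eq_zpowers hx h121
      refine hg' (hP ▸ CL.Small.mem_sylow_of_mem_normalizer_of_orderOf P (k := 1)
        (orderOf_eq_of_selfCent hx hCx h) ?_)
      change g ∈ normalizer ((P : Subgroup G) : Set G)
      rwa [hP]
    have h3 : orderOf g ≠ 1 := fun h => hg' (orderOf_eq_one_iff.1 h ▸ one_mem _)
    have key : ∀ d ≤ 55, d ∣ 55 → ¬ 11 ∣ d → d ≠ 1 → d = 5 := by decide
    exact key _ (Nat.le_of_dvd (by norm_num) h1) h1 h2 h3
  obtain ⟨y, hyx⟩ := isConj_iff.1 (isConj_cube hG hx D)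
  have hx11 : x ^ 11 = 1 := hx ▸ pow_orderOf_eq_one x
  have hyH : y ∈ H₁ := mem_normalizer_zpowers (isOfFinOrder_of_finite x) hyx
  have hy : orderOf y = 5 := ho5 y hyH fun h => by
    rw [← hCx, mem_centralizer_singleton_iff] at h
    rw [h, mul_inv_cancel_right] at hyx
    have h1 : x ^ 2 = 1 := by
      rw [← mul_right_inj x, mul_one, ← pow_succ', ← hyx]
    have := orderOf_dvd_of_pow_eq_one h1
    rw [hx] at this
    norm_num at this
  have hy5 : y ^ 5 = 1 := hy ▸ pow_orderOf_eq_one y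
  obtain ⟨hCy, c2, hconj⟩ := five_local hG hx D hy
  obtain ⟨χ, h11, hχy, hχs⟩ := exists_eleven hG hx D hy
  have hχ5 : ∀ g : G, orderOf g = 5 → (χ : G → ℂ) g = 1 := fun g hg => by
    rw [← classFun_eq_of_isConj (irr_isClassFunction χ.2) (hconj g hg), hχy]
  have hcy : Nat.card (zpowers y) = 5 := by rw [Nat.card_zpowers, hy]
  have hcx : Nat.card (zpowers x) = 11 := by rw [Nat.card_zpowers, hx]
  have hinv : ∀ g : G, g * y * g⁻¹ = y⁻¹ → orderOf g = 2 := fun g hg =>
    orderOf_eq_prime (sq_eq_one_of_inverts (by rw [hy]; decide) hCy hg) (by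
      rintro rfl
      have h1 : y ^ 2 = 1 := by
        rw [pow_two, ← eq_inv_iff_mul_eq_one]; simpa using hg
      have := orderOf_dvd_of_pow_eq_one h1
      rw [hy] at this
      norm_num at this)
  have hcent : ∀ g : G, g * y * g⁻¹ = y → g ∈ zpowers y := fun g hg => by
    rw [← hCy, mem_centralizer_singleton_iff, ← mul_inv_eq_iff_eq_mul, hg]
  have hne : H₁ ⊔ extCent y ≠ ⊤ := by
    refine sup_ne_top (χ := χ) (by rintro rfl; rw [deg_irrOne] at h11; omega) H₁ (extCent y)
      (zpowers x) (zpowers y) hPH ?_ 1 3 (fun g hg hg1 => ?_) (by rw [h11, hcx])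
      (fun g hg hg' => hχ5 g (ho5 g hg hg')) (fun g hg hg1 => ?_) (by rw [h11, hcy])
      fun g hg hg' => ?_
    · refine le_antisymm ?_ (zpowers_le.2 ⟨hyH, Or.inl (by simp)⟩)
      rintro g ⟨h1, h2 | h2⟩
      · exact hcent g h2
      · have := Subgroup.orderOf_dvd_natCard _ h1
        rw [c1, hinv g h2] at this
        norm_num at this
    · exact vanish hG (p := 11) (n := 1) (by norm_num) (by norm_num) χ (by rw [h11]; norm_num)
        (by rw [CL.Small.orderOf_eq_of_mem_card_prime (by norm_num) hcx hg hg1])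
    · rw [Nat.cast_one]
      exact hχ5 g (CL.Small.orderOf_eq_of_mem_card_prime (by norm_num) hcy hg hg1)
    · rcases hg with h | h
      · exact absurd (hcent g h) hg'
      · exact_mod_cast (hχs g (hinv g h)).1
  obtain ⟨u, hu⟩ := isConj_iff.1 (hconj (y ^ 2) (by
    rw [(show Nat.Coprime (orderOf y) 2 by rw [hy]; norm_num).orderOf_pow, hy]))
  have hu2 : u ^ 2 * y * (u ^ 2)⁻¹ = y⁻¹ := by
    calc u ^ 2 * y * (u ^ 2)⁻¹ = u * (u * y * u⁻¹) * u⁻¹ := by rw [pow_two]; group
      _ = (u * y * u⁻¹) ^ 2 := by rw [hu, ← hu, conj_pow, hu]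
      _ = y⁻¹ := by rw [hu, ← pow_mul, eq_inv_iff_mul_eq_one, ← pow_succ, hy5]
  have hou : orderOf u = 2 ^ (1 + 1) := orderOf_eq_prime_pow
    (fun h => by have := hinv _ hu2; rw [show u ^ 2 = 1 from h, orderOf_one] at this; omega)
    (by
      have := pow_orderOf_eq_one (u ^ 2)
      rwa [hinv _ hu2, ← pow_mul] at this)
  have L1 : ∀ H : Subgroup G, x ∈ H → y ∈ H →
      Nat.card H = 55 ∨ Nat.card H = 660 ∨ H = ⊤ := by
    intro H h1 h2
    obtain ⟨m, hm, e⟩ := exists_card_subgroup_eq hx h121 H h1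
    have d1 : 11 ∣ Nat.card ↥(H₁ ⊓ H) :=
      hx ▸ Subgroup.orderOf_dvd_natCard _ ⟨hPH (mem_zpowers x), h1⟩
    have d2 : 5 ∣ Nat.card ↥(H₁ ⊓ H) := hy ▸ Subgroup.orderOf_dvd_natCard _ ⟨hyH, h2⟩
    have d3 : Nat.card ↥(H₁ ⊓ H) ∣ 55 := c1 ▸ card_dvd_of_le inf_le_left
    have d4 : Nat.card ↥(H₁ ⊓ H) = 55 :=
      Nat.dvd_antisymm d3 (Nat.Coprime.mul_dvd_of_dvd_of_dvd (by norm_num) d2 d1)
    rw [← hH₁, d4] at e
    have d5 : m ∣ 144 := by
      have := card_subgroup_dvd_card H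
      rw [← e, hG] at this
      exact Nat.dvd_of_mul_dvd_mul_right (by norm_num : 0 < 55) this
    have key : ∀ m ≤ 144, m ∣ 144 → m % 11 = 1 → m = 1 ∨ m = 12 ∨ m = 144 := by decide +kernel
    rcases key m (Nat.le_of_dvd (by norm_num) d5) d5 hm with rfl | rfl | rfl
    · exact Or.inl e.symm
    · exact Or.inr (Or.inl e.symm)
    · exact Or.inr (Or.inr (eq_top_of_card_eq _ (by rw [← e, hG])))
  have L2 : ∀ H : Subgroup G, y ∈ H → u ∈ H → Nat.card H ≠ 55 ∧ Nat.card H ≠ 660 := by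
    intro H h1 h2
    obtain ⟨m, hm, e⟩ := exists_card_subgroup_eq hy h25 H h1
    set N := normalizer ((zpowers y : Subgroup G) : Set G)
    have d1 : 4 ∣ Nat.card ↥(N ⊓ H) := by
      have := Subgroup.orderOf_dvd_natCard (N ⊓ H)
        ⟨mem_normalizer_zpowers (isOfFinOrder_of_finite y) hu, h2⟩
      rwa [hou] at this
    have d2 : 5 ∣ Nat.card ↥(N ⊓ H) :=
      hy ▸ Subgroup.orderOf_dvd_natCard _ ⟨le_normalizer (mem_zpowers y), h1⟩
    have d3 : Nat.card ↥(N ⊓ H) ∣ 20 := c2 ▸ card_dvd_of_le inf_le_left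
    have d4 : Nat.card ↥(N ⊓ H) = 20 :=
      Nat.dvd_antisymm d3 (Nat.Coprime.mul_dvd_of_dvd_of_dvd (by norm_num) d1 d2)
    rw [d4] at e
    omega
  have hxM : x ∈ H₁ ⊔ extCent y := mem_sup_left (hPH (mem_zpowers x))
  have hyM : y ∈ H₁ ⊔ extCent y := mem_sup_left hyH
  have cM : Nat.card ↥(H₁ ⊔ extCent y) = 660 := by
    rcases L1 _ hxM hyM with h | h | h
    · have := Subgroup.orderOf_dvd_natCard (H₁ ⊔ extCent y) (mem_sup_right (Or.inr hu2))
      rw [h, hinv _ hu2] at this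
      norm_num at this
    · exact h
    · exact absurd h hne
  refine hasModel_of_index hG _ ?_ hx hy5 hyx hu hxM hyM (fun h => (L2 _ hyM h).2 cM)
    fun H h1 h2 h3 => ?_
  · have := (H₁ ⊔ extCent y).index_mul_card
    rw [cM, hG] at this
    omega
  · have := L2 H h2 h3
    rcases L1 H h1 h2 with h | h | h
    exacts [absurd h this.1, absurd h this.2, h]

/-- two simple groups of order 7920 are isomorphic -/
theorem nonempty_equiv {G' : Type*} [Group G'] [Finite G'] [IsSimpleGroup G']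
    (hG' : Nat.card G' = 7920) : Nonempty (G ≃* G') :=
  (hasModel hG).nonempty_equiv (hasModel hG')

theorem card_normalizer_three (P : Sylow 3 G) :
    Nat.card (normalizer ((P : Subgroup G) : Set G)) = 144 := by
  have : Fact (Nat.Prime 3) := ⟨by norm_num⟩
  obtain ⟨Q, g, hg, hg8⟩ := exists_nine (hasModel hG) hG
  have e : Nat.card (normalizer ((P : Subgroup G) : Set G)) =
      Nat.card (normalizer ((Q : Subgroup G) : Set G)) := by
    have h1 := P.card_eq_index_normalizer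
    have h2 := Q.card_eq_index_normalizer
    have h3 := (normalizer ((P : Subgroup G) : Set G)).index_mul_card
    have h4 := (normalizer ((Q : Subgroup G) : Set G)).index_mul_card
    change _ = (normalizer ((P : Subgroup G) : Set G)).index at h1
    change _ = (normalizer ((Q : Subgroup G) : Set G)).index at h2
    rw [← h1] at h3
    rw [← h2] at h4
    exact Nat.eq_of_mul_eq_mul_left Nat.card_pos (h3.trans h4.symm)
  rw [e]
  set N := normalizer ((Q : Subgroup G) : Set G) with hN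
  have cQ : Nat.card (Q : Subgroup G) = 9 := by
    rw [Q.card_eq_multiplicity, hG]
    decide +kernel
  have d8 : 8 ∣ Nat.card N := hg8 ▸ Subgroup.orderOf_dvd_natCard _ hg
  have d9 : 9 ∣ Nat.card N := cQ ▸ card_dvd_of_le le_normalizer
  have hprime : ∀ q : ℕ, q.Prime → q ≠ 3 → 9 % q ≠ 1 →
      (∀ z : G, orderOf z = q → centralizer ({z} : Set G) = zpowers z) → ¬ q ∣ Nat.card N := by
    intro q hq hq3 h9 hC hd
    have : Fact q.Prime := ⟨hq⟩
    obtain ⟨z, hz⟩ := exists_prime_orderOf_dvd_card' q hd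
    have hz' : orderOf (z : G) = q := by rw [orderOf_coe, hz]
    have h1 := ncard_modEq_inter_fixedBy (G := ConjAct G) (Ω := G) hq (n := 1)
      (x := ConjAct.toConjAct (z : G))
      (by rw [← map_pow, pow_one, ← hz', pow_orderOf_eq_one, map_one]) (Q : Set G)
      fun a ha => by
        rw [ConjAct.toConjAct_smul]
        exact (mem_normalizer_iff.1 z.2 a).1 ha
    have h2 : (Q : Set G) ∩ MulAction.fixedBy G (ConjAct.toConjAct (z : G)) = {1} := by
      refine Set.eq_singleton_iff_unique_mem.2 ⟨⟨Q.one_mem, by simp⟩, ?_⟩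
      rintro a ⟨ha, ha'⟩
      rw [MulAction.mem_fixedBy, ConjAct.toConjAct_smul, mul_inv_eq_iff_eq_mul] at ha'
      have h3 : a ∈ zpowers (z : G) := by
        rw [← hC _ hz', mem_centralizer_singleton_iff, ha']
      have h4 := Subgroup.orderOf_dvd_natCard _ h3
      have h5 := Subgroup.orderOf_dvd_natCard (Q : Subgroup G) ha
      rw [Nat.card_zpowers, hz'] at h4
      rw [cQ] at h5
      rw [← orderOf_eq_one_iff]
      exact Nat.eq_one_of_dvd_coprimes
        (((Nat.coprime_primes hq (by norm_num)).2 hq3).pow_right 2) h4 h5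
    rw [h2, Set.ncard_singleton, show (Q : Set G).ncard = 9 from cQ, Nat.ModEq,
      Nat.mod_eq_of_lt hq.one_lt] at h1
    exact h9 h1
  obtain ⟨x, hx⟩ := exists_prime_orderOf_dvd_card' (G := G) 11 (by rw [hG]; norm_num)
  obtain ⟨D⟩ := CL.D1.nonempty_data hx (by rw [hG]; norm_num)
  have n5 := hprime 5 (by norm_num) (by norm_num) (by norm_num)
    fun z hz => (five_local hG hx D hz).1
  have n11 := hprime 11 (by norm_num) (by norm_num) (by norm_num)
    fun z hz => CL.Small.centralizer_eq_zpowers_of_self_centralizing hx (selfCent_x hG hx D) hz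
  have h1 := card_sylow_modEq_one 3 G
  rw [Q.card_eq_index_normalizer] at h1
  change N.index ≡ 1 [MOD 3] at h1
  have h2 := N.index_mul_card
  rw [hG] at h2
  have d72 : 72 ∣ Nat.card N := Nat.Coprime.mul_dvd_of_dvd_of_dvd (by norm_num) d8 d9
  obtain ⟨m, hm⟩ := d72
  rw [hm] at h2 n5 n11 ⊢
  have d : m ∣ 110 := ⟨N.index, by nlinarith⟩
  have key : ∀ m ≤ 110, m ∣ 110 → ¬ 5 ∣ 72 * m → ¬ 11 ∣ 72 * m → m = 1 ∨ m = 2 := by
    decide +kernel
  rw [Nat.ModEq] at h1
  rcases key m (Nat.le_of_dvd (by norm_num) d) d n5 n11 with rfl | rfl <;> omega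

end CL.Ord.M11
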