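import Cfsg.Agent.Base
import Cfsg.Agent.Spor.SteinerCert
import Cfsg.Agent.Spor.SteinerWitt
import Cfsg.Agent.Auto.ACL_Steiner_imageFam_4180b9

/-! Uniqueness and sharp transitivity for the Steiner systems S(5,6,12) and S(4,5,11). -/

set_option autoImplicit false

namespace CL.Steiner

open Finset Cfsg Search
open scoped Pointwise

section general

variable {α β γ : Type*} [DecidableEq α] [DecidableEq β] [DecidableEq γ]

omit [DecidableEq α] in
theorem imageFam_imageFam (f : α → β) (g : β → γ) (B : Set (Finset α)) :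
    imageFam g (imageFam f B) = imageFam (g ∘ f) B := by
  simp [imageFam, Set.image_image, Finset.image_image]

theorem imageFam_id (B : Set (Finset α)) : imageFam id B = B := by
  simp [imageFam]

theorem imageFam_symm (e : α ≃ β) {B : Set (Finset α)} {B' : Set (Finset β)}
    (h : imageFam e B = B') : imageFam e.symm B' = B := by
  rw [← h, imageFam_imageFam, Equiv.symm_comp_self, imageFam_id]

theorem mem_aut_iff {B : Set (Finset α)} {g : Equiv.Perm α} :
    g ∈ setSystemAut B ↔ imageFam g B = B := Iff.rfl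

theorem image_mem_of_mem_aut {B : Set (Finset α)} {g : Equiv.Perm α} (hg : g ∈ setSystemAut B)
    {b : Finset α} (hb : b ∈ B) : b.image g ∈ B := by
  rw [mem_aut_iff] at hg
  rw [← hg]; exact ⟨b, hb, rfl⟩

theorem conj_mem_aut (e : α ≃ β) {B : Set (Finset α)} {B' : Set (Finset β)}
    (h : imageFam e B = B') {g : Equiv.Perm α} (hg : g ∈ setSystemAut B) :
    e.permCongr g ∈ setSystemAut B' := by
  rw [mem_aut_iff] at hg ⊢
  have : (e.permCongr g : β → β) = e ∘ g ∘ e.symm := rfl
  rw [this, ← imageFam_imageFam, ← imageFam_imageFam, imageFam_symm e h, hg, h]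

/-- Isomorphic set systems have isomorphic automorphism groups. -/
def autCongr (e : α ≃ β) {B : Set (Finset α)} {B' : Set (Finset β)} (h : imageFam e B = B') :
    setSystemAut B ≃* setSystemAut B' where
  toFun g := ⟨e.permCongr g, conj_mem_aut e h g.2⟩
  invFun g := ⟨e.symm.permCongr g, conj_mem_aut e.symm (imageFam_symm e h) g.2⟩
  left_inv g := by ext x; simp
  right_inv g := by ext x; simp
  map_mul' g g' := by ext x; simp

theorem autCongr_apply (e : α ≃ β) {B : Set (Finset α)} {B' : Set (Finset β)}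
    (h : imageFam e B = B') (g : setSystemAut B) (x : α) :
    (autCongr e h g : Equiv.Perm β) (e x) = e ((g : Equiv.Perm α) x) := by
  simp [autCongr]

theorem trans_symm_mem_aut (e e' : α ≃ β) {B : Set (Finset α)} {B' : Set (Finset β)}
    (h : imageFam e B = B') (h' : imageFam e' B = B') : e.trans e'.symm ∈ setSystemAut B := by
  rw [mem_aut_iff, Equiv.coe_trans, ← imageFam_imageFam, h, imageFam_symm e' h']

/-- Multiple transitivity from the existence of isomorphisms with marked points. -/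
theorem multiplyPretransitive_of_marked {B : Set (Finset α)} {B' : Set (Finset β)} {n : ℕ}
    (y : Fin n → β) (h : ∀ x : Fin n ↪ α, ∃ e : α ≃ β, (∀ i, e (x i) = y i) ∧ imageFam e B = B') :
    MulAction.IsMultiplyPretransitive (setSystemAut B) α n := by
  refine ⟨fun x x' => ?_⟩
  obtain ⟨e, he, hB⟩ := h x
  obtain ⟨e', he', hB'⟩ := h x'
  refine ⟨⟨e.trans e'.symm, trans_symm_mem_aut e e' hB hB'⟩, ?_⟩
  ext i
  change e'.symm (e (x i)) = x' i
  rw [he, ← he', Equiv.symm_apply_apply]

omit [DecidableEq α] [DecidableEq β] in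
theorem exists_equiv_marked [Fintype α] [Fintype β] (h : Fintype.card α = Fintype.card β)
    {ι : Type*} [Finite ι] {x : ι → α} {y : ι → β} (hx : Function.Injective x) (hy : Function.Injective y) :
    ∃ e : α ≃ β, ∀ i, e (x i) = y i := by
  let f : α ≃ β := Fintype.equivOfCardEq h
  obtain ⟨σ, hσ⟩ := Equiv.Perm.exists_extending_pair _ _ (f.injective.comp hx) hy
  exact ⟨f.trans σ, hσ⟩

end general

/-- The family of the subsets of `Fin n` given by a list of masks. -/
def model (n : ℕ) (T : List ℕ) : Set (Finset (Fin n)) := {s | ∃ m ∈ T, toF n m = s}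

theorem toF_inj {n m m' : ℕ} (hm : m < 2 ^ n) (hm' : m' < 2 ^ n) (h : toF n m = toF n m') :
    m = m' := by
  refine Nat.eq_of_testBit_eq fun i => ?_
  by_cases hi : i < n
  · have := Finset.ext_iff.1 h ⟨i, hi⟩
    rw [mem_toF, mem_toF] at this
    exact Bool.eq_iff_iff.2 this
  · have := Nat.pow_le_pow_right (show 0 < 2 by norm_num) (not_lt.1 hi)
    rw [Nat.testBit_lt_two_pow (hm.trans_le this), Nat.testBit_lt_two_pow (hm'.trans_le this)]

theorem ncard_model {n : ℕ} {T : List ℕ} (hT : ∀ m ∈ T, m < 2 ^ n) (hnd : T.Nodup) :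
    (model n T).ncard = T.length := by
  have : model n T = (T.toFinset.image (toF n) : Finset _) := by
    ext s; simp [model]
  rw [this, Set.ncard_coe_finset, card_image_of_injOn, List.toFinset_card_of_nodup hnd]
  intro a ha b hb hab
  exact toF_inj (hT a (by simpa using ha)) (hT b (by simpa using hb)) hab

theorem toF_maskL_map {n : ℕ} (V : List (Fin n)) : toF n (maskL (V.map Fin.val)) = V.toFinset := by
  ext i
  simp [mem_toF, testBit_maskL, Fin.val_inj]

theorem maskL_lt {n : ℕ} (V : List (Fin n)) : maskL (V.map Fin.val) < 2 ^ n := by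
  induction V with
  | nil => simp [maskL]
  | cons x V ih => exact Nat.or_lt_two_pow ih (Nat.pow_lt_pow_right (by norm_num) x.2)

theorem toFinset_mem_model {n : ℕ} {T : List ℕ} (hT : ∀ m ∈ T, m < 2 ^ n) (V : List (Fin n)) :
    V.toFinset ∈ model n T ↔ maskL (V.map Fin.val) ∈ T := by
  rw [← toF_maskL_map]
  constructor
  · rintro ⟨m, hm, h⟩
    rwa [← toF_inj (hT m hm) (maskL_lt V) h]
  · exact fun h => ⟨_, h, rfl⟩

theorem good_of_steiner {n t k : ℕ} {B : Set (Finset (Fin n))} (hB : IsSteinerSystem t k B) :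
    Good n t k 0 B :=
  ⟨hB.1, fun _ hb _ hc hbc => card_inter_lt hB hb hc hbc, fun _ hs _ => exists_block hB hs⟩

theorem t12_lt : ∀ m ∈ t12, m < 2 ^ 12 := by decide +kernel

theorem ncard_model12 : (model 12 t12).ncard = 132 := by
  rw [ncard_model t12_lt (by decide +kernel)]; rfl

variable {α β : Type*} [Fintype α] [DecidableEq α] [Fintype β] [DecidableEq β]

/-- Every S(5,6,12) with five marked points is isomorphic to the model. -/
theorem exists_iso12 (hα : Fintype.card α = 12) {B : Set (Finset α)} (hB : IsSteinerSystem 5 6 B)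
    (x : Fin 5 ↪ α) : ∃ e : α ≃ Fin 12, (∀ i, e (x i) = Fin.castLE (by norm_num) i) ∧
      imageFam e B = model 12 t12 := by
  obtain ⟨e, he⟩ := exists_equiv_marked (β := Fin 12) (by simpa using hα) x.injective
    (Fin.castLE_injective (by norm_num))
  have hB' := imageFam_steiner e hB
  obtain ⟨π, hπ, hT⟩ := claim_12 _ (good_of_steiner hB') (by simp)
  have h1 : imageFam π (model 12 t12) = imageFam e B := by
    apply Set.eq_of_subset_of_ncard_le
    · rintro _ ⟨_, ⟨m, hm, rfl⟩, rfl⟩
      exact hT m hm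
    · rw [imageFam, imageFam, Set.ncard_image_of_injective _ (image_injective π.injective),
        ncard_model12, ← imageFam, ncard_eq_blk, ← lam_empty]
      have := lam12 (by simp) hB' ∅ (by simp)
      rw [card_empty, show f12 0 = 132 from rfl] at this
      omega
    · exact Set.toFinite _
  refine ⟨e.trans π.symm, fun i => ?_, ?_⟩
  · rw [Equiv.trans_apply, he, Equiv.symm_apply_eq, hπ]
    revert i; decide
  · rw [Equiv.coe_trans, ← imageFam_imageFam, imageFam_symm π h1]

set_option synthInstance.maxSize 2000 in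
theorem rigid12_aux : ∀ y5 : Fin 12, maskL [0, 1, 2, 3, 4, y5] ∈ t12 → ∀ y6 y7 : Fin 12,
    maskL [0, 1, 2, 3, y6, y7] ∈ t12 → maskL [0, 1, 4, y5, y6, y7] ∈ t12 → ∀ y8 : Fin 12,
    maskL [0, 1, 2, 4, y6, y8] ∈ t12 → maskL [0, 2, 3, y5, y6, y8] ∈ t12 → ∀ y9 : Fin 12,
    maskL [0, 1, 3, 4, y6, y9] ∈ t12 → ∀ y10 : Fin 12, maskL [0, 2, 3, 4, y6, y10] ∈ t12 →
    ∀ y11 : Fin 12, maskL [1, 2, 3, 4, y6, y11] ∈ t12 →
    y5 = 5 ∧ y6 = 6 ∧ y7 = 7 ∧ y8 = 8 ∧ y9 = 9 ∧ y10 = 10 ∧ y11 = 11 := by
  decide +kernel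

theorem rigid12 {g : Equiv.Perm (Fin 12)} (hg : g ∈ setSystemAut (model 12 t12))
    (hfix : ∀ i : Fin 5, g (Fin.castLE (by norm_num) i) = Fin.castLE (by norm_num) i) : g = 1 := by
  have h0 : g 0 = 0 := hfix 0
  have h1 : g 1 = 1 := hfix 1
  have h2 : g 2 = 2 := hfix 2
  have h3 : g 3 = 3 := hfix 3
  have h4 : g 4 = 4 := hfix 4
  have key : ∀ V : List (Fin 12), maskL (V.map Fin.val) ∈ t12 →
      maskL ((V.map g).map Fin.val) ∈ t12 := by
    intro V hV
    rw [← toFinset_mem_model t12_lt] at hV ⊢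
    convert image_mem_of_mem_aut hg hV using 1
    ext i; simp
  have k1 := key [0, 1, 2, 3, 4, 5] (by decide +kernel)
  have k2 := key [0, 1, 2, 3, 6, 7] (by decide +kernel)
  have k3 := key [0, 1, 4, 5, 6, 7] (by decide +kernel)
  have k4 := key [0, 1, 2, 4, 6, 8] (by decide +kernel)
  have k5 := key [0, 2, 3, 5, 6, 8] (by decide +kernel)
  have k6 := key [0, 1, 3, 4, 6, 9] (by decide +kernel)
  have k7 := key [0, 2, 3, 4, 6, 10] (by decide +kernel)
  have k8 := key [1, 2, 3, 4, 6, 11] (by decide +kernel)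
  simp only [List.map_cons, List.map_nil, h0, h1, h2, h3, h4] at k1 k2 k3 k4 k5 k6 k7 k8
  obtain ⟨e5, e6, e7, e8, e9, e10, e11⟩ := rigid12_aux _ k1 _ _ k2 k3 _ k4 k5 _ k6 _ k7 _ k8
  ext i : 1
  fin_cases i
  exacts [h0, h1, h2, h3, h4, e5, e6, e7, e8, e9, e10, e11]

theorem exists_iso12_marked (hα : Fintype.card α = 12) (hβ : Fintype.card β = 12)
    {B : Set (Finset α)} {B' : Set (Finset β)} (hB : IsSteinerSystem 5 6 B)
    (hB' : IsSteinerSystem 5 6 B') (x : Fin 5 ↪ α) (y : Fin 5 ↪ β) :
    ∃ e : α ≃ β, (∀ i, e (x i) = y i) ∧ imageFam e B = B' := by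
  obtain ⟨e, he, h⟩ := exists_iso12 hα hB x
  obtain ⟨e', he', h'⟩ := exists_iso12 hβ hB' y
  refine ⟨e.trans e'.symm, fun i => ?_, ?_⟩
  · rw [Equiv.trans_apply, he, ← he', Equiv.symm_apply_apply]
  · rw [Equiv.coe_trans, ← imageFam_imageFam, h, imageFam_symm e' h']

theorem aut12_five_transitive (hα : Fintype.card α = 12) {B : Set (Finset α)}
    (hB : IsSteinerSystem 5 6 B) : MulAction.IsMultiplyPretransitive (setSystemAut B) α 5 :=
  multiplyPretransitive_of_marked _ (exists_iso12 hα hB)

theorem aut12_eq_one (hα : Fintype.card α = 12) {B : Set (Finset α)}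
    (hB : IsSteinerSystem 5 6 B) {g : Equiv.Perm α} (hg : g ∈ setSystemAut B) (x : Fin 5 ↪ α)
    (hx : ∀ i, g (x i) = x i) : g = 1 := by
  obtain ⟨e, he, h⟩ := exists_iso12 hα hB x
  have := rigid12 (conj_mem_aut e h hg) fun i => by
    rw [← he, Equiv.permCongr_apply, Equiv.symm_apply_apply, hx]
  ext a
  simpa using congrArg (fun σ : Equiv.Perm (Fin 12) => σ (e a)) this

omit [Fintype α] in
theorem stabilizer_eq_bot_of {B : Set (Finset α)} {n : ℕ} (x : Fin n ↪ α)
    (h : ∀ g ∈ setSystemAut B, (∀ i, g (x i) = x i) → g = 1) :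
    MulAction.stabilizer (setSystemAut B) x = ⊥ := by
  rw [eq_bot_iff]
  intro g hg
  rw [Subgroup.mem_bot]
  exact Subtype.ext (h g g.2 fun i => congrArg (fun y : Fin n ↪ α => y i) hg)

omit [DecidableEq α] in
theorem exists_emb (n : ℕ) (h : n ≤ Fintype.card α) : Nonempty (Fin n ↪ α) :=
  Function.Embedding.nonempty_of_card_le (by simpa using h)

/-! ### The extension of S(4,5,11) -/

/-- The one-point extension of an S(4,5,11): blocks with the new point, and complements. -/
def ext11 (B : Set (Finset α)) : Set (Finset (Option α)) :=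
  {c | ∃ b ∈ B, c = insert none (b.image some) ∨ c = bᶜ.image some}

theorem disjoint_count11 (hα : Fintype.card α = 11) {B : Set (Finset α)}
    (hB : IsSteinerSystem 4 5 B) {s : Finset α} (hs : s.card = 5) :
    cnt B ∅ s + lam B s = 1 := by
  have := cnt_eq_tri B s (fun n => if n = 5 then (lam B s : ℤ) else f11 n) (fun u hu => by
    split_ifs with h
    · rw [eq_of_subset_of_card_le hu (by omega)]
    · exact lam11 hα hB u (by have := card_le_card hu; omega)) s ∅ (empty_subset _) subset_rfl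
    (disjoint_empty_left _)
  rw [hs, card_empty] at this
  have h2 : ∀ l : ℤ, tri (fun n => if n = 5 then l else f11 n) 5 0 = 1 - l := by
    intro l
    change (((((66 - 30) - (30 - 12)) - ((30 - 12) - (12 - 4))) -
      (((30 - 12) - (12 - 4)) - ((12 - 4) - (4 - 1)))) -
      ((((30 - 12) - (12 - 4)) - ((12 - 4) - (4 - 1))) - (((12 - 4) - (4 - 1)) - ((4 - 1) - (1 - l))))
      : ℤ) = 1 - l
    ring
  rw [h2] at this
  omega

theorem ext11_steiner (hα : Fintype.card α = 11) {B : Set (Finset α)}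
    (hB : IsSteinerSystem 4 5 B) : IsSteinerSystem 5 6 (ext11 B) := by
  have hs := Option.some_injective α
  constructor
  · rintro c ⟨b, hb, rfl | rfl⟩
    · rw [card_insert_of_notMem (by simp), card_image_of_injective _ hs, hB.1 b hb]
    · rw [card_image_of_injective _ hs, card_compl, hα, hB.1 b hb]
  · intro S hS
    have hsub1 : ∀ b : Finset α, S ⊆ insert none (b.image some) ↔ eraseNone S ⊆ b := by
      intro b
      constructor
      · intro h x hx
        simpa using h (mem_eraseNone.1 hx)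
      · intro h x hx
        cases x with
        | none => simp
        | some x => simpa using h (mem_eraseNone.2 hx)
    have hsub2 : ∀ b : Finset α, S ⊆ bᶜ.image some ↔ none ∉ S ∧ Disjoint (eraseNone S) b := by
      intro b
      constructor
      · intro h
        exact ⟨fun h' => by simpa using h h', Finset.disjoint_left.2 fun x hx => by
          simpa using h (mem_eraseNone.1 hx)⟩
      · rintro ⟨h1, h2⟩ x hx
        cases x with
        | none => exact absurd hx h1
        | some x => simpa using Finset.disjoint_left.1 h2 (mem_eraseNone.2 hx)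
    by_cases hn : none ∈ S
    · have h4 : (eraseNone S).card = 4 := by rw [card_eraseNone_of_mem hn, hS]
      obtain ⟨b, ⟨hb, hsb⟩, hu⟩ := hB.2 _ h4
      refine ⟨insert none (b.image some), ⟨⟨b, hb, Or.inl rfl⟩, (hsub1 b).2 hsb⟩, ?_⟩
      rintro c ⟨⟨d, hd, rfl | rfl⟩, hc⟩
      · rw [hu d ⟨hd, (hsub1 d).1 hc⟩]
      · exact absurd hn ((hsub2 d).1 hc).1
    · have h5 : (eraseNone S).card = 5 := by rw [card_eraseNone_of_not_mem hn, hS]
      have hc := disjoint_count11 hα hB h5
      by_cases hl : lam B (eraseNone S) = 1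
      · obtain ⟨b, hb⟩ := card_eq_one.1 hl
        have hb' : ∀ d, d ∈ B ∧ eraseNone S ⊆ d ↔ d = b := fun d => by
          rw [← mem_singleton, ← hb, mem_filter, mem_blk]
        have hc0 : cnt B ∅ (eraseNone S) = 0 := by omega
        refine ⟨insert none (b.image some), ⟨⟨b, ((hb' b).2 rfl).1, Or.inl rfl⟩,
          (hsub1 b).2 ((hb' b).2 rfl).2⟩, ?_⟩
        rintro c ⟨⟨d, hd, rfl | rfl⟩, hc⟩
        · rw [(hb' d).1 ⟨hd, (hsub1 d).1 hc⟩]
        · exact absurd ⟨empty_subset _, ((hsub2 d).1 hc).2⟩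
            (filter_eq_empty_iff.1 (card_eq_zero.1 hc0) (mem_blk.2 hd))
      · have hc1 : cnt B ∅ (eraseNone S) = 1 := by omega
        have hl0 : lam B (eraseNone S) = 0 := by omega
        obtain ⟨b, hb⟩ := card_eq_one.1 hc1
        have hb' : ∀ d, d ∈ B ∧ Disjoint (eraseNone S) d ↔ d = b := fun d => by
          rw [← mem_singleton, ← hb, mem_filter, mem_blk]; simp
        refine ⟨bᶜ.image some, ⟨⟨b, ((hb' b).2 rfl).1, Or.inr rfl⟩,
          (hsub2 b).2 ⟨hn, ((hb' b).2 rfl).2⟩⟩, ?_⟩
        rintro c ⟨⟨d, hd, rfl | rfl⟩, hc⟩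
        · exact absurd ((hsub1 d).1 hc)
            (filter_eq_empty_iff.1 (card_eq_zero.1 hl0) (mem_blk.2 hd))
        · rw [(hb' d).1 ⟨hd, ((hsub2 d).1 hc).2⟩]

theorem mem_ext11_iff {B : Set (Finset α)} {b : Finset α} :
    insert none (b.image some) ∈ ext11 B ↔ b ∈ B := by
  refine ⟨?_, fun hb => ⟨b, hb, Or.inl rfl⟩⟩
  rintro ⟨d, hd, h | h⟩
  · have : b = d := by
      ext x
      simpa using Finset.ext_iff.1 h (some x)
    rwa [this]
  · simpa using Finset.ext_iff.1 h none

theorem imageFam_ext11 (e : α ≃ β) (B : Set (Finset α)) :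
    imageFam e.optionCongr (ext11 B) = ext11 (imageFam e B) := by
  have h1 : ∀ b : Finset α, (insert none (b.image some)).image e.optionCongr =
      insert none ((b.image e).image some) := fun b => by
    simp [image_image, Function.comp_def]
  have h2 : ∀ b : Finset α, (bᶜ.image some).image e.optionCongr = (b.image e)ᶜ.image some :=
    fun b => by
      ext x
      cases x with
      | none => simp
      | some y =>
        obtain ⟨x, rfl⟩ := e.surjective y
        simp
  ext c
  constructor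
  · rintro ⟨_, ⟨b, hb, rfl | rfl⟩, rfl⟩
    · exact ⟨_, ⟨b, hb, rfl⟩, Or.inl (h1 b)⟩
    · exact ⟨_, ⟨b, hb, rfl⟩, Or.inr (h2 b)⟩
  · rintro ⟨_, ⟨b, hb, rfl⟩, rfl | rfl⟩
    · exact ⟨_, ⟨b, hb, Or.inl rfl⟩, h1 b⟩
    · exact ⟨_, ⟨b, hb, Or.inr rfl⟩, h2 b⟩

/-- The tuple `(none, some (x 0), …)`. -/
def consNone {n : ℕ} (x : Fin n ↪ α) : Fin (n + 1) ↪ Option α :=
  ⟨Fin.cons none fun i => some (x i), by
    rw [Fin.cons_injective_iff]
    exact ⟨by simp, (Option.some_injective α).comp x.injective⟩⟩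

omit [Fintype α] [DecidableEq α] [Fintype β] [DecidableEq β] in
theorem exists_optionCongr_eq (e : Option α ≃ Option β) (h : e none = none) :
    ∃ e' : α ≃ β, e'.optionCongr = e := by
  refine ⟨Equiv.removeNone e, ?_⟩
  ext x : 1
  cases x with
  | none => simp [h]
  | some x =>
    have : ∃ y, e (some x) = some y := by
      cases hx : e (some x) with
      | none => exact absurd (e.injective (hx.trans h.symm)) (by simp)
      | some y => exact ⟨y, rfl⟩
    simp [Equiv.removeNone_some e this]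

theorem exists_iso11_marked (hα : Fintype.card α = 11) (hβ : Fintype.card β = 11)
    {B : Set (Finset α)} {B' : Set (Finset β)} (hB : IsSteinerSystem 4 5 B)
    (hB' : IsSteinerSystem 4 5 B') (x : Fin 4 ↪ α) (y : Fin 4 ↪ β) :
    ∃ e : α ≃ β, (∀ i, e (x i) = y i) ∧ imageFam e B = B' := by
  obtain ⟨e, he, h⟩ := exists_iso12_marked (by simp [hα]) (by simp [hβ]) (ext11_steiner hα hB)
    (ext11_steiner hβ hB') (consNone x) (consNone y)
  obtain ⟨e', rfl⟩ := exists_optionCongr_eq e (he 0)
  refine ⟨e', fun i => Option.some_injective _ (he i.succ), ?_⟩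
  rw [imageFam_ext11] at h
  ext b
  rw [← mem_ext11_iff, h, mem_ext11_iff]

theorem aut11_four_transitive (hα : Fintype.card α = 11) {B : Set (Finset α)}
    (hB : IsSteinerSystem 4 5 B) : MulAction.IsMultiplyPretransitive (setSystemAut B) α 4 := by
  obtain ⟨y⟩ := exists_emb (α := α) 4 (by omega)
  exact multiplyPretransitive_of_marked y fun x => exists_iso11_marked hα hα hB hB x y

theorem aut11_eq_one (hα : Fintype.card α = 11) {B : Set (Finset α)}
    (hB : IsSteinerSystem 4 5 B) {g : Equiv.Perm α} (hg : g ∈ setSystemAut B) (x : Fin 4 ↪ α)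
    (hx : ∀ i, g (x i) = x i) : g = 1 := by
  have := aut12_eq_one (by simp [hα]) (ext11_steiner hα hB) (g := g.optionCongr) (by
    rw [mem_aut_iff] at hg ⊢
    rw [imageFam_ext11, hg]) (consNone x) (fun i => by
      refine Fin.cases rfl (fun i => ?_) i
      exact congrArg some (hx i))
  ext a
  simpa using congrArg (fun σ : Equiv.Perm (Option α) => σ (some a)) this

end CL.Steiner
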