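import Cfsg.Agent.Base
import Cfsg.Agent.Spor.Steiner12
import Cfsg.Agent.Spor.GolaySteiner
import Cfsg.Agent.Spor.M24Chain

/-! The main embedding lemma: a doubly even, self-orthogonal family of subsets of a 24-set whose
8-sets through three points form a projective plane embeds into the Golay code. -/

set_option autoImplicit false

namespace CL.Steiner

open Finset Cfsg Search CL.Golay
open scoped Pointwise

/-- The three points with indices 21, 22, 23. -/
def tau : Fin 3 ↪ GolayPt := ⟨fun i => pt (21 + i), by decide⟩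

/-- The trace of a set on the three special points. -/
def trace3 (s : Finset GolayPt) : Finset (Fin 3) := univ.filter fun i => tau i ∈ s

theorem card_eq_add_trace3 (s : Finset GolayPt) :
    s.card = (s.filter fun p => p ∉ Set.range tau).card + (trace3 s).card := by
  rw [← card_filter_add_card_filter_not (s := s) (fun p => p ∉ Set.range tau), ← card_map tau]
  congr 2
  ext p
  simp only [not_not, mem_filter, trace3, mem_map, mem_univ, true_and, Set.mem_range]
  constructor
  · rintro ⟨h, i, rfl⟩; exact ⟨i, h, rfl⟩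
  · rintro ⟨i, h, rfl⟩; exact ⟨h, i, rfl⟩

theorem trace3_inter (s t : Finset GolayPt) : trace3 (s ∩ t) = trace3 s ∩ trace3 t := by
  ext i; simp [trace3]

theorem fin3_one : ∀ u γ : Finset (Fin 3), u.card = γ.card → ∃ σ : Equiv.Perm (Fin 3),
    ∀ u' γ' : Finset (Fin 3), u'.card = γ'.card → (u' = u ∨ u' = uᶜ ∨ u' = ∅ ∨ u' = univ) →
      (u ∩ u').card % 2 = (γ ∩ γ').card % 2 → u'.image σ = γ' := by
  decide +kernel

set_option synthInstance.maxSize 2000 in
theorem fin3_two : ∀ u γ : Finset (Fin 3), u.card = γ.card → u ≠ ∅ → u ≠ univ →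
    ∀ v δ : Finset (Fin 3), v.card = δ.card → ¬ (v = u ∨ v = uᶜ ∨ v = ∅ ∨ v = univ) →
    (u ∩ v).card % 2 = (γ ∩ δ).card % 2 → ∃ σ : Equiv.Perm (Fin 3),
    ∀ u' γ' : Finset (Fin 3), u'.card = γ'.card → (u ∩ u').card % 2 = (γ ∩ γ').card % 2 →
      (v ∩ u').card % 2 = (δ ∩ γ').card % 2 → u'.image σ = γ' := by
  decide +kernel

theorem exists_perm_fin3 {ι : Type*} (u γ : ι → Finset (Fin 3)) (h1 : ∀ i, (u i).card = (γ i).card)
    (h2 : ∀ i j, (u i ∩ u j).card % 2 = (γ i ∩ γ j).card % 2) :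
    ∃ σ : Equiv.Perm (Fin 3), ∀ i, (u i).image σ = γ i := by
  by_cases h : ∃ i, u i ≠ ∅ ∧ u i ≠ univ
  · obtain ⟨i, hi, hi'⟩ := h
    by_cases h' : ∃ j, ¬ (u j = u i ∨ u j = (u i)ᶜ ∨ u j = ∅ ∨ u j = univ)
    · obtain ⟨j, hj⟩ := h'
      obtain ⟨σ, hσ⟩ := fin3_two _ _ (h1 i) hi hi' _ _ (h1 j) hj (h2 i j)
      exact ⟨σ, fun l => hσ _ _ (h1 l) (h2 i l) (h2 j l)⟩
    · obtain ⟨σ, hσ⟩ := fin3_one _ _ (h1 i)
      exact ⟨σ, fun l => hσ _ _ (h1 l) (by_contra fun hl => h' ⟨l, hl⟩) (h2 i l)⟩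
  · obtain ⟨σ, hσ⟩ := fin3_one ∅ ∅ rfl
    refine ⟨σ, fun l => hσ _ _ (h1 l) ?_ (by simp)⟩
    by_contra hl
    exact h ⟨l, by tauto⟩

theorem even_inter_lin {y : Finset GolayPt} {bs : List ℕ}
    (h : ∀ b ∈ bs, Even (y ∩ ofMask b).card) (k : ℕ) : Even (y ∩ ofMask (lin bs k)).card :=
  lin_induction (P := fun n => Even (y ∩ ofMask n).card) (by simp) (fun a b ha hb => by
    rw [inter_comm] at ha hb ⊢
    rw [ofMask_xor]; exact even_card_symmDiff_inter ha hb) h k

theorem even_card_symmDiff_inter_iff {α : Type*} [DecidableEq α] (s t u : Finset α) :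
    Even (symmDiff s t ∩ u).card ↔ (Even (s ∩ u).card ↔ Even (t ∩ u).card) := by
  have h := card_symmDiff_add (s ∩ u) (t ∩ u)
  have e : symmDiff s t ∩ u = symmDiff (s ∩ u) (t ∩ u) := by
    ext p; simp only [mem_inter, mem_symmDiff]; tauto
  rw [e]
  simp only [Nat.even_iff]
  omega

/-- A set orthogonal to the octads through the three special points agrees with a code word
outside them. -/
theorem exists_CSet_agree {x : Finset GolayPt} (h : ∀ m ∈ tPG, Even (x ∩ ofMask m).card) :
    ∃ g ∈ CSet, ∀ p, p ∉ Set.range tau → (p ∈ g ↔ p ∈ x) := by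
  have key : ∀ ε : ℕ, (∀ p, p ∉ Set.range tau → p ∉ ofMask ε) → (∀ m ∈ tPG, Even (pop (ε &&& m))) →
      (Even (x ∩ ofMask 2101096).card ↔ Even (pop (ε &&& 2101096))) →
      (Even (x ∩ ofMask 4196943).card ↔ Even (pop (ε &&& 4196943))) →
      ∃ g ∈ CSet, ∀ p, p ∉ Set.range tau → (p ∈ g ↔ p ∈ x) := by
    intro ε h0 h1 h2 h3
    refine ⟨symmDiff x (ofMask ε), mem_CSet_of_even_basL fun b hb => ?_, fun p hp => ?_⟩
    · have : ∀ b ∈ basL, ∃ k ∈ [2689, 16562, 264277, 19059, 279275, 264726, 18488, 281180, 280753,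
        279291, 262338, 724], b = lin (2101096 :: 4196943 :: tPG) k := by decide +kernel
      obtain ⟨k, -, rfl⟩ := this b hb
      refine even_inter_lin (fun m hm => ?_) k
      rw [even_card_symmDiff_inter_iff, ← ofMask_and, card_ofMask]
      rcases List.mem_cons.1 hm with rfl | hm
      · exact h2
      rcases List.mem_cons.1 hm with rfl | hm
      · exact h3
      · exact iff_of_true (h m hm) (h1 m hm)
    · simp [mem_symmDiff, h0 p hp]
  by_cases h2 : Even (x ∩ ofMask 2101096).card <;> by_cases h3 : Even (x ∩ ofMask 4196943).card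
  · exact key 0 (by simp) (by decide +kernel) (iff_of_true h2 (by decide +kernel))
      (iff_of_true h3 (by decide +kernel))
  · exact key 12582912 (by decide +kernel) (by decide +kernel) (iff_of_true h2 (by decide +kernel))
      (iff_of_false h3 (by decide +kernel))
  · exact key 10485760 (by decide +kernel) (by decide +kernel) (iff_of_false h2 (by decide +kernel))
      (iff_of_true h3 (by decide +kernel))
  · exact key 6291456 (by decide +kernel) (by decide +kernel) (iff_of_false h2 (by decide +kernel))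
      (iff_of_false h3 (by decide +kernel))

theorem exists_perm_CSet {X : Set (Finset GolayPt)} (h4 : ∀ x ∈ X, 4 ∣ x.card)
    (hev : ∀ x ∈ X, ∀ y ∈ X, Even (x ∩ y).card) (hT : ∀ m ∈ tPG, ofMask m ∈ X) :
    ∃ σ : Equiv.Perm GolayPt, ∀ x ∈ X, x.image σ ∈ CSet := by
  have h1 : ∀ x : X, ∃ g ∈ CSet, ∀ p, p ∉ Set.range tau → (p ∈ g ↔ p ∈ (x : Finset GolayPt)) :=
    fun x => exists_CSet_agree fun m hm => hev x x.2 _ (hT m hm)
  choose g hg hgx using h1
  have hout : ∀ x y : X, ((g x ∩ g y).filter fun p => p ∉ Set.range tau) =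
      ((x : Finset GolayPt) ∩ y).filter fun p => p ∉ Set.range tau := by
    intro x y
    ext p
    simp only [mem_filter, mem_inter, and_congr_left_iff]
    intro hp
    rw [hgx x p hp, hgx y p hp]
  obtain ⟨σ, hσ⟩ := exists_perm_fin3 (fun x : X => trace3 x) (fun x => trace3 (g x)) (fun x => by
      have e1 := card_eq_add_trace3 (x : Finset GolayPt)
      have e2 := card_eq_add_trace3 (g x)
      have e3 := hout x x
      rw [inter_self, inter_self] at e3
      rw [e3] at e2
      have := h4 x x.2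
      have := four_dvd_card_of_mem_CSet (hg x)
      have := card_le_univ (trace3 (x : Finset GolayPt))
      have := card_le_univ (trace3 (g x))
      simp only [Fintype.card_fin] at *
      omega) (fun x y => by
      have e1 := card_eq_add_trace3 ((x : Finset GolayPt) ∩ y)
      have e2 := card_eq_add_trace3 (g x ∩ g y)
      rw [hout, trace3_inter] at e2
      rw [trace3_inter] at e1
      have := Nat.even_iff.1 (hev x x.2 y y.2)
      have := Nat.even_iff.1 (even_card_inter (hg x) (hg y))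
      omega)
  refine ⟨σ.viaFintypeEmbedding tau, fun x hx => ?_⟩
  convert hg ⟨x, hx⟩ using 1
  ext p
  obtain ⟨q, rfl⟩ := (σ.viaFintypeEmbedding tau).surjective p
  rw [(σ.viaFintypeEmbedding tau).injective.mem_finset_image]
  by_cases hq : q ∈ Set.range tau
  · obtain ⟨i, rfl⟩ := hq
    have := Finset.ext_iff.1 (hσ ⟨x, hx⟩) (σ i)
    rw [σ.injective.mem_finset_image] at this
    rw [Equiv.Perm.viaFintypeEmbedding_apply_image]
    simpa [trace3] using this
  · rw [Equiv.Perm.viaFintypeEmbedding_apply_notMem_range _ _ hq, hgx ⟨x, hx⟩ q hq]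

theorem image_toF_ptEquiv (m : ℕ) : (toF 24 m).image ptEquiv.symm = ofMask m := by
  ext p
  obtain ⟨i, rfl⟩ := ptEquiv.symm.surjective p
  rw [ptEquiv.symm.injective.mem_finset_image, mem_toF, mem_ofMask]
  exact (congrArg (fun n => m.testBit n = true) (idx_pt i.2)).symm ▸ Iff.rfl

variable {α : Type*} [Fintype α] [DecidableEq α]

/-- **Main lemma.** -/
theorem exists_equiv_CSet (hα : Fintype.card α = 24) {X : Set (Finset α)}
    (h4 : ∀ x ∈ X, 4 ∣ x.card) (hev : ∀ x ∈ X, ∀ y ∈ X, Even (x ∩ y).card)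
    (hinter : ∀ x ∈ X, ∀ y ∈ X, x.card = 8 → y.card = 8 → x ≠ y → (x ∩ y).card < 5)
    (a : Fin 3 ↪ α)
    (hcover : ∀ s : Finset α, s.card = 5 → (∀ i, a i ∈ s) → ∃ x ∈ X, x.card = 8 ∧ s ⊆ x)
    {n : ℕ} (hn : n ≤ 5) (u : Fin n ↪ α) (v : Fin n ↪ GolayPt) :
    ∃ e : α ≃ GolayPt, (∀ i, e (u i) = v i) ∧ ∀ x ∈ X, x.image e ∈ CSet := by
  obtain ⟨e, he⟩ := exists_equiv_marked (β := Fin 24) (by simpa using hα) a.injective
    (y := fun i : Fin 3 => Fin.natAdd 21 i) (by decide)
  have hG : Good 24 5 8 14680064 (imageFam e {x ∈ X | x.card = 8}) := by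
    refine ⟨?_, ?_, fun s hs hn => ?_⟩
    · rintro _ ⟨x, hx, rfl⟩
      simp only
      rw [card_image_of_injective _ e.injective, hx.2]
    · rintro _ ⟨x, hx, rfl⟩ _ ⟨y, hy, rfl⟩ hne
      simp only at hne ⊢
      rw [← image_inter _ _ e.injective, card_image_of_injective _ e.injective]
      exact hinter x hx.1 y hy.1 hx.2 hy.2 fun h => hne (by rw [h])
    · obtain ⟨x, hx, hx8, hsx⟩ := hcover (s.image e.symm)
        (by rw [card_image_of_injective _ e.symm.injective, hs]) fun i =>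
          mem_image.2 ⟨e (a i), hn (by rw [he, mem_toF]; revert i; decide), by simp⟩
      exact ⟨_, ⟨x, ⟨hx, hx8⟩, rfl⟩, fun p hp =>
        mem_image.2 ⟨e.symm p, hsx (mem_image_of_mem _ hp), by simp⟩⟩
  obtain ⟨π, -, hT⟩ := claim_PG _ hG (by simp)
  let e1 : α ≃ GolayPt := (e.trans π.symm).trans ptEquiv.symm
  obtain ⟨σ, hσ⟩ := exists_perm_CSet (X := imageFam e1 X) (by
      rintro _ ⟨x, hx, rfl⟩
      simp only
      rw [card_image_of_injective _ e1.injective]
      exact h4 x hx) (by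
      rintro _ ⟨x, hx, rfl⟩ _ ⟨y, hy, rfl⟩
      simp only
      rw [← image_inter _ _ e1.injective, card_image_of_injective _ e1.injective]
      exact hev x hx y hy) (by
      intro m hm
      obtain ⟨x, hx, hxm⟩ := hT m hm
      refine ⟨x, hx.1, ?_⟩
      simp only at hxm ⊢
      rw [← image_toF_ptEquiv, Equiv.coe_trans, Equiv.coe_trans, ← image_image, ← image_image, hxm,
        image_image (f := π), Equiv.symm_comp_self, image_id])
  have := CL.M24.isMultiplyPretransitive_M24
  have htr := MulAction.isMultiplyPretransitive_of_le (G := M24) (α := GolayPt) (n := 5) hn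
    (by simp)
  obtain ⟨g, hg⟩ := htr.exists_smul_eq (u.trans (e1.trans σ).toEmbedding) v
  refine ⟨(e1.trans σ).trans g.1, fun i => congrArg (fun w : Fin n ↪ GolayPt => w i) hg,
    fun x hx => ?_⟩
  rw [Equiv.coe_trans, Equiv.coe_trans, ← image_image, ← image_image]
  exact smul_mem_CSet g.2 (hσ _ ⟨x, hx, rfl⟩)

/-- Every S(5,8,24) is isomorphic to the octads, with up to five prescribed points. -/
theorem exists_iso24 (hα : Fintype.card α = 24) {B : Set (Finset α)} (hB : IsSteinerSystem 5 8 B)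
    {n : ℕ} (hn : n ≤ 5) (u : Fin n ↪ α) (v : Fin n ↪ GolayPt) :
    ∃ e : α ≃ GolayPt, (∀ i, e (u i) = v i) ∧ imageFam e B = octads := by
  obtain ⟨a⟩ := exists_emb (α := α) 3 (by omega)
  obtain ⟨e, he, h⟩ := exists_equiv_CSet hα (X := B) (fun x hx => by rw [hB.1 x hx]; norm_num)
    (fun x hx y hy => even_inter24 hα hB hx hy) (fun x hx y hy _ _ h => card_inter_lt hB hx hy h) a
    (fun s hs _ => by
      obtain ⟨b, hb, hsb⟩ := exists_block hB hs
      exact ⟨b, hb, hB.1 b hb, hsb⟩) hn u v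
  refine ⟨e, he, eq_of_subset_steiner (imageFam_steiner e hB) octads_steiner (by norm_num) ?_⟩
  rintro _ ⟨x, hx, rfl⟩
  exact ⟨h x hx, by simp only; rw [card_image_of_injective _ e.injective, hB.1 x hx]⟩

end CL.Steiner
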