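import Cfsg.Agent.Base
import Cfsg.Agent.Spor.SteinerGolay
import Cfsg.Agent.Spor.M24Simple

/-! The Steiner systems S(4,7,23) and S(3,6,22) are derived from the octads; their automorphism
groups. -/

set_option autoImplicit false

namespace CL.Steiner

open Finset Cfsg CL.Golay CL.Chain
open scoped Pointwise

variable {α β : Type*} [Fintype α] [DecidableEq α] [Fintype β] [DecidableEq β]

/-- The main lemma with a set of at most three special points and any index type of marks. -/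
theorem exists_equiv_CSet' (hα : Fintype.card α = 24) {X : Set (Finset α)}
    (h4 : ∀ x ∈ X, 4 ∣ x.card) (hev : ∀ x ∈ X, ∀ y ∈ X, Even (x ∩ y).card)
    (hinter : ∀ x ∈ X, ∀ y ∈ X, x.card = 8 → y.card = 8 → x ≠ y → (x ∩ y).card < 5)
    (A : Finset α) (hA : A.card ≤ 3)
    (hcover : ∀ s : Finset α, s.card = 5 → A ⊆ s → ∃ x ∈ X, x.card = 8 ∧ s ⊆ x)
    {κ : Type*} [Fintype κ] (hκ : Fintype.card κ ≤ 5) (u : κ ↪ α) (v : κ ↪ GolayPt) :
    ∃ e : α ≃ GolayPt, (∀ i, e (u i) = v i) ∧ ∀ x ∈ X, x.image e ∈ CSet := by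
  obtain ⟨A', hAA', -, hA'⟩ := exists_subsuperset_card_eq (subset_univ A) hA
    (by rw [card_univ, hα]; norm_num)
  let f := (A'.equivFinOfCardEq hA').symm
  let k := (Fintype.equivFin κ).symm
  obtain ⟨e, he, h⟩ := exists_equiv_CSet hα h4 hev hinter
    (f.toEmbedding.trans (Function.Embedding.subtype _)) (fun s hs ha => hcover s hs fun x hx => by
      simpa using ha (f.symm ⟨x, hAA' hx⟩)) hκ (k.toEmbedding.trans u) (k.toEmbedding.trans v)
  exact ⟨e, fun i => by simpa using he (k.symm i), h⟩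

/-- `B` is the family of the octads through `P`, read on the complement of `P` through `ι`. -/
structure Emb (B : Set (Finset α)) (ι : α ↪ GolayPt) (P : Finset GolayPt) : Prop where
  range : ∀ x, x ∈ Set.range ι ↔ x ∉ P
  mem : ∀ b, b ∈ B ↔ b.map ι ∪ P ∈ octads

theorem exists_emb_gen {j t k : ℕ} (hj : j ≤ 3) (hα : Fintype.card α + j = 24) (ht : t + j = 5)
    (hk : k + j = 8) {B : Set (Finset α)} (hB : IsSteinerSystem t k B)
    (hev : ∀ b ∈ B, ∀ c ∈ B, Even ((b ∩ c).card + j)) {n : ℕ} (hn : n + j ≤ 5) (u : Fin n ↪ α)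
    (w : Fin n ⊕ Fin j ↪ GolayPt) :
    ∃ ι : α ↪ GolayPt, (∀ i, ι (u i) = w (Sum.inl i)) ∧
      Emb B ι (univ.map (Function.Embedding.inr.trans w)) := by
  have hint : ∀ b c : Finset α, (b.disjSum (univ : Finset (Fin j)) ∩ c.disjSum univ) =
      (b ∩ c).disjSum univ := fun b c => by
    ext x; cases x <;> simp
  have hcover : ∀ s : Finset (α ⊕ Fin j), s.card = 5 → univ.map Function.Embedding.inr ⊆ s →
      ∃ b ∈ B, s ⊆ b.disjSum univ := by
    intro s hs hsub
    have h1 : s.toRight = univ := by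
      ext i; simpa using hsub (mem_map_of_mem _ (mem_univ i))
    have h2 := card_toLeft_add_card_toRight (u := s)
    rw [h1, card_univ, Fintype.card_fin, hs] at h2
    obtain ⟨b, hb, hsb⟩ := exists_block hB (s := s.toLeft) (by omega)
    exact ⟨b, hb, subset_disjSum.2 ⟨hsb, subset_univ _⟩⟩
  have hcard : ∀ b ∈ B, (b.disjSum (univ : Finset (Fin j))).card = 8 := fun b hb => by
    rw [card_disjSum, hB.1 b hb, card_univ, Fintype.card_fin, hk]
  obtain ⟨e, he, h⟩ := exists_equiv_CSet' (α := α ⊕ Fin j) (by simpa using hα)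
    (X := (fun b => b.disjSum univ) '' B) (by
      rintro _ ⟨b, hb, rfl⟩
      simp only [hcard b hb]; norm_num) (by
      rintro _ ⟨b, hb, rfl⟩ _ ⟨c, hc, rfl⟩
      simpa [hint] using hev b hb c hc) (by
      rintro _ ⟨b, hb, rfl⟩ _ ⟨c, hc, rfl⟩ - - hne
      have := card_inter_lt hB hb hc fun h => hne (by rw [h])
      simp only [hint, card_disjSum, card_univ, Fintype.card_fin]
      omega) (univ.map Function.Embedding.inr) (by simpa using hj) (fun s hs hsub => by
      obtain ⟨b, hb, hsb⟩ := hcover s hs hsub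
      exact ⟨_, ⟨b, hb, rfl⟩, hcard b hb, hsb⟩)
    (κ := Fin n ⊕ Fin j) (by simpa using hn) (u.sumMap (Function.Embedding.refl _)) w
  have he' : ∀ i, e (Sum.inr i) = w (Sum.inr i) := fun i => he (Sum.inr i)
  have himg : ∀ b : Finset α, b.map (Function.Embedding.inl.trans e.toEmbedding) ∪
      univ.map (Function.Embedding.inr.trans w) = (b.disjSum univ).image e := by
    intro b
    ext x
    obtain ⟨y, rfl⟩ := e.surjective x
    cases y <;> simp [← he']
  have hoct : ∀ b ∈ B, (b.disjSum univ).image e ∈ octads := fun b hb =>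
    ⟨h _ ⟨b, hb, rfl⟩, by rw [card_image_of_injective _ e.injective, hcard b hb]⟩
  refine ⟨Function.Embedding.inl.trans e.toEmbedding, fun i => he (Sum.inl i), fun x => ?_,
    fun b => ⟨fun hb => by rw [himg]; exact hoct b hb, fun hb => ?_⟩⟩
  · obtain ⟨y, rfl⟩ := e.surjective x
    cases y <;> simp [← he']
  · rw [himg] at hb
    have h8 := hb.2
    rw [card_image_of_injective _ e.injective] at h8
    obtain ⟨s, hs1, hs2, hs⟩ := exists_subsuperset_card_eq
      (s := univ.map (Function.Embedding.inr : Fin j ↪ α ⊕ Fin j)) (t := b.disjSum univ) (n := 5)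
      (fun x hx => by obtain ⟨i, -, rfl⟩ := mem_map.1 hx; simp) (by simp; omega) (by omega)
    obtain ⟨c, hc, hsc⟩ := hcover s hs hs1
    have := octad_eq_of_subset hb (hoct c hc) (s := s.image e)
      (by rw [card_image_of_injective _ e.injective, hs]) (image_subset_image hs2)
      (image_subset_image hsc)
    rw [(disjSum_inj.1 (image_injective e.injective this)).1]
    exact hc

omit [Fintype α] [DecidableEq α] [Fintype β] [DecidableEq β] in
theorem exists_equiv_of_range_eq {γ : Type*} (ι : α ↪ γ) (ι' : β ↪ γ)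
    (h : Set.range ι = Set.range ι') : ∃ e : α ≃ β, ∀ a, ι' (e a) = ι a :=
  ⟨(Equiv.ofInjective ι ι.injective).trans
    ((Equiv.setCongr h).trans (Equiv.ofInjective ι' ι'.injective).symm), fun a => by
      simp [Equiv.apply_ofInjective_symm]⟩

variable {B : Set (Finset α)} {ι : α ↪ GolayPt} {P : Finset GolayPt}

omit [Fintype α] [Fintype β] in
theorem Emb.iso {B' : Set (Finset β)} {ι' : β ↪ GolayPt} (h : Emb B ι P) (h' : Emb B' ι' P) :
    ∃ e : α ≃ β, (∀ a, ι' (e a) = ι a) ∧ imageFam e B = B' := by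
  obtain ⟨e, he⟩ := exists_equiv_of_range_eq ι ι' (Set.ext fun x => by rw [h.range, h'.range])
  refine ⟨e, he, Set.ext fun c => ?_⟩
  rw [mem_imageFam_equiv, h.mem, h'.mem]
  congr! 2
  ext x
  simp only [mem_map, mem_image, exists_exists_and_eq_and, ← he, Equiv.apply_symm_apply]

omit [DecidableEq α] in
theorem Emb.exists_eq (h : Emb B ι P) {o : Finset GolayPt} (hPo : P ⊆ o) :
    ∃ b : Finset α, b.map ι ∪ P = o := by
  refine ⟨univ.filter fun a => ι a ∈ o, ?_⟩
  ext x
  simp only [mem_union, mem_map, mem_filter, mem_univ, true_and]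
  constructor
  · rintro (⟨a, ha, rfl⟩ | hx)
    · exact ha
    · exact hPo hx
  · intro hx
    by_cases hxP : x ∈ P
    · exact Or.inr hxP
    · obtain ⟨a, rfl⟩ := (h.range x).2 hxP
      exact Or.inl ⟨a, hx, rfl⟩

omit [Fintype α] [DecidableEq α] in
theorem Emb.via_fix (h : Emb B ι P) (g : Equiv.Perm α) {x : GolayPt} (hx : x ∈ P) :
    Equiv.Perm.viaEmbeddingHom ι g x = x :=
  Equiv.Perm.viaEmbedding_apply_of_notMem g ι x fun h' => (h.range x).1 h' hx

omit [Fintype α] in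
theorem Emb.via_smul (h : Emb B ι P) (g : Equiv.Perm α) (b : Finset α) :
    Equiv.Perm.viaEmbeddingHom ι g • (b.map ι ∪ P) = (b.image g).map ι ∪ P := by
  rw [smul_union', smul_eq_self_of_mapsTo (s := P) fun x hx => by rwa [h.via_fix g hx]]
  congr 1
  ext x
  simp [smul_eq_image, Equiv.Perm.viaEmbeddingHom_apply, Equiv.Perm.viaEmbedding_apply]

theorem Emb.mem_aut_iff (h : Emb B ι P) {g : Equiv.Perm α} : g ∈ setSystemAut B ↔
    ∀ o ∈ octads, P ⊆ o → Equiv.Perm.viaEmbeddingHom ι g • o ∈ octads := by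
  rw [mem_setSystemAut_iff]
  constructor
  · intro hg o ho hPo
    obtain ⟨b, rfl⟩ := h.exists_eq hPo
    rw [h.via_smul, ← h.mem]
    exact hg b ((h.mem b).2 ho)
  · intro hg b hb
    rw [smul_eq_image, h.mem, ← h.via_smul]
    exact hg _ ((h.mem b).1 hb) subset_union_right

omit [Fintype α] [DecidableEq α] in
theorem Emb.exists_via (h : Emb B ι P) {σ : Equiv.Perm GolayPt} (hσ : ∀ x ∈ P, σ x = x) :
    ∃ g, Equiv.Perm.viaEmbeddingHom ι g = σ := by
  obtain ⟨g, hg⟩ := exists_equiv_of_range_eq (ι.trans σ.toEmbedding) ι (Set.ext fun x => by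
    obtain ⟨y, rfl⟩ := σ.surjective x
    have h1 : σ y ∈ Set.range (ι.trans σ.toEmbedding) ↔ y ∈ Set.range ι := by simp
    rw [h1, h.range, h.range, not_iff_not]
    exact ⟨fun hy => by rwa [hσ y hy], fun hy => by rwa [← σ.injective (hσ _ hy)]⟩)
  refine ⟨g, Equiv.ext fun x => ?_⟩
  by_cases hx : x ∈ P
  · rw [h.via_fix g hx, hσ x hx]
  · obtain ⟨a, rfl⟩ := (h.range x).2 hx
    rw [Equiv.Perm.viaEmbeddingHom_apply, Equiv.Perm.viaEmbedding_apply, hg]
    rfl

omit [Fintype α] [DecidableEq α] in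
theorem Emb.nonempty_comap_equiv (h : Emb B ι P) (l : List GolayPt) (hl : ∀ x, x ∈ l ↔ x ∈ P) :
    Nonempty ((fix M24 l).comap (Equiv.Perm.viaEmbeddingHom ι) ≃* fix M24 l) :=
  ⟨(Subgroup.equivMapOfInjective _ _ (Equiv.Perm.viaEmbeddingHom_injective ι)).trans
    (MulEquiv.subgroupCongr (Subgroup.map_comap_eq_self fun _ hσ =>
      h.exists_via fun x hx => hσ.2 x ((hl x).2 hx)))⟩

omit [Fintype α] [DecidableEq α] in
theorem Emb.mem_comap_iff (h : Emb B ι P) (l : List GolayPt) (hl : ∀ x, x ∈ l ↔ x ∈ P)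
    {g : Equiv.Perm α} : g ∈ (fix M24 l).comap (Equiv.Perm.viaEmbeddingHom ι) ↔
      Equiv.Perm.viaEmbeddingHom ι g ∈ M24 :=
  ⟨fun hg => hg.1, fun hg => ⟨hg, fun x hx => h.via_fix g ((hl x).1 hx)⟩⟩

/-! ### S(4,7,23) -/

theorem exists_emb23 (hα : Fintype.card α = 23) (hB : IsSteinerSystem 4 7 B) {n : ℕ} (hn : n ≤ 4)
    (u : Fin n ↪ α) (w : Fin n ⊕ Fin 1 ↪ GolayPt) :
    ∃ ι : α ↪ GolayPt, (∀ i, ι (u i) = w (Sum.inl i)) ∧ Emb B ι {w (Sum.inr 0)} := by
  obtain ⟨ι, h1, h2⟩ := exists_emb_gen (j := 1) (by norm_num) (by omega) rfl rfl hB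
    (fun b hb c hc => by
      by_cases hbc : b = c
      · subst hbc; rw [inter_self, hB.1 b hb]; decide
      · rcases inter23 hα hB hb hc hbc with h | h <;> rw [h] <;> decide) (by omega) u w
  exact ⟨ι, h1, by simpa using h2⟩

theorem exists_iso23 (hα : Fintype.card α = 23) (hβ : Fintype.card β = 23) {B' : Set (Finset β)}
    (hB : IsSteinerSystem 4 7 B) (hB' : IsSteinerSystem 4 7 B') {n : ℕ} (hn : n ≤ 4)
    (u : Fin n ↪ α) (u' : Fin n ↪ β) : ∃ e : α ≃ β, (∀ i, e (u i) = u' i) ∧ imageFam e B = B' := by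
  obtain ⟨w⟩ : Nonempty (Fin n ⊕ Fin 1 ↪ GolayPt) :=
    Function.Embedding.nonempty_of_card_le (by simp; omega)
  obtain ⟨ι, h1, h2⟩ := exists_emb23 hα hB hn u w
  obtain ⟨ι', h1', h2'⟩ := exists_emb23 hβ hB' hn u' w
  obtain ⟨e, he, h⟩ := h2.iso h2'
  exact ⟨e, fun i => ι'.injective (by rw [he, h1, h1']), h⟩

theorem mem_M24_of_octads_through {σ : Equiv.Perm GolayPt} (p : GolayPt)
    (h : ∀ o ∈ octads, p ∈ o → σ • o ∈ CSet) : σ ∈ M24 := by
  rw [mem_M24_iff_octads]
  intro o ho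
  refine ⟨?_, by rw [card_smul', ho.2]⟩
  by_cases hp : p ∈ o
  · exact h o ho hp
  obtain ⟨T, hT, hT4⟩ := exists_subset_card_eq (s := o) (n := 4) (by rw [ho.2]; norm_num)
  obtain ⟨u, hu, hsu⟩ := exists_octad_superset (s := insert p T)
    ((card_insert_le _ _).trans (by omega))
  have hpu : p ∈ u := hsu (mem_insert_self _ _)
  have h4 : 4 ≤ (o ∩ u).card := hT4 ▸ card_le_card (subset_inter hT ((subset_insert _ _).trans hsu))
  have h4' := octad_inter ho hu fun h => hp (h ▸ hpu)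
  have hc := card_symmDiff_add o u
  rw [ho.2, hu.2] at hc
  have := symmDiff_mem_CSet (h _ ⟨symmDiff_mem_CSet ho.1 hu.1, by omega⟩
    (mem_symmDiff.2 (Or.inr ⟨hpu, hp⟩))) (h u hu hpu)
  rwa [← smul_symmDiff', symmDiff_symmDiff_cancel_right] at this

theorem nonempty_aut23_equiv (hα : Fintype.card α = 23) (hB : IsSteinerSystem 4 7 B)
    (p : GolayPt) : Nonempty (setSystemAut B ≃* fix M24 [p]) := by
  obtain ⟨ι, -, h⟩ := exists_emb23 hα hB (n := 0) (by norm_num) ⟨Fin.elim0, fun i => i.elim0⟩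
    ⟨fun _ => p, by decide +revert⟩
  change Emb B ι {p} at h
  have hl : ∀ x, x ∈ [p] ↔ x ∈ ({p} : Finset GolayPt) := by simp
  obtain ⟨f⟩ := h.nonempty_comap_equiv [p] hl
  refine ⟨(MulEquiv.subgroupCongr (Subgroup.ext fun g => ?_)).trans f⟩
  rw [h.mem_comap_iff _ hl, h.mem_aut_iff]
  exact ⟨fun hg => mem_M24_of_octads_through p fun o ho hp =>
    (hg o ho (singleton_subset_iff.2 hp)).1, fun hg o ho _ => smul_mem_octads hg ho⟩

/-! ### S(3,6,22) -/

theorem exists_emb22 (hα : Fintype.card α = 22) (hB : IsSteinerSystem 3 6 B) {n : ℕ} (hn : n ≤ 3)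
    (u : Fin n ↪ α) (w : Fin n ⊕ Fin 2 ↪ GolayPt) :
    ∃ ι : α ↪ GolayPt, (∀ i, ι (u i) = w (Sum.inl i)) ∧
      Emb B ι {w (Sum.inr 0), w (Sum.inr 1)} := by
  obtain ⟨ι, h1, h2⟩ := exists_emb_gen (j := 2) (by norm_num) (by omega) rfl rfl hB
    (fun b hb c hc => by
      by_cases hbc : b = c
      · subst hbc; rw [inter_self, hB.1 b hb]; decide
      · rcases inter22 hα hB hb hc hbc with h | h <;> rw [h] <;> decide) (by omega) u w
  refine ⟨ι, h1, ?_⟩
  convert h2 using 1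
  ext x
  simp [Fin.exists_fin_two, eq_comm]

theorem exists_iso22 (hα : Fintype.card α = 22) (hβ : Fintype.card β = 22) {B' : Set (Finset β)}
    (hB : IsSteinerSystem 3 6 B) (hB' : IsSteinerSystem 3 6 B') {n : ℕ} (hn : n ≤ 3)
    (u : Fin n ↪ α) (u' : Fin n ↪ β) : ∃ e : α ≃ β, (∀ i, e (u i) = u' i) ∧ imageFam e B = B' := by
  obtain ⟨w⟩ : Nonempty (Fin n ⊕ Fin 2 ↪ GolayPt) :=
    Function.Embedding.nonempty_of_card_le (by simp; omega)
  obtain ⟨ι, h1, h2⟩ := exists_emb22 hα hB hn u w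
  obtain ⟨ι', h1', h2'⟩ := exists_emb22 hβ hB' hn u' w
  obtain ⟨e, he, h⟩ := h2.iso h2'
  exact ⟨e, fun i => ι'.injective (by rw [he, h1, h1']), h⟩

theorem exists_emb22' (hα : Fintype.card α = 22) (hB : IsSteinerSystem 3 6 B) {p q : GolayPt}
    (hpq : p ≠ q) : ∃ ι : α ↪ GolayPt, Emb B ι {p, q} := by
  obtain ⟨ι, -, h⟩ := exists_emb22 hα hB (n := 0) (by norm_num) ⟨Fin.elim0, fun i => i.elim0⟩
    ⟨Sum.elim Fin.elim0 ![p, q], by
      rintro (i | i) (j | j) hij
      · exact i.elim0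
      · exact i.elim0
      · exact j.elim0
      · fin_cases i <;> fin_cases j <;> simp_all [eq_comm]⟩
  exact ⟨ι, h⟩

/-- A set orthogonal to all octads through the points 22 and 23 is a code word up to these two
points. -/
theorem mem_CSet_or_of_even {x : Finset GolayPt}
    (h : ∀ o ∈ octads, {tau 1, tau 2} ⊆ o → Even (x ∩ o).card) :
    x ∈ CSet ∨ symmDiff x {tau 1, tau 2} ∈ CSet := by
  have hT : ∀ m ∈ Search.tPG, ofMask m ∈ octads ∧ {tau 1, tau 2} ⊆ ofMask m := by
    simp only [ofMask_mem_octads_iff, insert_subset_iff, singleton_subset_iff, mem_ofMask]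
    decide +kernel
  obtain ⟨g, hg, hgx⟩ := exists_CSet_agree (x := x) fun m hm => h _ (hT m hm).1 (hT m hm).2
  have hev : ∀ m, ofMask m ∈ octads → {tau 1, tau 2} ⊆ ofMask m →
      Even (trace3 (symmDiff x g) ∩ trace3 (ofMask m)).card := by
    intro m hm hm'
    have h1 := even_card_symmDiff_inter (h _ hm hm') (even_card_inter hg hm.1)
    rw [card_eq_add_trace3, trace3_inter, filter_eq_empty_iff.2 fun p hp hp' => ?_] at h1
    · simpa using h1
    · have := mem_symmDiff.1 (mem_inter.1 hp).1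
      rw [hgx p hp'] at this
      tauto
  have h1 := hev 14682450 (hT _ (by decide)).1 (hT _ (by decide)).2
  have h2 := hev 13062145 oct0_mem (by decide +kernel)
  have key : ∀ u : Finset (Fin 3), Even (u ∩ trace3 (ofMask 14682450)).card →
      Even (u ∩ trace3 (ofMask 13062145)).card → u = trace3 ∅ ∨ u = trace3 {tau 1, tau 2} := by
    decide +kernel
  have hext : ∀ ε : Finset GolayPt, (∀ p ∈ ε, p ∈ Set.range tau) →
      trace3 (symmDiff x g) = trace3 ε → symmDiff x ε = g := by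
    intro ε hε he
    have : symmDiff x g = ε := by
      ext p
      by_cases hp : p ∈ Set.range tau
      · obtain ⟨i, rfl⟩ := hp
        simpa [trace3] using Finset.ext_iff.1 he i
      · rw [mem_symmDiff, hgx p hp]
        exact iff_of_false (by tauto) fun h => hp (hε p h)
    rw [← this, symmDiff_symmDiff_cancel_left]
  rcases key _ h1 h2 with h3 | h3
  · left
    have := hext ∅ (by simp) h3
    rw [← bot_eq_empty, symmDiff_bot] at this
    rwa [this]
  · right
    rwa [hext _ (by simp) h3]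

theorem swap_smul_eq {p q : GolayPt} (s : Finset GolayPt) : Equiv.swap p q • s =
    if (p ∈ s ↔ q ∈ s) then s else symmDiff s {p, q} := by
  ext x
  rw [mem_smul_iff, Equiv.swap_inv, Equiv.swap_apply_def]
  split_ifs with h1 h2 h3 h4 h5
  all_goals simp_all [mem_symmDiff]
  all_goals tauto

theorem mem_M24_or_swap {σ : Equiv.Perm GolayPt} (h1 : σ (tau 1) = tau 1) (h2 : σ (tau 2) = tau 2)
    (h : ∀ o ∈ octads, {tau 1, tau 2} ⊆ o → σ⁻¹ • o ∈ octads) :
    σ ∈ M24 ∨ Equiv.swap (tau 1) (tau 2) * σ ∈ M24 := by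
  have hne : tau 1 ≠ tau 2 := by decide
  have hor : ∀ o ∈ octads, σ • o ∈ CSet ∨ symmDiff (σ • o) {tau 1, tau 2} ∈ CSet := by
    intro o ho
    refine mem_CSet_or_of_even fun u hu hu' => ?_
    rw [← card_smul' σ⁻¹, smul_inter', inv_smul_smul]
    exact even_card_inter ho.1 (h u hu hu').1
  have hmem : ∀ (o : Finset GolayPt) (i : Fin 3), σ (tau i) = tau i → (tau i ∈ σ • o ↔ tau i ∈ o) :=
    fun o i hi => by rw [← apply_mem_smul_iff (σ := σ) (s := o), hi]
  have hcard : ∀ s : Finset GolayPt, (s ∩ {tau 1, tau 2}).card % 2 =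
      if (tau 1 ∈ s ↔ tau 2 ∈ s) then 0 else 1 := by
    intro s
    rw [inter_comm]
    by_cases a1 : tau 1 ∈ s <;> by_cases a2 : tau 2 ∈ s <;> simp [a1, a2, hne]
  have hsame : ∀ o ∈ octads, (tau 1 ∈ o ↔ tau 2 ∈ o) → σ • o ∈ CSet := by
    intro o ho hiff
    refine (hor o ho).resolve_right fun h' => ?_
    have e1 := card_symmDiff_add (σ • o) {tau 1, tau 2}
    have e2 := four_dvd_card_of_mem_CSet h'
    have e3 := hcard (σ • o)
    rw [if_pos (by rwa [hmem o 1 h1, hmem o 2 h2])] at e3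
    rw [card_smul', ho.2, card_pair hne] at e1
    omega
  by_cases hall : ∀ o ∈ octads, σ • o ∈ CSet
  · exact Or.inl (mem_M24_iff_octads.2 fun o ho => ⟨hall o ho, by rw [card_smul', ho.2]⟩)
  right
  push Not at hall
  obtain ⟨u, hu, hu'⟩ := hall
  have hu2 := (hor u hu).resolve_left hu'
  refine mem_M24_iff_octads.2 fun o ho => ⟨?_, by rw [card_smul', ho.2]⟩
  rw [mul_smul, swap_smul_eq]
  split_ifs with hiff
  · exact hsame o ho (by rwa [hmem o 1 h1, hmem o 2 h2] at hiff)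
  · refine (hor o ho).resolve_left fun h' => ?_
    have e1 := even_card_inter hu2 h'
    rw [even_card_symmDiff_inter_iff, ← smul_inter', card_smul',
      iff_true_intro (even_card_inter hu.1 ho.1), true_iff, inter_comm, Nat.even_iff, hcard,
      if_neg hiff] at e1
    exact absurd e1 (by norm_num)

theorem swap_not_mem_M24 : Equiv.swap (tau 1) (tau 2) ∉ M24 := by
  intro h
  have h0 : ofMask 4196943 ∈ CSet := ofMask_mem_CSet_iff.2 (by decide +kernel)
  have h1 := smul_mem_CSet h h0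
  rw [swap_smul_eq, if_neg (by decide +kernel)] at h1
  have h2 := symmDiff_mem_CSet h0 h1
  rw [symmDiff_symmDiff_cancel_left] at h2
  have := four_dvd_card_of_mem_CSet h2
  revert this
  decide

/-- The automorphism group of S(3,6,22) has a subgroup of index two isomorphic to `M22`. -/
theorem exists_index_two22 (hα : Fintype.card α = 22) (hB : IsSteinerSystem 3 6 B) :
    ∃ H : Subgroup (setSystemAut B), H.index = 2 ∧ Nonempty (H ≃* fix M24 [tau 1, tau 2]) := by
  have hne : tau 1 ≠ tau 2 := by decide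
  obtain ⟨ι, h⟩ := exists_emb22' hα hB hne
  have hl : ∀ x, x ∈ [tau 1, tau 2] ↔ x ∈ ({tau 1, tau 2} : Finset GolayPt) := by simp
  obtain ⟨f⟩ := h.nonempty_comap_equiv _ hl
  have hle : (fix M24 [tau 1, tau 2]).comap (Equiv.Perm.viaEmbeddingHom ι) ≤ setSystemAut B :=
    fun g hg => h.mem_aut_iff.2 fun o ho _ => smul_mem_octads hg.1 ho
  refine ⟨Subgroup.subgroupOf _ _, ?_, ⟨(Subgroup.subgroupOfEquivOfLe hle).trans f⟩⟩
  obtain ⟨τ, hτ, hτ'⟩ := CL.M24.exists_map_eq [tau 1, tau 2] [tau 2, tau 1] (by decide) (by decide)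
    rfl (by norm_num)
  simp only [List.map_cons, List.map_nil, List.cons.injEq, and_true, Equiv.Perm.smul_def] at hτ'
  obtain ⟨g₀, hg₀⟩ := h.exists_via (σ := Equiv.swap (tau 1) (tau 2) * τ) (by simp [hτ'])
  have hg₀' : g₀ ∈ setSystemAut B := h.mem_aut_iff.2 fun o ho hPo => by
    rw [insert_subset_iff, singleton_subset_iff] at hPo
    rw [hg₀, mul_smul, swap_smul_eq, if_pos]
    · exact smul_mem_octads hτ ho
    · exact iff_of_true (hτ'.2 ▸ apply_mem_smul_iff.2 hPo.2) (hτ'.1 ▸ apply_mem_smul_iff.2 hPo.1)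
  rw [Subgroup.index_eq_two_iff]
  refine ⟨⟨g₀, hg₀'⟩, fun b => ?_⟩
  rw [Subgroup.mem_subgroupOf, Subgroup.mem_subgroupOf, h.mem_comap_iff _ hl, h.mem_comap_iff _ hl,
    Subgroup.coe_mul, map_mul, hg₀, ← mul_assoc, Subgroup.mul_mem_cancel_right _ hτ]
  have f1 := h.via_fix b (mem_insert_self (tau 1) {tau 2})
  have f2 := h.via_fix b (x := tau 2) (by simp)
  rw [Equiv.mul_swap_eq_swap_mul, f1, f2]
  have hor := mem_M24_or_swap f1 f2 fun o ho hPo => by
    rw [← map_inv]
    exact h.mem_aut_iff.1 (inv_mem b.2) o ho hPo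
  have hnot : ¬ (Equiv.Perm.viaEmbeddingHom ι b ∈ M24 ∧
      Equiv.swap (tau 1) (tau 2) * Equiv.Perm.viaEmbeddingHom ι b ∈ M24) := fun hh =>
    swap_not_mem_M24 ((Subgroup.mul_mem_cancel_right _ hh.1).1 hh.2)
  unfold Xor
  tauto

end CL.Steiner
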