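import Cfsg.Agent.Base
import Cfsg.Agent.Spor.M24Simple
import Cfsg.Agent.Lin.Gen
import Cfsg.Agent.Lin.Card
import Cfsg.Agent.GLn.Conj

/-!
# The three-point stabiliser in `M24` is `PSL(3, 4)`
-/

set_option autoImplicit false

namespace CL.M21
open Cfsg CL.Golay CL.Chain CL.M24 Matrix

/-- A multiplicative, total and single-valued relation between two groups is a homomorphism. -/
theorem exists_hom_of_rel {A B : Type*} [Group A] [Group B] (R : A → B → Prop)
    (hmul : ∀ a b a' b', R a b → R a' b' → R (a * a') (b * b'))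
    (hex : ∀ a, ∃ b, R a b) (huniq : ∀ a b b', R a b → R a b' → b = b') :
    ∃ φ : A →* B, ∀ a, R a (φ a) := by
  choose f hf using hex
  exact ⟨MonoidHom.mk' f fun a a' => huniq _ _ _ (hf _) (hmul _ _ _ _ (hf a) (hf a')), hf⟩

/-- Multiplication in the model `{0, 1, 2, 3}` of the field with four elements. -/
def mul4 (a b : ℕ) : ℕ := [0, 0, 0, 0, 0, 1, 2, 3, 0, 2, 3, 1, 0, 3, 1, 2].getD (4 * a + b) 0

/-- The element of `F` described by `a < 4`. -/
def e4 {F : Type*} [Field F] (w : F) : ℕ → F
  | 0 => 0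
  | 1 => 1
  | 2 => w
  | _ => w + 1

section
variable {F : Type*} [Field F] {w : F}

theorem e4_xor (h2 : (2 : F) = 0) {a b : ℕ} (ha : a < 4) (hb : b < 4) :
    e4 w (a ^^^ b) = e4 w a + e4 w b := by
  interval_cases a <;> interval_cases b <;> simp only [e4, Nat.reduceXor] <;> grind

theorem e4_mul (h2 : (2 : F) = 0) (hw : w ^ 2 + w + 1 = 0) {a b : ℕ} (ha : a < 4) (hb : b < 4) :
    e4 w (mul4 a b) = e4 w a * e4 w b := by
  interval_cases a <;> interval_cases b <;>
    first
      | (change (0 : F) = _; simp only [e4]; grind)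
      | (change (1 : F) = _; simp only [e4]; grind)
      | (change w = _; simp only [e4]; grind)
      | (change w + 1 = _; simp only [e4]; grind)

theorem e4_inj (h2 : (2 : F) = 0) (hw : w ^ 2 + w + 1 = 0) {a b : ℕ} (ha : a < 4) (hb : b < 4)
    (h : e4 w a = e4 w b) : a = b := by
  interval_cases a <;> interval_cases b <;> simp only [e4] at h <;> first | rfl | (exfalso; grind)

end

/-- Homogeneous coordinates (base 4) of the 21 points other than `∞, 0, 1`. -/
def crd (p : GolayPt) (k : Fin 3) : ℕ :=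
  [0, 0, 16, 4, 1, 20, 37, 21, 41, 29, 45, 9, 57, 33, 52, 61, 17, 36, 25, 5, 13, 53, 49, 0].getD
    (idx p) 0 / 4 ^ (k : ℕ) % 4

theorem crd_lt (p : GolayPt) (k : Fin 3) : crd p k < 4 := Nat.mod_lt _ (by norm_num)

theorem mul4_lt : ∀ a < 4, ∀ b < 4, mul4 a b < 4 := by decide +kernel

/-- The packed permutations induced by the elementary transvections. -/
def tvTab : List ℕ := [0, 0, 0, 0, 984818244535754528103549039458486304,
  984522237791282842243827263779473440, 984674686509231270848998217272133664,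
  984370798342469428377360417207715872, 984818244535754528103549039458486304,
  972689358314341295732538083389849632, 958572796407684634971422541721229344,
  976908108085554797803774220334904352, 984818244535754528103549039458486304,
  983548720921252936276249910206105632, 971592882964418941354553515258775584,
  975346028712660580592452217730074656, 0, 0, 0, 0, 984818244535754528103549039458486304,
  975366630392323105260605610366440480, 983560732202510771760283209707927584,
  971594099268302134235014375640515616, 984818244535754528103549039458486304,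
  972512676110088067912772961567868960, 976448692869377735270425038196672544,
  961365507626256404119956257276790816, 984818244535754528103549039458486304,
  984202951082164080105044112956360736, 984235865005994746954145143334668320,
  984724508489452699215480746259449888, 0, 0, 0, 0]

/-- The packed permutation induced by `1 + c E_{ij}`. -/
def tvP (i j : Fin 3) (c : ℕ) : ℕ := tvTab.getD (12 * i + 4 * j + c) 0

theorem tvP_in : ∀ i j : Fin 3, i ≠ j → ∀ c < 4,
    isM24 (tvP i j c) = true ∧ fixes (tvP i j c) (B3.map idx) = true := by decide +kernel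

theorem tvP_crd : ∀ i j : Fin 3, i ≠ j → ∀ c < 4, ∀ p : GolayPt, ∃ s < 4, s ≠ 0 ∧ ∀ k : Fin 3,
    (crd p k ^^^ if k = i then mul4 c (crd p j) else 0) =
      mul4 s (crd (pt (app (tvP i j c) (idx p))) k) := by decide +kernel

theorem crd_prop : ∀ p q : GolayPt, p ∉ B3 → ∀ s < 4, ∀ t < 4, s ≠ 0 →
    (∀ k, mul4 s (crd p k) = mul4 t (crd q k)) → p = q := by decide +kernel

section
variable {F : Type*} [Field F]

/-- The vector attached to a point. -/
def vec (w : F) (p : GolayPt) : Fin 3 → F := fun k => e4 w (crd p k)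

/-- The matrix `g` induces the permutation `σ` on the 21 lines. -/
def Rel (w : F) (g : SpecialLinearGroup (Fin 3) F) (σ : fix M24 B3) : Prop :=
  ∀ p, ∃ c : F, c ≠ 0 ∧ g.1 *ᵥ vec w p = c • vec w (σ.1 p)

theorem nonempty_equiv [Fintype F] (hF : Fintype.card F = 4) :
    Nonempty (fix M24 B3 ≃* ProjectiveSpecialLinearGroup (Fin 3) F) := by
  classical
  obtain ⟨h2, w, hw, hall⟩ := CL.GLn.field_four hF
  have hsurj : ∀ x : F, ∃ a < 4, e4 w a = x := fun x => by
    rcases hall x with rfl | rfl | rfl | rfl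
    exacts [⟨0, by norm_num, rfl⟩, ⟨1, by norm_num, rfl⟩, ⟨2, by norm_num, rfl⟩,
      ⟨3, by norm_num, rfl⟩]
  have h1 : ∀ r : F, r ≠ 0 → ∀ g : SpecialLinearGroup (Fin 3) F, scalar (Fin 3) r = g.1 →
      Rel w g 1 := fun r hr g hg p => ⟨r, hr, by
    rw [← hg]; ext k; simp [mulVec_diagonal]⟩
  have hmul : ∀ a b a' b', Rel w a b → Rel w a' b' → Rel w (a * a') (b * b') := by
    intro a b a' b' h h' p
    obtain ⟨c', hc', e'⟩ := h' p
    obtain ⟨c, hc, e⟩ := h (b'.1 p)
    refine ⟨c' * c, mul_ne_zero hc' hc, ?_⟩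
    change (a.1 * a'.1) *ᵥ vec w p = _
    rw [← mulVec_mulVec, e', mulVec_smul, e, smul_smul]; rfl
  have huniq : ∀ a b b', Rel w a b → Rel w a b' → b = b' := by
    intro a b b' h h'
    apply Subtype.ext
    ext p : 1
    by_cases hp : p ∈ B3
    · exact (b.2.2 p hp).trans (b'.2.2 p hp).symm
    obtain ⟨c, hc, e⟩ := h p
    obtain ⟨c', -, e'⟩ := h' p
    obtain ⟨s, hs, rfl⟩ := hsurj c
    obtain ⟨t, ht, rfl⟩ := hsurj c'
    refine crd_prop _ _ (not_mem_of_fix b.2 hp) s hs t ht (fun h0 => hc (by rw [h0]; rfl))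
      fun k => e4_inj h2 hw (mul4_lt _ hs _ (crd_lt _ _)) (mul4_lt _ ht _ (crd_lt _ _)) ?_
    rw [e4_mul h2 hw hs (crd_lt _ _), e4_mul h2 hw ht (crd_lt _ _)]
    exact congrFun (e.symm.trans e') k
  have htv : ∀ (i j : Fin 3) (hij : i ≠ j) (c : ℕ) (hc : c < 4),
      Rel w (SpecialLinearGroup.transvection hij (e4 w c))
        ⟨toPerm (tvP i j c), ((In.of_isM24 (tvP_in i j hij c hc).1).fix
          (tvP_in i j hij c hc).2).2⟩ := by
    intro i j hij c hc p
    obtain ⟨s, hs, hs0, h⟩ := tvP_crd i j hij c hc p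
    refine ⟨e4 w s, fun h0 => hs0 (e4_inj h2 hw hs (by norm_num) h0), ?_⟩
    ext k
    have hr := (rep_of_isM24 (tvP_in i j hij c hc).1).apply p
    change ((1 + single i j (e4 w c)) *ᵥ vec w p) k = e4 w s * e4 w (crd (toPerm _ p) k)
    rw [hr, ← e4_mul h2 hw hs (crd_lt _ _), ← h k, add_mulVec, one_mulVec, single_mulVec,
      Pi.add_apply, Function.update_apply]
    split_ifs with hk
    · rw [e4_xor h2 (crd_lt _ _) (mul4_lt _ hc _ (crd_lt _ _)), e4_mul h2 hw hc (crd_lt _ _)]; rfl
    · simp [vec]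
  have hex : ∀ a, ∃ b, Rel w a b := by
    refine CL.Lin.transvection_induction _ ⟨1, h1 1 one_ne_zero 1 (by simp)⟩ ?_ ?_
    · intro i j hij c
      obtain ⟨c, hc, rfl⟩ := hsurj c
      exact ⟨_, htv i j hij c hc⟩
    · rintro A B ⟨a, ha⟩ ⟨b, hb⟩
      exact ⟨_, hmul _ _ _ _ ha hb⟩
  obtain ⟨φ, hφ⟩ := exists_hom_of_rel (Rel w) hmul hex huniq
  have hker : Subgroup.center (SpecialLinearGroup (Fin 3) F) ≤ φ.ker := by
    intro g hg
    obtain ⟨r, hr, hg⟩ := Matrix.SpecialLinearGroup.mem_center_iff.1 hg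
    refine huniq _ _ _ (hφ g) (h1 r ?_ g hg)
    rintro rfl
    simp at hr
  let ψ : ProjectiveSpecialLinearGroup (Fin 3) F →* fix M24 B3 := QuotientGroup.lift _ φ hker
  have hsimple : IsSimpleGroup (ProjectiveSpecialLinearGroup (Fin 3) F) :=
    CL.Lin.PSL_simple (by simp)
  have hinj : Function.Injective ψ := by
    rw [← MonoidHom.ker_eq_bot_iff]
    refine (ψ.normal_ker.eq_bot_or_eq_top).resolve_right fun htop => ?_
    have h01 : (0 : Fin 3) ≠ 1 := by decide
    have : φ (SpecialLinearGroup.transvection h01 (e4 w 1)) = 1 := by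
      have : ((SpecialLinearGroup.transvection h01 (e4 w 1) : SpecialLinearGroup (Fin 3) F) :
        ProjectiveSpecialLinearGroup (Fin 3) F) ∈ ψ.ker := htop ▸ Subgroup.mem_top _
      exact this
    rw [huniq _ _ _ (hφ _) (htv 0 1 h01 1 (by norm_num))] at this
    have h3 := congrArg Subtype.val this
    have h4 := ((rep_of_isM24 (tvP_in 0 1 h01 1 (by norm_num)).1).eq_iff_eqP rep_one).1 h3
    revert h4
    decide +kernel
  have hcard : Nat.card (ProjectiveSpecialLinearGroup (Fin 3) F) = 20160 := by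
    have e1 := CL.Lin.card_PSL_mul (ι := Fin 3) (F := F)
    have e2 := CL.Lin.card_SL_mul (ι := Fin 3) (F := F)
    have e3 := Matrix.card_GL_field (𝔽 := F) 3
    rw [hF] at e1 e2 e3
    simp only [Fintype.card_fin, Fin.prod_univ_three] at e1 e3
    norm_num at e1 e2 e3
    simp only [Nat.card_eq_fintype_card] at *
    omega
  exact ⟨(MulEquiv.ofBijective ψ (hinj.bijective_of_nat_card_le
    (by rw [hcard, card_fix_B3]))).symm⟩

end

theorem nonempty_fix_three_equiv {p q r : GolayPt} (hpq : p ≠ q) (hpr : p ≠ r) (hqr : q ≠ r)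
    {F : Type*} [Field F] [Fintype F] (hF : Fintype.card F = 4) :
    Nonempty (fix M24 [p, q, r] ≃* ProjectiveSpecialLinearGroup (Fin 3) F) := by
  obtain ⟨e⟩ := nonempty_fix_equiv [p, q, r] B3 (by simp [*]) (by decide) rfl (by simp)
  obtain ⟨f⟩ := nonempty_equiv hF
  exact ⟨e.trans f⟩

end CL.M21
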