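import Cfsg.Agent.Base
import Cfsg.Agent.Spor.LeechXi

/-!
# Shapes of the short vectors of the Leech lattice
-/

set_option autoImplicit false

namespace CL.Leech

open Cfsg Finset
open scoped Pointwise

theorem abs_le_of_sqNorm_le {x : GolayPt → ℤ} {B : ℤ} (hB : 0 ≤ B) (h : sqNorm x < (B + 1) ^ 2)
    (i : GolayPt) : -B ≤ x i ∧ x i ≤ B := by
  have h1 := sq_le_sqNorm x i
  have h2 := abs_lt_of_sq_lt_sq (lt_of_le_of_lt h1 h) (by omega)
  rw [abs_lt] at h2
  omega

theorem sum_ite_card (p : GolayPt → Prop) [DecidablePred p] (a : ℤ) :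
    ∑ i, (if p i then a else 0) = a * (univ.filter p).card := by
  rw [← sum_filter, sum_const]; simp [mul_comm]

/-- After a sign change every odd lattice vector has all its coordinates `≡ 1 (mod 4)`. -/
theorem exists_sign_one_mod_four {x : GolayPt → ℤ} (hx : x ∈ leechLattice)
    (h : ∀ i, x i % 2 = 1) : ∃ c ∈ CodeSets, ∀ i, signFun c x i % 4 = 1 := by
  refine ⟨_, ((mem_iff_of_odd h).1 hx).1, fun i => ?_⟩
  have := h i
  simp only [signFun, mem_filter, mem_univ, true_and]
  split_ifs <;> omega

/-- Normal form of short odd vectors: `-3` on `S`, `5` on `T`, `1` elsewhere. -/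
def oddNF (S T : Finset GolayPt) : GolayPt → ℤ :=
  fun i => if i ∈ S then -3 else if i ∈ T then 5 else 1

theorem exists_oddNF {y : GolayPt → ℤ} (h : ∀ i, y i % 4 = 1) (hn : sqNorm y < 72) :
    ∃ S T : Finset GolayPt, Disjoint S T ∧ y = oddNF S T ∧
      sqNorm y = 24 + 8 * S.card + 24 * T.card := by
  have hb := abs_le_of_sqNorm_le (x := y) (B := 8) (by norm_num) (by omega)
  have hv : ∀ i, y i = -7 ∨ y i = -3 ∨ y i = 1 ∨ y i = 5 := fun i => by
    have := h i; have := hb i; omega
  have hsq : ∀ i, y i ^ 2 = 1 + (if y i = -3 then 8 else 0) + (if y i = 5 then 24 else 0) +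
      (if y i = -7 then 48 else 0) := fun i => by
    rcases hv i with h | h | h | h <;> simp [h]
  have hsum : sqNorm y = 24 + 8 * (univ.filter fun i => y i = -3).card +
      24 * (univ.filter fun i => y i = 5).card + 48 * (univ.filter fun i => y i = -7).card := by
    simp only [sqNorm, hsq, sum_add_distrib, sum_ite_card, sum_const, card_univ, card_golayPt]
    simp
  have h7 : (univ.filter fun i => y i = -7) = ∅ := card_eq_zero.1 (by omega)
  refine ⟨univ.filter fun i => y i = -3, univ.filter fun i => y i = 5, ?_, ?_, ?_⟩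
  · rw [disjoint_filter]; intro i _ h1 h2; omega
  · funext i
    have h8 : ¬ y i = -7 := by simpa using (filter_eq_empty_iff.1 h7) (mem_univ i)
    have := hv i
    simp only [oddNF, mem_filter, mem_univ, true_and]
    split_ifs <;> omega
  · rw [hsum, h7]; simp

theorem sqNorm_signFun (c : Finset GolayPt) (x : GolayPt → ℤ) : sqNorm (signFun c x) = sqNorm x :=
  sum_congr rfl fun i _ => signFun_sq c x i

/-- Odd lattice vectors of norm less than `72`. -/
theorem odd_shape {x : GolayPt → ℤ} (hx : x ∈ leechLattice) (h : ∀ i, x i % 2 = 1)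
    (hn : sqNorm x < 72) : ∃ c ∈ CodeSets, ∃ S T : Finset GolayPt, Disjoint S T ∧
      x = signFun c (oddNF S T) ∧ sqNorm x = 24 + 8 * S.card + 24 * T.card := by
  obtain ⟨c, hc, h1⟩ := exists_sign_one_mod_four hx h
  obtain ⟨S, T, h2, h3, h4⟩ := exists_oddNF h1 (by rwa [sqNorm_signFun])
  exact ⟨c, hc, S, T, h2, by rw [← h3, signFun_signFun], by rwa [sqNorm_signFun] at h4⟩

theorem oddNF_singleton_empty (j : GolayPt) : oddNF {j} ∅ = oddVec j := by
  funext i; simp [oddNF, oddVec]

theorem odd_shape32 {x : GolayPt → ℤ} (hx : x ∈ leechLattice) (h : ∀ i, x i % 2 = 1)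
    (hn : sqNorm x = 32) : ∃ j, ∃ c ∈ CodeSets, x = signFun c (oddVec j) := by
  obtain ⟨c, hc, S, T, -, h3, h4⟩ := odd_shape hx h (by omega)
  obtain ⟨j, rfl⟩ := card_eq_one.1 (show S.card = 1 by omega)
  obtain rfl := card_eq_zero.1 (show T.card = 0 by omega)
  exact ⟨j, c, hc, by rw [h3, oddNF_singleton_empty]⟩

/-- The norm of an even vector with coordinates in `[-8, 8]` in terms of its shape. -/
theorem sqNorm_even {x : GolayPt → ℤ} (h : ∀ i, x i % 2 = 0) (hn : sqNorm x < 81) :
    sqNorm x = 4 * (univ.filter fun i => x i % 4 = 2).card +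
      16 * (univ.filter fun i => x i = 4 ∨ x i = -4).card +
      32 * (univ.filter fun i => x i = 6 ∨ x i = -6).card +
      64 * (univ.filter fun i => x i = 8 ∨ x i = -8).card := by
  have hb := abs_le_of_sqNorm_le (x := x) (B := 8) (by norm_num) (by omega)
  have hsq : ∀ i, x i ^ 2 = (if x i % 4 = 2 then 4 else 0) + (if x i = 4 ∨ x i = -4 then 16 else 0) +
      (if x i = 6 ∨ x i = -6 then 32 else 0) + (if x i = 8 ∨ x i = -8 then 64 else 0) := fun i => by
    have h1 := h i
    obtain ⟨h2, h3⟩ := hb i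
    generalize x i = a at *
    interval_cases a <;> simp_all
  simp only [sqNorm, hsq, sum_add_distrib, sum_ite_card]

theorem even_shape32 {x : GolayPt → ℤ} (hx : x ∈ leechLattice) (h : ∀ i, x i % 2 = 0)
    (hn : sqNorm x = 32) :
    (∃ i j a b, i ≠ j ∧ (a = 4 ∨ a = -4) ∧ (b = 4 ∨ b = -4) ∧ x = pairVec i j a b) ∨
    (∃ o ∈ octads, ∃ s ⊆ o, s.card % 2 = 0 ∧ x = signFun s (twoVec o)) := by
  obtain ⟨hc, hs⟩ := (mem_iff_of_even h).1 hx
  have h1 := sqNorm_even h (by omega)
  have h2 := card_cases hc
  have hb := abs_le_of_sqNorm_le (x := x) (B := 5) (by norm_num) (by omega)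
  have h6 : (univ.filter fun i => x i = 6 ∨ x i = -6) = ∅ :=
    filter_false_of_mem fun i _ => by have := hb i; omega
  rw [h6, card_empty] at h1
  by_cases h0 : (univ.filter fun i => x i % 4 = 2).card = 0
  · left
    obtain ⟨i, j, hij, h4⟩ := card_eq_two.1
      (show (univ.filter fun i => x i = 4 ∨ x i = -4).card = 2 by omega)
    have h5 : ∀ k, (x k = 4 ∨ x k = -4) ↔ (k = i ∨ k = j) := fun k => by
      simpa using congrArg (k ∈ ·) h4
    refine ⟨i, j, x i, x j, hij, (h5 i).2 (Or.inl rfl), (h5 j).2 (Or.inr rfl), ?_⟩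
    funext k
    have h7 : ¬ x k % 4 = 2 := by simpa using (filter_eq_empty_iff.1 (card_eq_zero.1 h0)) (mem_univ k)
    have := h5 k; have := h k; have := hb k
    rw [pairVec_apply]
    split_ifs with h8 h9 h9
    · exact absurd (h8.symm.trans h9) hij
    · simp [h8]
    · simp [h9]
    · simp only [h8, h9, or_self, iff_false] at *; omega
  · right
    have h4 : (univ.filter fun i => x i = 4 ∨ x i = -4) = ∅ := card_eq_zero.1 (by omega)
    have h5 : ∀ k, ¬ (x k = 4 ∨ x k = -4) := fun k => by
      simpa using (filter_eq_empty_iff.1 h4) (mem_univ k)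
    have h8 : (univ.filter fun i => x i % 4 = 2).card = 8 := by rw [h4] at h1; simp at h1; omega
    have hsub : (univ.filter fun i => x i = -2) ⊆ univ.filter fun i => x i % 4 = 2 := by
      intro i hi; simp only [mem_filter, mem_univ, true_and] at hi ⊢; omega
    have hxe : x = signFun (univ.filter fun i => x i = -2)
        (twoVec (univ.filter fun i => x i % 4 = 2)) := by
      funext k
      have := h5 k; have := h k; have := hb k
      simp only [signFun, twoVec, mem_filter, mem_univ, true_and]
      split_ifs <;> omega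
    refine ⟨_, ⟨hc, h8⟩, _, hsub, ?_, hxe⟩
    rw [hxe, sum_signFun] at hs
    have h9 : ∑ i ∈ univ.filter (fun i => x i = -2), twoVec (univ.filter fun i => x i % 4 = 2) i =
        2 * (univ.filter fun i => x i = -2).card := by
      rw [sum_congr rfl (g := fun _ => 2)]
      · simp [mul_comm]
      · intro i hi; simp only [twoVec]; rw [if_pos (hsub hi)]
    rw [h9] at hs
    simp only [twoVec, sum_ite_mem_const, h8] at hs
    omega

/-- The three shapes of minimal vectors. -/
theorem shape32 {x : GolayPt → ℤ} (hx : x ∈ leechLattice) (hn : sqNorm x = 32) :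
    (∃ i j a b, i ≠ j ∧ (a = 4 ∨ a = -4) ∧ (b = 4 ∨ b = -4) ∧ x = pairVec i j a b) ∨
    (∃ o ∈ octads, ∃ s ⊆ o, s.card % 2 = 0 ∧ x = signFun s (twoVec o)) ∨
    (∃ j, ∃ c ∈ CodeSets, x = signFun c (oddVec j)) := by
  rcases even_or_odd hx with h | h
  · rcases even_shape32 hx h hn with h | h
    · exact Or.inl h
    · exact Or.inr (Or.inl h)
  · exact Or.inr (Or.inr (odd_shape32 hx h hn))

/-- Conversely, sign patterns with an even number of minus signs on a code set are lattice
vectors. -/
theorem signFun_twoVec_mem {c s : Finset GolayPt} (hc : c ∈ CodeSets) (hs : s ⊆ c)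
    (he : s.card % 2 = 0) : signFun s (twoVec c) ∈ leechLattice := by
  rw [mem_iff_of_even (fun i => by simp only [signFun, twoVec]; split_ifs <;> rfl)]
  refine ⟨?_, ?_⟩
  · convert hc using 1
    ext i; rw [mem_filter]; simp only [signFun, twoVec]
    by_cases h : i ∈ c <;> by_cases h' : i ∈ s <;> simp [h, h']
  · rw [sum_signFun]
    have h9 : ∑ i ∈ s, twoVec c i = 2 * s.card := by
      rw [sum_congr rfl (g := fun _ => 2)]
      · simp [mul_comm]
      · intro i hi; simp only [twoVec]; rw [if_pos (hs hi)]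
    rw [h9]
    simp only [twoVec, sum_ite_mem_const]
    have := card_mod_four hc
    omega

theorem oddNF_mem {S T : Finset GolayPt} (hST : Disjoint S T) (h : (S.card + T.card) % 2 = 1) :
    oddNF S T ∈ leechLattice := by
  rw [mem_iff_of_odd (fun i => by simp only [oddNF]; split_ifs <;> rfl)]
  refine ⟨?_, ?_⟩
  · convert empty_mem_codeSets using 1
    apply filter_false_of_mem; intro i _; unfold oddNF; split_ifs <;> decide
  · have : ∀ i, oddNF S T i = 1 + (if i ∈ S then -4 else 0) + (if i ∈ T then 4 else 0) := by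
      intro i; unfold oddNF
      by_cases h1 : i ∈ S
      · have : i ∉ T := disjoint_left.1 hST h1
        simp [h1, this]
      · by_cases h2 : i ∈ T <;> simp [h1, h2]
    simp only [this, sum_add_distrib, sum_ite_mem_const, sum_const, card_univ, card_golayPt]
    simp; omega

end CL.Leech
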