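import Cfsg.Agent.Base
import Cfsg.Agent.Spor.LeechShapes
import Cfsg.Agent.S0360
import Cfsg.Agent.S0361

/-!
# Counting Leech vectors with generating functions
-/

set_option autoImplicit false

namespace CL.Leech

open Cfsg Finset
open scoped Pointwise Classical

/-- The code sets as a finite set. -/
noncomputable def codeFinset : Finset (Finset GolayPt) := univ.filter (· ∈ CodeSets)

theorem mem_codeFinset {c : Finset GolayPt} : c ∈ codeFinset ↔ c ∈ CodeSets := by
  simp [codeFinset]

/-- The sign `(-1)^(y / 4)`. -/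
def sgn4 (y : ℤ) : ℤ := if y / 4 % 2 = 0 then 1 else -1

theorem prod_sgn4 {ι : Type*} (s : Finset ι) (x : ι → ℤ) :
    ∏ i ∈ s, sgn4 (x i) = if (∑ i ∈ s, x i / 4) % 2 = 0 then 1 else -1 := by
  induction s using Finset.induction_on with
  | empty => simp
  | insert a s ha ih =>
    rw [prod_insert ha, sum_insert ha, ih]
    unfold sgn4
    split_ifs <;> first | rfl | omega

theorem two_mul_sum_parity (t : GolayPt → Finset ℤ) (f : GolayPt → ℤ → ℤ) (m : ℤ)
    (hm : m = 0 ∨ m = 1) :
    2 * ∑ x ∈ (Fintype.piFinset t).filter (fun x => (∑ i, x i / 4) % 2 = m), ∏ i, f i (x i) =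
      ∏ i, ∑ y ∈ t i, f i y + (1 - 2 * m) * ∏ i, ∑ y ∈ t i, sgn4 y * f i y := by
  rw [prod_univ_sum, prod_univ_sum, sum_filter, mul_sum, mul_sum, ← sum_add_distrib]
  refine sum_congr rfl fun x _ => ?_
  rw [prod_mul_distrib, prod_sgn4]
  rcases hm with rfl | rfl <;> split_ifs <;> first | ring1 | omega

theorem filter_parity_eq (V : Finset ℤ) (m : ℤ) (hm : m = 0 ∨ m = 1) {c : Finset GolayPt}
    (hc : c ∈ CodeSets) :
    (((Fintype.piFinset fun _ : GolayPt => V).filter
      (fun x => x ∈ leechLattice ∧ x none % 2 = m)).filter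
        fun x => (univ.filter fun i => x i % 4 = m + 2) = c) =
      (Fintype.piFinset fun i => V.filter fun y => y % 4 = if i ∈ c then m + 2 else m).filter
        (fun x => (∑ i, x i / 4) % 2 = m) := by
  have hsum : ∀ x : GolayPt → ℤ, (∀ i, x i % 4 = if i ∈ c then m + 2 else m) →
      ∑ i, x i = 24 * m + 2 * c.card + 4 * ∑ i, x i / 4 := by
    intro x hx
    have : ∀ i, x i = m + (if i ∈ c then 2 else 0) + 4 * (x i / 4) := by
      intro i; have := hx i; split_ifs at this ⊢ <;> omega
    rw [sum_congr rfl fun i _ => this i]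
    simp only [sum_add_distrib, sum_ite_mem_const, ← mul_sum, sum_const, card_univ, card_golayPt]
    simp
  have h4 := card_mod_four hc
  ext x
  simp only [mem_filter, Fintype.mem_piFinset]
  constructor
  · rintro ⟨⟨h1, h2, h3⟩, rfl⟩
    have hpar : ∀ i, x i % 2 = m := by
      intro i
      rcases even_or_odd h2 with h | h <;> have := h i <;> have := h none <;> omega
    have hx : ∀ i, x i % 4 =
        if i ∈ (univ.filter fun i => x i % 4 = m + 2) then m + 2 else m := by
      intro i
      have := hpar i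
      simp only [mem_filter, mem_univ, true_and]
      split_ifs <;> omega
    refine ⟨fun i => ⟨h1 i, hx i⟩, ?_⟩
    have h5 := hsum x hx
    rcases hm with rfl | rfl
    · have := ((mem_iff_of_even hpar).1 h2).2; omega
    · have := ((mem_iff_of_odd hpar).1 h2).2; omega
  · rintro ⟨h1, h2⟩
    have hpar : ∀ i, x i % 2 = m := by
      intro i; have := (h1 i).2; split_ifs at this <;> omega
    have hce : (univ.filter fun i => x i % 4 = m + 2) = c := by
      ext i
      have := (h1 i).2
      simp only [mem_filter, mem_univ, true_and]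
      split_ifs at this with h
      · simp [h, this]
      · simp only [h, iff_false]; omega
    have h5 := hsum x fun i => (h1 i).2
    refine ⟨⟨fun i => (h1 i).1, ?_, hpar none⟩, hce⟩
    rcases hm with rfl | rfl
    · exact (mem_iff_of_even hpar).2 ⟨by simpa using hce ▸ hc, by omega⟩
    · exact (mem_iff_of_odd hpar).2 ⟨by simpa using hce ▸ hc, by omega⟩

theorem two_mul_sum_leech_parity (V : Finset ℤ) (f : GolayPt → ℤ → ℤ) (m : ℤ)
    (hm : m = 0 ∨ m = 1) :
    2 * ∑ x ∈ (Fintype.piFinset fun _ : GolayPt => V).filter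
      (fun x => x ∈ leechLattice ∧ x none % 2 = m), ∏ i, f i (x i) =
    ∑ c ∈ codeFinset,
      (∏ i, ∑ y ∈ V.filter (fun y => y % 4 = if i ∈ c then m + 2 else m), f i y +
        (1 - 2 * m) *
          ∏ i, ∑ y ∈ V.filter (fun y => y % 4 = if i ∈ c then m + 2 else m), sgn4 y * f i y) := by
  rw [← sum_fiberwise_of_maps_to (t := codeFinset)
    (g := fun x => univ.filter fun i => x i % 4 = m + 2), mul_sum]
  · refine sum_congr rfl fun c hc => ?_
    rw [filter_parity_eq V m hm (mem_codeFinset.1 hc), two_mul_sum_parity _ _ _ hm]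
  · intro x hx
    rw [mem_codeFinset]
    have := filter_mod_four_mem (mem_filter.1 hx).2.1 (m + 2)
    rcases hm with rfl | rfl <;> exact this

/-- The generating function of the lattice vectors with coordinates in `V`, as a sum over the
code. -/
theorem two_mul_sum_leech (V : Finset ℤ) (f : GolayPt → ℤ → ℤ) :
    2 * ∑ x ∈ (Fintype.piFinset fun _ : GolayPt => V).filter (· ∈ leechLattice), ∏ i, f i (x i) =
    ∑ c ∈ codeFinset,
      (∏ i, ∑ y ∈ V.filter (fun y => y % 4 = if i ∈ c then 2 else 0), f i y +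
        ∏ i, ∑ y ∈ V.filter (fun y => y % 4 = if i ∈ c then 2 else 0), sgn4 y * f i y) +
    ∑ c ∈ codeFinset,
      (∏ i, ∑ y ∈ V.filter (fun y => y % 4 = if i ∈ c then 3 else 1), f i y -
        ∏ i, ∑ y ∈ V.filter (fun y => y % 4 = if i ∈ c then 3 else 1), sgn4 y * f i y) := by
  have h0 := two_mul_sum_leech_parity V f 0 (Or.inl rfl)
  have h1 := two_mul_sum_leech_parity V f 1 (Or.inr rfl)
  simp only [zero_add, mul_zero, sub_zero, one_mul] at h0
  simp only [mul_one, Int.reduceAdd, Int.reduceSub, neg_mul, one_mul, ← sub_eq_add_neg] at h1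
  rw [← h0, ← h1, ← mul_add, ← sum_filter_add_sum_filter_not _ (fun x => x none % 2 = 0),
    filter_filter, filter_filter]
  congr 3
  exact filter_congr fun x _ => by rw [Int.emod_two_ne_zero]

/-- The weight enumerator of the Golay code. -/
def wenum (a b : ℤ) : ℤ :=
  a ^ 24 + 759 * (a ^ 16 * b ^ 8) + 2576 * (a ^ 12 * b ^ 12) + 759 * (a ^ 8 * b ^ 16) + b ^ 24

theorem card_codeFinset_filter (n : ℕ) : (codeFinset.filter fun c => c.card = n).card =
    (wordsOfWeight (golayCode : Set (GolayPt → ZMod 2)) n).ncard := by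
  rw [← Set.ncard_coe_finset]
  congr 1; ext c; simp [mem_codeFinset, wordsOfWeight]

theorem ncard_weight_sixteen :
    (wordsOfWeight (golayCode : Set (GolayPt → ZMod 2)) 16).ncard = 759 := by
  rw [← Cfsg.Agent.S0360.result]
  apply Set.ncard_congr (fun c _ => cᶜ)
  · rintro c ⟨h1, h2⟩
    exact ⟨compl_mem_codeSets h1, by rw [card_compl, card_golayPt, h2]⟩
  · intro a b _ _ h; exact compl_injective h
  · rintro c ⟨h1, h2⟩
    exact ⟨cᶜ, ⟨compl_mem_codeSets h1, by rw [card_compl, card_golayPt, h2]⟩, compl_compl c⟩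

theorem sum_codeFinset_card (g : ℕ → ℤ) : ∑ c ∈ codeFinset, g c.card =
    g 0 + 759 * g 8 + 2576 * g 12 + 759 * g 16 + g 24 := by
  rw [← sum_fiberwise_of_maps_to (t := ({0, 8, 12, 16, 24} : Finset ℕ)) (g := fun c => c.card)]
  · have : ∀ n, ∑ c ∈ codeFinset.filter (fun c => c.card = n), g c.card =
        (wordsOfWeight (golayCode : Set (GolayPt → ZMod 2)) n).ncard * g n := by
      intro n
      rw [← card_codeFinset_filter, sum_congr rfl (g := fun _ => g n), sum_const, nsmul_eq_mul]
      intro c hc; rw [(mem_filter.1 hc).2]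
    have h0 : wordsOfWeight (golayCode : Set (GolayPt → ZMod 2)) 0 = {∅} := by
      ext c; simp only [wordsOfWeight, Set.mem_ofPred_eq, card_eq_zero, Set.mem_singleton_iff]
      exact ⟨fun h => h.2, fun h => ⟨h ▸ empty_mem_codeSets, h⟩⟩
    have h24 : wordsOfWeight (golayCode : Set (GolayPt → ZMod 2)) 24 = {univ} := by
      ext c; simp only [wordsOfWeight, Set.mem_ofPred_eq, Set.mem_singleton_iff]
      rw [← card_golayPt, card_eq_iff_eq_univ]
      exact ⟨fun h => h.2, fun h => ⟨h ▸ univ_mem_codeSets, h⟩⟩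
    have h8 := Cfsg.Agent.S0360.result
    have h12 := Cfsg.Agent.S0361.result
    unfold octads at h8; unfold dodecads at h12
    rw [sum_insert (by decide), sum_insert (by decide), sum_insert (by decide),
      sum_insert (by decide), sum_singleton]
    simp only [this, h0, h24, h8, h12, ncard_weight_sixteen, Set.ncard_singleton]
    push_cast; ring
  · intro c hc
    have := card_cases (mem_codeFinset.1 hc)
    simp only [mem_insert, mem_singleton]; exact this

theorem sum_codeFinset_prod (F : ℤ → ℤ) (r s : ℤ) :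
    ∑ c ∈ codeFinset, ∏ i, F (if i ∈ c then s else r) = wenum (F r) (F s) := by
  have : ∀ c : Finset GolayPt, ∏ i, F (if i ∈ c then s else r) =
      F r ^ (24 - c.card) * F s ^ c.card := by
    intro c
    simp only [apply_ite F]
    rw [prod_ite, prod_const, prod_const, filter_mem_eq_inter, univ_inter, mul_comm]
    congr 2
    rw [← card_golayPt, ← card_compl]; congr 1; ext i; simp
  simp only [this]
  rw [sum_codeFinset_card (fun n => F r ^ (24 - n) * F s ^ n)]
  simp [wenum]

/-- One-coordinate generating functions. -/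
def genA (V : Finset ℤ) (f : ℤ → ℤ) (r : ℤ) : ℤ := ∑ y ∈ V.filter (fun y => y % 4 = r), f y

/-- One-coordinate signed generating functions. -/
def genB (V : Finset ℤ) (f : ℤ → ℤ) (r : ℤ) : ℤ :=
  ∑ y ∈ V.filter (fun y => y % 4 = r), sgn4 y * f y

/-- Twice the generating function of the lattice vectors with coordinates in `V`. -/
def genF (V : Finset ℤ) (f : ℤ → ℤ) : ℤ :=
  wenum (genA V f 0) (genA V f 2) + wenum (genB V f 0) (genB V f 2) +
    (wenum (genA V f 1) (genA V f 3) - wenum (genB V f 1) (genB V f 3))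

theorem two_mul_sum_leech_uniform (V : Finset ℤ) (f : ℤ → ℤ) :
    2 * ∑ x ∈ (Fintype.piFinset fun _ : GolayPt => V).filter (· ∈ leechLattice), ∏ i, f (x i) =
      genF V f := by
  rw [two_mul_sum_leech V (fun _ => f), sum_add_distrib, sum_sub_distrib, genF,
    ← sum_codeFinset_prod (genA V f), ← sum_codeFinset_prod (genA V f),
    ← sum_codeFinset_prod (genB V f), ← sum_codeFinset_prod (genB V f)]
  rfl

/-- Digit extraction: a coefficient of a generating function evaluated at a large integer. -/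
theorem card_filter_eq_digit {α : Type*} (S : Finset α) (φ : α → ℕ) (q : ℕ) (hq : S.card < q)
    (t : ℕ) : (S.filter fun x => φ x = t).card = (∑ x ∈ S, q ^ φ x) / q ^ t % q := by
  have hq0 : 0 < q := by omega
  have key : ∀ T : Finset α, T.card < q → ∃ L H : ℕ, L ≤ T.card * q ^ (t - 1) ∧ (t = 0 → L = 0) ∧
      ∑ x ∈ T, q ^ φ x = L + q ^ t * ((T.filter fun x => φ x = t).card + q * H) := by
    intro T
    induction T using Finset.induction_on with
    | empty => intro _; exact ⟨0, 0, by simp⟩
    | insert a T ha ih =>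
      intro h
      rw [card_insert_of_notMem ha] at h
      obtain ⟨L, H, h1, h2, h3⟩ := ih (by omega)
      rw [sum_insert ha, h3, card_insert_of_notMem ha, filter_insert]
      rcases lt_trichotomy (φ a) t with hlt | heq | hgt
      · refine ⟨L + q ^ φ a, H, ?_, by omega, ?_⟩
        · have : q ^ φ a ≤ q ^ (t - 1) := Nat.pow_le_pow_right hq0 (by omega)
          rw [add_mul]; omega
        · rw [if_neg hlt.ne]; ring
      · refine ⟨L, H, by rw [add_mul]; omega, h2, ?_⟩
        rw [if_pos heq, card_insert_of_notMem (by simp [ha]), heq]; ring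
      · obtain ⟨k, hk⟩ := Nat.exists_eq_add_of_lt hgt
        refine ⟨L, H + q ^ k, by rw [add_mul]; omega, h2, ?_⟩
        rw [if_neg hgt.ne', hk]; ring
  obtain ⟨L, H, h1, h2, h3⟩ := key S hq
  have hL : L < q ^ t := by
    rcases Nat.eq_zero_or_pos t with rfl | ht
    · simp [h2 rfl]
    · calc L ≤ S.card * q ^ (t - 1) := h1
        _ < q * q ^ (t - 1) := Nat.mul_lt_mul_of_pos_right hq (by positivity)
        _ = q ^ t := by rw [← pow_succ']; congr 1; omega
  have hc : (S.filter fun x => φ x = t).card < q := lt_of_le_of_lt (card_filter_le _ _) hq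
  rw [h3, Nat.add_mul_div_left _ _ (by positivity), Nat.div_eq_of_lt hL, zero_add,
    Nat.add_mul_mod_self_left, Nat.mod_eq_of_lt hc]

/-- The number of lattice vectors with coordinates in `V` and a prescribed value of an additive
statistic, as a digit of an explicit integer. -/
theorem ncard_eq_digit (V : Finset ℤ) (φ : ℤ → ℕ) (q : ℕ) (hq : V.card ^ 24 < q) (t : ℕ) :
    {x : GolayPt → ℤ | x ∈ leechLattice ∧ (∀ i, x i ∈ V) ∧ ∑ i, φ (x i) = t}.ncard =
      (genF V (fun y => (q : ℤ) ^ φ y) / 2).toNat / q ^ t % q := by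
  set S := (Fintype.piFinset fun _ : GolayPt => V).filter (· ∈ leechLattice) with hS
  have h1 : S.card < q := by
    refine lt_of_le_of_lt (card_filter_le _ _) ?_
    rw [Fintype.card_piFinset, prod_const, card_univ, card_golayPt]; exact hq
  have h2 := card_filter_eq_digit S (fun x => ∑ i, φ (x i)) q h1 t
  have h3 := two_mul_sum_leech_uniform V (fun y => (q : ℤ) ^ φ y)
  have h4 : (genF V (fun y => (q : ℤ) ^ φ y) / 2).toNat = ∑ x ∈ S, q ^ ∑ i, φ (x i) := by
    rw [← h3, Int.mul_ediv_cancel_left _ two_ne_zero]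
    simp only [prod_pow_eq_pow_sum]
    rw [← Int.toNat_natCast (∑ x ∈ S, q ^ ∑ i, φ (x i))]
    push_cast; rfl
  rw [h4, ← h2, ← Set.ncard_coe_finset]
  refine congrArg Set.ncard ?_
  ext x
  simp only [hS, Set.mem_ofPred_eq, coe_filter, mem_filter, Fintype.mem_piFinset]
  exact ⟨fun h => ⟨⟨h.2.1, h.1⟩, h.2.2⟩, fun h => ⟨h.1.2, h.1.1, h.2⟩⟩

theorem sqNorm_eq_iff_natAbs {x : GolayPt → ℤ} {N : ℕ} :
    sqNorm x = N ↔ ∑ i, (x i).natAbs ^ 2 = N := by
  rw [← Int.natCast_inj]; push_cast; simp [sqNorm]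

/-- The number of lattice vectors of norm `N` with coordinates in `V`. -/
theorem ncard_norm_eq_digit (V : Finset ℤ) (q : ℕ) (hq : V.card ^ 24 < q) (N : ℕ) :
    {x : GolayPt → ℤ | x ∈ leechLattice ∧ sqNorm x = N ∧ ∀ i, x i ∈ V}.ncard =
      (genF V (fun y => (q : ℤ) ^ y.natAbs ^ 2) / 2).toNat / q ^ N % q := by
  rw [← ncard_eq_digit V (fun y => y.natAbs ^ 2) q hq N]
  refine congrArg Set.ncard ?_
  ext x; simp only [Set.mem_ofPred_eq, sqNorm_eq_iff_natAbs]
  exact ⟨fun h => ⟨h.1, h.2.2, h.2.1⟩, fun h => ⟨h.1, h.2.2, h.2.1⟩⟩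

theorem ncard_norm_eq_box (N : ℕ) (B : ℤ) (hB : 0 ≤ B) (hN : N < (B + 1) ^ 2) :
    {x : GolayPt → ℤ | x ∈ leechLattice ∧ sqNorm x = N} =
      {x : GolayPt → ℤ | x ∈ leechLattice ∧ sqNorm x = N ∧ ∀ i, x i ∈ Icc (-B) B} := by
  ext x
  simp only [Set.mem_ofPred_eq, mem_Icc]
  exact ⟨fun h => ⟨h.1, h.2, abs_le_of_sqNorm_le hB (h.2 ▸ hN)⟩, fun h => ⟨h.1, h.2.1⟩⟩

theorem ncard_norm32 :
    {x : GolayPt → ℤ | x ∈ leechLattice ∧ sqNorm x = 32}.ncard = 196560 := by
  have := ncard_norm_eq_digit (Icc (-5) 5) (2 ^ 100) (by decide +kernel) 32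
  rw [← ncard_norm_eq_box 32 5 (by norm_num) (by norm_num)] at this
  exact this.trans (by decide +kernel)

theorem ncard_norm48 :
    {x : GolayPt → ℤ | x ∈ leechLattice ∧ sqNorm x = 48}.ncard = 16773120 := by
  have := ncard_norm_eq_digit (Icc (-6) 6) (2 ^ 100) (by decide +kernel) 48
  rw [← ncard_norm_eq_box 48 6 (by norm_num) (by norm_num)] at this
  exact this.trans (by decide +kernel)

theorem ncard_norm64 :
    {x : GolayPt → ℤ | x ∈ leechLattice ∧ sqNorm x = 64}.ncard = 398034000 := by
  have := ncard_norm_eq_digit (Icc (-8) 8) (2 ^ 100) (by decide +kernel) 64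
  rw [← ncard_norm_eq_box 64 8 (by norm_num) (by norm_num)] at this
  exact this.trans (by decide +kernel)

end CL.Leech
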