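import Cfsg.Agent.Base
import Cfsg.Agent.Spor.LeechShapes
import Cfsg.Agent.S0366

/-!
# `Co0` is transitive on the vectors of norm 32, 48 and 64
-/

set_option autoImplicit false

namespace CL.Leech

open Cfsg Finset
open scoped Pointwise

/-- Five-fold transitivity of `M24`, for arbitrary index types. -/
theorem exists_M24_map {ι : Type*} [Fintype ι] (h : Fintype.card ι ≤ 5) {f g : ι → GolayPt}
    (hf : Function.Injective f) (hg : Function.Injective g) :
    ∃ σ : M24, ∀ i, (σ : Equiv.Perm GolayPt) (f i) = g i := by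
  have := Cfsg.Agent.S0366.result
  have : MulAction.IsMultiplyPretransitive M24 GolayPt (Fintype.card ι) :=
    MulAction.isMultiplyPretransitive_of_le h (by simp [ZMod.card])
  let e := Fintype.equivFin ι
  obtain ⟨σ, hσ⟩ := MulAction.exists_smul_eq M24
    (⟨f ∘ e.symm, hf.comp e.symm.injective⟩ : Fin (Fintype.card ι) ↪ GolayPt)
    ⟨g ∘ e.symm, hg.comp e.symm.injective⟩
  refine ⟨σ, fun i => ?_⟩
  have := DFunLike.congr_fun hσ (e i)
  change σ • f i = g i
  simpa using this

theorem exists_M24_map_sets {S T S' T' : Finset GolayPt} (hST : Disjoint S T)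
    (hST' : Disjoint S' T') (hS : S.card = S'.card) (hT : T.card = T'.card)
    (h5 : S.card + T.card ≤ 5) :
    ∃ σ : M24, (σ : Equiv.Perm GolayPt) • S = S' ∧ (σ : Equiv.Perm GolayPt) • T = T' := by
  let eS : S ≃ S' := Finset.equivOfCardEq hS
  let eT : T ≃ T' := Finset.equivOfCardEq hT
  obtain ⟨σ, hσ⟩ := exists_M24_map (ι := S ⊕ T) (by simpa using h5)
    (f := Sum.elim (fun a => a) (fun a => a)) (g := Sum.elim (fun a => eS a) (fun a => eT a))
    (Subtype.val_injective.sumElim Subtype.val_injective fun a b h =>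
      disjoint_left.1 hST a.2 (h ▸ b.2))
    ((Subtype.val_injective.comp eS.injective).sumElim (Subtype.val_injective.comp eT.injective)
      fun a b h => disjoint_left.1 hST' (eS a).2 (by
        have h' : ((eS a : S') : GolayPt) = (eT b : T') := h
        rw [h']; exact (eT b).2))
  refine ⟨σ, ?_, ?_⟩
  · apply eq_of_subset_of_card_le
    · intro x hx
      obtain ⟨y, hy, rfl⟩ := mem_smul_finset.1 hx
      have := hσ (Sum.inl ⟨y, hy⟩)
      simp only [Sum.elim_inl] at this
      rw [Equiv.Perm.smul_def, this]; exact (eS _).2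
    · rw [card_smul_finset, hS]
  · apply eq_of_subset_of_card_le
    · intro x hx
      obtain ⟨y, hy, rfl⟩ := mem_smul_finset.1 hx
      have := hσ (Sum.inr ⟨y, hy⟩)
      simp only [Sum.elim_inr] at this
      rw [Equiv.Perm.smul_def, this]; exact (eT _).2
    · rw [card_smul_finset, hT]

theorem exists_M24_map1 (a a' : GolayPt) : ∃ σ : M24, (σ : Equiv.Perm GolayPt) a = a' := by
  obtain ⟨σ, h⟩ := exists_M24_map (ι := Fin 1) (by simp) (f := ![a]) (g := ![a'])
    (Function.injective_of_subsingleton _) (Function.injective_of_subsingleton _)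
  exact ⟨σ, h 0⟩

theorem exists_M24_map2 {a b a' b' : GolayPt} (h : a ≠ b) (h' : a' ≠ b') :
    ∃ σ : M24, (σ : Equiv.Perm GolayPt) a = a' ∧ (σ : Equiv.Perm GolayPt) b = b' := by
  obtain ⟨σ, h⟩ := exists_M24_map (ι := Fin 2) (by simp) (f := ![a, b]) (g := ![a', b'])
    (by intro i j; fin_cases i <;> fin_cases j <;> simp [h, h.symm])
    (by intro i j; fin_cases i <;> fin_cases j <;> simp [h', h'.symm])
  exact ⟨σ, h 0, h 1⟩

theorem exists_M24_map4 {a b c d a' b' c' d' : GolayPt} (h : [a, b, c, d].Nodup)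
    (h' : [a', b', c', d'].Nodup) :
    ∃ σ : M24, (σ : Equiv.Perm GolayPt) a = a' ∧ (σ : Equiv.Perm GolayPt) b = b' ∧
      (σ : Equiv.Perm GolayPt) c = c' ∧ (σ : Equiv.Perm GolayPt) d = d' := by
  obtain ⟨σ, h⟩ := exists_M24_map (ι := Fin 4) (by simp) (f := ![a, b, c, d])
    (g := ![a', b', c', d']) (List.nodup_ofFn.1 (by simpa using h))
    (List.nodup_ofFn.1 (by simpa using h'))
  exact ⟨σ, h 0, h 1, h 2, h 3⟩

theorem tetSum_tet_zero (x : GolayPt → ℤ) :
    tetSum tet x 0 = x none + x (some 0) + x (some 1) + x (some 2) := by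
  have : (univ.filter fun j => tet j = 0) = {none, some 0, some 1, some 2} := by decide +kernel
  rw [tetSum, this, sum_insert (by decide), sum_insert (by decide), sum_insert (by decide),
    sum_singleton]
  ring

/-- One application of a conjugate of `ξ`. -/
theorem exists_xi_step (v : leechLattice) {a b c d : GolayPt} (h : [a, b, c, d].Nodup) :
    ∃ (g : Co0) (i : GolayPt), ((g • v : leechLattice) : GolayPt → ℤ) i = (v : GolayPt → ℤ) b -
      ((v : GolayPt → ℤ) a + (v : GolayPt → ℤ) b + (v : GolayPt → ℤ) c + (v : GolayPt → ℤ) d) / 2 := by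
  obtain ⟨σ, h1, h2, h3, h4⟩ := exists_M24_map4 h
    (show [(none : GolayPt), some 0, some 1, some 2].Nodup by decide)
  refine ⟨xi isSextetFun_tet 1 * permCo0 σ, some 0, ?_⟩
  rw [mul_smul, xi_smul]
  have : tet (some 0) = 0 := rfl
  simp only [xiFun, this, tetSum_tet_zero]
  rw [← h1, ← h2, ← h3, ← h4]
  simp only [permCo0_smul_apply]
  rfl

theorem exists_three_zero {x : GolayPt → ℤ} (h : ∀ i, x i % 2 = 0) (hn : sqNorm x ≤ 84) :
    ∃ b c d, b ≠ c ∧ b ≠ d ∧ c ≠ d ∧ x b = 0 ∧ x c = 0 ∧ x d = 0 := by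
  have h1 := card_filter_le_sum_sq x (fun i => ¬ x i = 0) 4 (fun i hi => by
    have := h i
    have : 2 ≤ x i ∨ x i ≤ -2 := by omega
    rcases this with h | h <;> nlinarith)
  have h2 := card_filter_add_card_filter_not (s := univ) (fun i => x i = 0)
  rw [card_univ, card_golayPt] at h2
  obtain ⟨b, c, d, hb, hc, hd, h3⟩ := two_lt_card_iff.1
    (show 2 < (univ.filter fun i => x i = 0).card by unfold sqNorm at hn; omega)
  simp only [mem_filter, mem_univ, true_and] at hb hc hd
  exact ⟨b, c, d, h3.1, h3.2.1, h3.2.2, hb, hc, hd⟩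

theorem exists_odd_aux (n : ℕ) : ∀ (v : leechLattice) (a : GolayPt),
    ((v : GolayPt → ℤ) a).natAbs = n → (v : GolayPt → ℤ) a ≠ 0 → sqNorm (v : GolayPt → ℤ) ≤ 84 →
    ∃ g : Co0, ∀ i, ((g • v : leechLattice) : GolayPt → ℤ) i % 2 = 1 := by
  induction n using Nat.strong_induction_on with
  | _ n ih =>
    intro v a hn h0 hN
    rcases even_or_odd v.2 with h | h
    · obtain ⟨b, c, d, hbc, hbd, hcd, hb, hc, hd⟩ := exists_three_zero h hN
      have hab : a ≠ b := by rintro rfl; exact h0 hb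
      have hac : a ≠ c := by rintro rfl; exact h0 hc
      have had : a ≠ d := by rintro rfl; exact h0 hd
      obtain ⟨g, i, hg⟩ := exists_xi_step v (a := a) (b := b) (c := c) (d := d)
        (by simp [hab, hac, had, hbc, hbd, hcd])
      rw [hb, hc, hd] at hg
      have := h a
      obtain ⟨g', hg'⟩ := ih _ (by omega) (g • v) i rfl (by omega) (by rwa [Co0_sqNorm])
      exact ⟨g' * g, by simpa only [mul_smul] using hg'⟩
    · exact ⟨1, by simpa using h⟩

/-- Every short nonzero vector can be moved to a vector with odd coordinates. -/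
theorem exists_odd (v : leechLattice) (h0 : sqNorm (v : GolayPt → ℤ) ≠ 0)
    (hN : sqNorm (v : GolayPt → ℤ) ≤ 84) :
    ∃ g : Co0, ∀ i, ((g • v : leechLattice) : GolayPt → ℤ) i % 2 = 1 := by
  obtain ⟨a, ha⟩ : ∃ a, (v : GolayPt → ℤ) a ≠ 0 := by
    by_contra hc; push Not at hc
    exact h0 (sqNorm_eq_zero.2 (funext hc))
  exact exists_odd_aux _ v a rfl ha hN

theorem permCo0_oddNF (σ : M24) {v : leechLattice} {S T : Finset GolayPt}
    (h : (v : GolayPt → ℤ) = oddNF S T) : ((permCo0 σ • v : leechLattice) : GolayPt → ℤ) =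
      oddNF ((σ : Equiv.Perm GolayPt) • S) ((σ : Equiv.Perm GolayPt) • T) := by
  funext i
  rw [permCo0_smul, h]; simp only [oddNF, mem_smul_iff']

theorem exists_smul_eq_oddNF (v : leechLattice) (h0 : sqNorm (v : GolayPt → ℤ) ≠ 0)
    (hN : sqNorm (v : GolayPt → ℤ) < 72) :
    ∃ (g : Co0) (S T : Finset GolayPt), Disjoint S T ∧
      ((g • v : leechLattice) : GolayPt → ℤ) = oddNF S T ∧
      sqNorm (v : GolayPt → ℤ) = 24 + 8 * S.card + 24 * T.card := by
  obtain ⟨g, hg⟩ := exists_odd v h0 (by omega)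
  obtain ⟨c, hc, S, T, h1, h2, h3⟩ := odd_shape (g • v).2 hg (by rwa [Co0_sqNorm])
  refine ⟨signCo0 c hc * g, S, T, h1, ?_, by rwa [Co0_sqNorm] at h3⟩
  rw [mul_smul, signCo0_smul, h2, signFun_signFun]

theorem exists_smul_eq_oddNF_of_card {v : leechLattice} {g : Co0} {S T : Finset GolayPt}
    (hST : Disjoint S T) (h : ((g • v : leechLattice) : GolayPt → ℤ) = oddNF S T)
    (S' T' : Finset GolayPt) (hST' : Disjoint S' T') (hS : S.card = S'.card)
    (hT : T.card = T'.card) (h5 : S.card + T.card ≤ 5) :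
    ∃ g : Co0, ((g • v : leechLattice) : GolayPt → ℤ) = oddNF S' T' := by
  obtain ⟨σ, h1, h2⟩ := exists_M24_map_sets hST hST' hS hT h5
  exact ⟨permCo0 σ * g, by rw [mul_smul, permCo0_oddNF σ h, h1, h2]⟩

theorem exists_smul_eq_of_nf {P : leechLattice → Prop} {x : GolayPt → ℤ}
    (h : ∀ v, P v → ∃ g : Co0, ((g • v : leechLattice) : GolayPt → ℤ) = x)
    {v w : leechLattice} (hv : P v) (hw : P w) : ∃ g : Co0, g • v = w := by
  obtain ⟨g, hg⟩ := h v hv
  obtain ⟨g', hg'⟩ := h w hw
  refine ⟨g'⁻¹ * g, ?_⟩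
  rw [mul_smul, inv_smul_eq_iff]
  exact Subtype.ext (hg.trans hg'.symm)

theorem trans32 {v w : leechLattice} (hv : sqNorm (v : GolayPt → ℤ) = 32)
    (hw : sqNorm (w : GolayPt → ℤ) = 32) : ∃ g : Co0, g • v = w := by
  refine exists_smul_eq_of_nf (P := fun v => sqNorm (v : GolayPt → ℤ) = 32)
    (x := oddNF {none} ∅) ?_ hv hw
  intro v hv
  obtain ⟨g, S, T, h1, h2, h3⟩ := exists_smul_eq_oddNF v (by omega) (by omega)
  exact exists_smul_eq_oddNF_of_card h1 h2 _ _ (by simp) (by simp; omega)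
    (by rw [card_empty]; omega) (by omega)

theorem tet_ne_zero_mem : (univ.filter fun i => tet i ≠ 0 ∧ tet i ≠ 1) ∈ CodeSets := by
  convert compl_mem_codeSets (isSextetFun_tet.mem 1 (by decide)) using 1
  ext i; simp

theorem trans48 {v w : leechLattice} (hv : sqNorm (v : GolayPt → ℤ) = 48)
    (hw : sqNorm (w : GolayPt → ℤ) = 48) : ∃ g : Co0, g • v = w := by
  refine exists_smul_eq_of_nf (P := fun v => sqNorm (v : GolayPt → ℤ) = 48)
    (x := oddNF {some 0, some 1, some 2} ∅) ?_ hv hw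
  intro v hv
  obtain ⟨g, S, T, h1, h2, h3⟩ := exists_smul_eq_oddNF v (by omega) (by omega)
  by_cases hT : T.card = 0
  · exact exists_smul_eq_oddNF_of_card h1 h2 _ _ (by simp)
      ((show S.card = 3 by omega).trans (by decide)) (by simpa using hT) (by omega)
  · obtain ⟨g, hg⟩ := exists_smul_eq_oddNF_of_card h1 h2 ∅ {none} (by simp)
      (by rw [card_empty]; omega) (by simp; omega) (by omega)
    refine ⟨signCo0 _ tet_ne_zero_mem * xi isSextetFun_tet 1 * g, ?_⟩
    rw [mul_smul, mul_smul, signCo0_smul, xi_smul, hg]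
    decide +kernel

theorem trans64 {v w : leechLattice} (hv : sqNorm (v : GolayPt → ℤ) = 64)
    (hw : sqNorm (w : GolayPt → ℤ) = 64) : ∃ g : Co0, g • v = w := by
  refine exists_smul_eq_of_nf (P := fun v => sqNorm (v : GolayPt → ℤ) = 64)
    (x := oddNF {some 0, some 1, some 2, some 9, some 4} ∅) ?_ hv hw
  intro v hv
  obtain ⟨g, S, T, h1, h2, h3⟩ := exists_smul_eq_oddNF v (by omega) (by omega)
  by_cases hT : T.card = 0
  · exact exists_smul_eq_oddNF_of_card h1 h2 _ _ (by simp)
      ((show S.card = 5 by omega).trans (by decide)) (by simpa using hT) (by omega)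
  · obtain ⟨g, hg⟩ := exists_smul_eq_oddNF_of_card h1 h2 {some 9, some 4} {none} (by simp)
      ((show S.card = 2 by omega).trans (by decide)) (by simp; omega) (by omega)
    have hc : (univ.filter fun i => tet i = 3 ∨ tet i = 4 ∨ tet i = 5 ∨ tet i = 1) ∈ CodeSets := by
      simp only [mem_codeSets, mem_golay_iff_gens]; decide +kernel
    refine ⟨signCo0 _ hc * xi isSextetFun_tet 1 * g, ?_⟩
    rw [mul_smul, mul_smul, signCo0_smul, xi_smul, hg]
    decide +kernel

end CL.Leech
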