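import Cfsg.Agent.Base
import Cfsg.Agent.Spor.LeechTrans
import Cfsg.Agent.Spor.LeechCount
import Cfsg.Agent.S0364

/-!
# Index of the Leech lattice, classes modulo `2Λ`, and the order of `Co0`
-/

set_option autoImplicit false

namespace CL.Leech

open Cfsg Finset
open scoped Pointwise

/-- Reduction modulo two as a homomorphism. -/
def redHom : (GolayPt → ℤ) →+ (GolayPt → ZMod 2) := AddMonoidHom.mk' red red_add

theorem redHom_surjective : Function.Surjective redHom := by
  intro w
  refine ⟨fun i => (w i).val, funext fun i => ?_⟩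
  show (((w i).val : ℤ) : ZMod 2) = w i
  simp

theorem index_golay : golayCode.toAddSubgroup.index = 4096 := by
  have h1 := golayCode.toAddSubgroup.card_mul_index
  have h2 : Nat.card golayCode.toAddSubgroup = 4096 := by
    show Nat.card golayCode = 4096
    rw [Module.natCard_eq_pow_finrank (K := ZMod 2), Cfsg.Agent.S0358.result]; simp
  rw [h2, Nat.card_fun, Nat.card_zmod, Nat.card_eq_fintype_card, card_golayPt] at h1
  omega

theorem index_leech : leechLattice.index = 2 ^ 36 := by
  let A : AddSubgroup (GolayPt → ℤ) := golayCode.toAddSubgroup.comap redHom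
  have hA : A.index = 4096 := by
    rw [AddSubgroup.index_comap_of_surjective _ redHom_surjective, index_golay]
  let D : AddSubgroup (GolayPt → ℤ) :=
    { carrier := {u | red u ∈ golayCode ∧ (∑ i, u i) % 4 = 0}
      add_mem' := by
        rintro a b ⟨h1, h2⟩ ⟨h3, h4⟩
        refine ⟨by rw [red_add]; exact add_mem h1 h3, ?_⟩
        simp only [Pi.add_apply, sum_add_distrib]; omega
      zero_mem' := ⟨A.zero_mem, by simp⟩
      neg_mem' := by
        rintro a ⟨h1, h2⟩
        refine ⟨by rw [red_neg]; exact h1, ?_⟩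
        simp only [Pi.neg_apply, sum_neg_distrib]; omega }
  have hDA : D ≤ A := fun u hu => hu.1
  have ha : pairVec none none 1 1 ∈ A := by
    have : red (pairVec none none 1 1) = 0 := by
      funext i; simp only [red, pairVec_apply]; split_ifs <;> rfl
    show red _ ∈ golayCode
    rw [this]; exact zero_mem _
  have hD : D.relIndex A = 2 := by
    rw [AddSubgroup.relIndex_eq_two_iff_exists_notMem_and]
    refine ⟨pairVec none none 1 1, ha, fun h => ?_, fun b hb => ?_⟩
    · have := h.2; rw [sum_pairVec] at this; omega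
    · have h1 := sum_even_of_red univ_mem_codeSets (u := b) hb
      by_cases h2 : (∑ i, b i) % 4 = 0
      · exact Or.inr ⟨hb, h2⟩
      · refine Or.inl ⟨A.add_mem hb ha, ?_⟩
        simp only [Pi.add_apply, sum_add_distrib, sum_pairVec]; omega
  let E : AddSubgroup (GolayPt → ℤ) := D.map (nsmulAddMonoidHom 2)
  have hE : E.index = 2 * 4096 * 2 ^ 24 := by
    rw [AddSubgroup.index_map_of_injective _
      (AddSubgroup.nsmulAddMonoidHom_injective_of_isTorsionFree two_ne_zero),
      AddSubgroup.index_range_nsmul, ← AddSubgroup.relIndex_mul_index hDA, hD, hA]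
    simp [ZMod.card]
  have hEm : ∀ x, x ∈ E ↔ x ∈ leechLattice ∧ ∀ i, x i % 2 = 0 := by
    intro x
    constructor
    · rintro ⟨u, ⟨h1, h2⟩, rfl⟩
      have h3 : ∀ i, nsmulAddMonoidHom 2 u i = 2 * u i := fun i => by simp
      refine ⟨mem_leech_iff.2 ⟨0, u, by simp, h1, ?_⟩, fun i => by rw [h3]; omega⟩
      simp only [h3, ← mul_sum]; omega
    · rintro ⟨h1, h2⟩
      obtain ⟨h3, h4⟩ := (mem_iff_of_even h2).1 h1
      have h5 : ∀ i, x i = 2 * (x i / 2) := fun i => by have := h2 i; omega
      refine ⟨fun i => x i / 2, ⟨?_, ?_⟩, funext fun i => by simpa using (h5 i).symm⟩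
      · rw [red_mem_iff]; convert h3 using 2 with i; have := h2 i; omega
      · rw [sum_congr rfl fun i _ => h5 i, ← mul_sum] at h4; beta_reduce; omega
  have hEL : E.relIndex leechLattice = 2 := by
    rw [AddSubgroup.relIndex_eq_two_iff_exists_notMem_and]
    refine ⟨oddVec none, oddVec_mem none, fun h => ?_, fun b hb => ?_⟩
    · have := ((hEm _).1 h).2 none; have := oddVec_odd none none; omega
    · rcases even_or_odd hb with h | h
      · exact Or.inr ((hEm _).2 ⟨hb, h⟩)
      · refine Or.inl ((hEm _).2 ⟨add_mem hb (oddVec_mem none), fun i => ?_⟩)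
        have := h i; have := oddVec_odd none i; simp only [Pi.add_apply]; omega
  have := AddSubgroup.relIndex_mul_index (fun x hx => ((hEm x).1 hx).1 : E ≤ leechLattice)
  rw [hEL, hE] at this
  omega

theorem finrank_leech : Module.finrank ℤ leechLattice = 24 := by
  have : leechLattice.FiniteIndex := ⟨by rw [index_leech]; norm_num⟩
  rw [AddSubgroup.finrank_eq_of_finiteIndex]; simp [ZMod.card]

/-! ### Crosses -/

theorem mem_cross_iff {v w : leechLattice} : (w : GolayPt → ℤ) ∈ cross v ↔
    sqNorm (w : GolayPt → ℤ) = sqNorm (v : GolayPt → ℤ) ∧ ∃ z : leechLattice, v - w = 2 • z := by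
  constructor
  · rintro ⟨-, h1, z, hz, h2⟩; exact ⟨h1, ⟨z, hz⟩, Subtype.ext h2⟩
  · rintro ⟨h1, z, h2⟩; exact ⟨w.2, h1, z, z.2, congrArg Subtype.val h2⟩

theorem smul_mem_cross_iff (g : Co0) {v w : leechLattice} :
    ((g • w : leechLattice) : GolayPt → ℤ) ∈ cross (g • v : leechLattice) ↔
      (w : GolayPt → ℤ) ∈ cross v := by
  rw [mem_cross_iff, mem_cross_iff, Co0_sqNorm, Co0_sqNorm, ← Co0_sub]
  refine and_congr_right fun _ => ⟨?_, ?_⟩
  · rintro ⟨z, hz⟩
    exact ⟨g⁻¹ • z, by rw [← Co0_nsmul, ← hz, inv_smul_smul]⟩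
  · rintro ⟨z, hz⟩
    exact ⟨g • z, by rw [← Co0_nsmul, ← hz]⟩

theorem sqNorm_e8 (i : GolayPt) : sqNorm (e8 i : GolayPt → ℤ) = 64 := by
  rw [coe_e8, sqNorm_single]; rfl

theorem cross_e8 (i : GolayPt) : cross (e8 i) = stdCross := by
  ext y
  constructor
  · rintro ⟨-, h1, z, hz, h2⟩
    obtain ⟨k, hk⟩ := eq_single_of_cong (h1.trans (sqNorm_e8 i)) hz i (Or.inl rfl) h2
    rcases hk with hk | hk
    · exact ⟨k, 8, Or.inl rfl, hk⟩
    · exact ⟨k, -8, Or.inr rfl, hk⟩
  · rintro ⟨k, s, hs, rfl⟩
    refine ⟨?_, ?_, pairVec i k 4 (-s / 2), pairVec_mem _ _ (by rfl) (by omega) (by omega), ?_⟩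
    · rcases hs with rfl | rfl
      · exact (e8 k).2
      · rw [← coe_neg_e8]; exact (-e8 k).2
    · rw [sqNorm_e8, sqNorm_single]; rcases hs with rfl | rfl <;> rfl
    · funext l
      simp only [coe_e8, Pi.sub_apply, Pi.single_apply, Pi.smul_apply, pairVec_apply, nsmul_eq_mul]
      push_cast
      split_ifs <;> omega

theorem ncard_stdCross : stdCross.ncard = 48 := by
  have : stdCross = Set.range (fun p : GolayPt × Bool =>
      (Pi.single p.1 (if p.2 then 8 else -8) : GolayPt → ℤ)) := by
    ext y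
    constructor
    · rintro ⟨k, s, hs | hs, rfl⟩ <;> subst hs
      · exact ⟨(k, true), rfl⟩
      · exact ⟨(k, false), rfl⟩
    · rintro ⟨⟨k, b⟩, rfl⟩
      exact ⟨k, _, by cases b <;> simp, rfl⟩
  rw [this, Set.ncard_range_of_injective]
  · simp [ZMod.card]
  · rintro ⟨k, b⟩ ⟨l, c⟩ h
    have h1 := congrFun h k
    simp only [Pi.single_eq_same, Pi.single_apply] at h1
    by_cases hkl : k = l
    · subst hkl; cases b <;> cases c <;> simp_all
    · cases b <;> simp [hkl] at h1

theorem ncard_cross {x : GolayPt → ℤ} (hx : x ∈ leechLattice) (hn : sqNorm x = 64) :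
    (cross x).ncard = 48 := by
  obtain ⟨g, hg⟩ := trans64 (v := ⟨x, hx⟩) (w := e8 none) hn (sqNorm_e8 none)
  rw [← ncard_stdCross, ← cross_e8 none, ← hg]
  apply Set.ncard_congr (s := cross x)
    (fun y hy => ((g • (⟨y, hy.1⟩ : leechLattice) : leechLattice) : GolayPt → ℤ))
  · intro y hy; exact (smul_mem_cross_iff g).2 hy
  · intro a b ha hb h
    exact congrArg Subtype.val (MulAction.injective g (Subtype.ext h))
  · intro y hy
    refine ⟨(g⁻¹ • (⟨y, hy.1⟩ : leechLattice) : leechLattice), ?_, by simp⟩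
    rw [← smul_mem_cross_iff g (v := ⟨x, hx⟩), smul_inv_smul]; exact hy

/-- Two short vectors congruent modulo `2Λ` are equal, opposite, or both of norm 64. -/
theorem cong_cases {v w z : leechLattice} (hv : sqNorm (v : GolayPt → ℤ) ≤ 64)
    (hw : sqNorm (w : GolayPt → ℤ) ≤ 64) (h : v - w = 2 • z) : w = v ∨ w = -v ∨
      (sqNorm (v : GolayPt → ℤ) = 64 ∧ sqNorm (w : GolayPt → ℤ) = 64 ∧
        dotInt (v : GolayPt → ℤ) w = 0) := by
  by_cases h1 : z = 0
  · left; rw [h1, smul_zero, sub_eq_zero] at h; exact h.symm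
  have h2 : v + w = 2 • (z + w) := by rw [smul_add, ← h]; abel
  by_cases h3 : z + w = 0
  · right; left; rw [h3, smul_zero] at h2; exact eq_neg_of_add_eq_zero_right h2
  right; right
  have h4 := thirtytwo_le_sqNorm z.2 (fun h => h1 (Subtype.ext h))
  have h5 := thirtytwo_le_sqNorm (z + w).2 (fun h => h3 (Subtype.ext h))
  have h6 := congrArg (fun u : leechLattice => sqNorm (u : GolayPt → ℤ)) h
  have h7 := congrArg (fun u : leechLattice => sqNorm (u : GolayPt → ℤ)) h2
  simp only [AddSubgroupClass.coe_sub, AddSubmonoidClass.coe_nsmul, sqNorm_sub] at h6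
  simp only [AddSubmonoidClass.coe_nsmul] at h7
  rw [AddSubgroup.coe_add, sqNorm_add] at h7
  rw [← natCast_zsmul, sqNorm_zsmul] at h6 h7
  norm_num at h6 h7 h5
  omega

theorem ncard_lattice_norm (N : ℤ) : {v : leechLattice | sqNorm (v : GolayPt → ℤ) = N}.ncard =
    {x : GolayPt → ℤ | x ∈ leechLattice ∧ sqNorm x = N}.ncard := by
  rw [← Set.ncard_image_of_injective _ Subtype.val_injective]
  congr 1; ext x
  exact ⟨by rintro ⟨v, hv, rfl⟩; exact ⟨v.2, hv⟩, fun h => ⟨⟨x, h.1⟩, h.2, rfl⟩⟩

/-- Every lattice vector is congruent modulo `2Λ` to a vector of norm at most 64. -/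
theorem exists_short_cong (v : leechLattice) :
    ∃ w z : leechLattice, sqNorm (w : GolayPt → ℤ) ≤ 64 ∧ v - w = 2 • z := by
  classical
  let R := (nsmulAddMonoidHom (α := leechLattice) 2).range
  have : Module.Finite ℤ leechLattice := inferInstanceAs (Module.Finite ℤ leechLattice.toIntSubmodule)
  have : Module.Free ℤ leechLattice := inferInstanceAs (Module.Free ℤ leechLattice.toIntSubmodule)
  have hR : R.index = 2 ^ 24 := by rw [AddSubgroup.index_range_nsmul, finrank_leech]
  have : Finite (leechLattice ⧸ R) := AddSubgroup.index_ne_zero_iff_finite.1 (by rw [hR]; norm_num)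
  have := Fintype.ofFinite (leechLattice ⧸ R)
  let π : leechLattice → leechLattice ⧸ R := QuotientAddGroup.mk
  have hπ : ∀ a b, π a = π b ↔ ∃ z, a - b = 2 • z := by
    intro a b
    rw [QuotientAddGroup.eq_iff_sub_mem]
    exact ⟨fun ⟨z, hz⟩ => ⟨z, hz.symm⟩, fun ⟨z, hz⟩ => ⟨z, hz.symm⟩⟩
  let S : ℤ → Finset leechLattice := fun N => (finite_lattice_sqNorm_eq N).toFinset
  have hS : ∀ N u, u ∈ S N ↔ sqNorm (u : GolayPt → ℤ) = N := fun N u => by simp [S]
  have hcard : ∀ N, (S N).card = {x : GolayPt → ℤ | x ∈ leechLattice ∧ sqNorm x = N}.ncard :=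
    fun N => by rw [← ncard_lattice_norm, Set.ncard_eq_toFinset_card _ (finite_lattice_sqNorm_eq N)]
  have small : ∀ N, N < 64 → (S N).card ≤ 2 * ((S N).image π).card := by
    intro N hN
    refine card_le_mul_card_image _ 2 fun a ha => ?_
    obtain ⟨u, hu, rfl⟩ := mem_image.1 ha
    refine le_trans (card_le_card (t := {u, -u}) fun w hw => ?_) card_le_two
    obtain ⟨h1, h2⟩ := mem_filter.1 hw
    obtain ⟨z, hz⟩ := (hπ _ _).1 h2.symm
    rw [hS] at hu h1
    rcases cong_cases (by omega) (by omega) hz with h | h | h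
    · simp [h]
    · simp [h]
    · omega
  have big : (S 64).card ≤ 48 * ((S 64).image π).card := by
    refine card_le_mul_card_image _ 48 fun a ha => ?_
    obtain ⟨u, hu, rfl⟩ := mem_image.1 ha
    rw [hS] at hu
    rw [← ncard_cross u.2 hu, ← Set.ncard_coe_finset,
      ← Set.ncard_image_of_injective _ Subtype.val_injective]
    apply Set.ncard_le_ncard _ ((finite_sqNorm_eq _).subset fun y hy => ⟨hy.1, hy.2.1⟩)
    rintro _ ⟨w, hw, rfl⟩
    obtain ⟨h1, h2⟩ := mem_filter.1 hw
    exact mem_cross_iff.2 ⟨by rw [(hS _ _).1 h1, hu], (hπ _ _).1 h2.symm⟩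
  have disj : ∀ N M, N ≠ M → N ≤ 64 → M ≤ 64 → Disjoint ((S N).image π) ((S M).image π) := by
    intro N M hNM hN hM
    rw [disjoint_left]
    intro a ha hb
    obtain ⟨u, hu, rfl⟩ := mem_image.1 ha
    obtain ⟨w, hw, h⟩ := mem_image.1 hb
    obtain ⟨z, hz⟩ := (hπ _ _).1 h.symm
    rw [hS] at hu hw
    rcases cong_cases (by omega) (by omega) hz with h | h | h
    · rw [h] at hw; omega
    · rw [h, NegMemClass.coe_neg, sqNorm_neg] at hw; omega
    · omega
  have h0 : 0 < ((S 0).image π).card :=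
    card_pos.2 ⟨_, mem_image_of_mem _ ((hS 0 0).2 (sqNorm_eq_zero.2 rfl))⟩
  have h32 := small 32 (by norm_num)
  have h48 := small 48 (by norm_num)
  rw [hcard, ncard_norm32] at h32
  rw [hcard, ncard_norm48] at h48
  rw [hcard, ncard_norm64] at big
  have hall : (S 0).image π ∪ (S 32).image π ∪ (S 48).image π ∪ (S 64).image π = univ := by
    apply eq_univ_of_card
    apply le_antisymm (card_le_univ _)
    rw [card_union_of_disjoint, card_union_of_disjoint, card_union_of_disjoint,
      ← Nat.card_eq_fintype_card, ← AddSubgroup.index_eq_card, hR]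
    · omega
    all_goals try simp only [disjoint_union_left]
    all_goals (repeat' apply And.intro) <;> apply disj <;> norm_num
  have hv : π v ∈ (S 0).image π ∪ (S 32).image π ∪ (S 48).image π ∪ (S 64).image π :=
    hall ▸ mem_univ _
  simp only [mem_union, mem_image, hS] at hv
  rcases hv with ((⟨w, h1, h2⟩ | ⟨w, h1, h2⟩) | ⟨w, h1, h2⟩) | ⟨w, h1, h2⟩ <;>
    obtain ⟨z, hz⟩ := (hπ _ _).1 h2.symm <;> exact ⟨w, z, by omega, hz⟩

/-! ### Orders -/

theorem orbit_eq_of_trans {v : leechLattice} {N : ℤ} (hv : sqNorm (v : GolayPt → ℤ) = N)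
    (h : ∀ w : leechLattice, sqNorm (w : GolayPt → ℤ) = N → ∃ g : Co0, g • v = w) :
    MulAction.orbit Co0 v = {w : leechLattice | sqNorm (w : GolayPt → ℤ) = N} := by
  ext w
  constructor
  · rintro ⟨g, rfl⟩; exact (Co0_sqNorm g v).trans hv
  · intro hw; exact h w hw

theorem index_stabilizer32 {v : leechLattice} (hv : sqNorm (v : GolayPt → ℤ) = 32) :
    (MulAction.stabilizer Co0 v).index = 196560 := by
  rw [MulAction.index_stabilizer, orbit_eq_of_trans hv fun w hw => trans32 hv hw,
    ncard_lattice_norm, ncard_norm32]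

theorem index_stabilizer48 {v : leechLattice} (hv : sqNorm (v : GolayPt → ℤ) = 48) :
    (MulAction.stabilizer Co0 v).index = 16773120 := by
  rw [MulAction.index_stabilizer, orbit_eq_of_trans hv fun w hw => trans48 hv hw,
    ncard_lattice_norm, ncard_norm48]

theorem index_stabilizer64 {v : leechLattice} (hv : sqNorm (v : GolayPt → ℤ) = 64) :
    (MulAction.stabilizer Co0 v).index = 398034000 := by
  rw [MulAction.index_stabilizer, orbit_eq_of_trans hv fun w hw => trans64 hv hw,
    ncard_lattice_norm, ncard_norm64]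

theorem stabilizer_e8_le (i : GolayPt) : MulAction.stabilizer Co0 (e8 i) ≤ monoGroup :=
  fun _ hg => mem_monoGroup_of_e8 (Or.inl hg)

theorem relIndex_stabilizer_e8 (i : GolayPt) :
    (MulAction.stabilizer Co0 (e8 i)).relIndex monoGroup = 48 := by
  have : (MulAction.stabilizer Co0 (e8 i)).subgroupOf monoGroup =
      MulAction.stabilizer monoGroup (e8 i) := rfl
  rw [Subgroup.relIndex, this, MulAction.index_stabilizer, ← ncard_stdCross,
    ← Set.ncard_image_of_injective _ Subtype.val_injective]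
  congr 1; ext y
  constructor
  · rintro ⟨_, ⟨g, rfl⟩, rfl⟩
    exact mem_monoGroup_iff_stdCross.1 g.2 _ (mem_stdCross_iff.2 ⟨i, Or.inl rfl⟩)
  · intro hy
    have hy' : y ∈ leechLattice := by rw [← cross_e8 i] at hy; exact hy.1
    obtain ⟨j, hj⟩ := (mem_stdCross_iff (v := ⟨y, hy'⟩)).1 hy
    obtain ⟨σ, hσ⟩ := exists_M24_map1 i j
    refine ⟨⟨y, hy'⟩, ?_, rfl⟩
    rcases hj with hj | hj
    · exact ⟨⟨permCo0 σ, permCo0_mem σ⟩, by
        show permCo0 σ • e8 i = _
        rw [permCo0_e8, hσ, hj]⟩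
    · exact ⟨⟨negOne * permCo0 σ, mul_mem negOne_mem (permCo0_mem σ)⟩, by
        show (negOne * permCo0 σ) • e8 i = _
        rw [mul_smul, permCo0_e8, hσ, hj, negOne_smul]⟩

theorem index_monoGroup : monoGroup.index = 8292375 := by
  have := Subgroup.relIndex_mul_index (stabilizer_e8_le none)
  rw [relIndex_stabilizer_e8, index_stabilizer64 (sqNorm_e8 none)] at this
  omega

theorem card_monoGroup' : Nat.card monoGroup = 1002795171840 := by
  rw [card_monoGroup, Cfsg.Agent.S0364.result]

theorem card_Co0 : Nat.card Co0 = 8315553613086720000 := by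
  rw [← monoGroup.card_mul_index, index_monoGroup, card_monoGroup']

instance instFiniteCo0 : Finite Co0 := Nat.finite_of_card_ne_zero (by rw [card_Co0]; norm_num)

theorem card_stabilizer32 {v : leechLattice} (hv : sqNorm (v : GolayPt → ℤ) = 32) :
    Nat.card (MulAction.stabilizer Co0 v) = 42305421312000 := by
  have := (MulAction.stabilizer Co0 v).card_mul_index
  rw [index_stabilizer32 hv, card_Co0] at this
  omega

theorem card_stabilizer48 {v : leechLattice} (hv : sqNorm (v : GolayPt → ℤ) = 48) :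
    Nat.card (MulAction.stabilizer Co0 v) = 495766656000 := by
  have := (MulAction.stabilizer Co0 v).card_mul_index
  rw [index_stabilizer48 hv, card_Co0] at this
  omega

theorem card_stabilizer64 {v : leechLattice} (hv : sqNorm (v : GolayPt → ℤ) = 64) :
    Nat.card (MulAction.stabilizer Co0 v) = 20891566080 := by
  have := (MulAction.stabilizer Co0 v).card_mul_index
  rw [index_stabilizer64 hv, card_Co0] at this
  omega

end CL.Leech
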