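import Cfsg.Agent.Base
import Cfsg.Agent.Spor.ConwayStab
import Cfsg.Agent.Spor.LeechOrder

/-!
# Vector stabilisers in `Co0`; simplicity of `Co3`
-/

set_option autoImplicit false

namespace CL.Conway

open Cfsg CL.Leech CL.Chain CL.M24 CL.SimpleCrit MulAction

theorem ncard_coe (P : (GolayPt → ℤ) → Prop) :
    {x : leechLattice | P x}.ncard = {x | x ∈ leechLattice ∧ P x}.ncard := by
  rw [← Set.ncard_image_of_injective _ Subtype.val_injective]
  congr 1
  ext x
  constructor
  · rintro ⟨y, hy, rfl⟩; exact ⟨y.2, hy⟩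
  · rintro ⟨h1, h2⟩; exact ⟨⟨x, h1⟩, h2, rfl⟩

theorem dotInt_smul_of_fix {g : Co0} {v : leechLattice} (h : g • v = v) (x : leechLattice) :
    dotInt (v : GolayPt → ℤ) ((g • x : leechLattice) : GolayPt → ℤ) = dotInt (v : GolayPt → ℤ) x := by
  conv_lhs => rw [← h]
  exact Co0_dotInt g v x

theorem fix_one (v : leechLattice) : fix (⊤ : Subgroup Co0) [v] = stabilizer Co0 v := by
  rw [fix_cons, fix_nil, top_inf_eq]

theorem fix_two (v w : leechLattice) :
    fix (⊤ : Subgroup Co0) [w, v] = stabilizer Co0 v ⊓ stabilizer Co0 w := by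
  rw [fix_cons, fix_one]

theorem sqNorm_vU : sqNorm (vU : GolayPt → ℤ) = 32 := by rw [coe_vU, sqNorm_vec]; rfl
theorem sqNorm_vU' : sqNorm (vU' : GolayPt → ℤ) = 32 := by rw [coe_vU', sqNorm_vec]; rfl
theorem sqNorm_vX : sqNorm (vX : GolayPt → ℤ) = 32 := by rw [coe_vX, sqNorm_vec]; rfl
theorem sqNorm_vV : sqNorm (vV : GolayPt → ℤ) = 48 := by rw [coe_vV, sqNorm_vec]; rfl
theorem sqNorm_vW : sqNorm (vW : GolayPt → ℤ) = 48 := by rw [coe_vW, sqNorm_vec]; rfl
theorem dot_vU_vX : dotInt (vU : GolayPt → ℤ) vX = -8 := by rw [coe_vU, coe_vX, dotInt_vec]; rfl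
theorem dot_vU_vU' : dotInt (vU : GolayPt → ℤ) vU' = 0 := by rw [coe_vU, coe_vU', dotInt_vec]; rfl
theorem dot_vX_vU' : dotInt (vX : GolayPt → ℤ) vU' = 16 := by rw [coe_vX, coe_vU', dotInt_vec]; rfl
theorem dot_vV_vW : dotInt (vV : GolayPt → ℤ) vW = -32 := by rw [coe_vV, coe_vW, dotInt_vec]; rfl
theorem dot_vV_vU : dotInt (vV : GolayPt → ℤ) vU = 24 := by rw [coe_vV, coe_vU, dotInt_vec]; rfl
theorem dot_vW_vU : dotInt (vW : GolayPt → ℤ) vU = -24 := by rw [coe_vW, coe_vU, dotInt_vec]; rfl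
theorem dot_vV_vU' : dotInt (vV : GolayPt → ℤ) vU' = -16 := by rw [coe_vV, coe_vU', dotInt_vec]; rfl
theorem dot_vV_vX : dotInt (vV : GolayPt → ℤ) vX = 8 := by rw [coe_vV, coe_vX, dotInt_vec]; rfl

theorem card_M22_fix {L : List leechLattice} (h : fix (⊤ : Subgroup Co0) L = (permHom B2).range) :
    Nat.card (fix (⊤ : Subgroup Co0) L) = 443520 := by
  rw [Nat.card_congr (equivOfEqRange h).toEquiv, card_fix_B2]

theorem card_M23_fix {L : List leechLattice} (h : fix (⊤ : Subgroup Co0) L = (permHom B1).range) :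
    Nat.card (fix (⊤ : Subgroup Co0) L) = 10200960 := by
  rw [Nat.card_congr (equivOfEqRange h).toEquiv, card_fix_B1]

/-- The stabilisers of two lists in one orbit are isomorphic. -/
def pairEquiv {g : Co0} {v w v' w' : leechLattice} (h1 : g • v = v') (h2 : g • w = w') :
    fix (⊤ : Subgroup Co0) [w, v] ≃* fix (⊤ : Subgroup Co0) [w', v'] :=
  fixEquiv (Subgroup.mem_top g) _ _ (by simp [h1, h2])

/-- The stabilisers of two vectors in one orbit are isomorphic. -/
def oneEquiv {g : Co0} {v v' : leechLattice} (h1 : g • v = v') :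
    fix (⊤ : Subgroup Co0) [v] ≃* fix (⊤ : Subgroup Co0) [v'] :=
  fixEquiv (Subgroup.mem_top g) _ _ (by simp [h1])

theorem card_Co2 {v : leechLattice} (hv : sqNorm (v : GolayPt → ℤ) = 32) :
    Nat.card (fix (⊤ : Subgroup Co0) [v]) = 42305421312000 := by
  rw [fix_one, card_stabilizer32 hv]

theorem card_Co3 {v : leechLattice} (hv : sqNorm (v : GolayPt → ℤ) = 48) :
    Nat.card (fix (⊤ : Subgroup Co0) [v]) = 495766656000 := by
  rw [fix_one, card_stabilizer48 hv]

/-- The stabiliser of one more vector. -/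
def stabEquiv (L : List leechLattice) (a : leechLattice) :
    stabilizer (fix (⊤ : Subgroup Co0) L) a ≃* fix (⊤ : Subgroup Co0) (a :: L) :=
  (stabilizerEquivInf _ a).trans (MulEquiv.subgroupCongr (fix_cons _ _ _).symm)

theorem index_stab {L : List leechLattice} {a : leechLattice} {m n : ℕ} (hn : 0 < n)
    (h1 : Nat.card (fix (⊤ : Subgroup Co0) L) = n * m)
    (h2 : Nat.card (fix (⊤ : Subgroup Co0) (a :: L)) = n) :
    (stabilizer (fix (⊤ : Subgroup Co0) L) a).index = m := by
  have h := (stabilizer (fix (⊤ : Subgroup Co0) L) a).card_mul_index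
  rw [Nat.card_congr (stabEquiv L a).toEquiv, h1, h2] at h
  exact Nat.eq_of_mul_eq_mul_left hn h

theorem t11_mem {L : List leechLattice} (h : fix (⊤ : Subgroup Co0) L = (permHom B2).range) :
    t11 ∈ fix (⊤ : Subgroup Co0) L := h ▸ ⟨_, rfl⟩

theorem t23_mem {L : List leechLattice} (h : fix (⊤ : Subgroup Co0) L = (permHom B1).range) :
    t23 ∈ fix (⊤ : Subgroup Co0) L := h ▸ ⟨_, rfl⟩

theorem isSimpleGroup_Co3_std : IsSimpleGroup (fix (⊤ : Subgroup Co0) [vV]) := by
  have := isSimpleGroup_fix_B1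
  have := ((stabEquiv [vV] vX).trans (equivOfEqRange fix_M23_eq)).isSimpleGroup
  have ht := t23_mem fix_M23_eq
  refine isSimpleGroup_of_stabilizer (p := 23) (by norm_num) vX
    ⟨t23, fix_anti _ (by simp) ht⟩ (by rw [← Subgroup.orderOf_coe]; exact orderOf_t23)
    (by rw [card_Co3 sqNorm_vV]; norm_num) (ht.2 _ (by simp)) (fun g h => ?_) ?_
  · exact eq_vX_of_t23 h ((Co0_sqNorm _ _).trans sqNorm_vX)
      ((dotInt_smul_of_fix (g.2.2 _ (by simp)) _).trans dot_vV_vX)
  · rw [index_stab (m := 48600) (by norm_num) (card_Co3 sqNorm_vV) (card_M23_fix fix_M23_eq)]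
    exact primePow_check 5 16 (by norm_num [Nat.factorial]) (by norm_num) (by norm_num)
      (by decide +kernel)

theorem isSimpleGroup_Co3 {v : leechLattice} (hv : sqNorm (v : GolayPt → ℤ) = 48) :
    IsSimpleGroup (fix (⊤ : Subgroup Co0) [v]) := by
  obtain ⟨g, h1⟩ := trans48 hv sqNorm_vV
  have := isSimpleGroup_Co3_std
  exact (oneEquiv h1).isSimpleGroup

/-- A normal subgroup meeting a subgroup trivially: the product of the orders divides the group
order. -/
theorem card_mul_card_dvd {G : Type*} [Group G] [Finite G] (N H : Subgroup G) [N.Normal]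
    (h : N ⊓ H = ⊥) : Nat.card N * Nat.card H ∣ Nat.card G := by
  have h1 : Function.Injective ((QuotientGroup.mk' N).comp H.subtype) := by
    rw [injective_iff_map_eq_one]
    intro x hx
    have h2 : (x : G) ∈ N ⊓ H := ⟨(QuotientGroup.eq_one_iff _).1 hx, x.2⟩
    rw [h] at h2
    exact Subtype.ext h2
  rw [← N.card_mul_index]
  exact Nat.mul_dvd_mul_left _ (Subgroup.card_dvd_of_injective _ h1)

theorem card_Co1 : Nat.card (Co0 ⧸ Subgroup.center Co0) = 4157776806543360000 := by
  have h := Subgroup.card_eq_card_quotient_mul_card_subgroup (Subgroup.center Co0)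
  rw [card_Co0, card_center] at h
  omega

theorem vX_ne_neg : vX ≠ -vX := by
  intro h
  have := congrFun (congrArg Subtype.val h) none
  revert this
  decide

/-- A vector stabiliser embeds in the quotient by the centre. -/
theorem mk_injective_of_fix {v : leechLattice} (hv : v ≠ -v) :
    Function.Injective ((QuotientGroup.mk' (Subgroup.center Co0)).comp
      (fix (⊤ : Subgroup Co0) [v]).subtype) := by
  rw [injective_iff_map_eq_one]
  intro x hx
  rcases mem_center_iff.1 ((QuotientGroup.eq_one_iff _).1 hx) with h | h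
  · exact Subtype.ext h
  · have h1 := x.2.2 v (by simp)
    change (x : Co0) = negOne at h
    rw [h, negOne_smul] at h1
    exact absurd h1.symm hv

end CL.Conway
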