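import Cfsg.Agent.Base
import Cfsg.Agent.Spor.ConwayCo3
import Cfsg.Agent.S0400
import Cfsg.Agent.S0401
import Cfsg.Agent.S1575
import Cfsg.Agent.S1583
import Cfsg.Agent.S1634
import Cfsg.Agent.S1640

/-!
# Orders and simplicity of `McL`, `HS`, `Co3`, `Co2`, `Co1`
-/

set_option autoImplicit false

namespace CL.Conway

open Cfsg CL.Leech CL.Chain CL.M24 CL.SimpleCrit MulAction

/-! ### Transitivity on pairs -/

theorem exists_smul_pair_McL {v w : leechLattice} (hv : sqNorm (v : GolayPt → ℤ) = 32)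
    (hw : sqNorm (w : GolayPt → ℤ) = 32) (hvw : dotInt (v : GolayPt → ℤ) w = -8) :
    ∃ g : Co0, g • v = vU ∧ g • w = vX := by
  obtain ⟨g, hg⟩ := Cfsg.Agent.S0400.result v vU hv sqNorm_vU
  obtain ⟨h, h1, h2⟩ := Cfsg.Agent.S1575.result vU (g • w) vX sqNorm_vU
    (by rw [Co0_sqNorm, hw]) sqNorm_vX (by rw [← hg, Co0_dotInt, hvw]) dot_vU_vX
  exact ⟨h * g, by rw [mul_smul, hg, h1], by rw [mul_smul, h2]⟩

theorem exists_smul_pair_HS {v w : leechLattice} (hv : sqNorm (v : GolayPt → ℤ) = 48)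
    (hw : sqNorm (w : GolayPt → ℤ) = 48) (hvw : dotInt (v : GolayPt → ℤ) w = -32) :
    ∃ g : Co0, g • v = vV ∧ g • w = vW := by
  obtain ⟨g, hg⟩ := Cfsg.Agent.S0401.result v vV hv sqNorm_vV
  obtain ⟨h, h1, h2⟩ := (Cfsg.Agent.S1640.result vV sqNorm_vV).2 (g • -(v + w))
    ⟨by rw [Co0_sqNorm, NegMemClass.coe_neg, sqNorm_neg, AddSubgroup.coe_add, sqNorm_add, hv, hw,
        hvw]; rfl,
      by rw [← hg, Co0_dotInt, NegMemClass.coe_neg, dotInt_neg_right, AddSubgroup.coe_add,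
        dotInt_add_right, ← sqNorm_eq_dot, hv, hvw]; rfl⟩ vU' ⟨sqNorm_vU', dot_vV_vU'⟩
  have h3 : (h * g) • v = vV := by rw [mul_smul, hg, h1]
  refine ⟨h * g, h3, ?_⟩
  rw [← mul_smul, Co0_neg, Co0_add, h3, neg_eq_iff_eq_neg, ← vV_add_vW] at h2
  exact add_left_cancel h2

/-! ### Orders -/

theorem card_McL_std : Nat.card (fix (⊤ : Subgroup Co0) [vX, vU]) = 898128000 := by
  obtain ⟨h1, h2, -⟩ := Cfsg.Agent.S1634.result vU vX sqNorm_vU sqNorm_vX dot_vU_vX
  rw [card_eq_ncard_mul _ vU' _ ?_ ?_, h1, ← fix_cons, card_M22_fix fix_McL_eq]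
  · intro g hg
    exact ⟨by rw [Co0_sqNorm, sqNorm_vU'],
      by rw [dotInt_smul_of_fix (hg.2 _ (by simp)), dot_vU_vU'],
      by rw [dotInt_smul_of_fix (hg.2 _ (by simp)), dot_vX_vU']⟩
  · intro x hx
    obtain ⟨g, h3, h4, h5⟩ := h2 vU' ⟨sqNorm_vU', dot_vU_vU', dot_vX_vU'⟩ x hx
    exact ⟨g, ⟨trivial, by simp [h3, h4]⟩, h5⟩

theorem card_HS_std : Nat.card (fix (⊤ : Subgroup Co0) [vW, vV]) = 44352000 := by
  obtain ⟨h1, h2⟩ := Cfsg.Agent.S1583.result vV vW sqNorm_vV sqNorm_vW dot_vV_vW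
  rw [card_eq_ncard_mul _ vU _ ?_ ?_, h1, ← fix_cons, card_M22_fix fix_HS_eq]
  · intro g hg
    exact ⟨by rw [Co0_sqNorm, sqNorm_vU],
      by rw [dotInt_smul_of_fix (hg.2 _ (by simp)), dot_vV_vU],
      by rw [dotInt_smul_of_fix (hg.2 _ (by simp)), dot_vW_vU]⟩
  · intro x hx
    obtain ⟨g, h3, h4, h5⟩ := h2 vU ⟨sqNorm_vU, dot_vV_vU, dot_vW_vU⟩ x hx
    exact ⟨g, ⟨trivial, by simp [h3, h4]⟩, h5⟩

theorem card_McL {v w : leechLattice} (hv : sqNorm (v : GolayPt → ℤ) = 32)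
    (hw : sqNorm (w : GolayPt → ℤ) = 32) (hvw : dotInt (v : GolayPt → ℤ) w = -8) :
    Nat.card (fix (⊤ : Subgroup Co0) [w, v]) = 898128000 := by
  obtain ⟨g, h1, h2⟩ := exists_smul_pair_McL hv hw hvw
  rw [Nat.card_congr (pairEquiv h1 h2).toEquiv, card_McL_std]

theorem card_HS {v w : leechLattice} (hv : sqNorm (v : GolayPt → ℤ) = 48)
    (hw : sqNorm (w : GolayPt → ℤ) = 48) (hvw : dotInt (v : GolayPt → ℤ) w = -32) :
    Nat.card (fix (⊤ : Subgroup Co0) [w, v]) = 44352000 := by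
  obtain ⟨g, h1, h2⟩ := exists_smul_pair_HS hv hw hvw
  rw [Nat.card_congr (pairEquiv h1 h2).toEquiv, card_HS_std]

/-! ### Simplicity -/

theorem isSimpleGroup_McL_std : IsSimpleGroup (fix (⊤ : Subgroup Co0) [vX, vU]) := by
  have := isSimpleGroup_fix_B2
  have := ((stabEquiv [vX, vU] vU').trans (equivOfEqRange fix_McL_eq)).isSimpleGroup
  have ht := t11_mem fix_McL_eq
  refine isSimpleGroup_of_stabilizer (p := 11) (by norm_num) vU'
    ⟨t11, fix_anti _ (by simp) ht⟩ (by rw [← Subgroup.orderOf_coe]; exact orderOf_t11)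
    (by rw [card_McL_std]; norm_num) (ht.2 _ (by simp)) (fun g h => ?_) ?_
  · exact eq_vU'_of_t11 h ((Co0_sqNorm _ _).trans sqNorm_vU')
      ((dotInt_smul_of_fix (g.2.2 _ (by simp)) _).trans dot_vU_vU')
      ((dotInt_smul_of_fix (g.2.2 _ (by simp)) _).trans dot_vX_vU')
  · rw [index_stab (m := 2025) (by norm_num) card_McL_std (card_M22_fix fix_McL_eq)]
    exact primePow_check 5 11 (by norm_num [Nat.factorial]) (by norm_num) (by norm_num)
      (by decide +kernel)

theorem isSimpleGroup_HS_std : IsSimpleGroup (fix (⊤ : Subgroup Co0) [vW, vV]) := by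
  have := isSimpleGroup_fix_B2
  have := ((stabEquiv [vW, vV] vU).trans (equivOfEqRange fix_HS_eq)).isSimpleGroup
  have ht := t11_mem fix_HS_eq
  refine isSimpleGroup_of_stabilizer (p := 11) (by norm_num) vU
    ⟨t11, fix_anti _ (by simp) ht⟩ (by rw [← Subgroup.orderOf_coe]; exact orderOf_t11)
    (by rw [card_HS_std]; norm_num) (ht.2 _ (by simp)) (fun g h => ?_) ?_
  · exact eq_vU_of_t11 h ((Co0_sqNorm _ _).trans sqNorm_vU)
      ((dotInt_smul_of_fix (g.2.2 _ (by simp)) _).trans dot_vV_vU)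
      ((dotInt_smul_of_fix (g.2.2 _ (by simp)) _).trans dot_vW_vU)
  · rw [index_stab (m := 100) (by norm_num) card_HS_std (card_M22_fix fix_HS_eq)]
    exact primePow_check 5 7 (by norm_num [Nat.factorial]) (by norm_num) (by norm_num)
      (by decide +kernel)

theorem isSimpleGroup_McL {v w : leechLattice} (hv : sqNorm (v : GolayPt → ℤ) = 32)
    (hw : sqNorm (w : GolayPt → ℤ) = 32) (hvw : dotInt (v : GolayPt → ℤ) w = -8) :
    IsSimpleGroup (fix (⊤ : Subgroup Co0) [w, v]) := by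
  obtain ⟨g, h1, h2⟩ := exists_smul_pair_McL hv hw hvw
  have := isSimpleGroup_McL_std
  exact (pairEquiv h1 h2).isSimpleGroup

theorem isSimpleGroup_HS {v w : leechLattice} (hv : sqNorm (v : GolayPt → ℤ) = 48)
    (hw : sqNorm (w : GolayPt → ℤ) = 48) (hvw : dotInt (v : GolayPt → ℤ) w = -32) :
    IsSimpleGroup (fix (⊤ : Subgroup Co0) [w, v]) := by
  obtain ⟨g, h1, h2⟩ := exists_smul_pair_HS hv hw hvw
  have := isSimpleGroup_HS_std
  exact (pairEquiv h1 h2).isSimpleGroup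

theorem isSimpleGroup_Co2_std : IsSimpleGroup (fix (⊤ : Subgroup Co0) [vX]) := by
  have := isSimpleGroup_fix_B1
  have := ((stabEquiv [vX] vV).trans (equivOfEqRange fix_M23_eq')).isSimpleGroup
  have ht := t23_mem fix_M23_eq'
  have hG := card_Co2 sqNorm_vX
  have : Nontrivial (fix (⊤ : Subgroup Co0) [vX]) :=
    Finite.one_lt_card_iff_nontrivial.1 (by rw [hG]; norm_num)
  refine ⟨fun N hN => ?_⟩
  rcases normal_cases (p := 23) (by norm_num) (stabilizer (fix (⊤ : Subgroup Co0) [vX]) vV)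
    ⟨t23, fix_anti _ (by simp) ht⟩ (by rw [← Subgroup.orderOf_coe]; exact orderOf_t23)
    (by rw [hG]; norm_num) (fun g hg => smul_eq_of_conj_mem_zpowers _ g vV (ht.2 _ (by simp))
      (fun h => eq_vV_of_t23 h ((Co0_sqNorm _ _).trans sqNorm_vV)
        ((dotInt_smul_of_fix (g⁻¹.2.2 _ (by simp)) _).trans
          ((dotInt_comm _ _).trans dot_vV_vX))) hg) N with h | ⟨-, h1, h2⟩
  · exact Or.inr h
  left
  rw [index_stab (m := 4147200) (by norm_num) hG (card_M23_fix fix_M23_eq')] at h1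
  -- a copy of `HS`
  obtain ⟨g, hg⟩ := Cfsg.Agent.S0400.result (-vU') vX
    (by rw [NegMemClass.coe_neg, sqNorm_neg, sqNorm_vU']) sqNorm_vX
  have hle : fix (⊤ : Subgroup Co0) [g • vW, g • vV] ≤ fix (⊤ : Subgroup Co0) [vX] := by
    intro x hx
    refine ⟨trivial, fun y hy => ?_⟩
    rw [List.mem_singleton.1 hy, ← hg, ← vV_add_vW, Co0_add, Co0_add, hx.2 _ (by simp),
      hx.2 _ (by simp)]
  set H := (fix (⊤ : Subgroup Co0) [g • vW, g • vV]).subgroupOf (fix (⊤ : Subgroup Co0) [vX])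
  have e : H ≃* fix (⊤ : Subgroup Co0) [vW, vV] :=
    (Subgroup.subgroupOfEquivOfLe hle).trans (pairEquiv rfl rfl).symm
  have := isSimpleGroup_HS_std
  have hH : IsSimpleGroup H := e.isSimpleGroup
  have hcH : Nat.card H = 44352000 := by rw [Nat.card_congr e.toEquiv, card_HS_std]
  have h3 : N ⊓ H = ⊥ := by
    rcases hH.eq_bot_or_eq_top_of_normal (N.subgroupOf H) inferInstance with h | h
    · rwa [Subgroup.subgroupOf_eq_bot, disjoint_iff] at h
    · rw [Subgroup.subgroupOf_eq_top] at h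
      have h4 := (Subgroup.card_dvd_of_le h).trans h1
      rw [hcH] at h4
      norm_num at h4
  have h4 := card_mul_card_dvd N H h3
  rw [hcH, hG, show 42305421312000 = 953856 * 44352000 by norm_num] at h4
  have h5 : Nat.card N ∣ Nat.gcd 4147200 953856 :=
    Nat.dvd_gcd h1 (Nat.dvd_of_mul_dvd_mul_right (by norm_num) h4)
  rw [show Nat.gcd 4147200 953856 = 41472 by norm_num] at h5
  rw [← Subgroup.card_eq_one]
  by_contra hne
  obtain ⟨q, hq, hqd⟩ := Nat.exists_prime_and_dvd hne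
  refine primePow_check (p := 23) 3 16 (by norm_num [Nat.factorial]) (by norm_num) (by norm_num)
    (by decide +kernel) q _ hq (hq.factorization_pos_of_dvd Nat.card_pos.ne' hqd)
    ((Nat.ordProj_dvd _ _).trans h5) (h2 q hq)

theorem isSimpleGroup_Co2 {v : leechLattice} (hv : sqNorm (v : GolayPt → ℤ) = 32) :
    IsSimpleGroup (fix (⊤ : Subgroup Co0) [v]) := by
  obtain ⟨g, h1⟩ := Cfsg.Agent.S0400.result v vX hv sqNorm_vX
  have := isSimpleGroup_Co2_std
  exact (oneEquiv h1).isSimpleGroup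

theorem isSimpleGroup_Co1 : IsSimpleGroup (Co0 ⧸ Subgroup.center Co0) := by
  have := isSimpleGroup_Co2_std
  set f := (QuotientGroup.mk' (Subgroup.center Co0)).comp (fix (⊤ : Subgroup Co0) [vX]).subtype
  have hf : Function.Injective f := mk_injective_of_fix vX_ne_neg
  have e := MonoidHom.ofInjective hf
  have := e.symm.isSimpleGroup
  have ht : t23 ∈ fix (⊤ : Subgroup Co0) [vX] := fix_anti _ (by simp) (t23_mem fix_M23_eq)
  refine isSimpleGroup_of_simple_subgroup (p := 23) (by norm_num) f.range (f ⟨t23, ht⟩)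
    (by rw [orderOf_injective _ hf, ← Subgroup.orderOf_coe]; exact orderOf_t23)
    (by rw [card_Co1]; norm_num) (fun g hg => ?_) ?_
  · obtain ⟨g, rfl⟩ := QuotientGroup.mk'_surjective _ g
    obtain ⟨k, hk⟩ := hg
    have h1 : (t23 ^ k)⁻¹ * (g * t23 * g⁻¹) ∈ Subgroup.center Co0 := by
      rw [← QuotientGroup.eq]
      simpa [f] using hk
    have htk : (t23 ^ k) • vX = vX := (Subgroup.zpow_mem _ ht k).2 _ (by simp)
    have h2 : t23 • g⁻¹ • vX = g⁻¹ • vX := by
      rcases mem_center_iff.1 h1 with h | h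
      · rw [inv_mul_eq_one] at h
        rw [h, mul_smul, mul_smul] at htk
        exact (inv_smul_eq_iff.2 htk.symm).symm
      · exfalso
        rw [inv_mul_eq_iff_eq_mul] at h
        have h3 : (g * t23 * g⁻¹) ^ 23 = 1 := by
          rw [conj_pow, ← orderOf_t23, pow_orderOf_eq_one, mul_one, mul_inv_cancel]
        have hc : Commute (t23 ^ k) negOne :=
          Subgroup.mem_center_iff.1 (mem_center_iff.2 (Or.inr rfl)) _
        have h4 : (t23 ^ k) ^ 23 = 1 := by
          rw [← zpow_natCast, ← zpow_mul, mul_comm, zpow_mul, zpow_natCast, ← orderOf_t23,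
            pow_orderOf_eq_one, one_zpow]
        have h5 : negOne ^ 23 = negOne := by
          rw [show 23 = 2 * 11 + 1 by norm_num, pow_succ, pow_mul, pow_two, negOne_mul_self,
            one_pow, one_mul]
        rw [h, hc.mul_pow, h4, one_mul, h5] at h3
        exact negOne_ne_one h3
    rcases eq_vX_or_of_t23 h2 ((Co0_sqNorm _ _).trans sqNorm_vX) with h | h
    · exact ⟨⟨g, trivial, by simpa using (inv_smul_eq_iff.1 h).symm⟩, rfl⟩
    · refine ⟨⟨g * negOne, trivial, ?_⟩, ?_⟩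
      · simp only [List.mem_singleton, forall_eq]
        rw [mul_smul, negOne_smul]
        exact (inv_smul_eq_iff.1 h).symm
      · change ((g * negOne : Co0) : Co0 ⧸ Subgroup.center Co0) = (g : Co0 ⧸ Subgroup.center Co0)
        exact QuotientGroup.mk_mul_of_mem g (mem_center_iff.2 (Or.inr rfl))
  · have h1 := f.range.card_mul_index
    rw [← Nat.card_congr e.toEquiv, card_Co2 sqNorm_vX, card_Co1] at h1
    have h2 : f.range.index = 98280 := by omega
    rw [h2]
    exact primePow_check 13 17 (by norm_num [Nat.factorial]) (by norm_num) (by norm_num)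
      (by decide +kernel)

end CL.Conway
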