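import Cfsg.Agent.Base
import Cfsg.Agent.Spor.LeechCount
import Cfsg.Agent.S0375

/-!
# Conway's characterisation of the Leech lattice: the coordinate form
-/

set_option autoImplicit false

namespace CL.Leech

open Cfsg Finset
open scoped Pointwise

/-- Uniqueness of the Golay code, on the 24 points. -/
theorem exists_perm_of_code (C : Submodule (ZMod 2) (GolayPt → ZMod 2))
    (hdim : Module.finrank (ZMod 2) C = 12) (horth : ∀ v ∈ C, ∀ w ∈ C, ∑ i, v i * w i = 0)
    (h4 : ∀ w ∈ C, (support₂ w).card % 4 = 0) (hno4 : ∀ w ∈ C, (support₂ w).card ≠ 4) :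
    ∃ e : Equiv.Perm GolayPt, ∀ w ∈ C, (fun p => w (e p)) ∈ golayCode := by
  let φ : Fin 24 ≃ GolayPt := (Fintype.equivFinOfCardEq card_golayPt).symm
  let E := LinearEquiv.funCongrLeft (ZMod 2) (ZMod 2) φ
  have hn : ∀ w : GolayPt → ZMod 2, hammingNorm (E w) = (support₂ w).card := fun w =>
    card_bijective φ φ.bijective (fun i => by rw [mem_filter]; simp [E, support₂])
  obtain ⟨e, he⟩ := Cfsg.Agent.S0375.result (C.map (E : _ →ₗ[ZMod 2] _))
    (by rw [LinearEquiv.finrank_map_eq, hdim])
    (by
      rintro _ ⟨v, hv, rfl⟩ _ ⟨w, hw, rfl⟩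
      rw [← horth v hv w hw]
      exact Equiv.sum_comp φ (fun i => v i * w i))
    (by rintro _ ⟨w, hw, rfl⟩; have := h4 w hw; rw [LinearEquiv.coe_coe, hn]; omega)
    (by rintro _ ⟨w, hw, rfl⟩; rw [LinearEquiv.coe_coe, hn]; exact hno4 w hw)
  refine ⟨e.symm.trans φ, fun w hw => (he _).2 ⟨w, hw, ?_⟩⟩
  funext i; simp [E]

/-- The hypotheses of the characterisation, in coordinates with respect to a frame. -/
structure FrameLat (L : AddSubgroup (GolayPt → ℤ)) : Prop where
  four : ∀ i j, pairVec i j 4 4 ∈ L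
  dvd : ∀ x ∈ L, (16 : ℤ) ∣ sqNorm x
  ne : ∀ x ∈ L, sqNorm x ≠ 16

theorem odd_shape32' {x : GolayPt → ℤ} (h : ∀ i, x i % 2 = 1) (hn : sqNorm x = 32) :
    ∃ j, x = signFun (univ.filter fun i => x i % 4 = 3) (oddVec j) := by
  obtain ⟨S, T, -, h3, h4⟩ := exists_oddNF (y := signFun (univ.filter fun i => x i % 4 = 3) x)
    (fun i => by
      have := h i
      simp only [signFun, mem_filter, mem_univ, true_and]
      split_ifs <;> omega) (by rw [sqNorm_signFun]; omega)
  rw [sqNorm_signFun] at h4
  obtain ⟨j, rfl⟩ := card_eq_one.1 (show S.card = 1 by omega)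
  obtain rfl := card_eq_zero.1 (show T.card = 0 by omega)
  exact ⟨j, by rw [← oddNF_singleton_empty, ← h3, signFun_signFun]⟩

namespace FrameLat

variable {L : AddSubgroup (GolayPt → ℤ)} (hL : FrameLat L)
include hL

theorem dvd_dot {x y : GolayPt → ℤ} (hx : x ∈ L) (hy : y ∈ L) : (8 : ℤ) ∣ dotInt x y := by
  have h1 := hL.dvd x hx
  have h2 := hL.dvd y hy
  have h3 := hL.dvd _ (add_mem hx hy)
  rw [sqNorm_add] at h3
  omega

theorem parity {x : GolayPt → ℤ} (hx : x ∈ L) : (∀ i, x i % 2 = 0) ∨ (∀ i, x i % 2 = 1) := by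
  have : ∀ i, (x i + x none) % 2 = 0 := by
    intro i
    have := hL.dvd_dot hx (hL.four i none)
    rw [pairVec, dotInt_add_right, dotInt_single_right, dotInt_single_right] at this
    omega
  rcases Int.emod_two_eq_zero_or_one (x none) with h | h
  · left; intro i; have := this i; omega
  · right; intro i; have := this i; omega

theorem four_mem {y : GolayPt → ℤ} (hy : (∑ i, y i) % 2 = 0) : (fun i => 4 * y i) ∈ L :=
  four_mul_mem_of_gens L (fun i => hL.four i none) hy

theorem eq_of_agree {x y : GolayPt → ℤ} (hx : x ∈ L) (hy : y ∈ L) (a : GolayPt)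
    (h : ∀ i, i ≠ a → x i = y i) (ha : -4 ≤ x a - y a ∧ x a - y a ≤ 4) : x = y := by
  have h1 : x - y = Pi.single a (x a - y a) := by
    funext i
    by_cases hi : i = a
    · subst hi; simp
    · simp [hi, h i hi]
  have h2 := hL.dvd _ (sub_mem hx hy)
  have h3 := hL.ne _ (sub_mem hx hy)
  rw [h1, sqNorm_single] at h2 h3
  have h4 : x a - y a = 0 := by
    obtain ⟨h5, h6⟩ := ha
    generalize x a - y a = d at *
    interval_cases d <;> simp_all
  rw [← sub_eq_zero, h1, h4, Pi.single_zero]

theorem sum_even {y : GolayPt → ℤ} (hy : (fun i => 4 * y i) ∈ L) : (∑ i, y i) % 2 = 0 := by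
  by_contra h
  have h1 := hL.four_mem (y := y + Pi.single none 1) (by
    simp only [Pi.add_apply, sum_add_distrib, Finset.sum_pi_single', mem_univ, if_true]; omega)
  have := congrFun (hL.eq_of_agree hy h1 none (fun i hi => by simp [hi]) (by simp; omega)) none
  simp at this

omit hL in
/-- The code attached to the lattice. -/
def code (L : AddSubgroup (GolayPt → ℤ)) : Submodule (ZMod 2) (GolayPt → ZMod 2) where
  carrier := {w | ∃ u : GolayPt → ℤ, (fun i => 2 * u i) ∈ L ∧ red u = w}
  add_mem' := by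
    rintro _ _ ⟨u, hu, rfl⟩ ⟨v, hv, rfl⟩
    refine ⟨u + v, ?_, red_add u v⟩
    convert add_mem hu hv using 1
    funext i; simp [mul_add]
  zero_mem' := ⟨0, by convert L.zero_mem using 1; funext i; simp, by funext i; simp [red]⟩
  smul_mem' := by
    rintro a _ ⟨u, hu, rfl⟩
    rcases zmod2_cases a with rfl | rfl
    · exact ⟨0, zero_mem L, by funext i; simp [red]⟩
    · exact ⟨u, hu, by simp⟩

omit hL in
theorem mem_code_of_even {x : GolayPt → ℤ} (hx : x ∈ L) (h : ∀ i, x i % 2 = 0) :
    red (fun i => x i / 2) ∈ code L :=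
  ⟨_, by convert hx using 2 with i; have := h i; omega, rfl⟩

omit hL in
theorem support_of_even {x : GolayPt → ℤ} (h : ∀ i, x i % 2 = 0) :
    support₂ (red fun i => x i / 2) = univ.filter fun i => x i % 4 = 2 := by
  rw [support₂_red]; exact filter_congr fun i _ => by have := h i; omega

theorem code_mod_four {w : GolayPt → ZMod 2} (hw : w ∈ code L) : (support₂ w).card % 4 = 0 := by
  obtain ⟨u, hu, rfl⟩ := hw
  have h1 := hL.dvd _ hu
  have h2 := sum_sq_mod_four u
  have h3 : sqNorm (fun i => 2 * u i) = 4 * ∑ i, u i ^ 2 := by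
    simp only [sqNorm, mul_pow, mul_sum]; norm_num
  rw [support₂_red]; omega

theorem code_ne_four {w : GolayPt → ZMod 2} (hw : w ∈ code L) : (support₂ w).card ≠ 4 := by
  obtain ⟨u, hu, rfl⟩ := hw
  intro h4
  rw [support₂_red] at h4
  set c := univ.filter fun i => u i % 2 = 1 with hc
  obtain ⟨a, ha⟩ : c.Nonempty := card_pos.1 (by omega)
  have key : ∀ s : Finset GolayPt, (∑ i, (2 * u i - signFun s (twoVec c) i) / 4) % 2 = 0 →
      False := by
    intro s hs
    have h1 := sub_mem hu (hL.four_mem hs)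
    apply hL.ne _ h1
    have : ((fun i => 2 * u i) - fun i => 4 * ((2 * u i - signFun s (twoVec c) i) / 4)) =
        signFun s (twoVec c) := by
      funext i
      simp only [Pi.sub_apply, signFun, twoVec, hc, mem_filter, mem_univ, true_and]
      split_ifs <;> omega
    rw [this, sqNorm_signFun, sqNorm_twoVec, h4]; rfl
  by_cases h : (∑ i, (2 * u i - signFun ∅ (twoVec c) i) / 4) % 2 = 0
  · exact key _ h
  · apply key {a}
    have : ∀ i, (2 * u i - signFun {a} (twoVec c) i) / 4 =
        (2 * u i - signFun ∅ (twoVec c) i) / 4 + if i = a then 1 else 0 := by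
      intro i
      by_cases hi : i = a
      · subst hi; simp only [signFun, twoVec, ha, mem_singleton, if_true, notMem_empty, if_false]
        omega
      · simp [signFun, hi]
    simp only [this, sum_add_distrib, sum_ite_eq', mem_univ, if_true]
    omega

theorem code_orth {v w : GolayPt → ZMod 2} (hv : v ∈ code L) (hw : w ∈ code L) :
    ∑ i, v i * w i = 0 := by
  obtain ⟨u, hu, rfl⟩ := hv
  obtain ⟨t, ht, rfl⟩ := hw
  have h1 := hL.dvd_dot hu ht
  have h2 : dotInt (fun i => 2 * u i) (fun i => 2 * t i) = 4 * ∑ i, u i * t i := by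
    simp only [dotInt, mul_sum]; exact sum_congr rfl fun i _ => by ring
  have h3 : ((∑ i, u i * t i : ℤ) : ZMod 2) = 0 :=
    (ZMod.intCast_zmod_eq_zero_iff_dvd _ 2).2 (by push_cast; omega)
  simpa only [Int.cast_sum, Int.cast_mul, red] using h3

theorem finrank_code_le : Module.finrank (ZMod 2) (code L) ≤ 12 := by
  have h1 : code L ≤ dotB.orthogonal (code L) := by
    intro w hw v hv
    show dotB v w = 0
    rw [dotB_apply]; exact hL.code_orth hv hw
  have h2 := Submodule.finrank_mono h1
  rw [LinearMap.BilinForm.finrank_orthogonal dotB_nondeg, Module.finrank_fintype_fun_eq_card,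
    card_golayPt] at h2
  omega

theorem card_octads_le (O : Finset (Finset GolayPt))
    (hO : ∀ c ∈ O, ind c ∈ code L ∧ c.card = 8) : O.card ≤ 759 := by
  have h1 : (O.biUnion fun c => powersetCard 5 c).card = ∑ c ∈ O, (powersetCard 5 c).card := by
    apply card_biUnion
    intro c hc d hd hcd
    rw [Function.onFun, disjoint_left]
    intro s hs ht
    rw [mem_powersetCard] at hs ht
    have h2 : s.card ≤ (c ∩ d).card := card_le_card (subset_inter hs.1 ht.1)
    have h3 := card_symmDiff_add c d
    have h4 : ind (symmDiff c d) ∈ code L := by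
      rw [ind_symmDiff]; exact add_mem (hO c hc).1 (hO d hd).1
    have h5 := hL.code_mod_four h4
    have h6 := hL.code_ne_four h4
    rw [support₂_ind] at h5 h6
    have := (hO c hc).2; have := (hO d hd).2
    exact hcd (symmDiff_eq_bot.1 (card_eq_zero.1 (by omega)))
  have h2 : (O.biUnion fun c => powersetCard 5 c) ⊆ powersetCard 5 univ := by
    intro s hs
    obtain ⟨c, -, hc⟩ := mem_biUnion.1 hs
    exact mem_powersetCard.2 ⟨subset_univ _, (mem_powersetCard.1 hc).2⟩
  have h3 := card_le_card h2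
  rw [h1, card_powersetCard, card_univ, card_golayPt,
    sum_congr rfl (g := fun _ => 56) fun c hc => by rw [card_powersetCard, (hO c hc).2]; rfl,
    sum_const, smul_eq_mul, show Nat.choose 24 5 = 42504 by decide +kernel] at h3
  omega

theorem card_A_le (A : Finset (GolayPt → ℤ))
    (hA : ∀ x ∈ A, x ∈ L ∧ sqNorm x = 32 ∧ ∀ i, x i % 4 = 0) : A.card ≤ 1104 := by
  have h1 := ncard_norm_eq_digit {0, 4, -4} (2 ^ 100) (by decide +kernel) 32
  have h2 : {x : GolayPt → ℤ | x ∈ leechLattice ∧ sqNorm x = (32 : ℕ) ∧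
      ∀ i, x i ∈ ({0, 4, -4} : Finset ℤ)}.ncard = 1104 := h1.trans (by decide +kernel)
  rw [← h2, ← Set.ncard_coe_finset]
  apply Set.ncard_le_ncard _ ((finite_sqNorm_eq 32).subset fun x hx => ⟨hx.1, hx.2.1⟩)
  intro x hx
  obtain ⟨h3, h4, h5⟩ := hA x hx
  have h6 : (fun i => 4 * (x i / 4)) = x := funext fun i => by have := h5 i; omega
  refine ⟨h6 ▸ four_mul_mem (hL.sum_even (h6.symm ▸ h3)), h4, fun i => ?_⟩
  have := abs_le_of_sqNorm_le (x := x) (B := 5) (by norm_num) (by omega) i
  have := h5 i
  simp only [mem_insert, mem_singleton]; omega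

theorem card_B_le (B : Finset (GolayPt → ℤ))
    (hB : ∀ x ∈ B, x ∈ L ∧ sqNorm x = 32 ∧ (∀ i, x i % 2 = 0) ∧ ¬ ∀ i, x i % 4 = 0) :
    B.card ≤ 128 * 759 := by
  have hsh : ∀ x ∈ B, (univ.filter fun i => x i % 4 = 2).card = 8 ∧
      ∀ i, x i = 0 ∨ x i = 2 ∨ x i = -2 := by
    intro x hx
    obtain ⟨h1, h2, h3, h4⟩ := hB x hx
    have h5 := sqNorm_even h3 (by omega)
    have h6 := hL.code_mod_four (mem_code_of_even h1 h3)
    have h7 := hL.code_ne_four (mem_code_of_even h1 h3)
    rw [support_of_even h3] at h6 h7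
    have h8 : (univ.filter fun i => x i % 4 = 2).card ≠ 0 := by
      intro h; apply h4; intro i
      have h9 : ¬ x i % 4 = 2 := by simpa using (filter_eq_empty_iff.1 (card_eq_zero.1 h)) (mem_univ i)
      have := h3 i; omega
    refine ⟨by omega, fun i => ?_⟩
    have h9 : (univ.filter fun i => x i = 4 ∨ x i = -4) = ∅ := card_eq_zero.1 (by omega)
    have h10 : ¬ (x i = 4 ∨ x i = -4) := by simpa using (filter_eq_empty_iff.1 h9) (mem_univ i)
    have := abs_le_of_sqNorm_le (x := x) (B := 5) (by norm_num) (by omega) i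
    have := h3 i
    omega
  have h1 := card_le_mul_card_image (f := fun x => univ.filter fun i => x i % 4 = 2) B 128 (by
    intro c hc
    obtain ⟨x0, hx0, hc0⟩ := mem_image.1 hc
    have h8 : c.card = 8 := hc0 ▸ (hsh x0 hx0).1
    obtain ⟨a, ha⟩ : c.Nonempty := card_pos.1 (by omega)
    have : ((c.erase a).powerset).card = 128 := by rw [card_powerset, card_erase_of_mem ha, h8]; rfl
    rw [← this]
    apply card_le_card_of_injOn (fun x => (c.erase a).filter fun i => x i = -2)
    · intro x _; exact mem_coe.2 (mem_powerset.2 (filter_subset _ _))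
    · intro x hx y hy hxy
      obtain ⟨hx1, hx2⟩ := mem_filter.1 hx
      obtain ⟨hy1, hy2⟩ := mem_filter.1 hy
      apply hL.eq_of_agree (hB x hx1).1 (hB y hy1).1 a
      · intro i hi
        have h2 : x i % 4 = 2 ↔ i ∈ c := by rw [← hx2]; simp
        have h3 : y i % 4 = 2 ↔ i ∈ c := by rw [← hy2]; simp
        have h4 : (i ∈ c ∧ x i = -2) ↔ (i ∈ c ∧ y i = -2) := by
          simpa [hi] using congrArg (i ∈ ·) hxy
        have := (hsh x hx1).2 i; have := (hsh y hy1).2 i
        by_cases hic : i ∈ c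
        · simp only [hic, iff_true, true_and] at h2 h3 h4; omega
        · simp only [hic, iff_false] at h2 h3; omega
      · have := (hsh x hx1).2 a; have := (hsh y hy1).2 a; omega)
  have h2 := hL.card_octads_le (B.image fun x => univ.filter fun i => x i % 4 = 2) (by
    intro c hc
    obtain ⟨x, hx, rfl⟩ := mem_image.1 hc
    refine ⟨?_, (hsh x hx).1⟩
    rw [← support_of_even (hB x hx).2.2.1, ind_support₂]
    exact mem_code_of_even (hB x hx).1 (hB x hx).2.2.1)
  omega

omit hL in
theorem card_C_le (C : Finset (GolayPt → ℤ))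
    (hC : ∀ x ∈ C, x ∈ L ∧ sqNorm x = 32 ∧ ∀ i, x i % 2 = 1) :
    C.card ≤ 24 * Nat.card (code L) := by
  rcases C.eq_empty_or_nonempty with rfl | ⟨x0, hx0⟩
  · simp
  choose! j hj using fun x (hx : x ∈ C) => odd_shape32' (hC x hx).2.2 (hC x hx).2.1
  have he : ∀ x ∈ C, ∀ i, (x - x0) i % 2 = 0 := fun x hx i => by
    have := (hC x hx).2.2 i; have := (hC x0 hx0).2.2 i; simp only [Pi.sub_apply]; omega
  let f : C → GolayPt × code L := fun x =>
    (j x, ⟨_, mem_code_of_even (sub_mem (hC x x.2).1 (hC x0 hx0).1) (he x x.2)⟩)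
  have hf : Function.Injective f := by
    rintro ⟨x, hx⟩ ⟨y, hy⟩ h
    have h1 : j x = j y := congrArg Prod.fst h
    have h2 := congrArg (fun p : GolayPt × code L => support₂ (p.2 : GolayPt → ZMod 2)) h
    simp only [f] at h2
    rw [support_of_even (he x hx), support_of_even (he y hy)] at h2
    apply Subtype.ext
    show x = y
    rw [hj x hx, hj y hy, h1]
    congr 1
    ext i
    have h3 : (x i - x0 i) % 4 = 2 ↔ (y i - x0 i) % 4 = 2 := by simpa using congrArg (i ∈ ·) h2
    have := (hC x hx).2.2 i; have := (hC y hy).2.2 i; have := (hC x0 hx0).2.2 i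
    simp only [mem_filter, mem_univ, true_and]
    omega
  have := Nat.card_le_card_of_injective f hf
  rwa [Nat.card_prod, Nat.card_eq_fintype_card, Nat.card_eq_fintype_card (α := GolayPt),
    card_golayPt, Fintype.card_coe] at this

theorem exists_odd_and_finrank (hc : {x | x ∈ L ∧ sqNorm x = 32}.ncard = 196560) :
    (∃ x ∈ L, sqNorm x = 32 ∧ ∀ i, x i % 2 = 1) ∧ Module.finrank (ZMod 2) (code L) = 12 := by
  have hfin : {x | x ∈ L ∧ sqNorm x = 32}.Finite := Set.finite_of_ncard_ne_zero (by omega)
  rw [Set.ncard_eq_toFinset_card _ hfin] at hc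
  set M := hfin.toFinset with hM
  have hm : ∀ x, x ∈ M ↔ x ∈ L ∧ sqNorm x = 32 := fun x => by simp [hM]
  have h1 := card_filter_add_card_filter_not (s := M) (fun x => ∀ i, x i % 2 = 1)
  have h2 := card_filter_add_card_filter_not (s := M.filter fun x => ¬ ∀ i, x i % 2 = 1)
    (fun x => ∀ i, x i % 4 = 0)
  have hA := hL.card_A_le ((M.filter fun x => ¬ ∀ i, x i % 2 = 1).filter fun x => ∀ i, x i % 4 = 0)
    (fun x hx => by
      simp only [mem_filter, hm] at hx
      exact ⟨hx.1.1.1, hx.1.1.2, hx.2⟩)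
  have hB := hL.card_B_le
    ((M.filter fun x => ¬ ∀ i, x i % 2 = 1).filter fun x => ¬ ∀ i, x i % 4 = 0)
    (fun x hx => by
      simp only [mem_filter, hm] at hx
      exact ⟨hx.1.1.1, hx.1.1.2, (hL.parity hx.1.1.1).resolve_right hx.1.2, hx.2⟩)
  have hC := card_C_le (L := L) (M.filter fun x => ∀ i, x i % 2 = 1) (fun x hx => by
    simp only [mem_filter, hm] at hx
    exact ⟨hx.1.1, hx.1.2, hx.2⟩)
  constructor
  · obtain ⟨x, hx⟩ : (M.filter fun x => ∀ i, x i % 2 = 1).Nonempty := card_pos.1 (by omega)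
    simp only [mem_filter, hm] at hx
    exact ⟨x, hx.1.1, hx.1.2, hx.2⟩
  · apply le_antisymm hL.finrank_code_le
    rw [Module.natCard_eq_pow_finrank (K := ZMod 2), Nat.card_zmod] at hC
    exact (Nat.pow_le_pow_iff_right (a := 2) (by norm_num)).1 (by omega)

/-- A frame lattice with `196560` minimal vectors is the Leech lattice up to a signed permutation of
the coordinates. -/
theorem exists_signedPerm (hc : {x | x ∈ L ∧ sqNorm x = 32}.ncard = 196560) :
    ∃ T : (GolayPt → ℤ) ≃+ (GolayPt → ℤ), (∀ x, sqNorm (T x) = sqNorm x) ∧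
      L.map T.toAddMonoidHom = leechLattice := by
  obtain ⟨⟨x0, hx0, hn0, ho0⟩, hdim⟩ := hL.exists_odd_and_finrank hc
  obtain ⟨e, he⟩ := exists_perm_of_code (code L) hdim (fun _ hv _ hw => hL.code_orth hv hw)
    (fun _ => hL.code_mod_four) (fun _ => hL.code_ne_four)
  obtain ⟨j, hj⟩ := odd_shape32' ho0 hn0
  set s := univ.filter fun i => x0 i % 4 = 3
  let T : (GolayPt → ℤ) ≃+ (GolayPt → ℤ) :=
    { toFun := fun x p => signFun s x (e p)
      invFun := fun y => signFun s fun i => y (e.symm i)
      left_inv := fun x => by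
        simp only [Equiv.apply_symm_apply]; exact signFun_signFun s x
      right_inv := fun y => by funext p; simp only [signFun_signFun]; simp
      map_add' := fun x y => by funext p; simp only [signFun, Pi.add_apply]; split_ifs <;> ring }
  have hT : ∀ x p, T x p = signFun s x (e p) := fun _ _ => rfl
  have hn : ∀ x, sqNorm (T x) = sqNorm x := fun x =>
    (Equiv.sum_comp e (fun i => signFun s x i ^ 2)).trans (sqNorm_signFun s x)
  have heven : ∀ x ∈ L, (∀ i, x i % 2 = 0) → T x ∈ leechLattice := by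
    intro x hx h
    have h1 : ∀ i, signFun s x i % 2 = 0 := fun i => by
      have := h i; unfold signFun; split_ifs <;> omega
    rw [mem_iff_of_even (x := T x) (fun p => h1 _)]
    constructor
    · have := support₂_mem_codeSets.2 (he _ (mem_code_of_even hx h))
      convert this using 1
      ext p
      rw [mem_support₂, red_eq_one_iff, mem_filter, hT]
      have := h (e p)
      simp only [signFun, mem_univ, true_and]
      split_ifs <;> omega
    · have h2 := hL.dvd_dot hx hx0
      have h3 : dotInt x x0 = ∑ i, signFun s x i - 4 * signFun s x j := by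
        rw [hj]
        have : ∀ i, x i * signFun s (oddVec j) i =
            signFun s x i - if i = j then 4 * signFun s x j else 0 := by
          intro i
          by_cases hi : i = j
          · subst hi; simp only [signFun, oddVec, if_true]; split_ifs <;> ring
          · simp only [signFun, oddVec, hi, if_false]; split_ifs <;> ring
        simp only [dotInt, this, sum_sub_distrib, sum_ite_eq', mem_univ, if_true]
      have h4 : ∑ p, T x p = ∑ i, signFun s x i := Equiv.sum_comp e (signFun s x)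
      have := h1 j
      omega
  have hx0' : T x0 ∈ leechLattice := by
    convert oddVec_mem (e.symm j) using 1
    funext p
    rw [hT, hj, signFun_signFun]
    simp only [oddVec, Equiv.eq_symm_apply]
  have hle : L.map T.toAddMonoidHom ≤ leechLattice := by
    rintro _ ⟨x, hx, rfl⟩
    rcases hL.parity hx with h | h
    · exact heven x hx h
    · have := add_mem (heven _ (sub_mem hx hx0) fun i => by
        have := h i; have := ho0 i; simp only [Pi.sub_apply]; omega) hx0'
      rwa [← map_add, sub_add_cancel] at this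
  refine ⟨T, hn, le_antisymm hle (leech_le_of_min _ fun y hy h32 => ?_)⟩
  have : T '' {x | x ∈ L ∧ sqNorm x = 32} = {x | x ∈ leechLattice ∧ sqNorm x = 32} := by
    apply Set.eq_of_subset_of_ncard_le _ _ (finite_sqNorm_eq 32)
    · rintro _ ⟨x, hx, rfl⟩
      exact ⟨hle ⟨x, hx.1, rfl⟩, (hn x).trans hx.2⟩
    · rw [Set.ncard_image_of_injective _ T.injective, hc, ncard_norm32]
  obtain ⟨x, hx, rfl⟩ : y ∈ T '' {x | x ∈ L ∧ sqNorm x = 32} := this ▸ ⟨hy, h32⟩
  exact ⟨x, hx.1, rfl⟩

end FrameLat

end CL.Leech
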