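import Cfsg.Agent.Base
import Cfsg.Agent.Spor.SteinerWitt
import Cfsg.Agent.Auto.ACL_Steiner_f22_28ec33

/-! The strongly regular graphs attached to a Steiner system S(3,6,22). -/

set_option autoImplicit false

namespace CL.Steiner

open Finset Cfsg

section counts

variable {α : Type*} [Fintype α] [DecidableEq α] {B : Set (Finset α)}

omit [Fintype α] in
theorem disjoint_iff_card_inter (b d : Finset α) : Disjoint b d ↔ (d ∩ b).card = 0 := by
  rw [disjoint_comm, Finset.disjoint_iff_inter_eq_empty, card_eq_zero]

theorem card_blk22 (hα : Fintype.card α = 22) (hB : IsSteinerSystem 3 6 B) :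
    (blk B).card = 77 := by
  have := lam22 hα hB ∅ (by simp)
  rw [lam_empty, card_empty, f22] at this
  exact_mod_cast this

theorem lam22_one (hα : Fintype.card α = 22) (hB : IsSteinerSystem 3 6 B) (x : α) :
    lam B {x} = 21 := by
  have := lam22 hα hB {x} (by simp)
  rw [card_singleton, f22] at this
  exact_mod_cast this

theorem lam22_two (hα : Fintype.card α = 22) (hB : IsSteinerSystem 3 6 B) {x y : α} (h : x ≠ y) :
    lam B {x, y} = 5 := by
  have := lam22 hα hB {x, y} (by rw [card_pair h]; norm_num)
  rw [card_pair h, f22] at this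
  exact_mod_cast this

theorem disjoint_count22 (hα : Fintype.card α = 22) (hB : IsSteinerSystem 3 6 B) {b : Finset α}
    (hb : b ∈ B) : ((blk B).filter fun c => Disjoint b c).card = 16 := by
  have h := card_inter_eq_tri B b f22 (lam22_block hα hB hb) (s := ∅) (empty_subset _)
  rw [hB.1 b hb, card_empty, show tri f22 (6 - 0) 0 = 16 by decide] at h
  simp only [Finset.disjoint_iff_inter_eq_empty]
  exact_mod_cast h

theorem point_disjoint_count22 (hα : Fintype.card α = 22) (hB : IsSteinerSystem 3 6 B)
    {b : Finset α} (hb : b ∈ B) {p : α} (hp : p ∉ b) :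
    ((blk B).filter fun c => p ∈ c ∧ Disjoint b c).card = 6 := by
  have h1 := sum_card_inter B {p} b
  rw [Finset.sum_congr (s₁ := b) rfl (g := fun _ => 5) (fun x hx => lam22_two hα hB (by
    rintro rfl; exact hp hx)), sum_const, hB.1 b hb] at h1
  have h2 : ∑ d ∈ (blk B).filter (fun d => {p} ⊆ d), ((d ∩ b).card +
      if Disjoint b d then 2 else 0) = ∑ d ∈ (blk B).filter (fun d => {p} ⊆ d), 2 := by
    refine Finset.sum_congr rfl fun d hd => ?_
    rw [mem_filter, mem_blk, singleton_subset_iff] at hd
    have hdb : d ≠ b := by rintro rfl; exact hp hd.2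
    simp only [disjoint_iff_card_inter b d]
    rcases inter22 hα hB hd.1 hb hdb with h | h <;> simp [h]
  rw [sum_add_distrib, h1, sum_const, ← Finset.sum_filter, sum_const, filter_filter] at h2
  have h3 := lam22_one hα hB p
  unfold lam at h3
  rw [h3] at h2
  simp only [smul_eq_mul, singleton_subset_iff] at h2
  omega

theorem common_disjoint_count22 (hα : Fintype.card α = 22) (hB : IsSteinerSystem 3 6 B)
    {b c : Finset α} (hb : b ∈ B) (hc : c ∈ B) (hbc : b ≠ c) :
    ((blk B).filter fun d => Disjoint b d ∧ Disjoint c d).card = 2 * (b ∩ c).card := by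
  have hs : ∀ u ∈ B, ∑ d ∈ blk B, (d ∩ u).card = 126 := by
    intro u hu
    have h1 := sum_card_inter B ∅ u
    simp only [empty_subset, filter_true, insert_empty_eq, lam22_one hα hB, sum_const,
      hB.1 u hu] at h1
    exact h1
  have hm := sum_card_inter_mul B b c
  have h2 : ∑ x ∈ b, ∑ y ∈ c, lam B {y, x} = 180 + 16 * (b ∩ c).card := by
    have : ∀ x ∈ b, ∑ y ∈ c, lam B {y, x} = 30 + if x ∈ c then 16 else 0 := by
      intro x _
      have : ∀ y ∈ c, lam B {y, x} = 5 + if y = x then 16 else 0 := by
        intro y _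
        split_ifs with h
        · subst h; simp [lam22_one hα hB]
        · simp [lam22_two hα hB h]
      rw [Finset.sum_congr rfl this, sum_add_distrib, sum_const, hB.1 c hc, sum_ite_eq']
      rfl
    rw [Finset.sum_congr rfl this, sum_add_distrib, sum_const, hB.1 b hb, ← Finset.sum_filter,
      sum_const, filter_mem_eq_inter]
    simp [mul_comm]
  have h3 : ∑ d ∈ blk B, ((2 - ((d ∩ b).card : ℤ)) * (2 - ((d ∩ c).card : ℤ))) =
      ∑ d ∈ blk B, ((if d = b then -4 * (2 - ((b ∩ c).card : ℤ)) else 0) +
        (if d = c then -4 * (2 - ((b ∩ c).card : ℤ)) else 0) +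
        (if Disjoint b d ∧ Disjoint c d then 4 else 0)) := by
    refine Finset.sum_congr rfl fun d hd => ?_
    rw [mem_blk] at hd
    simp only [disjoint_iff_card_inter b d, disjoint_iff_card_inter c d]
    by_cases hdb : d = b
    · subst hdb
      simp [hbc, hB.1 d hb]
    · by_cases hdc : d = c
      · subst hdc
        simp [hdb, hB.1 d hc, inter_comm d b]
        ring
      · rcases inter22 hα hB hd hb hdb with h | h <;>
        rcases inter22 hα hB hd hc hdc with h' | h' <;> simp [h, h', hdb, hdc]
  rw [sum_add_distrib, sum_add_distrib, sum_ite_eq', sum_ite_eq', if_pos (mem_blk.2 hb),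
    if_pos (mem_blk.2 hc), ← Finset.sum_filter, sum_const] at h3
  have h4 : ∑ d ∈ blk B, ((2 - ((d ∩ b).card : ℤ)) * (2 - ((d ∩ c).card : ℤ))) =
      4 * ((blk B).card : ℤ) - 2 * ((∑ d ∈ blk B, (d ∩ b).card : ℕ) : ℤ)
        - 2 * ((∑ d ∈ blk B, (d ∩ c).card : ℕ) : ℤ)
        + ((∑ d ∈ blk B, (d ∩ b).card * (d ∩ c).card : ℕ) : ℤ) := by
    push_cast
    rw [mul_sum, mul_sum, card_eq_sum_ones]
    push_cast
    rw [mul_sum, ← sum_sub_distrib, ← sum_sub_distrib, ← sum_add_distrib]
    exact Finset.sum_congr rfl fun d _ => by ring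
  rw [h4, hs b hb, hs c hc, hm, h2, card_blk22 hα hB] at h3
  simp only [nsmul_eq_mul] at h3
  push_cast at h3
  omega

end counts

theorem card_commonNeighbors {V : Type*} [Fintype V] (G : SimpleGraph V) [DecidableRel G.Adj]
    (v w : V) : Fintype.card (G.commonNeighbors v w) =
      (univ.filter fun u => G.Adj v u ∧ G.Adj w u).card := by
  rw [Fintype.card_subtype]
  congr 1

theorem degree_eq_card_filter {V : Type*} [Fintype V] (G : SimpleGraph V) [DecidableRel G.Adj]
    (v : V) : G.degree v = (univ.filter fun u => G.Adj v u).card := by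
  rw [← SimpleGraph.card_neighborFinset_eq_degree, SimpleGraph.neighborFinset_eq_filter]

theorem card_filter_blocks {α : Type*} [Fintype α] (B : Set (Finset α)) [Fintype B]
    (P : Finset α → Prop) [DecidablePred P] (Q : B → Prop) [DecidablePred Q]
    (h : ∀ b : B, Q b ↔ P b) :
    (univ.filter Q).card = ((blk B).filter P).card := by
  refine Finset.card_bij (fun b _ => (b : Finset α)) ?_ ?_ ?_
  · intro b hb
    rw [mem_filter] at hb ⊢
    exact ⟨mem_blk.2 b.2, (h b).1 hb.2⟩
  · intro b _ c _ hbc
    exact Subtype.ext hbc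
  · intro c hc
    rw [mem_filter, mem_blk] at hc
    exact ⟨⟨c, hc.1⟩, by simp [h, hc.2], rfl⟩

theorem card_filter_option_sum {α β : Type*} [Fintype α] [Fintype β]
    (P : Option (α ⊕ β) → Prop) [DecidablePred P] :
    (univ.filter P).card = (if P none then 1 else 0) +
      (univ.filter fun a => P (some (Sum.inl a))).card +
      (univ.filter fun b => P (some (Sum.inr b))).card := by
  simp only [card_filter]
  rw [Fintype.sum_option, Fintype.sum_sum_type, add_assoc]

theorem blockGraph_adj {α : Type*} {B : Set (Finset α)} (h : ∀ b ∈ B, b.Nonempty) (b c : B) :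
    (blockGraph B).Adj b c ↔ Disjoint (b : Finset α) (c : Finset α) := by
  rw [blockGraph, SimpleGraph.fromRel_adj, disjoint_comm (a := (c : Finset α)), or_self]
  refine ⟨fun h => h.2, fun hd => ⟨?_, hd⟩⟩
  rintro rfl
  exact (h b b.2).ne_empty (disjoint_self.1 hd)

theorem nonempty_of_steiner {α : Type*} {B : Set (Finset α)} {t k : ℕ}
    (hB : IsSteinerSystem t (k + 1) B) : ∀ b ∈ B, b.Nonempty := fun b hb => by
  rw [← card_pos, hB.1 b hb]; omega

section pbg

variable {α : Type*} {B : Set (Finset α)}

theorem pbg_none_none : ¬ (pointBlockGraph B).Adj none none := by simp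

theorem pbg_none_pt (a : α) : (pointBlockGraph B).Adj none (some (Sum.inl a)) := by
  simp [pointBlockGraph, pointBlockRel]

theorem pbg_pt_none (a : α) : (pointBlockGraph B).Adj (some (Sum.inl a)) none :=
  (pbg_none_pt a).symm

theorem pbg_none_blk (b : B) : ¬ (pointBlockGraph B).Adj none (some (Sum.inr b)) := by
  simp [pointBlockGraph, pointBlockRel]

theorem pbg_blk_none (b : B) : ¬ (pointBlockGraph B).Adj (some (Sum.inr b)) none :=
  fun h => pbg_none_blk b h.symm

theorem pbg_pt_pt (a a' : α) : ¬ (pointBlockGraph B).Adj (some (Sum.inl a)) (some (Sum.inl a')) := by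
  simp [pointBlockGraph, pointBlockRel]

theorem pbg_pt_blk (a : α) (b : B) :
    (pointBlockGraph B).Adj (some (Sum.inl a)) (some (Sum.inr b)) ↔ a ∈ (b : Finset α) := by
  simp [pointBlockGraph, pointBlockRel]

theorem pbg_blk_pt (a : α) (b : B) :
    (pointBlockGraph B).Adj (some (Sum.inr b)) (some (Sum.inl a)) ↔ a ∈ (b : Finset α) := by
  rw [SimpleGraph.adj_comm, pbg_pt_blk]

theorem pbg_blk_blk (h : ∀ b ∈ B, b.Nonempty) (b c : B) :
    (pointBlockGraph B).Adj (some (Sum.inr b)) (some (Sum.inr c)) ↔
      Disjoint (b : Finset α) (c : Finset α) := by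
  rw [← blockGraph_adj h]
  simp [pointBlockGraph, pointBlockRel, blockGraph]

end pbg

theorem blockGraph_srg {α : Type*} [Fintype α] (hα : Fintype.card α = 22) {B : Set (Finset α)}
    (hB : IsSteinerSystem 3 6 B) [Fintype B] [DecidableRel (blockGraph B).Adj] :
    (blockGraph B).IsSRGWith 77 16 0 4 := by
  classical
  have hne := nonempty_of_steiner hB
  have hcommon : ∀ b c : B, b ≠ c → Fintype.card ((blockGraph B).commonNeighbors b c) =
      2 * ((b : Finset α) ∩ c).card := by
    intro b c hbc
    rw [card_commonNeighbors, ← common_disjoint_count22 hα hB b.2 c.2 (Subtype.coe_ne_coe.2 hbc)]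
    exact card_filter_blocks B _ _ fun d => by rw [blockGraph_adj hne, blockGraph_adj hne]
  refine ⟨?_, fun b => ?_, fun b c h => ?_, fun b c hbc h => ?_⟩
  · rw [← card_blk22 hα hB, ← card_univ, ← filter_true univ, ← filter_true (blk B)]
    exact card_filter_blocks B _ _ fun _ => Iff.rfl
  · rw [degree_eq_card_filter, ← disjoint_count22 hα hB b.2]
    exact card_filter_blocks B _ _ fun d => blockGraph_adj hne _ _
  · rw [hcommon b c h.ne, Finset.disjoint_iff_inter_eq_empty.1 ((blockGraph_adj hne _ _).1 h)]
    rfl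
  · rw [hcommon b c hbc]
    rcases inter22 hα hB b.2 c.2 (Subtype.coe_ne_coe.2 hbc) with h' | h'
    · exact absurd ((blockGraph_adj hne _ _).2
        (Finset.disjoint_iff_inter_eq_empty.2 (card_eq_zero.1 h'))) h
    · rw [h']

theorem pointBlockGraph_srg {α : Type*} [Fintype α] (hα : Fintype.card α = 22)
    {B : Set (Finset α)} (hB : IsSteinerSystem 3 6 B) [Fintype B]
    [DecidableRel (pointBlockGraph B).Adj] : (pointBlockGraph B).IsSRGWith 100 22 0 6 := by
  classical
  have hne := nonempty_of_steiner hB
  have hcard : Fintype.card B = 77 := (blockGraph_srg hα hB).card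
  have hpb : ∀ (a : α) (b : B), Fintype.card ((pointBlockGraph B).commonNeighbors
      (some (Sum.inl a)) (some (Sum.inr b))) = if a ∈ (b : Finset α) then 0 else 6 := by
    intro a b
    rw [card_commonNeighbors, card_filter_option_sum]
    simp only [pbg_blk_none, and_false, if_false, pbg_pt_pt, false_and, filter_false, card_empty,
      zero_add, pbg_pt_blk, pbg_blk_blk hne]
    split_ifs with h
    · rw [card_eq_zero, filter_eq_empty_iff]
      exact fun c _ hc => Finset.disjoint_left.1 hc.2 h hc.1
    · rw [← point_disjoint_count22 hα hB b.2 h]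
      exact card_filter_blocks B _ _ fun _ => Iff.rfl
  have hbb : ∀ b c : B, b ≠ c → Fintype.card ((pointBlockGraph B).commonNeighbors
      (some (Sum.inr b)) (some (Sum.inr c))) = 3 * ((b : Finset α) ∩ c).card := by
    intro b c hbc
    rw [card_commonNeighbors, card_filter_option_sum]
    simp only [pbg_blk_none, and_false, if_false, zero_add, pbg_blk_pt, pbg_blk_blk hne]
    rw [card_filter_blocks B (fun d => Disjoint (b : Finset α) d ∧ Disjoint (c : Finset α) d) _
      fun _ => Iff.rfl, common_disjoint_count22 hα hB b.2 c.2 (Subtype.coe_ne_coe.2 hbc)]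
    have : (univ.filter fun a => a ∈ (b : Finset α) ∧ a ∈ (c : Finset α)) = (b : Finset α) ∩ c := by
      ext a; simp
    rw [this]; ring
  have hnp : ∀ a : α, Fintype.card ((pointBlockGraph B).commonNeighbors
      none (some (Sum.inl a))) = 0 := by
    intro a
    rw [card_commonNeighbors, card_filter_option_sum]
    simp [pbg_pt_pt, pbg_none_blk]
  have hnb : ∀ b : B, Fintype.card ((pointBlockGraph B).commonNeighbors
      none (some (Sum.inr b))) = 6 := by
    intro b
    rw [card_commonNeighbors, card_filter_option_sum]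
    simp [pbg_none_pt, pbg_none_blk, pbg_blk_pt, hB.1 b b.2]
  have hsymm : ∀ v w, Fintype.card ((pointBlockGraph B).commonNeighbors v w) =
      Fintype.card ((pointBlockGraph B).commonNeighbors w v) := by
    intro v w
    rw [card_commonNeighbors, card_commonNeighbors]
    simp only [and_comm]
  refine ⟨?_, fun v => ?_, fun v w h => ?_, fun v w hvw h => ?_⟩
  · simp [hα, hcard]
  · rw [degree_eq_card_filter, card_filter_option_sum]
    rcases v with _ | a | b
    · simp [pbg_none_pt, pbg_none_blk, hα]
    · simp only [pbg_pt_none, if_true, pbg_pt_pt, filter_false, card_empty, pbg_pt_blk]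
      rw [card_filter_blocks B (fun d => {a} ⊆ d) _ fun _ => singleton_subset_iff.symm]
      have := lam22_one hα hB a
      unfold lam at this
      rw [this]
    · simp only [pbg_blk_none, if_false, pbg_blk_pt, pbg_blk_blk hne]
      rw [card_filter_blocks B (fun d => Disjoint (b : Finset α) d) _ fun _ => Iff.rfl,
        disjoint_count22 hα hB b.2]
      simp [hB.1 b b.2]
  · rcases v with _ | a | b <;> rcases w with _ | a' | b'
    · exact absurd h pbg_none_none
    · exact hnp _
    · exact absurd h (pbg_none_blk _)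
    · rw [hsymm]; exact hnp _
    · exact absurd h (pbg_pt_pt _ _)
    · rw [hpb, if_pos ((pbg_pt_blk _ _).1 h)]
    · exact absurd h (pbg_blk_none _)
    · rw [hsymm, hpb, if_pos ((pbg_blk_pt _ _).1 h)]
    · rw [hbb _ _ (fun h' => h.ne (by rw [h'])),
        Finset.disjoint_iff_inter_eq_empty.1 ((pbg_blk_blk hne _ _).1 h)]
      rfl
  · rcases v with _ | a | b <;> rcases w with _ | a' | b'
    · exact absurd rfl hvw
    · exact absurd (pbg_none_pt _) h
    · exact hnb _
    · exact absurd (pbg_pt_none _) h
    · rw [card_commonNeighbors, card_filter_option_sum]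
      simp only [pbg_pt_none, and_self, if_true, pbg_pt_pt, filter_false, card_empty, pbg_pt_blk]
      have hne' : a ≠ a' := fun h' => hvw (by rw [h'])
      rw [card_filter_blocks B (fun d => {a, a'} ⊆ d) _ fun _ => by
        rw [insert_subset_iff, singleton_subset_iff]]
      have := lam22_two hα hB hne'
      unfold lam at this
      rw [this]
    · rw [hpb, if_neg fun h' => h ((pbg_pt_blk _ _).2 h')]
    · rw [hsymm]; exact hnb _
    · rw [hsymm, hpb, if_neg fun h' => h ((pbg_blk_pt _ _).2 h')]
    · have hne' : b ≠ b' := fun h' => hvw (by rw [h'])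
      rw [hbb _ _ hne']
      rcases inter22 hα hB b.2 b'.2 (Subtype.coe_ne_coe.2 hne') with h' | h'
      · exact absurd ((pbg_blk_blk hne _ _).2
          (Finset.disjoint_iff_inter_eq_empty.2 (card_eq_zero.1 h'))) h
      · rw [h']

end CL.Steiner
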