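import Cfsg.Agent.Base
import Cfsg.Agent.Spor.SteinerEmb
import Cfsg.Agent.Spor.SteinerSRG

/-! Uniqueness of the strongly regular graph with parameters (100,22,0,6). -/

set_option autoImplicit false

namespace CL.Steiner

open Finset Cfsg

section congr

variable {α β : Type*} [DecidableEq α] [DecidableEq β] {B : Set (Finset α)} {B' : Set (Finset β)}

/-- The bijection of the blocks induced by an isomorphism. -/
def blockEquiv (e : α ≃ β) (h : imageFam e B = B') : B ≃ B' where
  toFun b := ⟨(b : Finset α).image e, h ▸ ⟨b, b.2, rfl⟩⟩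
  invFun c := ⟨(c : Finset β).image e.symm, imageFam_symm e h ▸ ⟨c, c.2, rfl⟩⟩
  left_inv b := by ext; simp [image_image]
  right_inv c := by ext; simp [image_image]

/-- The isomorphism of point-block graphs induced by an isomorphism. -/
def pbgCongr (e : α ≃ β) (h : imageFam e B = B') : pointBlockGraph B ≃g pointBlockGraph B' where
  toEquiv := (e.sumCongr (blockEquiv e h)).optionCongr
  map_rel_iff' := by
    have key : ∀ x y, pointBlockRel B' ((e.sumCongr (blockEquiv e h)).optionCongr x)
        ((e.sumCongr (blockEquiv e h)).optionCongr y) ↔ pointBlockRel B x y := by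
      rintro (_ | a | b) (_ | a' | b') <;>
        simp [pointBlockRel, blockEquiv, disjoint_image e.injective]
    intro x y
    simp only [pointBlockGraph, SimpleGraph.fromRel_adj, key, ne_eq, EmbeddingLike.apply_eq_iff_eq]

theorem pbgCongr_none (e : α ≃ β) (h : imageFam e B = B') : pbgCongr e h none = none := rfl

theorem pbgCongr_pt (e : α ≃ β) (h : imageFam e B = B') (a : α) :
    pbgCongr e h (some (Sum.inl a)) = some (Sum.inl (e a)) := rfl

theorem pbgCongr_blk (e : α ≃ β) (h : imageFam e B = B') (b : B) :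
    pbgCongr e h (some (Sum.inr b)) = some (Sum.inr (blockEquiv e h b)) := rfl

/-- The isomorphism of block graphs induced by an isomorphism. -/
def blockGraphCongr (e : α ≃ β) (h : imageFam e B = B') : blockGraph B ≃g blockGraph B' where
  toEquiv := blockEquiv e h
  map_rel_iff' := by
    intro x y
    simp only [blockGraph, SimpleGraph.fromRel_adj, ne_eq, EmbeddingLike.apply_eq_iff_eq]
    simp [blockEquiv, disjoint_image e.injective]

end congr

section srg

variable {V : Type*} [Fintype V] [DecidableEq V] {G : SimpleGraph V} [DecidableRel G.Adj]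

omit [DecidableEq V] in
theorem srg_deg {n k l m : ℕ} (hG : G.IsSRGWith n k l m) (v : V) :
    (univ.filter fun u => G.Adj v u).card = k := by
  rw [← degree_eq_card_filter]; exact hG.regular v

omit [DecidableEq V] in
theorem srg_adj {n k l m : ℕ} (hG : G.IsSRGWith n k l m) {v w : V} (h : G.Adj v w) :
    (univ.filter fun u => G.Adj v u ∧ G.Adj w u).card = l := by
  rw [← card_commonNeighbors]; exact hG.of_adj v w h

omit [DecidableEq V] in
theorem srg_not_adj {n k l m : ℕ} (hG : G.IsSRGWith n k l m) {v w : V} (hne : v ≠ w)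
    (h : ¬ G.Adj v w) : (univ.filter fun u => G.Adj v u ∧ G.Adj w u).card = m := by
  rw [← card_commonNeighbors]; exact hG.of_not_adj hne h

omit [DecidableEq V] in
theorem srg_no_triangle {n k m : ℕ} (hG : G.IsSRGWith n k 0 m) {u v w : V} (h1 : G.Adj u v)
    (h2 : G.Adj u w) (h3 : G.Adj v w) : False :=
  filter_eq_empty_iff.1 (card_eq_zero.1 (srg_adj hG h1)) (mem_univ w) ⟨h2, h3⟩

/-- The vertices at distance two. -/
def far (G : SimpleGraph V) [DecidableRel G.Adj] (v : V) : Finset V :=
  univ.filter fun w => w ≠ v ∧ ¬ G.Adj v w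

theorem mem_far {v w : V} : w ∈ far G v ↔ w ≠ v ∧ ¬ G.Adj v w := by simp [far]

/-- Splitting a count of vertices by the distance from `v`. -/
theorem card_filter_split (v : V) (P : V → Prop) [DecidablePred P] :
    (univ.filter P).card = (if P v then 1 else 0) + (univ.filter fun u => G.Adj v u ∧ P u).card +
      ((far G v).filter P).card := by
  simp only [card_filter, far, sum_filter]
  have h0 : (if P v then 1 else 0) = ∑ u, if u = v then (if P u then 1 else 0) else 0 := by simp
  rw [h0, ← sum_add_distrib, ← sum_add_distrib]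
  refine sum_congr rfl fun u _ => ?_
  by_cases h1 : u = v
  · subst h1; simp
  · by_cases h2 : G.Adj v u <;> simp [h1, h2]

theorem card_far {n k l m : ℕ} (hG : G.IsSRGWith n k l m) (v : V) : 1 + k + (far G v).card = n := by
  have := card_filter_split (G := G) v fun _ => True
  simp only [filter_true, card_univ, hG.card, if_true, and_true, srg_deg hG] at this
  exact this.symm

omit [Fintype V] [DecidableEq V] in
theorem sum_card_filter_and {ι : Type*} (S : Finset ι) (T : Finset V) (r : ι → V → Prop)
    [∀ i v, Decidable (r i v)] :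
    ∑ w ∈ T, (S.filter fun i => r i w).card = ∑ i ∈ S, (T.filter fun w => r i w).card := by
  simp only [card_filter]
  exact sum_comm

omit [Fintype V] [DecidableEq V] in
theorem sum_card_filter_sq {ι : Type*} (S : Finset ι) (T : Finset V) (r : ι → V → Prop)
    [∀ i v, Decidable (r i v)] :
    ∑ w ∈ T, (S.filter fun i => r i w).card ^ 2 =
      ∑ i ∈ S, ∑ j ∈ S, (T.filter fun w => r i w ∧ r j w).card := by
  simp only [card_filter, sq, sum_mul_sum]
  rw [sum_comm]
  refine sum_congr rfl fun i _ => ?_
  rw [sum_comm]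
  refine sum_congr rfl fun j _ => sum_congr rfl fun w _ => ?_
  by_cases h1 : r i w <;> by_cases h2 : r j w <;> simp [h1, h2]

/-- In an SRG(100,22,0,6), two non-adjacent vertices far from `v` have two common neighbours among
the neighbours of `v`. -/
theorem srg100_inter (hG : G.IsSRGWith 100 22 0 6) {v w w' : V} (hw : w ∈ far G v)
    (hw' : w' ∈ far G v) (hne : w' ≠ w) (hadj : ¬ G.Adj w w') :
    (univ.filter fun a => (G.Adj v a ∧ G.Adj w a) ∧ G.Adj w' a).card = 2 := by
  have hfar : (far G v).card = 77 := by have := card_far hG v; omega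
  set S := univ.filter fun a => G.Adj v a ∧ G.Adj w a with hS
  have hS6 : S.card = 6 := srg_not_adj hG (mem_far.1 hw).1.symm (mem_far.1 hw).2
  have hSv : ∀ a ∈ S, G.Adj v a := fun a ha => (mem_filter.1 ha).2.1
  let n : V → ℕ := fun x => (S.filter fun a => G.Adj a x).card
  have h1 : ∀ a ∈ S, ((far G v).filter fun x => G.Adj a x).card = 21 := by
    intro a ha
    have := card_filter_split (G := G) v fun x => G.Adj a x
    rw [srg_deg hG, if_pos (hSv a ha).symm, srg_adj hG (hSv a ha)] at this
    omega
  have h2 : ∀ a ∈ S, ∀ b ∈ S, ((far G v).filter fun x => G.Adj a x ∧ G.Adj b x).card =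
      5 + if b = a then 16 else 0 := by
    intro a ha b hb
    split_ifs with hab
    · subst hab; simpa using h1 b hb
    · have := card_filter_split (G := G) v fun x => G.Adj a x ∧ G.Adj b x
      rw [srg_not_adj hG (Ne.symm hab) fun h => srg_no_triangle hG (hSv a ha) (hSv b hb) h,
        if_pos ⟨(hSv a ha).symm, (hSv b hb).symm⟩, filter_eq_empty_iff.2 fun x _ hx =>
          srg_no_triangle hG (hSv a ha) hx.1 hx.2.1] at this
      simp only [card_empty] at this
      omega
  have e1 : ∑ x ∈ far G v, n x = 126 := by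
    rw [sum_card_filter_and, sum_congr rfl h1, sum_const, hS6]; rfl
  have e2 : ∑ x ∈ far G v, n x ^ 2 = 276 := by
    rw [sum_card_filter_sq, sum_congr rfl fun a ha => sum_congr rfl (h2 a ha)]
    rw [sum_congr rfl (g := fun _ => 46) fun a ha => by
      rw [sum_add_distrib, sum_const, hS6, sum_ite_eq', if_pos ha]; rfl, sum_const, hS6]
    rfl
  have e3 : ((far G v).filter fun x => G.Adj w x).card = 16 := by
    have := card_filter_split (G := G) v fun x => G.Adj w x
    rw [srg_deg hG, if_neg fun h => (mem_far.1 hw).2 h.symm, hS6] at this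
    omega
  have e4 : ∑ x ∈ far G v, ((n x : ℤ) - 2) ^ 2 = 80 := by
    have : ∑ x ∈ far G v, ((n x : ℤ) - 2) ^ 2 = ((∑ x ∈ far G v, n x ^ 2 : ℕ) : ℤ) -
        4 * ((∑ x ∈ far G v, n x : ℕ) : ℤ) + ∑ x ∈ far G v, 4 := by
      push_cast
      rw [mul_sum, ← sum_sub_distrib, ← sum_add_distrib]
      exact sum_congr rfl fun x _ => by ring
    rw [this, e1, e2, sum_const, hfar]; rfl
  have e5 : ∑ x ∈ far G v, ((if x = w then 16 else 0) + (if G.Adj w x then 4 else 0) : ℤ) = 80 := by
    rw [sum_add_distrib, sum_ite_eq', if_pos hw, ← sum_filter, sum_const, e3]; rfl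
  have e6 := (sum_eq_sum_iff_of_le (s := far G v)
    (f := fun x => ((if x = w then 16 else 0) + (if G.Adj w x then 4 else 0) : ℤ))
    (g := fun x => ((n x : ℤ) - 2) ^ 2) fun x _ => by
      by_cases hx : x = w
      · subst hx
        have : n x = 6 := by
          rw [← hS6]
          exact congrArg card (filter_true_of_mem fun a ha => (mem_filter.1 ha).2.2.symm)
        simp [this]
      · by_cases hx' : G.Adj w x
        · have : n x = 0 := card_eq_zero.2 (filter_eq_empty_iff.2 fun a ha h =>
            srg_no_triangle hG hx' (mem_filter.1 ha).2.2 h.symm)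
          simp [this, hx, hx']
        · simp only [hx, hx', if_false, add_zero]; positivity).1 (e5.trans e4.symm) w' hw'
  simp only [hne, hadj, if_false, add_zero] at e6
  have e7 : n w' = 2 := by
    have := pow_eq_zero_iff (two_ne_zero) |>.1 e6.symm
    omega
  rw [← e7]
  congr 1
  ext a
  simp [hS, G.adj_comm w']

/-- The neighbours of `w` among the neighbours of `v`. -/
def nbBlock (G : SimpleGraph V) [DecidableRel G.Adj] (v w : V) : Finset (G.neighborSet v) :=
  univ.filter fun a => G.Adj w a

omit [DecidableEq V] in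
theorem card_filter_neighborSet (v : V) (P : V → Prop) [DecidablePred P] :
    (univ.filter fun a : G.neighborSet v => P a).card =
      (univ.filter fun a => G.Adj v a ∧ P a).card := by
  refine card_bij (fun a _ => (a : V)) ?_ ?_ ?_
  · intro a ha
    exact mem_filter.2 ⟨mem_univ _, a.2, (mem_filter.1 ha).2⟩
  · intro a _ b _ h
    exact Subtype.ext h
  · intro a ha
    exact ⟨⟨a, (mem_filter.1 ha).2.1⟩, mem_filter.2 ⟨mem_univ _, (mem_filter.1 ha).2.2⟩, rfl⟩

theorem srg100_iso (hG : G.IsSRGWith 100 22 0 6) (v : V) :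
    ∃ B : Set (Finset (G.neighborSet v)), Fintype.card (G.neighborSet v) = 22 ∧
      IsSteinerSystem 3 6 B ∧ ∃ f : G ≃g pointBlockGraph B, f v = none := by
  classical
  have hfar : (far G v).card = 77 := by have := card_far hG v; omega
  have h22 : Fintype.card (G.neighborSet v) = 22 := by
    rw [G.card_neighborSet_eq_degree]; exact hG.regular v
  have h6 : ∀ w ∈ far G v, (nbBlock G v w).card = 6 := fun w hw => by
    rw [nbBlock, card_filter_neighborSet]
    exact srg_not_adj hG (mem_far.1 hw).1.symm (mem_far.1 hw).2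
  have hint : ∀ w ∈ far G v, ∀ w' ∈ far G v, w' ≠ w →
      (nbBlock G v w ∩ nbBlock G v w').card = if G.Adj w w' then 0 else 2 := by
    intro w hw w' hw' hne
    rw [nbBlock, nbBlock, ← filter_and,
      card_filter_neighborSet v fun a => G.Adj w a ∧ G.Adj w' a]
    split_ifs with h
    · exact card_eq_zero.2 (filter_eq_empty_iff.2 fun a _ ha => srg_no_triangle hG h ha.2.1 ha.2.2)
    · simpa only [and_assoc] using srg100_inter hG hw hw' hne h
  have hinj : Set.InjOn (nbBlock G v) (far G v) := by
    intro w hw w' hw' h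
    by_contra hne
    have := hint w hw w' hw' (Ne.symm hne)
    rw [← h, inter_self, h6 w hw] at this
    split_ifs at this
    omega
  let B : Set (Finset (G.neighborSet v)) := nbBlock G v '' far G v
  have hBc : B.ncard = 77 := by rw [Set.InjOn.ncard_image hinj, Set.ncard_coe_finset, hfar]
  have hB : IsSteinerSystem 3 6 B := CL.Golay.isSteinerSystem_of_count
    (by rintro _ ⟨w, hw, rfl⟩; exact h6 w hw) (by
      rintro _ ⟨w, hw, rfl⟩ _ ⟨w', hw', rfl⟩ h3
      by_contra hne
      rw [hint w hw w' hw' fun h => hne (by rw [h])] at h3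
      split_ifs at h3 <;> omega) (by rw [hBc, h22]; rfl)
  have hne := nonempty_of_steiner hB
  let φ : V → Option (G.neighborSet v ⊕ B) := fun x =>
    if h : x ∈ far G v then some (Sum.inr ⟨nbBlock G v x, x, h, rfl⟩)
    else if h' : G.Adj v x then some (Sum.inl ⟨x, h'⟩) else none
  have φ0 : φ v = none := by simp [φ, mem_far]
  have φ1 : ∀ x (h : G.Adj v x), φ x = some (Sum.inl ⟨x, h⟩) := fun x h => by simp [φ, mem_far, h]
  have φ2 : ∀ x (h : x ∈ far G v), φ x = some (Sum.inr ⟨nbBlock G v x, x, h, rfl⟩) :=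
    fun x h => by simp [φ, h]
  have hcases : ∀ x, x = v ∨ G.Adj v x ∨ x ∈ far G v := fun x => by rw [mem_far]; tauto
  have hφ : Function.Injective φ := by
    intro x y hxy
    rcases hcases x with rfl | hx | hx <;> rcases hcases y with rfl | hy | hy
    · rfl
    · rw [φ0, φ1 y hy] at hxy; simp at hxy
    · rw [φ0, φ2 y hy] at hxy; simp at hxy
    · rw [φ0, φ1 x hx] at hxy; simp at hxy
    · rw [φ1 x hx, φ1 y hy] at hxy; simpa [Subtype.ext_iff] using hxy
    · rw [φ1 x hx, φ2 y hy] at hxy; simp at hxy
    · rw [φ0, φ2 x hx] at hxy; simp at hxy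
    · rw [φ2 x hx, φ1 y hy] at hxy; simp at hxy
    · rw [φ2 x hx, φ2 y hy] at hxy
      exact hinj hx hy (by simpa [Subtype.ext_iff] using hxy)
  refine ⟨B, h22, hB, ⟨Equiv.ofBijective φ ((Fintype.bijective_iff_injective_and_card φ).2
    ⟨hφ, by rw [hG.card, (pointBlockGraph_srg h22 hB).card]⟩), ?_⟩, φ0⟩
  intro x y
  simp only [Equiv.ofBijective_apply]
  rcases hcases x with rfl | hx | hx <;> rcases hcases y with rfl | hy | hy
  · simp
  · rw [φ0, φ1 y hy]; exact iff_of_true (pbg_none_pt _) hy
  · rw [φ0, φ2 y hy]; exact iff_of_false (pbg_none_blk _) (mem_far.1 hy).2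
  · rw [φ0, φ1 x hx]; exact iff_of_true (pbg_pt_none _) hx.symm
  · rw [φ1 x hx, φ1 y hy]; exact iff_of_false (pbg_pt_pt _ _) (srg_no_triangle hG hx hy)
  · rw [φ1 x hx, φ2 y hy, pbg_pt_blk]; simp [nbBlock, G.adj_comm]
  · rw [φ0, φ2 x hx]; exact iff_of_false (pbg_blk_none _) fun h => (mem_far.1 hx).2 h.symm
  · rw [φ2 x hx, φ1 y hy, pbg_blk_pt]; simp [nbBlock]
  · rw [φ2 x hx, φ2 y hy, pbg_blk_blk hne]
    simp only
    rw [disjoint_iff_inter_eq_empty, ← card_eq_zero]
    by_cases hxy : y = x
    · subst hxy; simp [h6 y hy]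
    · rw [hint x hx y hy hxy]
      split_ifs with h <;> simp [h]

/-- Every SRG(100,22,0,6) with a marked vertex is the point-block graph of any given S(3,6,22). -/
theorem srg100_iso_pbg (hG : G.IsSRGWith 100 22 0 6) (v : V) {α : Type*} [Fintype α]
    [DecidableEq α] (hα : Fintype.card α = 22) {B : Set (Finset α)} (hB : IsSteinerSystem 3 6 B) :
    ∃ f : G ≃g pointBlockGraph B, f v = none := by
  obtain ⟨B', h22, hB', f, hf⟩ := srg100_iso hG v
  obtain ⟨e, -, he⟩ := exists_iso22 h22 hα hB' hB (n := 0) (by norm_num)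
    ⟨Fin.elim0, fun i => i.elim0⟩ ⟨Fin.elim0, fun i => i.elim0⟩
  exact ⟨f.trans (pbgCongr e he), by simp [hf, pbgCongr_none]⟩

theorem srg100_unique {W : Type*} [Fintype W] [DecidableEq W] {H : SimpleGraph W}
    [DecidableRel H.Adj] (hG : G.IsSRGWith 100 22 0 6) (hH : H.IsSRGWith 100 22 0 6) (v : V)
    (w : W) : ∃ f : G ≃g H, f v = w := by
  obtain ⟨B, h22, hB, f, hf⟩ := srg100_iso hH w
  obtain ⟨g, hg⟩ := srg100_iso_pbg hG v h22 hB
  exact ⟨g.trans f.symm, by simp [hg, ← hf]⟩

end srg

end CL.Steiner
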