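import Cfsg.Agent.Base
import Cfsg.Agent.Spor.SteinerHSGraph

/-! Strongly regular graphs with parameters (77,16,0,4): the lines (5-cocliques). -/

set_option autoImplicit false

namespace CL.Steiner.G77

open Finset Cfsg

variable {V : Type*} [Fintype V] [DecidableEq V] {G : SimpleGraph V} [DecidableRel G.Adj]

/-- The adjacency operator. -/
def am (G : SimpleGraph V) [DecidableRel G.Adj] (h : V → ℤ) (v : V) : ℤ :=
  ∑ u, if G.Adj v u then h u else 0

/-- The indicator function. -/
def ind (S : Finset V) (v : V) : ℤ := if v ∈ S then 1 else 0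

omit [Fintype V] in
theorem ind_mem {S : Finset V} {v : V} (h : v ∈ S) : ind S v = 1 := if_pos h

omit [Fintype V] in
theorem ind_not {S : Finset V} {v : V} (h : v ∉ S) : ind S v = 0 := if_neg h

theorem sum_ind_mul (S : Finset V) (h : V → ℤ) : ∑ v, ind S v * h v = ∑ v ∈ S, h v := by
  simp [ind]

theorem sum_ind (S : Finset V) : ∑ v, ind S v = S.card := by simp [ind]

theorem am_ind (S : Finset V) (v : V) : am G (ind S) v = (S.filter (G.Adj v)).card := by
  rw [am, card_filter]
  push_cast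
  rw [← sum_ind_mul S]
  exact sum_congr rfl fun u _ => by by_cases h1 : G.Adj v u <;> simp [ind, h1]

omit [DecidableEq V] in
theorem am_dot (h k : V → ℤ) : ∑ v, am G h v * k v = ∑ v, h v * am G k v := by
  simp only [am, sum_mul, mul_sum]
  rw [sum_comm]
  refine sum_congr rfl fun u _ => sum_congr rfl fun v _ => ?_
  by_cases h1 : G.Adj v u
  · simp [h1, h1.symm]
  · have : ¬ G.Adj u v := fun h => h1 h.symm
    simp [h1, this]

omit [DecidableEq V] in
theorem am_lin3 (a b c : ℤ) (h k l : V → ℤ) (v : V) :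
    am G (fun u => a * h u + b * k u + c * l u) v =
      a * am G h v + b * am G k v + c * am G l v := by
  simp only [am, mul_sum, ← sum_add_distrib]
  exact sum_congr rfl fun u _ => by split_ifs <;> simp

omit [DecidableEq V] in
theorem am_one (hG : G.IsSRGWith 77 16 0 4) (v : V) : am G (fun _ => 1) v = 16 := by
  have := srg_deg hG v
  rw [card_filter] at this
  have h2 := congrArg (Nat.cast : ℕ → ℤ) this
  push_cast at h2
  exact h2

omit [DecidableEq V] in
theorem sum_am (hG : G.IsSRGWith 77 16 0 4) (h : V → ℤ) : ∑ v, am G h v = 16 * ∑ v, h v := by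
  have := am_dot (G := G) h fun _ => 1
  simp only [mul_one, am_one hG] at this
  rw [this, mul_sum]
  exact sum_congr rfl fun u _ => mul_comm _ _

theorem am_am (hG : G.IsSRGWith 77 16 0 4) (h : V → ℤ) (v : V) :
    am G (am G h) v = 12 * h v - 4 * am G h v + 4 * ∑ u, h u := by
  have : am G (am G h) v =
      ∑ w, ((univ.filter fun u => G.Adj v u ∧ G.Adj w u).card : ℤ) * h w := by
    simp only [am, card_filter]
    push_cast
    simp only [sum_mul]
    rw [sum_comm]
    refine sum_congr rfl fun u _ => ?_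
    split_ifs with h1
    · refine sum_congr rfl fun w _ => ?_
      by_cases h2 : G.Adj u w <;> simp [h1, h2, G.adj_comm w u]
    · simp [h1]
  rw [this, show 12 * h v = ∑ w, if w = v then 12 * h w else 0 by simp, am, mul_sum, mul_sum,
    ← sum_sub_distrib, ← sum_add_distrib]
  refine sum_congr rfl fun w _ => ?_
  by_cases h1 : w = v
  · subst h1
    simp only [and_self, srg_deg hG, if_true, G.irrefl, if_false]
    push_cast
    ring
  · by_cases h2 : G.Adj v w
    · rw [srg_adj hG h2]; simp [h1, h2]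
    · rw [srg_not_adj hG (Ne.symm h1) h2]; simp [h1, h2]

theorem sum_am_sq (hG : G.IsSRGWith 77 16 0 4) (h : V → ℤ) :
    ∑ v, am G h v ^ 2 = 12 * ∑ v, h v * h v - 4 * ∑ v, h v * am G h v + 4 * (∑ v, h v) ^ 2 := by
  simp only [sq]
  rw [am_dot, ← mul_assoc, mul_comm (4 * _), sum_mul, mul_sum, mul_sum, ← sum_sub_distrib,
    ← sum_add_distrib]
  exact sum_congr rfl fun v _ => by rw [am_am hG]; ring

theorem sum_am_ind_sq (hG : G.IsSRGWith 77 16 0 4) (S : Finset V) :
    ∑ v, am G (ind S) v ^ 2 = 12 * S.card - 4 * ∑ v ∈ S, am G (ind S) v + 4 * S.card ^ 2 := by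
  rw [sum_am_sq hG, sum_ind_mul, sum_ind_mul, sum_ind,
    sum_congr rfl fun v hv => ind_mem (S := S) hv]
  simp

omit [DecidableEq V] in
theorem eq_of_var (d : V → ℤ) (T : Finset V) (m : ℤ) (h0 : ∀ v ∉ T, d v = 0)
    (h1 : ∑ v, d v = m * T.card) (h2 : ∑ v, d v ^ 2 = m ^ 2 * T.card) : ∀ v ∈ T, d v = m := by
  rw [← sum_subset (subset_univ T) fun v _ hv => h0 v hv] at h1
  rw [← sum_subset (subset_univ T) fun v _ hv => by rw [h0 v hv]; rfl] at h2
  have h3 : ∑ v ∈ T, (d v - m) ^ 2 = 0 := by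
    have : ∑ v ∈ T, (d v - m) ^ 2 =
        ∑ v ∈ T, d v ^ 2 - 2 * m * ∑ v ∈ T, d v + ∑ v ∈ T, m ^ 2 := by
      rw [mul_sum, ← sum_sub_distrib, ← sum_add_distrib]
      exact sum_congr rfl fun v _ => by ring
    rw [this, h1, h2, sum_const, nsmul_eq_mul]
    ring
  intro v hv
  have := (sum_eq_zero_iff_of_nonneg fun v _ => sq_nonneg (d v - m)).1 h3 v hv
  have := pow_eq_zero_iff (two_ne_zero) |>.1 this
  omega

omit [DecidableEq V] in
/-- An eigenvector for `-6` up to a constant has a known sum. -/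
theorem sum_of_eig (hG : G.IsSRGWith 77 16 0 4) {h : V → ℤ} {c : ℤ}
    (hh : ∀ v, am G h v = c - 6 * h v) : 2 * ∑ v, h v = 7 * c := by
  have := sum_am hG h
  rw [sum_congr rfl fun v _ => hh v, sum_sub_distrib, ← mul_sum, sum_const, card_univ, hG.card,
    nsmul_eq_mul] at this
  push_cast at this
  omega

/-- `a + (2 - A) h` is an eigenvector for `-6` up to a constant. -/
theorem am_shift (hG : G.IsSRGWith 77 16 0 4) (a : ℤ) (h : V → ℤ) (v : V) :
    am G (fun u => a + 2 * h u - am G h u) v =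
      (22 * a - 4 * ∑ u, h u) - 6 * (a + 2 * h v - am G h v) := by
  have := am_lin3 (G := G) a 2 (-1) (fun _ => 1) h (am G h) v
  rw [am_one hG, am_am hG] at this
  rw [show (fun u => a + 2 * h u - am G h u) = fun u => a * 1 + 2 * h u + -1 * am G h u from
    funext fun u => by ring, this]
  ring

omit [DecidableEq V] in
theorem dot_shift (hG : G.IsSRGWith 77 16 0 4) {h : V → ℤ} {c : ℤ}
    (hh : ∀ v, am G h v = c - 6 * h v) (k : V → ℤ) :
    ∑ v, h v * (2 + 2 * k v - am G k v) = 7 * c + 8 * ∑ v, k v * h v - c * ∑ v, k v := by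
  have h1 := am_dot (G := G) h k
  have h2 := sum_of_eig hG hh
  have h3 : ∑ v, h v * (2 + 2 * k v - am G k v) =
      2 * ∑ v, h v + 2 * ∑ v, k v * h v - ∑ v, h v * am G k v := by
    rw [mul_sum, mul_sum, ← sum_add_distrib, ← sum_sub_distrib]
    exact sum_congr rfl fun v _ => by ring
  have h4 : ∑ v, am G h v * k v = c * ∑ v, k v - 6 * ∑ v, k v * h v := by
    rw [mul_sum, mul_sum, ← sum_sub_distrib]
    exact sum_congr rfl fun v _ => by rw [hh]; ring
  rw [h3, h2, ← h1, h4]
  ring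

omit [Fintype V] in
theorem filter_bip [Fintype V] (hG : G.IsSRGWith 77 16 0 4) {X Y : Finset V} (hY : Y.Nonempty)
    (h : ∀ a ∈ X, ∀ b ∈ Y, G.Adj a b) : ∀ u ∈ X, (X ∪ Y).filter (G.Adj u) = Y := by
  intro u hu
  ext w
  obtain ⟨b, hb⟩ := hY
  simp only [mem_filter, mem_union]
  exact ⟨fun ⟨h1, h2⟩ => h1.elim (fun h1 => (srg_no_triangle hG h2 (h u hu b hb) (h w h1 b hb)).elim)
    id, fun h1 => ⟨Or.inr h1, h u hu w h1⟩⟩

/-- There is no `K₃,₃`. -/
theorem no_K33 (hG : G.IsSRGWith 77 16 0 4) {X Y : Finset V} (hX : X.card = 3) (hY : Y.card = 3)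
    (h : ∀ a ∈ X, ∀ b ∈ Y, G.Adj a b) : False := by
  have hU : (X ∪ Y).card = 6 := by
    rw [card_union_of_disjoint (disjoint_left.2 fun a ha hb => G.irrefl (h a ha a hb)), hX, hY]
  have h3 : ∀ u ∈ X ∪ Y, am G (ind (X ∪ Y)) u = 3 := by
    intro u hu
    rw [am_ind]
    rcases mem_union.1 hu with hu | hu
    · rw [filter_bip hG (card_pos.1 (by omega)) h u hu, hY]; rfl
    · rw [union_comm, filter_bip hG (card_pos.1 (by omega)) (fun a ha b hb => (h b hb a ha).symm)
        u hu, hX]; rfl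
  have e1 := sum_am hG (ind (X ∪ Y))
  have e2 := sum_am_ind_sq hG (X ∪ Y)
  rw [sum_congr rfl h3, sum_const, hU] at e2
  rw [sum_ind, hU] at e1
  have e3 : ∑ v, (am G (ind (X ∪ Y)) v - 1) * (am G (ind (X ∪ Y)) v - 2) =
      ∑ v, am G (ind (X ∪ Y)) v ^ 2 - 3 * ∑ v, am G (ind (X ∪ Y)) v + ∑ _v : V, 2 := by
    rw [mul_sum, ← sum_sub_distrib, ← sum_add_distrib]
    exact sum_congr rfl fun v _ => by ring
  rw [e1, e2, sum_const, card_univ, hG.card] at e3
  have e4 : ∑ v ∈ X ∪ Y, (am G (ind (X ∪ Y)) v - 1) * (am G (ind (X ∪ Y)) v - 2) ≤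
      ∑ v, (am G (ind (X ∪ Y)) v - 1) * (am G (ind (X ∪ Y)) v - 2) :=
    sum_le_sum_of_subset_of_nonneg (subset_univ _) fun v _ _ => by
      rcases le_or_gt (am G (ind (X ∪ Y)) v) 1 with h1 | h1
      · exact mul_nonneg_of_nonpos_of_nonpos (by omega) (by omega)
      · exact mul_nonneg (by omega) (by omega)
  rw [e3, sum_congr rfl (g := fun _ => (2 : ℤ)) fun v hv => by rw [h3 v hv]; rfl, sum_const,
    hU] at e4
  norm_num at e4

/-- The common neighbours of two vertices. -/
def cn (G : SimpleGraph V) [DecidableRel G.Adj] (x z : V) : Finset V :=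
  univ.filter fun u => G.Adj x u ∧ G.Adj z u

omit [DecidableEq V] in
theorem mem_cn {x z u : V} : u ∈ cn G x z ↔ G.Adj x u ∧ G.Adj z u := by simp [cn]

theorem common3 (hG : G.IsSRGWith 77 16 0 4) {x y z : V} (hxz : x ≠ z) (hxy : y ≠ x)
    (hyz : y ≠ z) : ((cn G x z).filter (G.Adj y)).card ≤ 2 := by
  by_contra hc
  obtain ⟨Y, hY, h3⟩ := exists_subset_card_eq (s := (cn G x z).filter (G.Adj y)) (n := 3) (by omega)
  refine no_K33 hG (X := {y, x, z}) (card_eq_three.2 ⟨y, x, z, hxy, hyz, hxz, rfl⟩) h3 ?_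
  intro a ha b hb
  have := mem_filter.1 (hY hb)
  have h2 := mem_cn.1 this.1
  simp only [mem_insert, mem_singleton] at ha
  rcases ha with rfl | rfl | rfl
  exacts [this.2, h2.1, h2.2]

/-- The vector `2 x + 2 z + (common neighbours)`. -/
def vv (G : SimpleGraph V) [DecidableRel G.Adj] (x z y : V) : ℤ :=
  2 * ind {x} y + 2 * ind {z} y + 1 * ind (cn G x z) y

/-- The function with values `2` on the line through `x`, `z`. -/
def li (G : SimpleGraph V) [DecidableRel G.Adj] (x z y : V) : ℤ :=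
  2 + 2 * vv G x z y - am G (vv G x z) y

/-- The line through `x`, `z`. -/
def ln (G : SimpleGraph V) [DecidableRel G.Adj] (x z : V) : Finset V :=
  univ.filter fun y => li G x z y = 2

theorem mem_ln {x z y : V} : y ∈ ln G x z ↔ li G x z y = 2 := by simp [ln]

theorem sum_vv_mul (x z : V) (h : V → ℤ) :
    ∑ y, vv G x z y * h y = 2 * h x + 2 * h z + ∑ y ∈ cn G x z, h y := by
  rw [← sum_ind_mul (cn G x z), ← sum_singleton h x, ← sum_singleton h z, ← sum_ind_mul {x},
    ← sum_ind_mul {z}, mul_sum, mul_sum, ← sum_add_distrib, ← sum_add_distrib]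
  exact sum_congr rfl fun y _ => by rw [vv]; ring

theorem li_eq (x z y : V) : li G x z y = 2 + 4 * ind {x} y + 4 * ind {z} y + 2 * ind (cn G x z) y -
    2 * (if G.Adj y x then 1 else 0) - 2 * (if G.Adj y z then 1 else 0) -
      ((cn G x z).filter (G.Adj y)).card := by
  have := am_lin3 (G := G) 2 2 1 (ind {x}) (ind {z}) (ind (cn G x z)) y
  rw [am_ind, am_ind, am_ind, filter_singleton, filter_singleton] at this
  rw [li, show vv G x z = fun u => 2 * ind {x} u + 2 * ind {z} u + 1 * ind (cn G x z) u from rfl,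
    this]
  split_ifs <;> simp <;> ring

section pair

variable (hG : G.IsSRGWith 77 16 0 4) {x z : V} (hne : x ≠ z) (hxz : ¬ G.Adj x z)
include hG hne hxz

omit [DecidableEq V] in
theorem card_cn : (cn G x z).card = 4 := srg_not_adj hG hne hxz

theorem sum_vv : ∑ y, vv G x z y = 8 := by
  have := sum_vv_mul (G := G) x z fun _ => 1
  simp only [mul_one, sum_const, card_cn hG hne hxz] at this
  rw [this]; rfl

theorem am_li (y : V) : am G (li G x z) y = 12 - 6 * li G x z y := by
  have := am_shift hG 2 (vv G x z) y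
  rw [sum_vv hG hne hxz] at this
  exact this

theorem li_left : li G x z x = 2 := by
  rw [li_eq, ind_mem (mem_singleton_self x), ind_not (notMem_singleton.2 hne),
    ind_not fun h => G.irrefl (mem_cn.1 h).1, if_neg (G.irrefl), if_neg hxz,
    filter_true_of_mem fun u hu => (mem_cn.1 hu).1, card_cn hG hne hxz]
  rfl

theorem li_right : li G x z z = 2 := by
  rw [li_eq, ind_mem (mem_singleton_self z), ind_not (notMem_singleton.2 hne.symm),
    ind_not fun h => G.irrefl (mem_cn.1 h).2, if_neg (G.irrefl), if_neg fun h => hxz h.symm,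
    filter_true_of_mem fun u hu => (mem_cn.1 hu).2, card_cn hG hne hxz]
  rfl

theorem li_adj {y : V} (h : G.Adj x y ∨ G.Adj z y) : li G x z y = 0 := by
  have h1 : y ≠ x := by rintro rfl; exact h.elim G.irrefl fun h => hxz h.symm
  have h2 : y ≠ z := by rintro rfl; exact h.elim hxz G.irrefl
  rw [li_eq, ind_not (notMem_singleton.2 h1), ind_not (notMem_singleton.2 h2),
    filter_eq_empty_iff.2 fun u hu hy => h.elim
      (fun h => srg_no_triangle hG h (mem_cn.1 hu).1 hy)
      (fun h => srg_no_triangle hG h (mem_cn.1 hu).2 hy), ind]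
  by_cases h3 : G.Adj x y <;> by_cases h4 : G.Adj z y <;>
    simp [mem_cn, h3, h4, G.adj_comm y] at h ⊢

omit hG hne hxz in
theorem li_far {y : V} (h1 : y ≠ x) (h2 : y ≠ z) (h3 : ¬ G.Adj x y) (h4 : ¬ G.Adj z y) :
    li G x z y = 2 - ((cn G x z).filter (G.Adj y)).card := by
  rw [li_eq, ind_not (notMem_singleton.2 h1), ind_not (notMem_singleton.2 h2),
    ind_not fun h => h3 (mem_cn.1 h).1, if_neg fun h => h3 h.symm, if_neg fun h => h4 h.symm]
  ring

theorem li_range (y : V) : li G x z y = 0 ∨ li G x z y = 1 ∨ li G x z y = 2 := by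
  by_cases h1 : y = x
  · rw [h1, li_left hG hne hxz]; simp
  by_cases h2 : y = z
  · rw [h2, li_right hG hne hxz]; simp
  by_cases h3 : G.Adj x y ∨ G.Adj z y
  · rw [li_adj hG hne hxz h3]; simp
  rw [not_or] at h3
  have := common3 hG hne h1 h2
  rw [li_far h1 h2 h3.1 h3.2]
  omega

theorem sum_li : ∑ y, li G x z y = 42 := by
  have := sum_of_eig hG (am_li hG hne hxz)
  omega

theorem sum_li_sq : ∑ y, li G x z y * li G x z y = 52 := by
  have := dot_shift hG (am_li hG hne hxz) (vv G x z)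
  rw [sum_vv hG hne hxz, sum_vv_mul, li_left hG hne hxz, li_right hG hne hxz,
    sum_eq_zero fun y hy => li_adj hG hne hxz (Or.inl (mem_cn.1 hy).1)] at this
  exact this

theorem card_ln : (ln G x z).card = 5 := by
  have h1 : ∑ y, (li G x z y * li G x z y - li G x z y) = ∑ y, 2 * ind (ln G x z) y :=
    sum_congr rfl fun y _ => by
      rcases li_range hG hne hxz y with h | h | h <;> simp [ind, mem_ln, h]
  rw [sum_sub_distrib, sum_li hG hne hxz, sum_li_sq hG hne hxz, ← mul_sum, sum_ind] at h1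
  omega

theorem card_li_zero : (univ.filter fun y => li G x z y = 0).card = 40 := by
  have h1 : ∑ y, (li G x z y * li G x z y - 3 * li G x z y + 2) =
      ∑ y, 2 * ind (univ.filter fun y => li G x z y = 0) y :=
    sum_congr rfl fun y _ => by
      rcases li_range hG hne hxz y with h | h | h <;> simp [ind, h]
  rw [sum_add_distrib, sum_sub_distrib, ← mul_sum, sum_li hG hne hxz, sum_li_sq hG hne hxz,
    ← mul_sum, sum_ind, sum_const, card_univ, hG.card] at h1
  simp only [nsmul_eq_mul] at h1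
  omega

theorem li_adj_ln {f y : V} (hf : f ∈ ln G x z) (h : G.Adj f y) : li G x z y = 0 := by
  have := am_li hG hne hxz f
  rw [mem_ln.1 hf, am] at this
  have h2 := (sum_eq_zero_iff_of_nonneg fun u _ => by
    rcases li_range hG hne hxz u with h | h | h <;> rw [h] <;> split_ifs <;> simp).1 this y
      (mem_univ y)
  rwa [if_pos h] at h2

theorem am_ln (y : V) : am G (ind (ln G x z)) y = 2 + 2 * ind (ln G x z) y - 2 * li G x z y := by
  have h0 : ∀ v ∉ univ.filter fun y => li G x z y = 0, am G (ind (ln G x z)) v = 0 := by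
    intro v hv
    rw [am_ind, filter_eq_empty_iff.2 fun f hf h =>
      hv (mem_filter.2 ⟨mem_univ _, li_adj_ln hG hne hxz hf h.symm⟩)]
    rfl
  have h1 := eq_of_var (am G (ind (ln G x z))) _ 2 h0
    (by rw [sum_am hG, sum_ind, card_ln hG hne hxz, card_li_zero hG hne hxz]; rfl)
    (by
      rw [sum_am_ind_sq hG, card_ln hG hne hxz, card_li_zero hG hne hxz,
        sum_eq_zero fun v hv => h0 v (by simp [mem_ln.1 hv])]
      rfl)
  rcases li_range hG hne hxz y with h | h | h
  · rw [h1 y (by simp [h])]; simp [ind, mem_ln, h]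
  · rw [h0 y (by simp [h])]; simp [ind, mem_ln, h]
  · rw [h0 y (by simp [h])]; simp [ind, mem_ln, h]

/-- The sum over a line of an eigenvector vanishing on the neighbours of a point of the line. -/
theorem sum_ln_eig {h : V → ℤ} {c : ℤ} (hh : ∀ v, am G h v = c - 6 * h v)
    (h0 : ∀ y, G.Adj x y → h y = 0) : 2 * ∑ y ∈ ln G x z, h y = 8 * h x + 8 * h z - c := by
  have e1 := dot_shift hG hh (vv G x z)
  have e2 := dot_shift hG hh (ind (ln G x z))
  rw [sum_vv hG hne hxz, sum_vv_mul, sum_eq_zero fun y hy => h0 y (mem_cn.1 hy).1] at e1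
  rw [sum_ind, sum_ind_mul, card_ln hG hne hxz] at e2
  have e3 : ∑ v, h v * (2 + 2 * ind (ln G x z) v - am G (ind (ln G x z)) v) =
      2 * ∑ v, h v * (2 + 2 * vv G x z v - am G (vv G x z) v) := by
    rw [mul_sum]
    exact sum_congr rfl fun v _ => by rw [am_ln hG hne hxz, li]; ring
  push_cast at e2
  omega

theorem left_mem_ln : x ∈ ln G x z := mem_ln.2 (li_left hG hne hxz)

theorem right_mem_ln : z ∈ ln G x z := mem_ln.2 (li_right hG hne hxz)

theorem ln_coclique {a b : V} (ha : a ∈ ln G x z) (hb : b ∈ ln G x z) : ¬ G.Adj a b := fun h => by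
  have := li_adj_ln hG hne hxz ha h
  rw [mem_ln.1 hb] at this
  omega

/-- Two points of a line determine it. -/
theorem ln_eq {a b : V} (ha : a ∈ ln G x z) (hb : b ∈ ln G x z) (hab : a ≠ b) :
    ln G a b = ln G x z := by
  have hn := ln_coclique hG hne hxz ha hb
  refine (eq_of_subset_of_card_le (fun y hy => ?_)
    (by rw [card_ln hG hne hxz, card_ln hG hab hn])).symm
  by_cases h1 : y = a
  · rw [h1]; exact left_mem_ln hG hab hn
  by_cases h2 : y = b
  · rw [h2]; exact right_mem_ln hG hab hn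
  rw [mem_ln, li_far h1 h2 (ln_coclique hG hne hxz ha hy) (ln_coclique hG hne hxz hb hy),
    filter_eq_empty_iff.2 fun w hw h => ?_]
  · rfl
  · have h3 : ({y, a, b} : Finset V) ⊆ (ln G x z).filter (G.Adj w) := by
      intro u hu
      simp only [mem_insert, mem_singleton] at hu
      rcases hu with rfl | rfl | rfl
      exacts [mem_filter.2 ⟨hy, h.symm⟩, mem_filter.2 ⟨ha, (mem_cn.1 hw).1.symm⟩,
        mem_filter.2 ⟨hb, (mem_cn.1 hw).2.symm⟩]
    have h4 := card_le_card h3
    rw [card_eq_three.2 ⟨y, a, b, h1, h2, hab, rfl⟩] at h4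
    have h5 := am_ln hG hne hxz w
    rw [am_ind, li_adj_ln hG hne hxz hy h,
      ind_not fun hw' => ln_coclique hG hne hxz hy hw' h] at h5
    omega

theorem li_eq_of_mem {a b : V} (ha : a ∈ ln G x z) (hb : b ∈ ln G x z) (hab : a ≠ b) (y : V) :
    li G a b y = li G x z y := by
  have h1 := am_ln hG hne hxz y
  have h2 := am_ln hG hab (ln_coclique hG hne hxz ha hb) y
  rw [ln_eq hG hne hxz ha hb hab] at h2
  omega

theorem li_one_iff {y : V} : li G x z y = 1 ↔ y ∉ ln G x z ∧ ∀ f ∈ ln G x z, ¬ G.Adj f y := by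
  refine ⟨fun h => ⟨by rw [mem_ln, h]; decide, fun f hf h' => ?_⟩, fun ⟨h1, h2⟩ => ?_⟩
  · have := li_adj_ln hG hne hxz hf h'
    omega
  · have := am_ln hG hne hxz y
    rw [am_ind, ind_not h1, filter_eq_empty_iff.2 fun f hf h => h2 f hf h.symm] at this
    simp only [card_empty] at this
    omega

theorem card_li_one : (univ.filter fun y => li G x z y = 1).card = 32 := by
  have h1 : ∑ y, (2 * li G x z y - li G x z y * li G x z y) =
      ∑ y, ind (univ.filter fun y => li G x z y = 1) y :=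
    sum_congr rfl fun y _ => by
      rcases li_range hG hne hxz y with h | h | h <;> simp [ind, h]
  rw [sum_sub_distrib, ← mul_sum, sum_li hG hne hxz, sum_li_sq hG hne hxz, sum_ind] at h1
  omega

/-- The sum of one line function over another line is symmetric. -/
theorem sum_li_symm {a b : V} (hab : a ≠ b) (hn : ¬ G.Adj a b) :
    ∑ y ∈ ln G a b, li G x z y = ∑ y ∈ ln G x z, li G a b y := by
  have e1 := dot_shift hG (am_li hG hne hxz) (ind (ln G a b))
  have e2 := dot_shift hG (am_li hG hab hn) (ind (ln G x z))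
  rw [sum_ind, sum_ind_mul, card_ln hG hab hn] at e1
  rw [sum_ind, sum_ind_mul, card_ln hG hne hxz] at e2
  have e3 : ∑ v, li G x z v * (2 + 2 * ind (ln G a b) v - am G (ind (ln G a b)) v) =
      ∑ v, li G a b v * (2 + 2 * ind (ln G x z) v - am G (ind (ln G x z)) v) :=
    sum_congr rfl fun v _ => by rw [am_ln hG hne hxz, am_ln hG hab hn]; ring
  omega

/-- Two distinct lines through `f` on which the sum is `6`. -/
theorem li_one_of_sum {a b f : V} (hab : a ≠ b) (hn : ¬ G.Adj a b) (hL : ln G a b ≠ ln G x z)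
    (hf : f ∈ ln G x z) (hf' : f ∈ ln G a b) (hs : ∑ y ∈ ln G a b, li G x z y = 6) :
    ∀ y ∈ ln G a b, y ≠ f → li G x z y = 1 := by
  rw [← add_sum_erase _ _ hf', mem_ln.1 hf] at hs
  have h1 : ∑ y ∈ (ln G a b).erase f, li G x z y = ∑ _y ∈ (ln G a b).erase f, 1 := by
    rw [sum_const, card_erase_of_mem hf', card_ln hG hab hn]
    simp only [nsmul_eq_mul]
    omega
  intro y hy hyf
  refine (sum_eq_sum_iff_of_le fun w hw => ?_).1 h1 y (mem_erase.2 ⟨hyf, hy⟩)
  rcases li_range hG hne hxz w with h | h | h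
  · omega
  · omega
  · have hw' := mem_erase.1 hw
    exact absurd ((ln_eq hG hab hn hw'.2 hf' hw'.1).symm.trans
      (ln_eq hG hne hxz (mem_ln.2 h) hf hw'.1)) hL

theorem sum_li_six {f y : V} (hf : f ∈ ln G x z) (hy : li G x z y = 1) :
    ∑ w ∈ ln G f y, li G x z w = 6 := by
  have h1 := (li_one_iff hG hne hxz).1 hy
  have := sum_ln_eig hG (x := f) (z := y) (fun h => h1.1 (h ▸ hf)) (h1.2 f hf) (am_li hG hne hxz)
    fun w hw => li_adj_ln hG hne hxz hf hw
  rw [mem_ln.1 hf, hy] at this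
  omega

end pair

/-- Cocliques of size `21`. -/
def IsCo (G : SimpleGraph V) (C : Finset V) : Prop :=
  C.card = 21 ∧ ∀ a ∈ C, ∀ b ∈ C, ¬ G.Adj a b

theorem IsCo.am_eq (hG : G.IsSRGWith 77 16 0 4) {C : Finset V} (hC : IsCo G C) (v : V) :
    am G (ind C) v = 6 - 6 * ind C v := by
  have h0 : ∀ v ∈ C, am G (ind C) v = 0 := fun v hv => by
    rw [am_ind, filter_eq_empty_iff.2 fun f hf => hC.2 v hv f hf]; rfl
  have hc : Cᶜ.card = 56 := by rw [card_compl, hG.card, hC.1]
  have h1 := eq_of_var (am G (ind C)) Cᶜ 6 (fun v hv => h0 v (by simpa using hv))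
    (by rw [sum_am hG, sum_ind, hC.1, hc]; rfl)
    (by rw [sum_am_ind_sq hG, hC.1, hc, sum_eq_zero h0]; rfl)
  by_cases hv : v ∈ C
  · rw [h0 v hv, ind_mem hv]; rfl
  · rw [h1 v (mem_compl.2 hv), ind_not hv]; rfl

theorem IsCo.ln_subset (hG : G.IsSRGWith 77 16 0 4) {C : Finset V} (hC : IsCo G C) {x z : V}
    (hx : x ∈ C) (hz : z ∈ C) (hne : x ≠ z) : ln G x z ⊆ C := by
  have hxz := hC.2 x hx z hz
  have := sum_ln_eig hG hne hxz (hC.am_eq hG) fun y hy => ind_not fun h => hC.2 x hx y h hy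
  rw [ind_mem hx, ind_mem hz] at this
  have h1 : ∑ y ∈ ln G x z, ind C y = ∑ _y ∈ ln G x z, 1 := by
    rw [sum_const, card_ln hG hne hxz]
    simp only [nsmul_eq_mul]
    omega
  intro y hy
  have h2 := (sum_eq_sum_iff_of_le fun w _ => by rw [ind]; split_ifs <;> simp).1 h1 y hy
  by_contra h
  rw [ind_not h] at h2
  omega

/-- The union of the lines joining `y` to the points of the line through `x`, `z`. -/
def cc (G : SimpleGraph V) [DecidableRel G.Adj] (x z y : V) : Finset V :=
  insert y ((ln G x z).biUnion fun f => (ln G f y).erase y)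

section pair

variable (hG : G.IsSRGWith 77 16 0 4) {x z : V} (hne : x ≠ z) (hxz : ¬ G.Adj x z)
include hG hne hxz

theorem ln_subset_cc {y : V} (hy : li G x z y = 1) : ln G x z ⊆ cc G x z y := by
  have h1 := (li_one_iff hG hne hxz).1 hy
  intro f hf
  have h2 : f ≠ y := fun h => h1.1 (h ▸ hf)
  exact mem_insert_of_mem (mem_biUnion.2 ⟨f, hf, mem_erase.2 ⟨h2, left_mem_ln hG h2 (h1.2 f hf)⟩⟩)

theorem ln_ne {y f g : V} (hy : li G x z y = 1) (hf : f ∈ ln G x z) (hg : g ∈ ln G x z)
    (hfg : f ≠ g) : ln G g y ≠ ln G f y := by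
  have h1 := (li_one_iff hG hne hxz).1 hy
  have h2 : ∀ f ∈ ln G x z, f ≠ y := fun f hf h => h1.1 (h ▸ hf)
  intro h
  have h3 := ln_eq hG (h2 f hf) (h1.2 f hf) (left_mem_ln hG (h2 f hf) (h1.2 f hf))
    (h ▸ left_mem_ln hG (h2 g hg) (h1.2 g hg)) hfg
  rw [ln_eq hG hne hxz hf hg hfg] at h3
  exact h1.1 (h3 ▸ right_mem_ln hG (h2 f hf) (h1.2 f hf))

theorem isCo_cc {y : V} (hy : li G x z y = 1) : IsCo G (cc G x z y) := by
  have h1 := (li_one_iff hG hne hxz).1 hy
  have h2 : ∀ f ∈ ln G x z, f ≠ y := fun f hf h => h1.1 (h ▸ hf)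
  have hr : ∀ f ∈ ln G x z, y ∈ ln G f y := fun f hf => right_mem_ln hG (h2 f hf) (h1.2 f hf)
  have hl : ∀ f ∈ ln G x z, f ∈ ln G f y := fun f hf => left_mem_ln hG (h2 f hf) (h1.2 f hf)
  constructor
  · rw [cc, card_insert_of_notMem (by simp), card_biUnion, sum_congr rfl (g := fun _ => 4)
      fun f hf => by rw [card_erase_of_mem (hr f hf), card_ln hG (h2 f hf) (h1.2 f hf)],
      sum_const, card_ln hG hne hxz]
    · rfl
    · intro f hf g hg hfg
      refine disjoint_left.2 fun w hw hw' => ln_ne hG hne hxz hy hf hg hfg ?_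
      rw [mem_erase] at hw hw'
      exact (ln_eq hG (h2 g hg) (h1.2 g hg) hw'.2 (hr g hg) hw.1).symm.trans
        (ln_eq hG (h2 f hf) (h1.2 f hf) hw.2 (hr f hf) hw.1)
  · have hm : ∀ w ∈ cc G x z y, ∃ f ∈ ln G x z, w ∈ ln G f y := by
      intro w hw
      rcases mem_insert.1 hw with rfl | hw
      · exact ⟨x, left_mem_ln hG hne hxz, hr x (left_mem_ln hG hne hxz)⟩
      · obtain ⟨f, hf, hw⟩ := mem_biUnion.1 hw
        exact ⟨f, hf, (mem_erase.1 hw).2⟩
    intro a ha b hb
    obtain ⟨f, hf, ha⟩ := hm a ha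
    obtain ⟨g, hg, hb⟩ := hm b hb
    by_cases hfg : f = g
    · subst hfg; exact ln_coclique hG (h2 f hf) (h1.2 f hf) ha hb
    by_cases hby : b = y
    · subst hby; exact ln_coclique hG (h2 f hf) (h1.2 f hf) ha (hr f hf)
    have e1 : li G f y g = 1 := li_one_of_sum hG (h2 f hf) (h1.2 f hf) hne hxz
      (fun h => h1.1 (by rw [h]; exact hr f hf)) (hl f hf) hf
      ((sum_li_symm hG (h2 f hf) (h1.2 f hf) hne hxz).trans (sum_li_six hG hne hxz hf hy)) g hg
      (Ne.symm hfg)
    have e2 := sum_li_six hG (h2 f hf) (h1.2 f hf) (hr f hf) e1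
    rw [ln_eq hG (h2 g hg) (h1.2 g hg) (hr g hg) (hl g hg) (h2 g hg).symm] at e2
    have e3 := li_one_of_sum hG (h2 f hf) (h1.2 f hf) (h2 g hg) (h1.2 g hg)
      (ln_ne hG hne hxz hy hf hg hfg) (hr f hf) (hr g hg) e2 b hb hby
    exact ((li_one_iff hG (h2 f hf) (h1.2 f hf)).1 e3).2 a ha

theorem eq_cc {y : V} (hy : li G x z y = 1) {C : Finset V} (hC : IsCo G C) (hx : x ∈ C)
    (hz : z ∈ C) (hyC : y ∈ C) : C = cc G x z y := by
  have h1 := (li_one_iff hG hne hxz).1 hy
  refine (eq_of_subset_of_card_le (fun w hw => ?_)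
    (by rw [hC.1, (isCo_cc hG hne hxz hy).1])).symm
  rcases mem_insert.1 hw with rfl | hw
  · exact hyC
  · obtain ⟨f, hf, hw⟩ := mem_biUnion.1 hw
    exact hC.ln_subset hG (hC.ln_subset hG hx hz hne hf) hyC (fun h => h1.1 (h ▸ hf))
      (mem_erase.1 hw).2

end pair

/-- The type of cocliques of size `21`. -/
abbrev Co (G : SimpleGraph V) := {C : Finset V // IsCo G C}

open Classical in
/-- The cocliques through a vertex. -/
noncomputable def bl (G : SimpleGraph V) (x : V) : Finset (Co G) := univ.filter fun C => x ∈ C.1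

omit [DecidableRel G.Adj] in
theorem mem_bl {x : V} {C : Co G} : C ∈ bl G x ↔ x ∈ C.1 := by simp [bl]

omit [Fintype V] [DecidableEq V] in
theorem double_count {ι : Type*} (S : Finset ι) (T : Finset V) (r : ι → V → Prop)
    [∀ i v, Decidable (r i v)] (a b : ℕ) (h1 : ∀ w ∈ T, (S.filter fun i => r i w).card = a)
    (h2 : ∀ i ∈ S, (T.filter fun w => r i w).card = b) : T.card * a = S.card * b := by
  have := sum_card_filter_and S T r
  rwa [sum_congr rfl h1, sum_congr rfl h2, sum_const, sum_const] at this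

theorem card_bl_inter (hG : G.IsSRGWith 77 16 0 4) {x z : V} (hne : x ≠ z) :
    (bl G x ∩ bl G z).card = if G.Adj x z then 0 else 2 := by
  split_ifs with hxz
  · exact card_eq_zero.2 (eq_empty_of_forall_notMem fun C hC =>
      C.2.2 x (mem_bl.1 (mem_inter.1 hC).1) z (mem_bl.1 (mem_inter.1 hC).2) hxz)
  have := double_count (bl G x ∩ bl G z) (univ.filter fun y => li G x z y = 1)
    (fun C y => y ∈ C.1) 1 16 (fun y hy => ?_) fun C hC => ?_
  · rw [card_li_one hG hne hxz] at this
    omega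
  · have hy := (mem_filter.1 hy).2
    have hs := ln_subset_cc hG hne hxz hy
    refine card_eq_one.2 ⟨⟨cc G x z y, isCo_cc hG hne hxz hy⟩, eq_singleton_iff_unique_mem.2
      ⟨mem_filter.2 ⟨mem_inter.2 ⟨mem_bl.2 (hs (left_mem_ln hG hne hxz)),
        mem_bl.2 (hs (right_mem_ln hG hne hxz))⟩, mem_insert_self _ _⟩, fun C hC => ?_⟩⟩
    rw [mem_filter, mem_inter, mem_bl, mem_bl] at hC
    exact Subtype.ext (eq_cc hG hne hxz hy C.2 hC.1.1 hC.1.2 hC.2)
  · have hx := mem_bl.1 (mem_inter.1 hC).1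
    have hz := mem_bl.1 (mem_inter.1 hC).2
    have hs := C.2.ln_subset hG hx hz hne
    have : (univ.filter fun y => li G x z y = 1).filter (fun y => y ∈ C.1) = C.1 \ ln G x z := by
      ext y
      simp only [mem_filter, mem_univ, true_and, mem_sdiff, li_one_iff hG hne hxz]
      exact ⟨fun h => ⟨h.2, h.1.1⟩, fun h => ⟨⟨h.2, fun f hf => C.2.2 f (hs hf) y h.1⟩, h.1⟩⟩
    rw [this, card_sdiff_of_subset hs, C.2.1, card_ln hG hne hxz]

theorem card_bl (hG : G.IsSRGWith 77 16 0 4) (x : V) : (bl G x).card = 6 := by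
  have hfar : (far G x).card = 60 := by have := card_far hG x; omega
  have := double_count (bl G x) (far G x) (fun C y => y ∈ C.1) 2 20 (fun y hy => ?_)
    fun C hC => ?_
  · rw [hfar] at this
    omega
  · have h := card_bl_inter hG (mem_far.1 hy).1.symm
    rw [if_neg (mem_far.1 hy).2] at h
    rw [← h]
    congr 1
    ext C
    simp [mem_bl]
  · have hx := mem_bl.1 hC
    have : (far G x).filter (fun y => y ∈ C.1) = C.1.erase x := by
      ext y
      simp only [mem_filter, mem_far, mem_erase]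
      exact ⟨fun h => ⟨h.1.1, h.2⟩, fun h => ⟨⟨h.1, C.2.2 x hx y h.2⟩, h.2⟩⟩
    rw [this, card_erase_of_mem hx, C.2.1]

theorem card_co (hG : G.IsSRGWith 77 16 0 4) [Fintype (Co G)] : Fintype.card (Co G) = 22 := by
  have := double_count (univ : Finset (Co G)) univ (fun C y => y ∈ C.1) 6 21 (fun y _ => ?_)
    fun C _ => ?_
  · rw [card_univ, card_univ, hG.card] at this
    omega
  · rw [← card_bl hG y]; congr 1; ext C; simp [mem_bl]
  · rw [filter_mem_eq_inter, univ_inter, C.2.1]

theorem srg77_iso (hG : G.IsSRGWith 77 16 0 4) [Fintype (Co G)] :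
    ∃ B : Set (Finset (Co G)), IsSteinerSystem 3 6 B ∧ Nonempty (G ≃g blockGraph B) := by
  have hinj : Function.Injective (bl G) := by
    intro w w' h
    by_contra hne
    have := card_bl_inter hG hne
    rw [← h, inter_self, card_bl hG] at this
    split_ifs at this
    omega
  have hB : IsSteinerSystem 3 6 (Set.range (bl G)) := CL.Golay.isSteinerSystem_of_count
    (by rintro _ ⟨w, rfl⟩; exact card_bl hG w) (by
      rintro _ ⟨w, rfl⟩ _ ⟨w', rfl⟩ h3
      by_contra hne
      rw [card_bl_inter hG fun h => hne (by rw [h])] at h3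
      split_ifs at h3 <;> omega) (by
      rw [Set.ncard_range_of_injective hinj, Nat.card_eq_fintype_card, hG.card, card_co hG]; rfl)
  refine ⟨_, hB, ⟨⟨Equiv.ofInjective _ hinj, fun {x y} => ?_⟩⟩⟩
  rw [blockGraph_adj (nonempty_of_steiner hB)]
  simp only [Equiv.ofInjective_apply]
  rw [disjoint_iff_inter_eq_empty, ← card_eq_zero]
  by_cases hxy : x = y
  · subst hxy; simp [card_bl hG]
  · rw [card_bl_inter hG hxy]
    split_ifs with h <;> simp [h]

theorem srg77_unique {W : Type*} [Fintype W] [DecidableEq W] {H : SimpleGraph W}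
    [DecidableRel H.Adj] (hG : G.IsSRGWith 77 16 0 4) (hH : H.IsSRGWith 77 16 0 4) :
    Nonempty (G ≃g H) := by
  classical
  obtain ⟨B, hB, ⟨f⟩⟩ := srg77_iso hG
  obtain ⟨B', hB', ⟨f'⟩⟩ := srg77_iso hH
  obtain ⟨e, -, he⟩ := exists_iso22 (card_co hG) (card_co hH) hB hB' (n := 0) (by norm_num)
    ⟨Fin.elim0, fun i => i.elim0⟩ ⟨Fin.elim0, fun i => i.elim0⟩
  exact ⟨f.trans ((blockGraphCongr e he).trans f'.symm)⟩

end CL.Steiner.G77
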