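import Cfsg.Agent.Base
import Cfsg.Agent.Spor.SteinerHSGraph
import Cfsg.Agent.Spor.SimpleCrit

/-! The automorphism group of the Higman-Sims graph and the Higman-Sims group. -/

set_option autoImplicit false

namespace CL.Steiner

open Finset Cfsg CL.Golay CL.Chain MulAction
open scoped Pointwise

variable {α : Type*} [DecidableEq α] {B : Set (Finset α)}

/-- Automorphisms of the design as automorphisms of the point-block graph. -/
def autToPbg (B : Set (Finset α)) : setSystemAut B →* (pointBlockGraph B ≃g pointBlockGraph B) where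
  toFun g := pbgCongr g.1 g.2
  map_one' := by
    ext (_ | a | b) : 1
    · rfl
    · rfl
    · exact congrArg (some ∘ Sum.inr) (Subtype.ext image_id)
  map_mul' g h := by
    ext (_ | a | b) : 1
    · rfl
    · rfl
    · exact congrArg (some ∘ Sum.inr) (Subtype.ext (image_image (f := h.1) (g := g.1)).symm)

theorem autToPbg_none (g : setSystemAut B) : autToPbg B g none = none := rfl

theorem autToPbg_pt (g : setSystemAut B) (a : α) :
    autToPbg B g (some (Sum.inl a)) = some (Sum.inl (g.1 a)) := rfl

theorem autToPbg_blk (g : setSystemAut B) (b : B) : autToPbg B g (some (Sum.inr b)) =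
    some (Sum.inr ⟨(b : Finset α).image g.1, image_mem_of_mem_aut g.2 b.2⟩) := rfl

theorem autToPbg_injective : Function.Injective (autToPbg B) := by
  intro g h hgh
  ext a
  have := congrArg (fun f : pointBlockGraph B ≃g pointBlockGraph B => f (some (Sum.inl a))) hgh
  simpa [autToPbg_pt] using this

theorem range_autToPbg [Finite α] : (autToPbg B).range =
    stabilizer (pointBlockGraph B ≃g pointBlockGraph B) (none : Option (α ⊕ B)) := by
  refine le_antisymm (by rintro _ ⟨g, rfl⟩; rfl) fun f hf => ?_
  have hf : f none = none := hf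
  have h1 : ∀ a, ∃ a', f (some (Sum.inl a)) = some (Sum.inl a') := by
    intro a
    have := f.map_adj_iff.2 (pbg_none_pt (B := B) a)
    rw [hf] at this
    rcases h : f (some (Sum.inl a)) with _ | a' | b
    · rw [h] at this; exact absurd this pbg_none_none
    · exact ⟨a', rfl⟩
    · rw [h] at this; exact absurd this (pbg_none_blk _)
  choose g hg using h1
  have hinj : Function.Injective g := fun a a' h => by
    have := f.injective ((hg a).trans ((congrArg (some ∘ Sum.inl) h).trans (hg a').symm))
    simpa using this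
  let σ := Equiv.ofBijective g (Finite.injective_iff_bijective.1 hinj)
  have h2 : ∀ b : B, ∃ c : B, f (some (Sum.inr b)) = some (Sum.inr c) ∧
      (b : Finset α).image σ = c := by
    intro b
    rcases h : f (some (Sum.inr b)) with _ | a' | c
    · exact absurd (f.injective (h.trans hf.symm)) (by simp)
    · have := pbg_none_pt (B := B) a'
      rw [← h, ← hf, f.map_adj_iff] at this
      exact absurd this (pbg_none_blk _)
    · refine ⟨c, rfl, ?_⟩
      ext x
      obtain ⟨a, rfl⟩ := σ.surjective x
      rw [σ.injective.mem_finset_image, ← pbg_pt_blk, ← pbg_pt_blk, ← h, ← f.map_adj_iff, hg]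
      rfl
  have hσ : σ ∈ setSystemAut B := mem_setSystemAut_iff.2 fun b hb => by
    obtain ⟨c, -, hc⟩ := h2 ⟨b, hb⟩
    rw [smul_eq_image, hc]; exact c.2
  refine ⟨⟨σ, hσ⟩, ?_⟩
  ext (_ | a | b) : 1
  · exact hf.symm
  · exact (hg a).symm
  · obtain ⟨c, hc, hc'⟩ := h2 b
    rw [hc, autToPbg_blk]
    exact congrArg (some ∘ Sum.inr) (Subtype.ext hc')

variable [Fintype α]

theorem card_aut22 (hα : Fintype.card α = 22) (hB : IsSteinerSystem 3 6 B) :
    Nat.card (setSystemAut B) = 887040 := by
  obtain ⟨H, hH, ⟨f⟩⟩ := exists_index_two22 hα hB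
  rw [← H.index_mul_card, hH, Nat.card_congr f.toEquiv, CL.M24.card_fix_two (by decide)]

theorem pbg_pretransitive (hα : Fintype.card α = 22) (hB : IsSteinerSystem 3 6 B) :
    IsPretransitive (pointBlockGraph B ≃g pointBlockGraph B) (Option (α ⊕ B)) := by
  classical
  have := Fintype.ofFinite B
  have hG := pointBlockGraph_srg hα hB
  exact ⟨fun v w => srg100_unique hG hG v w⟩

omit [DecidableEq α] in
theorem card_vertices (hα : Fintype.card α = 22) (hB : IsSteinerSystem 3 6 B) :
    Nat.card (Option (α ⊕ B)) = 100 := by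
  classical
  have := Fintype.ofFinite B
  rw [Nat.card_eq_fintype_card, (pointBlockGraph_srg hα hB).card]

theorem card_stabilizer_pbg (hα : Fintype.card α = 22) (hB : IsSteinerSystem 3 6 B) :
    Nat.card (stabilizer (pointBlockGraph B ≃g pointBlockGraph B) (none : Option (α ⊕ B))) =
      887040 := by
  rw [← range_autToPbg, ← card_aut22 hα hB]
  exact (Nat.card_congr (MonoidHom.ofInjective autToPbg_injective).toEquiv).symm

theorem card_aut_pbg (hα : Fintype.card α = 22) (hB : IsSteinerSystem 3 6 B) :
    Nat.card (pointBlockGraph B ≃g pointBlockGraph B) = 88704000 := by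
  have := pbg_pretransitive hα hB
  rw [← (stabilizer _ (none : Option (α ⊕ B))).index_mul_card, index_stabilizer_of_transitive,
    card_vertices hα hB, card_stabilizer_pbg hα hB]

/-- An automorphism of order 11 of S(3,6,22) fixes no point and no block. -/
theorem fixed_of_order_eleven (hα : Fintype.card α = 22) (hB : IsSteinerSystem 3 6 B)
    {g : setSystemAut B} (hg : orderOf g = 11) {x : Option (α ⊕ B)} (hx : autToPbg B g x = x) :
    x = none := by
  have hpt : ∀ a : α, g.1 a ≠ a := by
    intro a ha
    obtain ⟨v⟩ := exists_emb (α := α) 1 (by omega)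
    have h1 : IsMultiplyPretransitive (setSystemAut B) α 1 :=
      multiplyPretransitive_of_marked v fun u => exists_iso22 hα hα hB hB (by norm_num) u v
    have h2 : IsPretransitive (setSystemAut B) α := is_one_pretransitive_iff.1 h1
    have h3 := (stabilizer (setSystemAut B) a).index_mul_card
    rw [index_stabilizer_of_transitive, card_aut22 hα hB, Nat.card_eq_fintype_card, hα] at h3
    have h4 := Subgroup.orderOf_dvd_natCard (stabilizer (setSystemAut B) a) (x := g) ha
    rw [hg] at h4
    omega
  rcases x with _ | a | b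
  · rfl
  · exact absurd (by simpa [autToPbg_pt] using hx) (hpt a)
  · exfalso
    have hb : g.1 • (b : Finset α) = b := by
      simpa [autToPbg_blk, Subtype.ext_iff, smul_eq_image] using hx
    have := Fact.mk (show Nat.Prime 11 by norm_num)
    obtain ⟨a, ha⟩ := Equiv.Perm.exists_fixed_point_of_prime (p := 11) (n := 1)
      (σ := g.1.subtypePerm (p := (· ∈ (b : Finset α))) (smul_eq_self_iff.1 hb))
      (by simp [hB.1 b b.2]) (by
        rw [Equiv.Perm.subtypePerm_pow]
        have : g.1 ^ 11 ^ 1 = 1 := by
          rw [pow_one, ← hg, ← Subgroup.coe_pow, pow_orderOf_eq_one]; rfl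
        simp only [this]
        rfl)
    exact hpt a (congrArg Subtype.val ha)

/-- An involution of `M24` exchanging the points 22 and 23, packed. -/
def swapP : ℕ := 944212177156141896951033219302575587

set_option maxRecDepth 100000 in
theorem exists_odd_aut (hα : Fintype.card α = 22) (hB : IsSteinerSystem 3 6 B) [Fintype B] :
    ∃ g : setSystemAut B, Equiv.Perm.sign (autToPbg B g).toEquiv = -1 := by
  have hne : tau 1 ≠ tau 2 := by decide
  obtain ⟨ι, h⟩ := exists_emb22' hα hB hne
  obtain ⟨hτ, hrep⟩ := isM24_spec (g := swapP) (by decide +kernel)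
  set τ := toPerm swapP
  have t1 : τ (tau 1) = tau 2 := by rw [hrep.apply]; decide +kernel
  have t2 : τ (tau 2) = tau 1 := by rw [hrep.apply]; decide +kernel
  have tt : τ * τ = 1 := ((hrep.mul hrep).eq_iff_eqP rep_one).2 (by decide +kernel)
  obtain ⟨g, hg⟩ := h.exists_via (σ := Equiv.swap (tau 1) (tau 2) * τ) (by simp [t1, t2])
  have hsm : ∀ o : Finset GolayPt, {tau 1, tau 2} ⊆ o →
      Equiv.Perm.viaEmbeddingHom ι g • o = τ • o := fun o hPo => by
    rw [insert_subset_iff, singleton_subset_iff] at hPo
    rw [hg, mul_smul, swap_smul_eq, if_pos]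
    exact iff_of_true (t2 ▸ apply_mem_smul_iff.2 hPo.2) (t1 ▸ apply_mem_smul_iff.2 hPo.1)
  have hg' : g ∈ setSystemAut B := h.mem_aut_iff.2 fun o ho hPo => by
    rw [hsm o hPo]; exact smul_mem_octads hτ ho
  refine ⟨⟨g, hg'⟩, ?_⟩
  have hsq : (⟨g, hg'⟩ : setSystemAut B) ^ 2 = 1 := by
    apply Subtype.ext
    apply Equiv.Perm.viaEmbeddingHom_injective ι
    rw [Subgroup.coe_pow, map_pow, hg, sq, mul_assoc, ← mul_assoc τ, Equiv.mul_swap_eq_swap_mul, t1,
      t2, mul_assoc, tt, mul_one, Equiv.swap_comm (tau 2), Equiv.swap_mul_self]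
    simp
  have hsq' : (autToPbg B ⟨g, hg'⟩).toEquiv ^ 2 = 1 := by
    have : autToPbg B ⟨g, hg'⟩ * autToPbg B ⟨g, hg'⟩ = 1 := by rw [← map_mul, ← sq, hsq, map_one]
    ext x : 1
    exact congrArg (fun f : pointBlockGraph B ≃g pointBlockGraph B => f x) this
  have hfix : Fintype.card (Function.fixedPoints (autToPbg B ⟨g, hg'⟩).toEquiv) = 30 := by
    rw [Fintype.card_subtype, card_filter_option_sum, if_pos (by rfl)]
    have e1 : (univ.filter fun a : α => some (Sum.inl a) ∈
        Function.fixedPoints (autToPbg B ⟨g, hg'⟩).toEquiv).card = 8 := by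
      have : (univ.filter fun p : GolayPt => pt (app swapP (idx p)) = p).card = 8 := by
        decide +kernel
      rw [← this]
      have hι : ∀ a, τ (ι a) = ι (g a) := fun a => by
        have h1 := congrArg (fun σ : Equiv.Perm GolayPt => σ (ι a)) hg
        simp only [Equiv.Perm.viaEmbeddingHom_apply, Equiv.Perm.viaEmbedding_apply,
          Equiv.Perm.mul_apply] at h1
        have h2 := (h.range (ι a)).1 ⟨a, rfl⟩
        simp only [mem_insert, mem_singleton, not_or] at h2
        rw [h1, Equiv.swap_apply_of_ne_of_ne]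
        · rw [← t2]; exact τ.injective.ne h2.2
        · rw [← t1]; exact τ.injective.ne h2.1
      have hm : ∀ a : α, some (Sum.inl a) ∈ Function.fixedPoints (autToPbg B ⟨g, hg'⟩).toEquiv ↔
          τ (ι a) = ι a := fun a => by
        rw [hι, ι.injective.eq_iff]
        change autToPbg B ⟨g, hg'⟩ (some (Sum.inl a)) = some (Sum.inl a) ↔ _
        simp [autToPbg_pt]
      refine card_bij (fun a _ => ι a) (fun a ha => ?_) (fun a _ b _ hab => ι.injective hab)
        fun p hp => ?_
      · rw [mem_filter, hm] at ha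
        rw [mem_filter, ← hrep.apply]
        exact ⟨mem_univ _, ha.2⟩
      · rw [mem_filter, ← hrep.apply] at hp
        obtain ⟨a, rfl⟩ := (h.range p).2 (by
          simp only [mem_insert, mem_singleton]
          rintro (rfl | rfl)
          · exact hne (hp.2.symm.trans t1)
          · exact hne (t2.symm.trans hp.2))
        exact ⟨a, mem_filter.2 ⟨mem_univ _, (hm a).2 hp.2⟩, rfl⟩
    have e2 : (univ.filter fun b : B => some (Sum.inr b) ∈
        Function.fixedPoints (autToPbg B ⟨g, hg'⟩).toEquiv).card = 21 := by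
      have hinj : Function.Injective fun b : Finset α => b.map ι ∪ {tau 1, tau 2} := by
        intro b c hbc
        ext a
        have h2 := (h.range (ι a)).1 ⟨a, rfl⟩
        simpa only [mem_union, mem_map', h2, or_false] using Finset.ext_iff.1 hbc (ι a)
      have h21 : {o | o ∈ octads ∧ {tau 1, tau 2} ⊆ o ∧ τ • o = o}.ncard = 21 := by
        rw [ncard_CSet (fun n => Nat.beq (pop n) 8 && (bit n 22 && bit n 23) &&
          Nat.beq (act swapP n) n) (fun s hs => hs.1.1) fun n hn hn' => by
            simp only [Set.mem_ofPred_eq, ofMask_mem_octads_iff, hn, true_and, insert_subset_iff,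
              singleton_subset_iff, mem_ofMask, hrep.smul_eq_iff hn', Bool.and_eq_true, Nat.beq_eq,
              bit_eq, and_assoc]
            rfl]
        decide +kernel
      rw [card_filter_blocks B (fun b => b.image g = b) _ fun b => by
          change autToPbg B ⟨g, hg'⟩ (some (Sum.inr b)) = some (Sum.inr b) ↔ _
          simp [autToPbg_blk, Subtype.ext_iff], ← ncard_sep_eq, ← h21,
        ← Set.ncard_image_of_injective _ hinj]
      congr 1
      ext o
      constructor
      · rintro ⟨b, ⟨hb, hb'⟩, rfl⟩
        refine ⟨(h.mem b).1 hb, subset_union_right, ?_⟩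
        rw [← hsm _ subset_union_right, h.via_smul, hb']
      · rintro ⟨ho, hPo, ho'⟩
        obtain ⟨b, rfl⟩ := h.exists_eq hPo
        rw [← hsm _ subset_union_right, h.via_smul] at ho'
        exact ⟨b, ⟨(h.mem b).2 ho, hinj ho'⟩, rfl⟩
    rw [e1, e2]
  rw [Equiv.Perm.sign_of_pow_two_eq_one hsq', hfix, ← Nat.card_eq_fintype_card,
    card_vertices hα hB]
  rfl

theorem index_ker_eq_two {G : Type*} [Group G] (f : G →* ℤˣ) {g : G} (hg : f g = -1) :
    f.ker.index = 2 := by
  rw [Subgroup.index_eq_two_iff]
  refine ⟨g, fun b => ?_⟩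
  rw [MonoidHom.mem_ker, MonoidHom.mem_ker, map_mul, hg]
  rcases Int.units_eq_one_or (f b) with h | h <;> rw [h] <;> decide

theorem eq_one_of_simple {G : Type*} [Group G] [IsSimpleGroup G] (hG : 2 < Nat.card G)
    (f : G →* ℤˣ) (g : G) : f g = 1 := by
  rcases IsSimpleGroup.eq_bot_or_eq_top_of_normal f.ker inferInstance with h | h
  · have := Nat.card_le_card_of_injective f ((MonoidHom.ker_eq_bot_iff f).1 h)
    rw [Nat.card_eq_fintype_card (α := ℤˣ), Fintype.card_units_int] at this
    omega
  · exact (h ▸ Subgroup.mem_top g : g ∈ f.ker)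

/-- The Higman-Sims group: a simple subgroup of index two, transitive on the vertices. -/
theorem exists_HS (hα : Fintype.card α = 22) (hB : IsSteinerSystem 3 6 B) :
    ∃ H : Subgroup (pointBlockGraph B ≃g pointBlockGraph B), H.index = 2 ∧ IsHS H := by
  classical
  have := Fintype.ofFinite B
  let sgn : (pointBlockGraph B ≃g pointBlockGraph B) →* ℤˣ :=
    Equiv.Perm.sign.comp (MulAction.toPermHom _ (Option (α ⊕ B)))
  obtain ⟨g₀, hg₀⟩ := exists_odd_aut hα hB
  have hidx : sgn.ker.index = 2 := index_ker_eq_two sgn (g := autToPbg B g₀) hg₀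
  have hcard : Nat.card sgn.ker = 44352000 := by
    have := sgn.ker.index_mul_card
    rw [hidx, card_aut_pbg hα hB] at this
    omega
  obtain ⟨K, hK, ⟨f⟩⟩ := exists_index_two22 hα hB
  have hne : tau 1 ≠ tau 2 := by decide
  have hKc : Nat.card K = 443520 := (Nat.card_congr f.toEquiv).trans (CL.M24.card_fix_two hne)
  have hKs : IsSimpleGroup K := f.isSimpleGroup_congr.2 (CL.M24.isSimpleGroup_fix_two hne)
  have hKeq : K = (sgn.comp (autToPbg B)).ker := by
    have h1 : K ≤ (sgn.comp (autToPbg B)).ker := fun k hk =>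
      eq_one_of_simple (by omega) ((sgn.comp (autToPbg B)).comp K.subtype) ⟨k, hk⟩
    have h2 := index_ker_eq_two (sgn.comp (autToPbg B)) (g := g₀) hg₀
    have h3 := Subgroup.relIndex_mul_index h1
    rw [hK, h2] at h3
    exact le_antisymm h1 (Subgroup.relIndex_eq_one.1 (by omega))
  have hmap : K.map (autToPbg B) = sgn.ker ⊓ stabilizer _ (none : Option (α ⊕ B)) := by
    rw [hKeq, ← MonoidHom.comap_ker, Subgroup.map_comap_eq, range_autToPbg, inf_comm]
  let F : stabilizer sgn.ker (none : Option (α ⊕ B)) ≃* K :=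
    (stabilizerEquivInf _ _).trans ((MulEquiv.subgroupCongr hmap.symm).trans
      (K.equivMapOfInjective _ autToPbg_injective).symm)
  have hS : IsSimpleGroup (stabilizer sgn.ker (none : Option (α ⊕ B))) :=
    F.isSimpleGroup_congr.2 hKs
  have hSi : (stabilizer sgn.ker (none : Option (α ⊕ B))).index = 100 := by
    have := (stabilizer sgn.ker (none : Option (α ⊕ B))).index_mul_card
    rw [Nat.card_congr F.toEquiv, hKc, hcard] at this
    omega
  have : Finite sgn.ker := Nat.finite_of_card_ne_zero (by omega)
  have := Fact.mk (show Nat.Prime 11 by norm_num)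
  obtain ⟨k, hk⟩ := exists_prime_orderOf_dvd_card' (G := K) 11 (by rw [hKc]; norm_num)
  have hk' : orderOf (k : setSystemAut B) = 11 := by rw [Subgroup.orderOf_coe, hk]
  have hkm : autToPbg B k ∈ sgn.ker := (hmap ▸ Subgroup.mem_map_of_mem _ k.2 :
    autToPbg B k ∈ sgn.ker ⊓ stabilizer _ (none : Option (α ⊕ B))).1
  refine ⟨sgn.ker, hidx, CL.SimpleCrit.isSimpleGroup_of_stabilizer (p := 11) (by norm_num)
    (none : Option (α ⊕ B)) ⟨autToPbg B k, hkm⟩ ?_ (by rw [hcard]; norm_num) rfl
    (fun g hg => fixed_of_order_eleven hα hB hk' hg) ?_, hcard⟩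
  · rw [← Subgroup.orderOf_coe, orderOf_injective _ autToPbg_injective, hk']
  · rw [hSi]
    exact CL.SimpleCrit.primePow_check 5 7 (by norm_num [Nat.factorial]) (by norm_num) (by norm_num)
      (by decide +kernel)

end CL.Steiner
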