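import Cfsg.Agent.Base

set_option autoImplicit false

namespace CL
namespace ThreeTrans

open Cfsg

variable {G : Type*} [Group G] {E : Set G}

theorem mul_self (hE : IsThreeTranspositionSet E) {d : G} (hd : d ∈ E) : d * d = 1 := by
  have h := pow_orderOf_eq_one d
  rw [hE.1 d hd, pow_two] at h
  exact h

theorem inv_eq (hE : IsThreeTranspositionSet E) {d : G} (hd : d ∈ E) : d⁻¹ = d :=
  inv_eq_of_mul_eq_one_right (mul_self hE hd)

theorem ne_one (hE : IsThreeTranspositionSet E) {d : G} (hd : d ∈ E) : d ≠ 1 := by
  intro h
  have := hE.1 d hd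
  rw [h, orderOf_one] at this
  exact absurd this (by norm_num)

theorem mul_mul_self (hE : IsThreeTranspositionSet E) {d : G} (hd : d ∈ E) (x : G) :
    d * (d * x) = x := by
  rw [← mul_assoc, mul_self hE hd, one_mul]

theorem commute_of_sq {d e : G} (hd : d * d = 1) (he : e * e = 1) (h : (d * e) ^ 2 = 1) :
    Commute d e := by
  have h1 : d * e * (d * e) = 1 := by rwa [pow_two] at h
  have h2 : (d * e)⁻¹ = d * e := inv_eq_of_mul_eq_one_right h1
  have hd' : d⁻¹ = d := inv_eq_of_mul_eq_one_right hd
  have he' : e⁻¹ = e := inv_eq_of_mul_eq_one_right he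
  rw [mul_inv_rev, hd', he'] at h2
  exact h2.symm

theorem braid_of_cube {d e : G} (hd : d * d = 1) (he : e * e = 1) (h : (d * e) ^ 3 = 1) :
    d * e * d = e * d * e := by
  have h1 : d * e * d * (e * d * e) = 1 := by
    rw [← h]; simp only [pow_succ, pow_zero, one_mul, mul_assoc]
  have h2 : e * d * e * (e * d * e) = 1 := by
    calc e * d * e * (e * d * e) = e * d * (e * e) * d * e := by simp only [mul_assoc]
      _ = e * (d * d) * e := by rw [he]; simp only [mul_assoc, mul_one]
      _ = 1 := by rw [hd, mul_one, he]
  exact mul_right_cancel (h1.trans h2.symm)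

theorem cube_of_braid {d e : G} (hd : d * d = 1) (he : e * e = 1) (h : d * e * d = e * d * e) :
    (d * e) ^ 3 = 1 := by
  calc (d * e) ^ 3 = (d * e * d) * (e * d * e) := by
        simp only [pow_succ, pow_zero, one_mul, mul_assoc]
    _ = (e * d * e) * (e * d * e) := by rw [h]
    _ = e * d * (e * e) * d * e := by simp only [mul_assoc]
    _ = e * (d * d) * e := by rw [he]; simp only [mul_assoc, mul_one]
    _ = 1 := by rw [hd, mul_one, he]

theorem braid_of_not_commute (hE : IsThreeTranspositionSet E) {d e : G} (hd : d ∈ E) (he : e ∈ E)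
    (h : ¬ Commute d e) : d * e * d = e * d * e := by
  rcases hE.2 d hd e he with h2 | h3
  · exact absurd (commute_of_sq (mul_self hE hd) (mul_self hE he) h2) h
  · exact braid_of_cube (mul_self hE hd) (mul_self hE he) h3

theorem cube_of_not_commute (hE : IsThreeTranspositionSet E) {d e : G} (hd : d ∈ E) (he : e ∈ E)
    (h : ¬ Commute d e) : (d * e) ^ 3 = 1 := by
  rcases hE.2 d hd e he with h2 | h3
  · exact absurd (commute_of_sq (mul_self hE hd) (mul_self hE he) h2) h
  · exact h3

theorem commute_or_braid (hE : IsThreeTranspositionSet E) {d e : G} (hd : d ∈ E) (he : e ∈ E) :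
    Commute d e ∨ d * e * d = e * d * e := by
  by_cases h : Commute d e
  · exact Or.inl h
  · exact Or.inr (braid_of_not_commute hE hd he h)

theorem eq_of_commute_of_braid {d e : G} (hc : Commute d e) (hb : d * e * d = e * d * e) :
    d = e := by
  have h1 : d * e * d = e * d * e := hb
  rw [hc.eq] at h1
  exact mul_left_cancel h1

theorem orderOf_mul_of_not_commute (hE : IsThreeTranspositionSet E) {d e : G} (hd : d ∈ E)
    (he : e ∈ E) (h : ¬ Commute d e) : orderOf (d * e) = 3 := by
  have : Fact (Nat.Prime 3) := ⟨by norm_num⟩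
  apply orderOf_eq_prime (cube_of_not_commute hE hd he h)
  intro h1
  apply h
  have : d = e := by
    have h2 : d * e = e * e := by rw [h1, mul_self hE he]
    exact mul_right_cancel h2
  rw [this]

/-- For distinct commuting 3-transpositions `a, b`, a 3-transposition commuting with `a * b`
commutes with both. -/
theorem commute_mul_iff (hE : IsThreeTranspositionSet E) {a b e : G} (ha : a ∈ E) (hb : b ∈ E)
    (he : e ∈ E) (hab : a ≠ b) : Commute e (a * b) ↔ (Commute e a ∧ Commute e b) := by
  refine ⟨fun h => ?_, fun h => h.1.mul_right h.2⟩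
  have key : ¬ (¬ Commute e a ∧ ¬ Commute e b) := by
    rintro ⟨h1, h2⟩
    have b1 := braid_of_not_commute hE he ha h1
    have b2 := braid_of_not_commute hE he hb h2
    have ee := mul_self hE he
    have h3 : e * (a * b) * e = a * b := by rw [h.eq, mul_assoc, ee, mul_one]
    have h4 : (e * a * e) * (e * b * e) = a * b := by
      rw [← h3]
      calc (e * a * e) * (e * b * e) = e * a * (e * e) * b * e := by simp only [mul_assoc]
        _ = e * (a * b) * e := by rw [ee]; simp only [mul_assoc, mul_one]
    rw [b1, b2] at h4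
    have h5 : a * (e * (a * b) * e) * b = a * b := by
      refine Eq.trans ?_ h4
      simp only [mul_assoc]
    rw [h3] at h5
    have h6 : a * (a * b) * b = 1 := by
      rw [mul_mul_self hE ha, mul_self hE hb]
    rw [h6] at h5
    apply hab
    have h7 : a * b = b * b := by rw [← h5, mul_self hE hb]
    exact mul_right_cancel h7
  by_cases h1 : Commute e a
  · refine ⟨h1, ?_⟩
    have : b = a * (a * b) := (mul_mul_self hE ha b).symm
    rw [this]; exact h1.mul_right h
  · have h2 : Commute e b := by
      by_contra h2
      exact key ⟨h1, h2⟩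
    refine ⟨?_, h2⟩
    have : a = (a * b) * b := by rw [mul_assoc, mul_self hE hb, mul_one]
    rw [this]; exact h.mul_right h2

end ThreeTrans
end CL
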