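import Cfsg.Agent.Base
import Cfsg.Agent.Spor.LeechTrans

/-!
# Orthogonal pairs of minimal vectors of the Leech lattice form one orbit of `Co0`
-/

set_option autoImplicit false

namespace CL.Co

open Cfsg Finset CL.Leech
open scoped Pointwise

/-- A minimal vector with a coordinate `4` has shape `(4, ±4, 0^22)`. -/
theorem shape_of_four {x : GolayPt → ℤ} (hx : x ∈ leechLattice) (hn : sqNorm x = 32) {i : GolayPt}
    (hi : x i = 4) : ∃ j b, i ≠ j ∧ (b = 4 ∨ b = -4) ∧ x = pairVec i j 4 b := by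
  rcases shape32 hx hn with ⟨k, l, a, b, hkl, ha, hb, rfl⟩ | ⟨o, -, s, -, -, rfl⟩ | ⟨j, c, -, rfl⟩
  · rw [pairVec_apply] at hi
    by_cases h1 : i = k
    · subst h1
      have : a = 4 := by simpa [hkl] using hi
      exact ⟨l, b, hkl, hb, by rw [this]⟩
    · by_cases h2 : i = l
      · subst h2
        have : b = 4 := by simpa [h1] using hi
        exact ⟨k, a, h1, ha, by rw [this, pairVec, pairVec, add_comm]⟩
      · simp [h1, h2] at hi
  · simp only [signFun, twoVec] at hi; split_ifs at hi <;> omega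
  · simp only [signFun, oddVec] at hi; split_ifs at hi <;> omega

theorem permCo0_pairVec (σ : M24) {v : leechLattice} {i j : GolayPt} {a b : ℤ}
    (h : (v : GolayPt → ℤ) = pairVec i j a b) :
    ((permCo0 σ • v : leechLattice) : GolayPt → ℤ) =
      pairVec ((σ : Equiv.Perm GolayPt) i) ((σ : Equiv.Perm GolayPt) j) a b := by
  funext k
  rw [permCo0_smul, h]
  simp only [pairVec_apply, Equiv.symm_apply_eq]

/-- A minimal vector `(4, ±4, 0^22)` with the `4` at `∞` is moved to `(4, 4)` at `∞, 0` by a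
monomial element fixing `8 e_∞`. -/
theorem exists_mono_of_four {v : leechLattice} (hv : sqNorm (v : GolayPt → ℤ) = 32)
    (h4 : (v : GolayPt → ℤ) none = 4) : ∃ g ∈ monoGroup, g • e8 none = e8 none ∧
      ((g • v : leechLattice) : GolayPt → ℤ) = pairVec none (some 0) 4 4 := by
  obtain ⟨j, b, hj, hb, hx⟩ := shape_of_four v.2 hv h4
  obtain ⟨σ, h1, h2⟩ := exists_M24_map2 hj (show (none : GolayPt) ≠ some 0 by simp)
  have h3 := permCo0_pairVec σ hx
  rw [h1, h2] at h3
  have h5 : permCo0 σ • e8 none = e8 none := by rw [permCo0_e8, h1]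
  rcases hb with rfl | rfl
  · exact ⟨_, permCo0_mem σ, h5, h3⟩
  · obtain ⟨c, hc, hc'⟩ := exists_codeSet_inter_eq_of_small (X := {none, some 0}) (S := {some 0})
      (by simp) (by decide)
    have hn : none ∉ c := fun h => by
      have : (none : GolayPt) ∈ c ∩ {none, some 0} := by simp [h]
      rw [hc'] at this; simp at this
    have h0 : some 0 ∈ c := by
      have : (some 0 : GolayPt) ∈ c ∩ {none, some 0} := by rw [hc']; simp
      exact (mem_inter.1 this).1
    refine ⟨signCo0 c hc * permCo0 σ, mul_mem (signCo0_mem c hc) (permCo0_mem σ), ?_, ?_⟩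
    · rw [mul_smul, h5, signCo0_e8, if_neg hn]
    · rw [mul_smul, signCo0_smul, h3]
      funext k
      simp only [signFun, pairVec_apply]
      by_cases hk : k = none
      · subst hk; simp [hn]
      · by_cases hk' : k = some 0
        · subst hk'; simp [h0]
        · simp [hk, hk']

theorem sqNorm_e8 (i : GolayPt) : sqNorm (e8 i : GolayPt → ℤ) = 64 := by
  rw [coe_e8, sqNorm_single]; rfl

/-- Normal form of an orthogonal pair of minimal vectors. -/
theorem orth_nf {v w : leechLattice} (hv : sqNorm (v : GolayPt → ℤ) = 32)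
    (hw : sqNorm (w : GolayPt → ℤ) = 32) (h : dotInt (v : GolayPt → ℤ) (w : GolayPt → ℤ) = 0) :
    ∃ g : Co0, ((g • v : leechLattice) : GolayPt → ℤ) = pairVec none (some 0) 4 4 ∧
      ((g • w : leechLattice) : GolayPt → ℤ) = pairVec none (some 0) 4 (-4) := by
  obtain ⟨g, hg⟩ := trans64 (v := v + w) (w := e8 none)
    (by rw [AddSubgroup.coe_add, sqNorm_add, hv, hw, h]; rfl) (sqNorm_e8 none)
  have h4 : ((g • v : leechLattice) : GolayPt → ℤ) none = 4 := by
    have h1 := Co0_dotInt g v (v + w)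
    rw [hg, AddSubgroup.coe_add, dotInt_add_right, ← sqNorm_eq_dot, hv, h, coe_e8,
      dotInt_single_right] at h1
    omega
  obtain ⟨k, -, hk1, hk2⟩ := exists_mono_of_four (by rw [Co0_sqNorm]; exact hv) h4
  refine ⟨k * g, by rw [mul_smul, hk2], ?_⟩
  have h5 : (k * g) • w = e8 none - (k * g) • v := by
    rw [← hk1, ← hg, ← mul_smul, Co0_add]; abel
  rw [h5, AddSubgroup.coe_sub, mul_smul, hk2, coe_e8]
  funext i
  simp only [Pi.sub_apply, pairVec_apply, Pi.single_apply]
  split_ifs <;> rfl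

/-- `Co0` is transitive on ordered orthogonal pairs of minimal vectors. -/
theorem trans_orth {v w v' w' : leechLattice} (hv : sqNorm (v : GolayPt → ℤ) = 32)
    (hw : sqNorm (w : GolayPt → ℤ) = 32) (h : dotInt (v : GolayPt → ℤ) (w : GolayPt → ℤ) = 0)
    (hv' : sqNorm (v' : GolayPt → ℤ) = 32) (hw' : sqNorm (w' : GolayPt → ℤ) = 32)
    (h' : dotInt (v' : GolayPt → ℤ) (w' : GolayPt → ℤ) = 0) :
    ∃ g : Co0, g • v = v' ∧ g • w = w' := by
  obtain ⟨g, h1, h2⟩ := orth_nf hv hw h
  obtain ⟨g', h1', h2'⟩ := orth_nf hv' hw' h'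
  refine ⟨g'⁻¹ * g, ?_, ?_⟩ <;> rw [mul_smul, inv_smul_eq_iff] <;> apply Subtype.ext
  · rw [h1, h1']
  · rw [h2, h2']

end CL.Co
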