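import Cfsg.Agent.Base

/-! The ternary Golay code on the 4 × 3 array: explicit parametrisation by six free coordinates. -/

namespace CL.Tern

open Cfsg

/-- Six free coordinates. -/
abbrev T6 : Type := ZMod 3 × ZMod 3 × ZMod 3 × ZMod 3 × ZMod 3 × ZMod 3

/-- The code word with prescribed entries at positions (0,0),(0,1),(0,2),(1,0),(1,1),(2,0). -/
def word (a b c d e f : ZMod 3) : ArrayPt → ZMod 3 := fun p =>
  if p.1 = 0 then (if p.2 = 0 then a else if p.2 = 1 then b else c)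
  else if p.1 = 1 then (if p.2 = 0 then d else if p.2 = 1 then e else a + b + c + 2 * d + 2 * e)
  else if p.1 = 2 then
    (if p.2 = 0 then f else if p.2 = 1 then 2 * b + c + 2 * d + e + f else a + 2 * b + d + 2 * e + f)
  else (if p.2 = 0 then a + 2 * b + 2 * c + 2 * d + 2 * f
    else if p.2 = 1 then a + c + d + e + 2 * f else 2 * a + 2 * b + c + 2 * e + 2 * f)

/-- `word` on a tuple. -/
def wordT (t : T6) : ArrayPt → ZMod 3 := word t.1 t.2.1 t.2.2.1 t.2.2.2.1 t.2.2.2.2.1 t.2.2.2.2.2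

/-- The six parity checks. -/
def Check (x : ArrayPt → ZMod 3) : Prop :=
  x (1, 2) = x (0, 0) + x (0, 1) + x (0, 2) + 2 * x (1, 0) + 2 * x (1, 1) ∧
  x (2, 1) = 2 * x (0, 1) + x (0, 2) + 2 * x (1, 0) + x (1, 1) + x (2, 0) ∧
  x (2, 2) = x (0, 0) + 2 * x (0, 1) + x (1, 0) + 2 * x (1, 1) + x (2, 0) ∧
  x (3, 0) = x (0, 0) + 2 * x (0, 1) + 2 * x (0, 2) + 2 * x (1, 0) + 2 * x (2, 0) ∧
  x (3, 1) = x (0, 0) + x (0, 2) + x (1, 0) + x (1, 1) + 2 * x (2, 0) ∧
  x (3, 2) = 2 * x (0, 0) + 2 * x (0, 1) + x (0, 2) + 2 * x (1, 1) + 2 * x (2, 0)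

instance decCheck (x : ArrayPt → ZMod 3) : Decidable (Check x) := by
  unfold Check; infer_instance

theorem mem_tetracode_iff (t : Fin 4 → ZMod 3) :
    t ∈ tetracode ↔ ∃ a b : ZMod 3, t = ![b, a, a + b, a + 2 * b] := by
  unfold tetracode
  rw [Submodule.mem_span_pair]
  constructor
  · rintro ⟨a, b, rfl⟩
    refine ⟨a, b, ?_⟩
    ext i; fin_cases i <;> simp [mul_comm]
  · rintro ⟨a, b, rfl⟩
    refine ⟨a, b, ?_⟩
    ext i; fin_cases i <;> simp [mul_comm]

theorem sum_zmod3 {M : Type*} [AddCommMonoid M] (f : ZMod 3 → M) :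
    ∑ r : ZMod 3, f r = f 0 + f 1 + f 2 := Fin.sum_univ_three f

theorem three_eq : (3 : ZMod 3) = 0 := rfl

theorem mem_code_iff_check (x : ArrayPt → ZMod 3) : x ∈ ternaryGolayCode ↔ Check x := by
  constructor
  · rintro ⟨s, hc, ht⟩
    have c0 := hc 0
    have c1 := hc 1
    have c2 := hc 2
    have c3 := hc 3
    simp only [sum_zmod3] at c0 c1 c2 c3
    have h (a b : ZMod 3) := ht _ ((mem_tetracode_iff _).2 ⟨a, b, rfl⟩)
    have t00 : x (0, 0) + x (1, 0) + x (2, 0) + x (3, 0) = s := by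
      have := h 0 0; rw [Fin.sum_univ_four] at this; exact this
    have t01 : x (0, 1) + x (1, 0) + x (2, 1) + x (3, 2) = s := by
      have := h 0 1; rw [Fin.sum_univ_four] at this; exact this
    have t02 : x (0, 2) + x (1, 0) + x (2, 2) + x (3, 1) = s := by
      have := h 0 2; rw [Fin.sum_univ_four] at this; exact this
    have t10 : x (0, 0) + x (1, 1) + x (2, 1) + x (3, 1) = s := by
      have := h 1 0; rw [Fin.sum_univ_four] at this; exact this
    have t11 : x (0, 1) + x (1, 1) + x (2, 2) + x (3, 0) = s := by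
      have := h 1 1; rw [Fin.sum_univ_four] at this; exact this
    have t12 : x (0, 2) + x (1, 1) + x (2, 0) + x (3, 2) = s := by
      have := h 1 2; rw [Fin.sum_univ_four] at this; exact this
    refine ⟨?_, ?_, ?_, ?_, ?_, ?_⟩ <;> grind
  · rintro ⟨h1, h2, h3, h4, h5, h6⟩
    refine ⟨-(x (0, 0) + x (0, 1) + x (0, 2)), ?_, ?_⟩
    · intro i
      rw [sum_zmod3]
      have hi : ∀ i : Fin 4, i = 0 ∨ i = 1 ∨ i = 2 ∨ i = 3 := by decide
      rcases hi i with rfl | rfl | rfl | rfl <;> grind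
    · intro t ht
      obtain ⟨a, b, rfl⟩ := (mem_tetracode_iff _).1 ht
      rw [Fin.sum_univ_four]
      have ha : ∀ a : ZMod 3, a = 0 ∨ a = 1 ∨ a = 2 := by decide
      rcases ha a with rfl | rfl | rfl <;> rcases ha b with rfl | rfl | rfl
      · change x (0, 0) + x (1, 0) + x (2, 0) + x (3, 0) = _; grind
      · change x (0, 1) + x (1, 0) + x (2, 1) + x (3, 2) = _; grind
      · change x (0, 2) + x (1, 0) + x (2, 2) + x (3, 1) = _; grind
      · change x (0, 0) + x (1, 1) + x (2, 1) + x (3, 1) = _; grind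
      · change x (0, 1) + x (1, 1) + x (2, 2) + x (3, 0) = _; grind
      · change x (0, 2) + x (1, 1) + x (2, 0) + x (3, 2) = _; grind
      · change x (0, 0) + x (1, 2) + x (2, 2) + x (3, 2) = _; grind
      · change x (0, 1) + x (1, 2) + x (2, 0) + x (3, 1) = _; grind
      · change x (0, 2) + x (1, 2) + x (2, 1) + x (3, 0) = _; grind

theorem forall_pt {P : ArrayPt → Prop} :
    (∀ p, P p) ↔ P (0, 0) ∧ P (0, 1) ∧ P (0, 2) ∧ P (1, 0) ∧ P (1, 1) ∧ P (1, 2) ∧ P (2, 0) ∧
      P (2, 1) ∧ P (2, 2) ∧ P (3, 0) ∧ P (3, 1) ∧ P (3, 2) := by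
  constructor
  · intro h; exact ⟨h _, h _, h _, h _, h _, h _, h _, h _, h _, h _, h _, h _⟩
  · rintro ⟨h0, h1, h2, h3, h4, h5, h6, h7, h8, h9, h10, h11⟩ ⟨i, r⟩
    have hi : ∀ i : Fin 4, i = 0 ∨ i = 1 ∨ i = 2 ∨ i = 3 := by decide
    have ha : ∀ a : ZMod 3, a = 0 ∨ a = 1 ∨ a = 2 := by decide
    rcases hi i with rfl | rfl | rfl | rfl <;> rcases ha r with rfl | rfl | rfl <;> assumption

theorem check_word (a b c d e f : ZMod 3) : Check (word a b c d e f) :=
  ⟨rfl, rfl, rfl, rfl, rfl, rfl⟩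

theorem word_mem (a b c d e f : ZMod 3) : word a b c d e f ∈ ternaryGolayCode :=
  (mem_code_iff_check _).2 (check_word a b c d e f)

theorem wordT_mem (t : T6) : wordT t ∈ ternaryGolayCode := word_mem _ _ _ _ _ _

/-- The six free coordinates of a word. -/
def coords (x : ArrayPt → ZMod 3) : T6 := (x (0, 0), x (0, 1), x (0, 2), x (1, 0), x (1, 1), x (2, 0))

theorem coords_wordT (t : T6) : coords (wordT t) = t := rfl

theorem wordT_coords {x : ArrayPt → ZMod 3} (hx : x ∈ ternaryGolayCode) : wordT (coords x) = x := by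
  obtain ⟨h1, h2, h3, h4, h5, h6⟩ := (mem_code_iff_check x).1 hx
  funext p
  revert p
  rw [forall_pt]
  exact ⟨rfl, rfl, rfl, rfl, rfl, h1.symm, rfl, h2.symm, h3.symm, h4.symm, h5.symm, h6.symm⟩

theorem wordT_injective : Function.Injective wordT :=
  Function.LeftInverse.injective coords_wordT

theorem mem_code_iff (x : ArrayPt → ZMod 3) : x ∈ ternaryGolayCode ↔ ∃ t, wordT t = x :=
  ⟨fun h => ⟨_, wordT_coords h⟩, fun ⟨t, h⟩ => h ▸ wordT_mem t⟩

theorem forall_code {P : (ArrayPt → ZMod 3) → Prop} :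
    (∀ x ∈ ternaryGolayCode, P x) ↔ ∀ t, P (wordT t) :=
  ⟨fun h t => h _ (wordT_mem t), fun h _ hx => wordT_coords hx ▸ h _⟩

/-- The code is in bijection with the six free coordinates. -/
def codeEquiv : ternaryGolayCode ≃ T6 where
  toFun x := coords x
  invFun t := ⟨wordT t, wordT_mem t⟩
  left_inv x := Subtype.ext (wordT_coords x.2)
  right_inv := coords_wordT

theorem card_code : Nat.card ternaryGolayCode = 729 := by
  rw [Nat.card_congr codeEquiv]; simp [T6]

theorem ncard_code_filter (P : (ArrayPt → ZMod 3) → Prop) [DecidablePred P] :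
    {x | x ∈ ternaryGolayCode ∧ P x}.ncard = (Finset.univ.filter fun t : T6 => P (wordT t)).card := by
  have : {x | x ∈ ternaryGolayCode ∧ P x} =
      wordT '' (Finset.univ.filter fun t : T6 => P (wordT t) : Finset T6) := by
    ext x
    simp only [Set.mem_ofPred_eq, Finset.coe_filter, Finset.mem_univ, true_and, Set.mem_image]
    constructor
    · rintro ⟨hx, hP⟩
      exact ⟨coords x, by rwa [wordT_coords hx], wordT_coords hx⟩
    · rintro ⟨t, ht, rfl⟩
      exact ⟨wordT_mem t, ht⟩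
  rw [this, Set.ncard_image_of_injective _ wordT_injective, Set.ncard_coe_finset]

theorem weights : ∀ t : T6, t ≠ 0 → (ternarySupport (wordT t)).card = 6 ∨
    (ternarySupport (wordT t)).card = 9 ∨ (ternarySupport (wordT t)).card = 12 := by
  decide +kernel

theorem wordT_zero : wordT 0 = 0 := by
  funext p; revert p; decide

end CL.Tern
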