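import Cfsg.Agent.Base
import Cfsg.Agent.Spor.TernBasic
import Cfsg.Agent.Spor.GolayMask

/-! The hexads (supports of weight-6 words) of the ternary Golay code, as bit masks. -/

namespace CL.Tern

open Cfsg

/-- The hexads of the ternary code. -/
def hexads : Set (Finset ArrayPt) :=
  {h : Finset ArrayPt | ∃ x ∈ ternaryGolayCode, ternarySupport x = h ∧ h.card = 6}

/-- Position number of a point of the array. -/
def idx (p : ArrayPt) : ℕ := 3 * p.1.val + p.2.val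

theorem idx_injective : Function.Injective idx := by decide

/-- Bit mask of a set of points. -/
def mask (s : Finset ArrayPt) : ℕ := ∑ p ∈ s, 2 ^ idx p

theorem mask_injective : Function.Injective mask := by
  intro s t h
  have h1 : ∀ s : Finset ArrayPt, mask s = ∑ i ∈ s.image idx, 2 ^ i := fun s => by
    rw [Finset.sum_image (fun _ _ _ _ h => idx_injective h)]; rfl
  rw [h1, h1] at h
  exact Finset.image_injective idx_injective (Finset.geomSum_injective le_rfl h)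

/-- The masks of the 132 hexads. -/
def hexMasks : List ℕ :=
  [63, 222, 237, 243, 347, 366, 373, 413, 427, 438, 455, 504, 591, 630, 633, 667, 679, 700, 725,
   746, 791, 813, 826, 860, 867, 910, 945, 969, 978, 996, 1117, 1127, 1146, 1175, 1198, 1209,
   1227, 1268, 1295, 1331, 1340, 1366, 1385, 1434, 1445, 1484, 1489, 1506, 1566, 1579, 1589,
   1619, 1644, 1677, 1714, 1734, 1752, 1761, 1817, 1830, 1861, 1866, 1904, 1923, 1940, 1960,
   2135, 2155, 2172, 2191, 2229, 2234, 2265, 2278, 2334, 2343, 2361, 2381, 2418, 2451, 2476,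
   2506, 2516, 2529, 2589, 2606, 2611, 2650, 2661, 2710, 2729, 2755, 2764, 2800, 2827, 2868,
   2886, 2897, 2920, 2949, 2968, 2978, 3099, 3117, 3126, 3150, 3185, 3228, 3235, 3269, 3282,
   3304, 3349, 3370, 3395, 3416, 3428, 3462, 3465, 3504, 3591, 3640, 3657, 3668, 3682, 3722,
   3729, 3748, 3852, 3858, 3873, 4032]

/-- Code words with these supports. -/
def hexWit : List T6 :=
  [(1,1,1,2,2,0), (0,1,2,1,2,2), (1,0,2,1,0,1), (1,2,0,0,1,2), (1,2,0,1,2,1), (0,1,2,2,0,1),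
   (1,0,2,0,2,2), (1,0,2,2,1,0), (1,2,0,2,0,0), (0,1,2,0,1,0), (1,1,1,0,0,2), (0,0,0,1,1,2),
   (1,2,2,2,0,2), (0,1,1,0,1,2), (1,0,0,2,1,1), (1,1,0,1,1,0), (1,1,2,0,0,0), (0,0,1,1,1,0),
   (1,0,1,0,2,1), (0,1,0,2,0,2), (1,2,1,0,1,0), (1,0,1,1,0,0), (0,1,0,1,2,0), (0,0,1,2,2,2),
   (1,1,0,0,0,1), (0,1,1,2,0,0), (1,0,0,0,2,0), (1,0,0,1,0,2), (0,1,0,0,1,1), (0,0,1,0,0,1),
   (1,0,1,1,1,2), (1,2,1,0,0,1), (0,1,0,1,1,1), (1,2,2,0,2,0), (0,1,1,1,0,0), (1,0,0,1,2,0),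
   (1,1,0,2,0,1), (0,0,1,0,2,2), (1,1,2,1,0,0), (1,1,0,0,1,0), (0,0,1,2,1,0), (0,1,1,0,2,1),
   (1,0,0,2,0,2), (0,1,0,2,2,0), (1,0,1,0,0,0), (0,0,1,1,0,1), (1,0,0,0,1,1), (0,1,0,0,0,2),
   (0,1,2,2,1,0), (1,2,0,1,0,0), (1,0,2,0,1,0), (1,1,0,0,2,2), (0,0,1,2,0,1), (1,0,1,2,0,0),
   (0,1,0,0,2,0), (0,1,2,0,0,1), (0,0,0,1,2,1), (1,0,0,0,0,2), (1,0,0,2,2,0), (0,1,1,0,0,0),
   (1,0,2,0,0,1), (0,1,0,1,0,2), (0,0,0,0,1,2), (1,2,0,0,0,0), (0,0,1,0,1,0), (0,0,0,1,0,0),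
   (1,1,2,0,1,1), (1,1,0,1,0,2), (0,0,1,1,2,1), (1,2,1,1,0,0), (1,0,1,0,1,0), (0,1,0,2,1,0),
   (1,0,0,2,2,2), (0,1,1,0,0,1), (0,1,1,1,1,0), (1,2,2,0,0,0), (1,0,0,1,1,0), (1,0,1,2,0,1),
   (0,1,0,0,2,2), (1,1,0,0,2,0), (0,0,1,2,0,0), (0,1,0,1,0,1), (0,0,1,0,1,2), (1,0,0,0,0,1),
   (1,0,2,1,2,0), (0,1,2,1,0,0), (1,2,0,0,2,0), (0,1,0,2,2,1), (1,0,1,0,0,2), (0,1,1,0,2,0),
   (1,0,0,2,0,0), (1,2,0,0,0,1), (0,0,1,1,0,2), (0,0,0,0,1,1), (1,1,0,2,0,0), (0,0,1,0,2,0),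
   (0,1,2,0,0,2), (1,0,0,0,1,2), (0,0,0,1,0,1), (1,0,2,0,0,0), (0,0,0,1,2,0), (0,1,0,0,0,0),
   (1,2,0,2,1,0), (1,0,2,2,0,0), (0,1,2,0,2,0), (0,1,1,2,0,2), (1,0,0,0,2,1), (0,0,1,2,2,0),
   (1,1,0,0,0,0), (1,0,2,0,0,2), (0,1,0,0,1,2), (0,0,0,1,0,2), (1,0,1,0,2,0), (0,1,0,2,0,0),
   (1,2,0,0,0,2), (0,0,0,1,2,2), (0,0,1,0,0,2), (0,1,2,0,0,0), (1,0,0,1,0,0), (0,0,0,0,1,0),
   (1,1,1,0,0,0), (0,0,0,1,1,0), (1,0,0,1,0,1), (0,0,1,0,1,1), (0,1,0,0,0,1), (0,1,0,1,0,0),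
   (1,0,0,0,1,0), (0,0,1,0,0,0), (0,0,1,1,0,0), (0,1,0,0,1,0), (1,0,0,0,0,0), (0,0,0,0,0,1)]

theorem hexWit_masks : hexWit.map (fun t => mask (ternarySupport (wordT t))) = hexMasks := by
  decide +kernel

theorem hexWit_card : ∀ t ∈ hexWit, (ternarySupport (wordT t)).card = 6 := by
  decide +kernel

theorem mask_mem_of_card :
    ∀ t : T6, (ternarySupport (wordT t)).card = 6 → mask (ternarySupport (wordT t)) ∈ hexMasks := by
  decide +kernel

theorem mem_hexads_iff (h : Finset ArrayPt) : h ∈ hexads ↔ mask h ∈ hexMasks := by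
  constructor
  · rintro ⟨x, hx, rfl, h6⟩
    obtain ⟨t, rfl⟩ := (mem_code_iff x).1 hx
    exact mask_mem_of_card t h6
  · intro hm
    rw [← hexWit_masks, List.mem_map] at hm
    obtain ⟨t, ht, hm⟩ := hm
    have := mask_injective hm
    exact ⟨wordT t, wordT_mem t, this, this ▸ hexWit_card t ht⟩

theorem card_of_mem_hexads {h : Finset ArrayPt} (hh : h ∈ hexads) : h.card = 6 := by
  obtain ⟨_, _, _, h6⟩ := hh; exact h6

theorem ncard_hexads : hexads.ncard = 132 := by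
  have h1 : mask '' hexads = (hexMasks.toFinset : Finset ℕ) := by
    ext m
    simp only [Set.mem_image, List.coe_toFinset, Set.mem_ofPred_eq]
    constructor
    · rintro ⟨h, hh, rfl⟩; exact (mem_hexads_iff h).1 hh
    · intro hm
      have hm' := hm
      rw [← hexWit_masks, List.mem_map] at hm'
      obtain ⟨t, -, ht⟩ := hm'
      exact ⟨_, (mem_hexads_iff _).2 (ht ▸ hm), ht⟩
  rw [← Set.ncard_image_of_injective _ mask_injective, h1, Set.ncard_coe_finset]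
  decide +kernel

theorem idx_lt (p : ArrayPt) : idx p < 12 := by revert p; decide

theorem mask_eq_sum_image (s : Finset ArrayPt) : mask s = ∑ i ∈ s.image idx, 2 ^ i := by
  rw [Finset.sum_image (fun _ _ _ _ h => idx_injective h)]; rfl

theorem mask_lt (s : Finset ArrayPt) : mask s < 4096 := by
  rw [mask_eq_sum_image]
  apply Nat.geomSum_lt (n := 12) le_rfl
  intro k hk
  obtain ⟨p, _, rfl⟩ := Finset.mem_image.1 hk
  exact idx_lt p

theorem testBit_mask (s : Finset ArrayPt) (k : ℕ) :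
    (mask s).testBit k = decide (k ∈ s.image idx) := by
  rw [mask_eq_sum_image, Golay.testBit_sum_two_pow]

theorem pop_mask (s : Finset ArrayPt) : Golay.pop (mask s) = s.card := by
  have h : ∀ p : ArrayPt, Golay.idx (Golay.pt (idx p)) = idx p := fun p =>
    Golay.idx_pt ((idx_lt p).trans (by norm_num))
  have hinj : Function.Injective fun p : ArrayPt => Golay.pt (idx p) := fun p q hpq =>
    idx_injective (by rw [← h p, ← h q]; exact congrArg _ hpq)
  have : mask s = Golay.toMask (s.map ⟨_, hinj⟩) := by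
    unfold mask Golay.toMask
    rw [Finset.sum_map]
    exact Finset.sum_congr rfl fun p _ => by rw [Function.Embedding.coeFn_mk, h]
  rw [this, Golay.pop_toMask, Finset.card_map]

theorem mask_inter (s t : Finset ArrayPt) : mask (s ∩ t) = mask s &&& mask t := by
  apply Nat.eq_of_testBit_eq
  intro k
  rw [Nat.testBit_and, testBit_mask, testBit_mask, testBit_mask,
    Finset.image_inter _ _ idx_injective]
  simp

theorem subset_iff_mask (s t : Finset ArrayPt) : s ⊆ t ↔ mask s &&& mask t = mask s := by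
  rw [← mask_inter, mask_injective.eq_iff, Finset.inter_eq_left]

/-- A mask with five bits lies in a mask of the list. -/
noncomputable def chk5 (p : ℕ → ℕ) (l : List ℕ) (m : ℕ) : Bool :=
  Bool.rec true (Golay.anyL (fun h => Nat.beq (Nat.land m h) m) l) (Nat.beq (p m) 5)

theorem chk5_spec {p : ℕ → ℕ} {l : List ℕ} {m : ℕ} (h : chk5 p l m = true) (h5 : p m = 5) :
    ∃ h ∈ l, m &&& h = m := by
  rw [chk5, h5, Nat.beq_refl] at h
  obtain ⟨x, hx, h⟩ := Golay.anyL_iff.1 h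
  exact ⟨x, hx, Nat.eq_of_beq_eq_true h⟩

theorem five_check : Golay.allTo (fun a =>
    Golay.allTo (fun b => chk5 Golay.pop hexMasks (64 * a + b)) 64) 64 = true := by
  decide +kernel

theorem exists_hex_of_five {m : ℕ} (hm : m < 4096) (h5 : Golay.pop m = 5) :
    ∃ h ∈ hexMasks, m &&& h = m := by
  have h1 := Golay.allTo_iff.1 five_check (m / 64) (by omega)
  have h := Golay.allTo_iff.1 h1 (m % 64) (by omega)
  rw [Nat.div_add_mod] at h
  exact chk5_spec h h5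

theorem pair_check : Golay.allL (fun h => Golay.allL (fun h' =>
    Nat.beq h h' || Nat.ble (Golay.pop (Nat.land h h')) 4) hexMasks) hexMasks = true := by
  decide +kernel

theorem exists_of_mem_hexMasks {m : ℕ} (hm : m ∈ hexMasks) : ∃ h ∈ hexads, mask h = m := by
  have hm' := hm
  rw [← hexWit_masks, List.mem_map] at hm'
  obtain ⟨t, -, ht⟩ := hm'
  exact ⟨_, (mem_hexads_iff _).2 (ht ▸ hm), ht⟩

theorem card_inter_le_four {b c : Finset ArrayPt} (hb : b ∈ hexads) (hc : c ∈ hexads) (hne : b ≠ c) :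
    (b ∩ c).card ≤ 4 := by
  have := Golay.allL_iff.1 (Golay.allL_iff.1 pair_check _ ((mem_hexads_iff b).1 hb)) _
    ((mem_hexads_iff c).1 hc)
  rw [Bool.or_eq_true, Nat.beq_eq, Nat.ble_eq] at this
  rcases this with h | h
  · exact absurd (mask_injective h) hne
  · rw [← pop_mask, mask_inter]; exact h

theorem hexads_steiner : IsSteinerSystem 5 6 hexads := by
  refine ⟨fun b hb => card_of_mem_hexads hb, fun s hs => ?_⟩
  obtain ⟨m, hm, hsm⟩ := exists_hex_of_five (mask_lt s) (by rw [pop_mask, hs])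
  obtain ⟨b, hb, rfl⟩ := exists_of_mem_hexMasks hm
  have hsb : s ⊆ b := (subset_iff_mask s b).2 hsm
  refine ⟨b, ⟨hb, hsb⟩, ?_⟩
  rintro c ⟨hc, hsc⟩
  by_contra hne
  have := Finset.card_le_card (Finset.subset_inter hsc hsb)
  have := card_inter_le_four hc hb hne
  omega

end CL.Tern
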