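import Cfsg.Agent.Base
import Cfsg.Agent.Spor.Chain

/-! Monomial automorphisms of a linear code over a finite field. -/

namespace CL.MonAut

open Cfsg

variable {α F : Type*} [Field F]

theorem comp (σ τ : Equiv.Perm α) (c d : α → Fˣ) (x : α → F) :
    monomialMap σ c (monomialMap τ d x) =
      monomialMap (σ * τ) (fun i => c i * d (σ.symm i)) x := by
  funext i
  simp only [monomialMap, Units.val_mul, mul_assoc]
  rfl

theorem one_one (x : α → F) : monomialMap (1 : Equiv.Perm α) (fun _ => (1 : Fˣ)) x = x := by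
  funext i; exact one_mul _

theorem inv_comp (σ : Equiv.Perm α) (c : α → Fˣ) (x : α → F) :
    monomialMap σ⁻¹ (fun i => (c (σ i))⁻¹) (monomialMap σ c x) = x := by
  funext i
  simp [monomialMap, Equiv.Perm.inv_def]

theorem injective (σ : Equiv.Perm α) (c : α → Fˣ) :
    Function.Injective (monomialMap σ c : (α → F) → α → F) :=
  Function.LeftInverse.injective (inv_comp σ c)

/-- `(σ, c)` maps the code into itself. -/
def Pres (C : Submodule F (α → F)) (σ : Equiv.Perm α) (c : α → Fˣ) : Prop :=
  ∀ x ∈ C, monomialMap σ c x ∈ C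

theorem Pres.surj {C : Submodule F (α → F)} [Finite C] {σ : Equiv.Perm α} {c : α → Fˣ}
    (h : Pres C σ c) {y : α → F} (hy : y ∈ C) : ∃ x ∈ C, monomialMap σ c x = y := by
  let f : C → C := fun x => ⟨monomialMap σ c x, h x x.2⟩
  have hf : Function.Injective f := fun x y hxy =>
    Subtype.ext (injective σ c (congrArg Subtype.val hxy))
  obtain ⟨x, hx⟩ := Finite.surjective_of_injective hf ⟨y, hy⟩
  exact ⟨x, x.2, congrArg Subtype.val hx⟩

theorem Pres.mul {C : Submodule F (α → F)} {σ τ : Equiv.Perm α} {c d : α → Fˣ}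
    (h : Pres C σ c) (h' : Pres C τ d) : Pres C (σ * τ) (fun i => c i * d (σ.symm i)) :=
  fun x hx => comp σ τ c d x ▸ h _ (h' x hx)

theorem Pres.inv {C : Submodule F (α → F)} [Finite C] {σ : Equiv.Perm α} {c : α → Fˣ}
    (h : Pres C σ c) : Pres C σ⁻¹ (fun i => (c (σ i))⁻¹) := by
  intro y hy
  obtain ⟨x, hx, rfl⟩ := h.surj hy
  rwa [inv_comp]

/-- The permutation parts of the monomial automorphisms. -/
def permPart (C : Submodule F (α → F)) [Finite C] : Subgroup (Equiv.Perm α) where
  carrier := {σ | ∃ c : α → Fˣ, ∀ x ∈ C, monomialMap σ c x ∈ C}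
  one_mem' := ⟨fun _ => 1, fun x hx => by rwa [one_one]⟩
  mul_mem' := fun ⟨_, h⟩ ⟨_, h'⟩ => ⟨_, Pres.mul h h'⟩
  inv_mem' := fun ⟨_, h⟩ => ⟨_, Pres.inv h⟩

theorem mem_permPart {C : Submodule F (α → F)} [Finite C] {σ : Equiv.Perm α} :
    σ ∈ permPart C ↔ ∃ c : α → Fˣ, Pres C σ c := Iff.rfl

theorem pres_iff_div {C : Submodule F (α → F)} [Finite C] {σ : Equiv.Perm α} {c₀ : α → Fˣ}
    (h₀ : Pres C σ c₀) (c : α → Fˣ) : Pres C σ c ↔ Pres C 1 (c / c₀) := by
  have key : ∀ x, monomialMap 1 (c / c₀) (monomialMap σ c₀ x) = monomialMap σ c x := fun x => by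
    rw [comp, one_mul]
    congr 1
    funext i
    exact div_mul_cancel (c i) (c₀ i)
  constructor
  · intro h y hy
    obtain ⟨x, hx, rfl⟩ := h₀.surj hy
    rw [key]; exact h x hx
  · intro h x hx
    rw [← key]; exact h _ (h₀ x hx)

/-- The number of monomial automorphisms is the number of permutation parts times the number of
diagonal ones. -/
theorem card_pres (C : Submodule F (α → F)) [Finite C] :
    Nat.card {f : Equiv.Perm α × (α → Fˣ) // ∀ x ∈ C, monomialMap f.1 f.2 x ∈ C} =
      Nat.card (permPart C) * Nat.card {c : α → Fˣ // ∀ x ∈ C, monomialMap 1 c x ∈ C} := by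
  classical
  rw [← Nat.card_prod]
  let ch : permPart C → α → Fˣ := fun σ => Classical.choose σ.2
  have hch : ∀ σ : permPart C, Pres C σ (ch σ) := fun σ => Classical.choose_spec σ.2
  refine Nat.card_congr
    { toFun := fun f => (⟨f.1.1, f.1.2, f.2⟩,
        ⟨f.1.2 / ch ⟨f.1.1, f.1.2, f.2⟩, (pres_iff_div (hch ⟨f.1.1, f.1.2, f.2⟩) _).1 f.2⟩)
      invFun := fun g => ⟨(g.1, g.2 * ch g.1), (pres_iff_div (hch g.1) _).2 (by
        rw [mul_div_cancel_right]; exact g.2.2)⟩
      left_inv := fun f => by
        apply Subtype.ext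
        simp
      right_inv := fun g => by
        ext <;> simp }

/-- A bijection `f` of the positions and non-zero scalars `c` such that `x ↦ c · (x ∘ f)` maps a
spanning set into the code give an element of `permPart`. -/
theorem exists_mem_permPart [Finite α] {C : Submodule F (α → F)} [Finite C] {S : Set (α → F)}
    (hS : C ≤ Submodule.span F S) (f : α → α) (hf : Function.Injective f) (c : α → F)
    (hc : ∀ i, c i ≠ 0) (h : ∀ x ∈ S, (fun i => c i * x (f i)) ∈ C) :
    ∃ σ ∈ permPart C, ∀ i, σ i = f i := by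
  let e : Equiv.Perm α := Equiv.ofBijective f (Finite.injective_iff_bijective.1 hf)
  refine ⟨e, ?_, fun _ => rfl⟩
  rw [← inv_mem_iff]
  refine ⟨fun i => Units.mk0 (c i) (hc i), fun x hx => ?_⟩
  have : ∀ x : α → F, monomialMap e⁻¹ (fun i => Units.mk0 (c i) (hc i)) x =
      fun i => c i * x (f i) := fun x => rfl
  rw [this]
  refine Submodule.span_induction (p := fun x _ => (fun i => c i * x (f i)) ∈ C) h ?_ ?_ ?_ (hS hx)
  · convert C.zero_mem using 1
    funext i; simp
  · intro x y _ _ hx hy
    convert C.add_mem hx hy using 1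
    funext i; simp [mul_add]
  · intro a x _ hx
    convert C.smul_mem a hx using 1
    funext i; simp [mul_left_comm]

/-- The order of a multiply transitive group in terms of a pointwise stabiliser. -/
theorem card_of_trans {G β : Type*} [Group G] [MulAction G β] [Fintype β] {K : Subgroup G} :
    ∀ {l : List β}, Chain.Trans K l → l.Nodup →
      Nat.card K = (Fintype.card β).descFactorial l.length * Nat.card (Chain.fix K l)
  | [], _, _ => by simp [Chain.fix_nil]
  | a :: l, h, hl => by
      classical
      rw [List.nodup_cons] at hl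
      rw [card_of_trans h.1 hl.2, Chain.card_fix K a l l.toFinsetᶜ, List.length_cons,
        Nat.descFactorial_succ, Finset.card_compl, List.toFinset_card_of_nodup hl.2]
      · ring
      · intro g hg
        rw [Finset.mem_compl, List.mem_toFinset]
        intro hm
        have := hg.2 _ hm
        rw [smul_left_cancel_iff] at this
        exact hl.1 (this ▸ hm)
      · intro x hx
        rw [Finset.mem_compl, List.mem_toFinset] at hx
        exact h.2 x hx

/-- If `K ≤ L`, `K` is multiply transitive along `l` and only the identity of `L` fixes `l`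
pointwise, then `K = L`. -/
theorem eq_of_trans {G β : Type*} [Group G] [MulAction G β] {K L : Subgroup G} {l : List β}
    (h : Chain.Trans K l) (hl : l.Nodup) (hKL : K ≤ L) (hfix : Chain.fix L l = ⊥) : K = L := by
  refine le_antisymm hKL fun g hg => ?_
  obtain ⟨k, hk, hkl⟩ := h.exists_map_eq (l.map fun a => g • a)
    (hl.map (MulAction.injective g)) (by simp)
  have : k⁻¹ * g ∈ Chain.fix L l := ⟨L.mul_mem (L.inv_mem (hKL hk)) hg, fun x hx => by
    rw [mul_smul, ← List.map_inj_left.1 hkl x hx, inv_smul_smul]⟩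
  rw [hfix, Subgroup.mem_bot, inv_mul_eq_one] at this
  exact this ▸ hk

end CL.MonAut
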