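import Cfsg.Agent.Base
import Cfsg.Agent.Spor.TernHexad
import Cfsg.Agent.Spor.MonAut
import Cfsg.Agent.Spor.GolayPerm

/-! The monomial automorphism group of the ternary Golay code. -/

namespace CL.Tern

open Cfsg MonAut
open scoped Pointwise

instance finiteCode : Finite ternaryGolayCode := inferInstance

theorem diag_pres (c : ArrayPt → (ZMod 3)ˣ)
    (h : ∀ x ∈ ternaryGolayCode, monomialMap 1 c x ∈ ternaryGolayCode) :
    (∀ p, c p = 1) ∨ (∀ p, c p = -1) := by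
  have key (a b d e f g : ZMod 3) := (mem_code_iff_check _).1 (h _ (word_mem a b d e f g))
  obtain ⟨a1, -, a2, a3, a4, a5⟩ := key 1 0 0 0 0 0
  obtain ⟨b1, b2, -, -, -, -⟩ := key 0 1 0 0 0 0
  obtain ⟨c1, -, -, -, -, -⟩ := key 0 0 1 0 0 0
  obtain ⟨d1, -, -, -, -, -⟩ := key 0 0 0 1 0 0
  obtain ⟨e1, -, -, -, -, -⟩ := key 0 0 0 0 1 0
  obtain ⟨-, f1, -, -, -, -⟩ := key 0 0 0 0 0 1
  have e : ∀ (x : ArrayPt → ZMod 3) p, monomialMap 1 c x p = (c p : ZMod 3) * x p := fun _ _ => rfl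
  simp only [e] at a1 a2 a3 a4 a5 b1 b2 c1 d1 e1 f1
  change (c (1, 2) : ZMod 3) * (1 + 0 + 0 + 2 * 0 + 2 * 0) = c (0, 0) * 1 + c (0, 1) * 0 + c (0, 2) * 0 +
    2 * (c (1, 0) * 0) + 2 * (c (1, 1) * 0) at a1
  change (c (2, 2) : ZMod 3) * (1 + 2 * 0 + 0 + 2 * 0 + 0) = c (0, 0) * 1 + 2 * (c (0, 1) * 0) +
    c (1, 0) * 0 + 2 * (c (1, 1) * 0) + c (2, 0) * 0 at a2
  change (c (3, 0) : ZMod 3) * (1 + 2 * 0 + 2 * 0 + 2 * 0 + 2 * 0) = c (0, 0) * 1 +
    2 * (c (0, 1) * 0) + 2 * (c (0, 2) * 0) + 2 * (c (1, 0) * 0) + 2 * (c (2, 0) * 0) at a3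
  change (c (3, 1) : ZMod 3) * (1 + 0 + 0 + 0 + 2 * 0) = c (0, 0) * 1 + c (0, 2) * 0 +
    c (1, 0) * 0 + c (1, 1) * 0 + 2 * (c (2, 0) * 0) at a4
  change (c (3, 2) : ZMod 3) * (2 * 1 + 2 * 0 + 0 + 2 * 0 + 2 * 0) = 2 * (c (0, 0) * 1) +
    2 * (c (0, 1) * 0) + c (0, 2) * 0 + 2 * (c (1, 1) * 0) + 2 * (c (2, 0) * 0) at a5
  change (c (1, 2) : ZMod 3) * (0 + 1 + 0 + 2 * 0 + 2 * 0) = c (0, 0) * 0 + c (0, 1) * 1 + c (0, 2) * 0 +
    2 * (c (1, 0) * 0) + 2 * (c (1, 1) * 0) at b1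
  change (c (1, 2) : ZMod 3) * (0 + 0 + 1 + 2 * 0 + 2 * 0) = c (0, 0) * 0 + c (0, 1) * 0 + c (0, 2) * 1 +
    2 * (c (1, 0) * 0) + 2 * (c (1, 1) * 0) at c1
  change (c (1, 2) : ZMod 3) * (0 + 0 + 0 + 2 * 1 + 2 * 0) = c (0, 0) * 0 + c (0, 1) * 0 + c (0, 2) * 0 +
    2 * (c (1, 0) * 1) + 2 * (c (1, 1) * 0) at d1
  change (c (1, 2) : ZMod 3) * (0 + 0 + 0 + 2 * 0 + 2 * 1) = c (0, 0) * 0 + c (0, 1) * 0 + c (0, 2) * 0 +
    2 * (c (1, 0) * 0) + 2 * (c (1, 1) * 1) at e1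
  change (c (2, 1) : ZMod 3) * (2 * 1 + 0 + 2 * 0 + 0 + 0) = 2 * (c (0, 1) * 1) + c (0, 2) * 0 +
    2 * (c (1, 0) * 0) + c (1, 1) * 0 + c (2, 0) * 0 at b2
  change (c (2, 1) : ZMod 3) * (2 * 0 + 0 + 2 * 0 + 0 + 1) = 2 * (c (0, 1) * 0) + c (0, 2) * 0 +
    2 * (c (1, 0) * 0) + c (1, 1) * 0 + c (2, 0) * 1 at f1
  have hall : ∀ p, (c p : ZMod 3) = c (0, 0) := by
    rw [forall_pt]
    refine ⟨rfl, ?_, ?_, ?_, ?_, ?_, ?_, ?_, ?_, ?_, ?_, ?_⟩ <;> grind
  have hu : ∀ u : (ZMod 3)ˣ, u = 1 ∨ u = -1 := by decide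
  rcases hu (c (0, 0)) with h0 | h0
  · exact Or.inl fun p => Units.ext (by rw [hall p, h0])
  · exact Or.inr fun p => Units.ext (by rw [hall p, h0])

theorem card_diag : Nat.card {c : ArrayPt → (ZMod 3)ˣ //
    ∀ x ∈ ternaryGolayCode, monomialMap 1 c x ∈ ternaryGolayCode} = 2 := by
  have h1 : ∀ x ∈ ternaryGolayCode, monomialMap 1 (fun _ => (1 : (ZMod 3)ˣ)) x ∈ ternaryGolayCode :=
    fun x hx => by rwa [one_one]
  have h2 : ∀ x ∈ ternaryGolayCode, monomialMap 1 (fun _ => (-1 : (ZMod 3)ˣ)) x ∈ ternaryGolayCode :=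
    fun x hx => by
      convert ternaryGolayCode.neg_mem hx using 1
      funext i; exact neg_one_mul _
  rw [Nat.card_eq_two_iff]
  refine ⟨⟨_, h1⟩, ⟨_, h2⟩, fun h => ?_, ?_⟩
  · have : (1 : (ZMod 3)ˣ) = -1 := congrFun (congrArg Subtype.val h) (0, 0)
    revert this; decide
  · rw [Set.eq_univ_iff_forall]
    rintro ⟨c, hc⟩
    rcases diag_pres c hc with h | h
    · exact Or.inl (Subtype.ext (funext h))
    · exact Or.inr (Subtype.ext (funext h))

/-- The point with a given position number. -/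
def pt (n : ℕ) : ArrayPt := (Fin.ofNat 4 (n / 3), (n : ZMod 3))

theorem pt_idx (p : ArrayPt) : pt (idx p) = p := by revert p; decide

theorem idx_pt {n : ℕ} (h : n < 12) : idx (pt n) = n := by revert n; decide

/-- Digit in base 16. -/
def dig (e i : ℕ) : ℕ := Nat.land (Nat.shiftRight e (Nat.mul 4 i)) 15

/-- Decoding a map of the points (digits in base 16). -/
def fOf (e : ℕ) (p : ArrayPt) : ArrayPt := pt (dig e (idx p))

/-- Decoding signs. -/
def sgn (e i : ℕ) : ℕ := Bool.rec 1 2 (Golay.bit e i)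

/-- The parity checks on natural-number entries. -/
def checkN (x : ℕ → ℕ) : Bool :=
  Nat.beq (x 5 % 3) ((x 0 + x 1 + x 2 + 2 * x 3 + 2 * x 4) % 3) &&
  Nat.beq (x 7 % 3) ((2 * x 1 + x 2 + 2 * x 3 + x 4 + x 6) % 3) &&
  Nat.beq (x 8 % 3) ((x 0 + 2 * x 1 + x 3 + 2 * x 4 + x 6) % 3) &&
  Nat.beq (x 9 % 3) ((x 0 + 2 * x 1 + 2 * x 2 + 2 * x 3 + 2 * x 6) % 3) &&
  Nat.beq (x 10 % 3) ((x 0 + x 2 + x 3 + x 4 + 2 * x 6) % 3) &&
  Nat.beq (x 11 % 3) ((2 * x 0 + 2 * x 1 + x 2 + 2 * x 4 + 2 * x 6) % 3)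

theorem check_of_checkN {x : ℕ → ℕ} (h : checkN x = true) :
    Check fun p => (x (idx p) : ZMod 3) := by
  simp only [checkN, Bool.and_eq_true, Nat.beq_eq, ← ZMod.natCast_eq_natCast_iff'] at h
  push_cast at h
  obtain ⟨⟨⟨⟨⟨h1, h2⟩, h3⟩, h4⟩, h5⟩, h6⟩ := h
  exact ⟨h1, h2, h3, h4, h5, h6⟩

/-- The basis words as digit strings. -/
def basisN : List ℕ := [36356899209217, 35330938896400, 18829406109952, 1241784520704, 36292744249344, 37525414477824]

/-- A basis of the code. -/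
def basisL : List (ArrayPt → ZMod 3) :=
  [word 1 0 0 0 0 0, word 0 1 0 0 0 0, word 0 0 1 0 0 0, word 0 0 0 1 0 0, word 0 0 0 0 1 0,
    word 0 0 0 0 0 1]

theorem code_le_span : ternaryGolayCode ≤ Submodule.span (ZMod 3) {x | x ∈ basisL} := by
  intro x hx
  obtain ⟨⟨a, b, c, d, e, f⟩, rfl⟩ := (mem_code_iff x).1 hx
  have : wordT (a, b, c, d, e, f) = a • word 1 0 0 0 0 0 + b • word 0 1 0 0 0 0 +
      c • word 0 0 1 0 0 0 + d • word 0 0 0 1 0 0 + e • word 0 0 0 0 1 0 + f • word 0 0 0 0 0 1 := by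
    funext p
    simp only [wordT, word, Pi.add_apply, Pi.smul_apply, smul_eq_mul]
    split_ifs <;> ring
  rw [this]
  refine add_mem (add_mem (add_mem (add_mem (add_mem ?_ ?_) ?_) ?_) ?_) ?_ <;>
    exact Submodule.smul_mem _ _ (Submodule.subset_span (by simp [basisL]))

theorem basisL_eq : basisL = basisN.map fun b p => (dig b (idx p) : ZMod 3) := by
  simp only [basisL, basisN, List.map_cons, List.map_nil, List.cons.injEq, and_true]
  refine ⟨?_, ?_, ?_, ?_, ?_, ?_⟩ <;> funext p <;> revert p <;> decide +kernel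

/-- The pair codes a monomial automorphism. -/
noncomputable def good (d : ℕ → ℕ → ℕ) (e : ℕ × ℕ) : Bool :=
  Golay.allTo (fun i => Nat.blt (d e.1 i) 12) 12 &&
  Golay.allTo (fun j => Golay.anyTo (fun i => Nat.beq (d e.1 i) j) 12) 12 &&
  Golay.allL (fun b => checkN fun i => sgn e.2 i * d b (d e.1 i)) basisN

theorem exists_of_good {e : ℕ × ℕ} (h : good dig e = true) :
    ∃ σ ∈ permPart ternaryGolayCode, ∀ i, σ i = fOf e.1 i := by
  simp only [good, Bool.and_eq_true, Golay.allTo_iff, Golay.anyTo_iff, Golay.allL_iff,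
    Nat.blt_eq, Nat.beq_eq] at h
  obtain ⟨⟨h1, h2⟩, h3⟩ := h
  refine exists_mem_permPart code_le_span _ ?_ (fun p => (sgn e.2 (idx p) : ZMod 3)) ?_ ?_
  · rw [Finite.injective_iff_surjective]
    intro q
    obtain ⟨i, hi, hq⟩ := h2 _ (idx_lt q)
    exact ⟨pt i, by rw [fOf, idx_pt hi, hq, pt_idx]⟩
  · intro p
    unfold sgn
    cases Golay.bit e.2 (idx p) <;> decide
  · intro x hx
    rw [Set.mem_ofPred_eq, basisL_eq, List.mem_map] at hx
    obtain ⟨b, hb, rfl⟩ := hx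
    rw [mem_code_iff_check]
    have := check_of_checkN (h3 b hb)
    simp only [Nat.cast_mul] at this
    simpa only [fOf, idx_pt (h1 _ (idx_lt _))] using this

theorem trans_step {l : List ArrayPt} {a : ArrayPt} {T : List (ℕ × ℕ)} (hT : Golay.allL (good dig) T = true)
    (h : ∀ x, x ∉ l → ∃ e ∈ T, (∀ y ∈ l, fOf e.1 y = y) ∧ fOf e.1 a = x) :
    ∀ x, x ∉ l → ∃ g ∈ Chain.fix (permPart ternaryGolayCode) l, g • a = x := by
  intro x hx
  obtain ⟨e, he, h1, h2⟩ := h x hx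
  obtain ⟨σ, hσ, hf⟩ := exists_of_good (Golay.allL_iff.1 hT e he)
  exact ⟨σ, ⟨hσ, fun y hy => (hf y).trans (h1 y hy)⟩, (hf a).trans h2⟩

/-- Transversal for level 0 of the stabiliser chain. -/
def tr0 : List (ℕ × ℕ) :=
  [(205163983024656, 0), (114875801285121, 0), (171143312191746, 0), (203987229090051, 630),
   (149235455697156, 630), (188533650432261, 630), (203028566319366, 634),
   (111366534013191, 636), (98289112523016, 624), (134738834825481, 634), (77607836262666, 624),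
   (163099914215691, 636)]

theorem good_tr0 : Golay.allL (good dig) tr0 = true := by decide +kernel

/-- Transversal for level 1 of the stabiliser chain. -/
def tr1 : List (ℕ × ℕ) :=
  [(205163983024656, 0), (148896472117536, 0), (183040958800176, 1866), (117199865061696, 1866),
   (167587380142416, 1866), (95969627808096, 1862), (186389881889136, 2236),
   (128339622961536, 2224), (82852190560656, 1862), (199520902390176, 2224),
   (148040433476016, 2236)]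

theorem good_tr1 : Golay.allL (good dig) tr1 = true := by decide +kernel

/-- Transversal for level 2 of the stabiliser chain. -/
def tr2 : List (ℕ × ℕ) :=
  [(205163983024656, 0), (167926364906256, 2764), (135818296632336, 2764),
   (201938729903376, 2764), (152511949514256, 2758), (92816805144336, 1338),
   (165301675304976, 1328), (185219212847376, 2758), (115772311677456, 1328),
   (76520923278096, 1338)]

theorem good_tr2 : Golay.allL (good dig) tr2 = true := by decide +kernel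

/-- Transversal for level 3 of the stabiliser chain. -/
def tr3 : List (ℕ × ℕ) :=
  [(205163983024656, 0), (147865428247056, 0), (186605193351696, 0), (199605510955536, 6),
   (116911320035856, 4090), (96304787325456, 4092), (128266436579856, 6), (82916315210256, 4092),
   (167424912765456, 4090)]

theorem good_tr3 : Golay.allL (good dig) tr3 = true := by decide +kernel

/-- Transversal for level 4 of the stabiliser chain. -/
def tr4 : List (ℕ × ℕ) :=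
  [(205163983024656, 0), (132399770186256, 0), (183942805598736, 6), (80841396400656, 4090),
   (110731096240656, 4092), (153208536773136, 6), (164327252963856, 4092),
   (95285065495056, 4090)]

theorem good_tr4 : Golay.allL (good dig) tr4 = true := by decide +kernel

theorem trans_permPart :
    Chain.Trans (permPart ternaryGolayCode) [pt 4, pt 3, pt 2, pt 1, pt 0] :=
  ⟨⟨⟨⟨⟨trivial, trans_step good_tr0 (by decide +kernel)⟩, trans_step good_tr1 (by decide +kernel)⟩,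
    trans_step good_tr2 (by decide +kernel)⟩, trans_step good_tr3 (by decide +kernel)⟩,
    trans_step good_tr4 (by decide +kernel)⟩

theorem permPart_le : permPart ternaryGolayCode ≤ setSystemAut hexads := by
  rintro σ ⟨c, hc⟩
  rw [Golay.mem_setSystemAut_iff]
  rintro _ ⟨x, hx, rfl, h6⟩
  refine ⟨monomialMap σ c x, hc x hx, ?_, by rwa [Golay.card_smul']⟩
  ext p
  rw [Golay.mem_smul_iff]
  simp [ternarySupport, monomialMap, Equiv.Perm.inv_def]

theorem sum_mem_of_aut {σ : Equiv.Perm ArrayPt} (hσ : σ ∈ setSystemAut hexads) (l : List ArrayPt)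
    (hl : l.Nodup ∧ mask l.toFinset ∈ hexMasks) : (l.map fun p => 2 ^ idx (σ p)).sum ∈ hexMasks := by
  have := (mem_hexads_iff _).1 (Golay.mem_setSystemAut_iff.1 hσ _ ((mem_hexads_iff _).2 hl.2))
  rwa [Golay.smul_eq_image, mask, Finset.sum_image (fun _ _ _ _ h => σ.injective h),
    List.sum_toFinset _ hl.1] at this

set_option synthInstance.maxSize 4000 in
theorem rigid67 : ∀ y < 12, ∀ z < 12,
    2 ^ 1 + (2 ^ 2 + (2 ^ 3 + (2 ^ 4 + (2 ^ y + (2 ^ z + 0))))) ∈ hexMasks →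
    2 ^ 0 + (2 ^ 2 + (2 ^ 3 + (2 ^ 5 + (2 ^ y + (2 ^ z + 0))))) ∈ hexMasks → y = 6 ∧ z = 7 ∨ y = 7 := by
  decide +kernel

theorem rigid678 (y : ℕ) (hy : y < 12) (z : ℕ) (hz : z < 12)
    (h1 : 2 ^ 1 + (2 ^ 2 + (2 ^ 3 + (2 ^ 4 + (2 ^ y + (2 ^ z + 0))))) ∈ hexMasks)
    (h2 : 2 ^ 0 + (2 ^ 2 + (2 ^ 3 + (2 ^ 5 + (2 ^ y + (2 ^ z + 0))))) ∈ hexMasks) :
    ∀ w < 12, 2 ^ 0 + (2 ^ 1 + (2 ^ 3 + (2 ^ 4 + (2 ^ y + (2 ^ w + 0))))) ∈ hexMasks →
      2 ^ 1 + (2 ^ 2 + (2 ^ 3 + (2 ^ 5 + (2 ^ y + (2 ^ w + 0))))) ∈ hexMasks →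
      y = 6 ∧ z = 7 ∧ w = 8 := by
  rcases rigid67 y hy z hz h1 h2 with ⟨rfl, rfl⟩ | rfl
  · decide +kernel
  · intro w hw h3 h4
    exact absurd h4 ((by decide +kernel : ∀ w < 12,
      2 ^ 0 + (2 ^ 1 + (2 ^ 3 + (2 ^ 4 + (2 ^ 7 + (2 ^ w + 0))))) ∈ hexMasks →
      2 ^ 1 + (2 ^ 2 + (2 ^ 3 + (2 ^ 5 + (2 ^ 7 + (2 ^ w + 0))))) ∉ hexMasks) w hw h3)

theorem fix_eq_bot : Chain.fix (setSystemAut hexads) [pt 4, pt 3, pt 2, pt 1, pt 0] = ⊥ := by
  rw [eq_bot_iff]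
  rintro σ ⟨hσ, hfix⟩
  have h0 : idx (σ (pt 0)) = 0 := congrArg idx (hfix (pt 0) (by simp))
  have h1 : idx (σ (pt 1)) = 1 := congrArg idx (hfix (pt 1) (by simp))
  have h2 : idx (σ (pt 2)) = 2 := congrArg idx (hfix (pt 2) (by simp))
  have h3 : idx (σ (pt 3)) = 3 := congrArg idx (hfix (pt 3) (by simp))
  have h4 : idx (σ (pt 4)) = 4 := congrArg idx (hfix (pt 4) (by simp))
  have k (l : List ArrayPt) := sum_mem_of_aut hσ l
  have a5 := k [pt 0, pt 1, pt 2, pt 3, pt 4, pt 5] (by decide +kernel)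
  have b1 := k [pt 1, pt 2, pt 3, pt 4, pt 6, pt 7] (by decide +kernel)
  have b2 := k [pt 0, pt 2, pt 3, pt 5, pt 6, pt 7] (by decide +kernel)
  have b3 := k [pt 0, pt 1, pt 3, pt 4, pt 6, pt 8] (by decide +kernel)
  have b4 := k [pt 1, pt 2, pt 3, pt 5, pt 6, pt 8] (by decide +kernel)
  have c9 := k [pt 0, pt 1, pt 2, pt 3, pt 6, pt 9] (by decide +kernel)
  have c10 := k [pt 0, pt 2, pt 3, pt 4, pt 6, pt 10] (by decide +kernel)
  have c11 := k [pt 0, pt 1, pt 2, pt 4, pt 6, pt 11] (by decide +kernel)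
  simp only [List.map_cons, List.map_nil, List.sum_cons, List.sum_nil, h0, h1, h2, h3, h4] at a5 b1 b2 b3 b4 c9 c10 c11
  have h5 : idx (σ (pt 5)) = 5 :=
    (by decide +kernel : ∀ y < 12, 2 ^ 0 + (2 ^ 1 + (2 ^ 2 + (2 ^ 3 + (2 ^ 4 + (2 ^ y + 0))))) ∈ hexMasks →
      y = 5) _ (idx_lt _) a5
  rw [h5] at b2 b4
  obtain ⟨h6, h7, h8⟩ := rigid678 _ (idx_lt _) _ (idx_lt _) b1 b2 _ (idx_lt _) b3 b4
  rw [h6] at c9 c10 c11
  have h9 : idx (σ (pt 9)) = 9 :=
    (by decide +kernel : ∀ y < 12, 2 ^ 0 + (2 ^ 1 + (2 ^ 2 + (2 ^ 3 + (2 ^ 6 + (2 ^ y + 0))))) ∈ hexMasks →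
      y = 9) _ (idx_lt _) c9
  have h10 : idx (σ (pt 10)) = 10 :=
    (by decide +kernel : ∀ y < 12, 2 ^ 0 + (2 ^ 2 + (2 ^ 3 + (2 ^ 4 + (2 ^ 6 + (2 ^ y + 0))))) ∈ hexMasks →
      y = 10) _ (idx_lt _) c10
  have h11 : idx (σ (pt 11)) = 11 :=
    (by decide +kernel : ∀ y < 12, 2 ^ 0 + (2 ^ 1 + (2 ^ 2 + (2 ^ 4 + (2 ^ 6 + (2 ^ y + 0))))) ∈ hexMasks →
      y = 11) _ (idx_lt _) c11
  rw [Subgroup.mem_bot]
  ext1 p
  apply idx_injective
  revert p
  rw [forall_pt]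
  exact ⟨h0, h1, h2, h3, h4, h5, h6, h7, h8, h9, h10, h11⟩

theorem permPart_eq : permPart ternaryGolayCode = setSystemAut hexads :=
  eq_of_trans trans_permPart (by decide) permPart_le fix_eq_bot

theorem card_permPart : Nat.card (permPart ternaryGolayCode) = 95040 := by
  rw [card_of_trans trans_permPart (by decide), permPart_eq, fix_eq_bot]
  simp [Nat.descFactorial]

end CL.Tern
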