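import Cfsg.Agent.Base
import Cfsg.Agent.Spor.MonAut

/-! The hexacode: weights and monomial automorphisms, through a table model of the field with four
elements. -/

set_option autoImplicit false
set_option linter.unusedSectionVars false

namespace CL.Hexa

open Cfsg MonAut

/-- addition in the table model of the field with four elements -/
def fa (a b : Fin 4) : Fin 4 := Fin.ofNat 4 (Nat.xor a.val b.val)

/-- multiplication in the table model of the field with four elements -/
def fm (a b : Fin 4) : Fin 4 := Fin.ofNat 4 (Nat.shiftRight 2625168384 (2 * (4 * a.val + b.val)))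

/-- the codeword with prescribed first three entries -/
def wd (a b c : Fin 4) : Fin 6 → Fin 4 :=
  ![a, b, c, fa (fa a b) c, fa (fa (fm 3 a) (fm 2 b)) c, fa (fa (fm 2 a) (fm 3 b)) c]

/-- the parity checks -/
def chk (y : Fin 6 → Fin 4) : Prop :=
  y 3 = fa (fa (y 0) (y 1)) (y 2) ∧ y 4 = fa (fa (fm 3 (y 0)) (fm 2 (y 1))) (y 2) ∧
    y 5 = fa (fa (fm 2 (y 0)) (fm 3 (y 1))) (y 2)

instance (y : Fin 6 → Fin 4) : Decidable (chk y) := by unfold chk; infer_instance

/-- the weight of a word -/
def wt (y : Fin 6 → Fin 4) : ℕ := (Finset.univ.filter fun i => y i ≠ 0).card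

theorem wt_wd : ∀ a b c : Fin 4, (a = 0 ∧ b = 0 ∧ c = 0) ∨ wt (wd a b c) = 4 ∨ wt (wd a b c) = 6 := by
  decide +kernel

theorem card_wt4 :
    (Finset.univ.filter fun t : Fin 4 × Fin 4 × Fin 4 => wt (wd t.1 t.2.1 t.2.2) = 4).card = 45 := by
  decide +kernel

theorem card_wt6 :
    (Finset.univ.filter fun t : Fin 4 × Fin 4 × Fin 4 => wt (wd t.1 t.2.1 t.2.2) = 6).card = 18 := by
  decide +kernel

theorem diag_chk : ∀ a b c d e f : Fin 4, chk ![a, 0, 0, d, fm e 3, fm f 2] →
    chk ![0, b, 0, d, fm e 2, fm f 3] → chk ![0, 0, c, d, e, f] →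
      b = a ∧ c = a ∧ d = a ∧ e = a ∧ f = a := by
  decide +kernel

theorem swap_chk : ∀ a b c d e f : Fin 4, chk ![0, b, 0, d, fm e 3, fm f 2] →
    chk ![a, 0, 0, d, fm e 2, fm f 3] → chk ![0, 0, c, d, e, f] → a = 0 := by
  decide +kernel

/-- the scalars accompanying a three-cycle -/
def sc (a b c i : Fin 6) : Fin 4 :=
  Fin.ofNat 4 (Nat.shiftRight 23452935605290259243922892658984535637586662271809983014887049082105837394782533224767505568492654258021229420664665933794551032252667545449711843092783679195254341283440193323418739716423549191622681361552116484277022695765204544645143561667795022731723605509561549379466821151436455727204782520736375388842146023609904604500571717188360613916219388461430220353167840484431343610316193403671802229264651099019869698818858565333049893184983975332892143340164909434993803988829379898240673255576470266447816284684867896267969011734563786995805079422493183974670495937486818691218318464781087446397860500936467469766805452586243686844379362931764382370255849557488871245395460036984857437252652695910251578618818141403708012943290801160474796315883077632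
    (2 * (6 * (36 * a.val + 6 * b.val + c.val) + i.val)))

theorem three_chk : ∀ a b c : Fin 6, a ≠ b → a ≠ c → b ≠ c → (∀ i, sc a b c i ≠ 0) ∧
    chk (fun i => fm (sc a b c i) (wd 1 0 0 (Equiv.swap a b (Equiv.swap b c i)))) ∧
    chk (fun i => fm (sc a b c i) (wd 0 1 0 (Equiv.swap a b (Equiv.swap b c i)))) ∧
    chk (fun i => fm (sc a b c i) (wd 0 0 1 (Equiv.swap a b (Equiv.swap b c i)))) := by
  decide +kernel

variable {F : Type*} [Field F] {ω : F}

/-- the identification of the table model with the field -/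
def emb (ω : F) : Fin 4 → F := ![0, 1, ω, ω ^ 2]

theorem emb_zero : emb ω 0 = 0 := rfl
theorem emb_one : emb ω 1 = 1 := rfl
theorem emb_two : emb ω 2 = ω := rfl
theorem emb_three : emb ω 3 = ω ^ 2 := rfl

theorem two_eq_zero [Fintype F] (hF : Fintype.card F = 4) : (2 : F) = 0 := by
  have h := FiniteField.cast_card_eq_zero F
  rw [hF] at h
  have : (2 : F) * 2 = 0 := by rw [← h]; norm_num
  exact mul_self_eq_zero.1 this

section
variable (h2 : (2 : F) = 0) (hω : ω ^ 2 + ω + 1 = 0)
include h2 hω

theorem emb_fa (a b : Fin 4) : emb ω (fa a b) = emb ω a + emb ω b := by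
  fin_cases a <;> fin_cases b <;> simp [emb, fa, Fin.ofNat] <;> grind

theorem emb_fm (a b : Fin 4) : emb ω (fm a b) = emb ω a * emb ω b := by
  fin_cases a <;> fin_cases b <;> simp [emb, fm, Fin.ofNat] <;> grind

theorem emb_eq_zero {a : Fin 4} : emb ω a = 0 ↔ a = 0 := by
  fin_cases a <;> simp [emb] <;> grind

theorem emb_inj : Function.Injective (emb ω) := by
  intro a b h
  have h1 : emb ω (fa a b) = 0 := by rw [emb_fa h2 hω, h, ← two_mul, h2, zero_mul]
  rw [emb_eq_zero h2 hω] at h1
  revert a b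
  have : ∀ a b : Fin 4, fa a b = 0 → a = b := by decide
  exact fun a b _ h => this a b h

theorem mem_iff {x : Fin 6 → F} : x ∈ hexacode F ω ↔ x 3 = x 0 + x 1 + x 2 ∧
    x 4 = ω ^ 2 * x 0 + ω * x 1 + x 2 ∧ x 5 = ω * x 0 + ω ^ 2 * x 1 + x 2 := by
  rw [hexacode, Submodule.mem_span_triple]
  constructor
  · rintro ⟨a, b, c, rfl⟩
    simp
    grind
  · rintro ⟨h3, h4, h5⟩
    refine ⟨ω * x 0 + ω ^ 2 * x 1, ω ^ 2 * x 0 + ω ^ 2 * x 1 + x 2, x 1 + x 2, ?_⟩
    funext i
    fin_cases i <;> simp <;> grind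

theorem emb_mem_iff {y : Fin 6 → Fin 4} : (fun i => emb ω (y i)) ∈ hexacode F ω ↔ chk y := by
  rw [mem_iff h2 hω, chk]
  simp only [← (emb_inj h2 hω).eq_iff, emb_fa h2 hω, emb_fm h2 hω, emb_two, emb_three]

theorem wd_mem (a b c : Fin 4) : (fun i => emb ω (wd a b c i)) ∈ hexacode F ω :=
  (emb_mem_iff h2 hω).2 ⟨rfl, rfl, rfl⟩

theorem le_span : hexacode F ω ≤ Submodule.span F
    {fun i => emb ω (wd 1 0 0 i), fun i => emb ω (wd 0 1 0 i), fun i => emb ω (wd 0 0 1 i)} := by
  intro x hx
  obtain ⟨h3, h4, h5⟩ := (mem_iff h2 hω).1 hx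
  rw [Submodule.mem_span_triple]
  refine ⟨x 0, x 1, x 2, ?_⟩
  funext i
  fin_cases i <;> simp [wd, emb_fa h2 hω, emb_fm h2 hω, emb_zero, emb_one, emb_two, emb_three] <;>
    grind

end

variable [Fintype F] (hF : Fintype.card F = 4) (hω : ω ^ 2 + ω + 1 = 0)
include hF hω

theorem emb_bij : Function.Bijective (emb ω) :=
  (Fintype.bijective_iff_injective_and_card _).2 ⟨emb_inj (two_eq_zero hF) hω, by simp [hF]⟩

theorem exists_emb (x : Fin 6 → F) : ∃ y : Fin 6 → Fin 4, x = fun i => emb ω (y i) := by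
  choose y hy using fun i => (emb_bij hF hω).2 (x i)
  exact ⟨y, funext fun i => (hy i).symm⟩

/-- the parametrisation of the code -/
def par (ω : F) (t : Fin 4 × Fin 4 × Fin 4) : Fin 6 → F := fun i => emb ω (wd t.1 t.2.1 t.2.2 i)

theorem par_inj : Function.Injective (par ω) := by
  rintro ⟨a, b, c⟩ ⟨a', b', c'⟩ h
  have hi := emb_inj (two_eq_zero hF) hω
  exact Prod.ext (hi (congrFun h 0)) (Prod.ext (hi (congrFun h 1)) (hi (congrFun h 2)))

theorem mem_iff_par {x : Fin 6 → F} : x ∈ hexacode F ω ↔ ∃ t, par ω t = x := by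
  refine ⟨fun hx => ?_, ?_⟩
  · obtain ⟨y, rfl⟩ := exists_emb hF hω x
    obtain ⟨h3, h4, h5⟩ := (emb_mem_iff (two_eq_zero hF) hω).1 hx
    refine ⟨(y 0, y 1, y 2), funext fun i => congrArg (emb ω) ?_⟩
    fin_cases i
    exacts [rfl, rfl, rfl, h3.symm, h4.symm, h5.symm]
  · rintro ⟨t, rfl⟩
    exact wd_mem (two_eq_zero hF) hω _ _ _

theorem wt_par [DecidableEq F] (t : Fin 4 × Fin 4 × Fin 4) :
    (Finset.univ.filter fun i => par ω t i ≠ 0).card = wt (wd t.1 t.2.1 t.2.2) := by
  simp only [par, wt, ne_eq, emb_eq_zero (two_eq_zero hF) hω]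

theorem card_code : Nat.card (hexacode F ω) = 64 := by
  have : (hexacode F ω : Set (Fin 6 → F)) = Set.range (par ω) := Set.ext fun _ => mem_iff_par hF hω
  change Nat.card (hexacode F ω : Set (Fin 6 → F)) = 64
  rw [this, Nat.card_range_of_injective (par_inj hF hω)]
  simp

theorem ncard_wt [DecidableEq F] (n : ℕ) :
    {x : Fin 6 → F | x ∈ hexacode F ω ∧ (Finset.univ.filter fun i => x i ≠ 0).card = n}.ncard =
      (Finset.univ.filter fun t : Fin 4 × Fin 4 × Fin 4 => wt (wd t.1 t.2.1 t.2.2) = n).card := by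
  rw [← Set.ncard_coe_finset, ← Set.ncard_image_of_injective _ (par_inj hF hω)]
  congr 1
  ext x
  simp only [Set.mem_ofPred_eq, mem_iff_par hF hω, Finset.coe_filter, Finset.mem_univ, true_and,
    Set.mem_image]
  constructor
  · rintro ⟨⟨t, rfl⟩, h⟩
    exact ⟨t, by rwa [wt_par hF hω] at h, rfl⟩
  · rintro ⟨t, h, rfl⟩
    exact ⟨⟨t, rfl⟩, by rwa [wt_par hF hω]⟩

theorem diag_const (c : Fin 6 → Fˣ) (h : ∀ x ∈ hexacode F ω, monomialMap 1 c x ∈ hexacode F ω) :
    ∀ i j, c i = c j := by
  have h2 := two_eq_zero hF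
  obtain ⟨y, hy⟩ := exists_emb hF hω fun i => (c i : F)
  have key : ∀ a b d : Fin 4, chk fun i => fm (y i) (wd a b d i) := fun a b d => by
    rw [← emb_mem_iff h2 hω]
    convert h _ (wd_mem h2 hω a b d) using 1
    funext i
    rw [emb_fm h2 hω, ← congrFun hy i]
    rfl
  have e0 : ∀ a : Fin 4, fm a 0 = 0 := by decide
  have e1 : ∀ a : Fin 4, fm a 1 = a := by decide
  obtain ⟨h1, h2', h3, h4, h5⟩ := diag_chk (y 0) (y 1) (y 2) (y 3) (y 4) (y 5)
    (by convert key 1 0 0 using 1; funext i; fin_cases i <;> first | exact (e0 _).symm | exact (e1 _).symm | rfl)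
    (by convert key 0 1 0 using 1; funext i; fin_cases i <;> first | exact (e0 _).symm | exact (e1 _).symm | rfl)
    (by convert key 0 0 1 using 1; funext i; fin_cases i <;> first | exact (e0 _).symm | exact (e1 _).symm | rfl)
  have hall : ∀ i, c i = c 0 := fun i => Units.ext (by
    rw [congrFun hy i, congrFun hy 0]
    congr 1
    fin_cases i
    exacts [rfl, h1, h2', h3, h4, h5])
  exact fun i j => (hall i).trans (hall j).symm

theorem card_diag :
    Nat.card {c : Fin 6 → Fˣ // ∀ x ∈ hexacode F ω, monomialMap 1 c x ∈ hexacode F ω} = 3 := by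
  classical
  have : Nat.card Fˣ = 3 := by rw [Nat.card_eq_fintype_card, Fintype.card_units, hF]
  rw [← this]
  refine Nat.card_congr
    { toFun := fun c => c.1 0
      invFun := fun u => ⟨fun _ => u, fun x hx => (hexacode F ω).smul_mem (u : F) hx⟩
      left_inv := fun c => Subtype.ext (funext fun i => diag_const hF hω c.1 c.2 0 i)
      right_inv := fun _ => rfl }

theorem swap_not_mem : Equiv.swap (0 : Fin 6) 1 ∉ permPart (hexacode F ω) := by
  rintro ⟨c, h⟩
  have h2 := two_eq_zero hF
  obtain ⟨y, hy⟩ := exists_emb hF hω fun i => (c i : F)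
  have key : ∀ a b d : Fin 4, chk fun i => fm (y i) (wd a b d (Equiv.swap 0 1 i)) := fun a b d => by
    rw [← emb_mem_iff h2 hω]
    convert h _ (wd_mem h2 hω a b d) using 1
    funext i
    rw [emb_fm h2 hω, ← congrFun hy i]
    rfl
  have e0 : ∀ a : Fin 4, fm a 0 = 0 := by decide
  have e1 : ∀ a : Fin 4, fm a 1 = a := by decide
  have h0 := swap_chk (y 0) (y 1) (y 2) (y 3) (y 4) (y 5)
    (by convert key 1 0 0 using 1; funext i; fin_cases i <;> first | exact (e0 _).symm | exact (e1 _).symm | rfl)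
    (by convert key 0 1 0 using 1; funext i; fin_cases i <;> first | exact (e0 _).symm | exact (e1 _).symm | rfl)
    (by convert key 0 0 1 using 1; funext i; fin_cases i <;> first | exact (e0 _).symm | exact (e1 _).symm | rfl)
  exact (c 0).ne_zero (by rw [congrFun hy 0, h0]; rfl)

theorem alt_le : alternatingGroup (Fin 6) ≤ permPart (hexacode F ω) := by
  have h2 := two_eq_zero hF
  rw [← Equiv.Perm.closure_three_cycles_eq_alternating, Subgroup.closure_le]
  intro g hg
  have hg : g.IsThreeCycle := hg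
  obtain ⟨a, ha⟩ : g.support.Nonempty := Finset.card_pos.1 (by rw [hg.card_support]; norm_num)
  have hn := hg.nodup_iff_mem_support.2 ha
  simp only [List.nodup_cons, List.mem_cons, List.not_mem_nil, or_false, not_or] at hn
  obtain ⟨h0, k1, k2, k3⟩ := three_chk a (g a) (g (g a)) hn.1.1 hn.1.2 hn.2.1
  have e := hg.eq_swap_mul_swap_iff_mem_support.2 ha
  obtain ⟨σ, hσ, h⟩ := exists_mem_permPart (le_span h2 hω)
    (fun i => Equiv.swap a (g a) (Equiv.swap (g a) (g (g a)) i))
    ((Equiv.injective _).comp (Equiv.injective _)) (fun i => emb ω (sc a (g a) (g (g a)) i))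
    (fun i => by rw [Ne, emb_eq_zero h2 hω]; exact h0 i) (by
      rintro x (rfl | rfl | rfl) <;> simp only [← emb_fm h2 hω, emb_mem_iff h2 hω] <;> assumption)
  have : g = σ := by
    rw [e]
    exact Equiv.ext fun i => (h i).symm
  exact this ▸ hσ

theorem permPart_eq : permPart (hexacode F ω) = alternatingGroup (Fin 6) := by
  refine le_antisymm (fun σ hσ => ?_) (alt_le hF hω)
  rw [Equiv.Perm.mem_alternatingGroup]
  rcases Int.units_eq_one_or (Equiv.Perm.sign σ) with h | h
  · exact h
  · refine absurd ?_ (swap_not_mem hF hω)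
    have h1 : Equiv.swap (0 : Fin 6) 1 * σ ∈ alternatingGroup (Fin 6) := by
      rw [Equiv.Perm.mem_alternatingGroup, map_mul, h, Equiv.Perm.sign_swap (by decide)]
      rfl
    simpa using mul_mem (alt_le hF hω h1) (inv_mem hσ)

end CL.Hexa
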