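import Cfsg.Agent.Spor.RuLatData

/-! The Conway-Wales lattice is even and has no roots. -/

set_option autoImplicit false

namespace CL.RuLat

open Cfsg.Spor

/-! ### sums of binary words -/

/-- the sum of the selected words -/
def xs {ι : Type*} (c : ι → ℕ) (b : ι → Bool) : List ι → ℕ
  | [] => 0
  | p :: l => if b p then c p ^^^ xs c b l else xs c b l

theorem xs_eq_zero {ι : Type*} (c : ι → ℕ) (b : ι → Bool) :
    ∀ l : List ι, (l.filter b).length = 0 → xs c b l = 0
  | [], _ => rfl
  | p :: l, h => by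
    cases hb : b p
    · rw [List.filter_cons_of_neg (by simp [hb])] at h
      simp [xs, hb, xs_eq_zero c b l h]
    · rw [List.filter_cons_of_pos hb] at h
      simp at h

theorem allSub_spec {ι : Type*} (f : ℕ → Bool) (c : ι → ℕ) (b : ι → Bool) :
    ∀ (l : List ι) (k s : ℕ), allSub f (l.map c) k s = true → (l.filter b).length ≤ k →
      f (s ^^^ xs c b l) = true
  | [], _, s, h, _ => by rw [xs, Nat.xor_zero]; exact h
  | p :: l, 0, s, h, hk => by
    rw [xs_eq_zero c b _ (Nat.le_zero.1 hk), Nat.xor_zero]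
    exact h
  | p :: l, k + 1, s, h, hk => by
    have h' : (allSub f (l.map c) (k + 1) s && allSub f (l.map c) k (s ^^^ c p)) = true := h
    rw [Bool.and_eq_true] at h'
    cases hb : b p
    · rw [List.filter_cons_of_neg (by simp [hb])] at hk
      simpa [xs, hb] using allSub_spec f c b l _ _ h'.1 hk
    · rw [List.filter_cons_of_pos hb] at hk
      have := allSub_spec f c b l _ _ h'.2 (by simpa using hk)
      simpa [xs, hb, Nat.xor_assoc] using this

theorem bitv_xor (a b i : ℕ) : bitv (a ^^^ b) i = bitv a i + bitv b i := by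
  simp only [bitv, Nat.testBit_xor]
  cases a.testBit i <;> cases b.testBit i <;> decide

theorem bitv_xs {ι : Type*} (c : ι → ℕ) (u : ι → ZMod 2) (i : ℕ) : ∀ l : List ι,
    bitv (xs c (fun p => decide (u p = 1)) l) i = (l.map fun p => u p * bitv (c p) i).sum
  | [] => by simp [xs, bitv]
  | p :: l => by
    have h : ∀ z : ZMod 2, z = 0 ∨ z = 1 := by decide
    rcases h (u p) with h | h <;> simp [xs, h, bitv_xor, bitv_xs c u i l]

theorem testBit_iff {n i : ℕ} : n.testBit i = true ↔ bitv n i = 1 := by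
  unfold bitv; cases n.testBit i <;> simp

/-! ### parity -/

theorem par_add (a b : GaussianInt) : par (a + b) = par a + par b := by
  simp only [par, Zsqrtd.re_add, Zsqrtd.im_add, Int.cast_add]; ring

theorem par_mul (a b : GaussianInt) : par (a * b) = par a * par b := by
  simp only [par, Zsqrtd.re_mul, Zsqrtd.im_mul, Int.cast_add, Int.cast_mul, Int.cast_neg,
    Int.cast_one]
  have : (2 : ZMod 2) = 0 := rfl
  linear_combination (-(a.im : ZMod 2) * b.im) * this

theorem par_star (a : GaussianInt) : par (star a) = par a := by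
  simp [par]

theorem par_zero : par 0 = 0 := by simp [par]

theorem par_sum {ι : Type*} (s : Finset ι) (f : ι → GaussianInt) :
    par (∑ i ∈ s, f i) = ∑ i ∈ s, par (f i) :=
  map_sum (⟨⟨par, par_zero⟩, par_add⟩ : GaussianInt →+ ZMod 2) f s

theorem par_eq_zero {a : GaussianInt} : par a = 0 ↔ 2 ∣ a.re + a.im := by
  rw [par, ← Int.cast_add]
  exact ZMod.intCast_zmod_eq_zero_iff_dvd _ 2

theorem four_dvd {z : GaussianInt} : (4 : GaussianInt) ∣ z ↔ 4 ∣ z.re ∧ 4 ∣ z.im := by
  simpa using Zsqrtd.intCast_dvd (d := -1) 4 z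

local notation "ϖ" => (⟨1, 1⟩ : GaussianInt)

theorem exists_of_par {a : GaussianInt} (h : par a = 0) : ∃ w, a = ϖ * w := by
  obtain ⟨k, hk⟩ := par_eq_zero.1 h
  refine ⟨⟨k, k - a.re⟩, Zsqrtd.ext ?_ ?_⟩ <;> (simp; try omega)

theorem par_of_dvd {u z : GaussianInt} (hu : u.re % 4 = 2) (hu' : u.im % 4 = 2)
    (h : (4 : GaussianInt) ∣ u * z) : par z = 0 := by
  have h1 := (four_dvd.1 h).2
  rw [par_eq_zero]
  obtain ⟨a, ha⟩ : ∃ a, u.re = 4 * a + 2 := ⟨u.re / 4, by omega⟩
  obtain ⟨b, hb⟩ : ∃ b, u.im = 4 * b + 2 := ⟨u.im / 4, by omega⟩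
  rw [Zsqrtd.im_mul, ha, hb, show (4 * a + 2) * z.im + (4 * b + 2) * z.re =
    4 * (a * z.im + b * z.re) + 2 * (z.re + z.im) by ring] at h1
  omega

/-! ### the Hermitian form -/

theorem herm_add_left (x y z : RuVec) : herm (x + y) z = herm x z + herm y z := by
  simp [herm, add_mul, Finset.sum_add_distrib]

theorem herm_add_right (x y z : RuVec) : herm x (y + z) = herm x y + herm x z := by
  simp [herm, mul_add, Finset.sum_add_distrib]

theorem herm_smul_left (c : GaussianInt) (x y : RuVec) : herm (c • x) y = c * herm x y := by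
  simp [herm, Finset.mul_sum, mul_assoc]

theorem herm_smul_right (c : GaussianInt) (x y : RuVec) : herm x (c • y) = star c * herm x y := by
  simp only [herm, Finset.mul_sum, Pi.smul_apply, smul_eq_mul, star_mul]
  exact Finset.sum_congr rfl fun _ _ => by ring

theorem re_sum {ι : Type*} (s : Finset ι) (f : ι → GaussianInt) :
    (∑ i ∈ s, f i).re = ∑ i ∈ s, (f i).re :=
  map_sum (⟨⟨Zsqrtd.re, rfl⟩, Zsqrtd.re_add⟩ : GaussianInt →+ ℤ) f s

theorem norm_eq_herm (x : RuVec) : ruNorm x = (herm x x).re := by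
  rw [herm, re_sum]
  exact Finset.sum_congr rfl fun p _ => by simp [Zsqrtd.norm_def]

theorem norm_add (x y : RuVec) : ruNorm (x + y) = ruNorm x + ruNorm y + 2 * (herm x y).re := by
  simp only [ruNorm, herm, re_sum, Finset.mul_sum, ← Finset.sum_add_distrib]
  exact Finset.sum_congr rfl fun p _ => by simp [Zsqrtd.norm_def]; ring

theorem norm_smul (c : GaussianInt) (x : RuVec) : ruNorm (c • x) = c.norm * ruNorm x := by
  simp [ruNorm, Finset.mul_sum, Zsqrtd.norm_mul]

theorem norm_nonneg (x : RuVec) : 0 ≤ ruNorm x :=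
  Finset.sum_nonneg fun _ _ => GaussianInt.norm_nonneg _

theorem eq_zero_of_norm {x : RuVec} (h : ruNorm x = 0) : x = 0 := funext fun p =>
  GaussianInt.norm_eq_zero.1 ((Finset.sum_eq_zero_iff_of_nonneg fun _ _ =>
    GaussianInt.norm_nonneg _).1 h p (Finset.mem_univ p))

/-! ### the explicit lattice -/

/-- generators of the explicit lattice -/
def gens : Set RuVec := {x | (∃ j < 19, x = bv j) ∨ ∃ w : RuVec, x = (4 : GaussianInt) • w}

/-- the explicit lattice -/
def lat : Submodule GaussianInt RuVec := Submodule.span GaussianInt gens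

theorem bv_mem {j : ℕ} (h : j < 19) : bv j ∈ lat := Submodule.subset_span (Or.inl ⟨j, h, rfl⟩)

theorem four_mem (w : RuVec) : (4 : GaussianInt) • w ∈ lat :=
  Submodule.subset_span (Or.inr ⟨w, rfl⟩)

theorem comb_mem (T t : ℕ) : comb T t ∈ lat := by
  have : comb T t = ∑ k ∈ Finset.range 19, g2 T (19 * t + k) • bv k := by
    funext p
    simp only [comb, sumTo_eq, Finset.sum_apply, Pi.smul_apply, smul_eq_mul]
  rw [this]
  exact Submodule.sum_mem _ fun k hk => lat.smul_mem _ (bv_mem (Finset.mem_range.1 hk))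

theorem mem_of_chk {v : RuVec} {T t : ℕ} (h : ∀ a b, d4 (v (a, b) - comb T t (a, b)) = true) :
    v ∈ lat := by
  choose w hw using fun p : RuIdx => d4_iff.1 (h p.1 p.2)
  have : v = comb T t + (4 : GaussianInt) • w := funext fun p => by
    rw [Pi.add_apply, Pi.smul_apply, smul_eq_mul, ← hw p]; simp
  exact this ▸ add_mem (comb_mem T t) (four_mem w)

theorem closed_of {f : RuVec → RuVec} (hadd : ∀ x y, f (x + y) = f x + f y)
    (hsmul : ∀ (c : GaussianInt) x, f (c • x) = c • f x) (h : ∀ j : Fin 19, f (bv j) ∈ lat)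
    {v : RuVec} (hv : v ∈ lat) : f v ∈ lat := by
  induction hv using Submodule.span_induction with
  | mem x hx =>
    rcases hx with ⟨j, hj, rfl⟩ | ⟨w, rfl⟩
    · exact h ⟨j, hj⟩
    · rw [hsmul]; exact four_mem _
  | zero =>
    have := hsmul 0 0
    rw [zero_smul, zero_smul] at this
    rw [this]; exact zero_mem _
  | add x y _ _ hx hy => rw [hadd]; exact add_mem hx hy
  | smul c x _ hx => rw [hsmul]; exact lat.smul_mem c hx

theorem ruLattice_le : ruLattice ≤ lat.toAddSubgroup := by
  refine sInf_le ⟨fun v hv => ?_, fun v hv => ⟨lat.smul_mem _ hv, ?_, ?_, ?_, ?_⟩⟩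
  · obtain ⟨t, ht, rfl⟩ := List.getElem_of_mem hv
    have h20 : ruTable.length = 20 := rfl
    have := mem_of_chk (chk_gen ⟨t, h20 ▸ ht⟩)
    rwa [List.getD_eq_getElem _ _ ht] at this
  · refine closed_of (fun x y => funext fun p => ?_) (fun c x => funext fun p => ?_)
      (fun j => mem_of_chk (chk_j j)) hv <;> obtain ⟨a, b⟩ := p <;> fin_cases b <;>
      simp [ruRj] <;> ring
  · refine closed_of (fun x y => funext fun p => ?_) (fun c x => funext fun p => ?_)
      (fun j => mem_of_chk (chk_k j)) hv <;> obtain ⟨a, b⟩ := p <;> fin_cases b <;>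
      simp [ruRk] <;> ring
  · refine closed_of (fun x y => funext fun p => ?_) (fun c x => funext fun p => ?_)
      (fun j => mem_of_chk (chk_s j)) hv <;> simp only [ruSign, Pi.add_apply, Pi.smul_apply,
        smul_eq_mul] <;> split_ifs <;> ring
  · exact closed_of (fun _ _ => rfl) (fun _ _ => rfl) (fun j => mem_of_chk (chk_t j)) hv

theorem four_dvd_herm {x y : RuVec} (hx : x ∈ lat) (hy : y ∈ lat) : (4 : GaussianInt) ∣ herm x y := by
  induction hx using Submodule.span_induction with
  | mem x hx =>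
    rcases hx with ⟨j, hj, rfl⟩ | ⟨w, rfl⟩
    · induction hy using Submodule.span_induction with
      | mem y hy =>
        rcases hy with ⟨k, hk, rfl⟩ | ⟨w, rfl⟩
        · have := d4_iff.1 (chk_gram ⟨j, hj⟩ ⟨k, hk⟩)
          rwa [sum_pt fun p => bv j p * star (bv k p)] at this
        · rw [herm_smul_right, star_ofNat]; exact dvd_mul_right _ _
      | zero => simp [herm]
      | add y z _ _ hy hz => rw [herm_add_right]; exact dvd_add hy hz
      | smul c y _ hy => rw [herm_smul_right]; exact hy.mul_left _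
    · rw [herm_smul_left]; exact dvd_mul_right _ _
  | zero => simp [herm]
  | add x z _ _ hx hz => rw [herm_add_left]; exact dvd_add hx hz
  | smul c x _ hx => rw [herm_smul_left]; exact hx.mul_left _

theorem eight_dvd_norm {x : RuVec} (hx : x ∈ lat) : (8 : ℤ) ∣ ruNorm x := by
  induction hx using Submodule.span_induction with
  | mem x hx =>
    rcases hx with ⟨j, hj, rfl⟩ | ⟨w, rfl⟩
    · have := chk_norm ⟨j, hj⟩
      rw [sum_pt fun p => bv j p * star (bv j p)] at this
      rw [norm_eq_herm]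
      exact Int.dvd_of_emod_eq_zero this
    · rw [norm_smul]
      exact Dvd.dvd.mul_right (by decide) _
  | zero => simp [ruNorm]
  | add x y hx' hy' hx hy =>
    rw [norm_add]
    have := (four_dvd.1 (four_dvd_herm hx' hy')).1
    omega
  | smul c x _ hx => rw [norm_smul]; exact hx.mul_left _

theorem exists_par {x : RuVec} (hx : x ∈ lat) :
    ∃ u : ℕ → ZMod 2, ∀ p, par (x p) = ∑ j ∈ Finset.range 9, u j * par (bv j p) := by
  induction hx using Submodule.span_induction with
  | mem x hx =>
    rcases hx with ⟨j, hj, rfl⟩ | ⟨w, rfl⟩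
    · by_cases h : j < 9
      · exact ⟨fun k => if k = j then 1 else 0, fun p => by simp [h]⟩
      · exact ⟨0, fun p => by simpa using chk_par ⟨j, hj⟩ (not_lt.1 h) p.1 p.2⟩
    · refine ⟨0, fun p => ?_⟩
      rw [Pi.smul_apply, smul_eq_mul, par_mul, show par 4 = 0 by decide]
      simp
  | zero => exact ⟨0, fun p => by simp [par_zero]⟩
  | add x y _ _ hx hy =>
    obtain ⟨u, hu⟩ := hx
    obtain ⟨v, hv⟩ := hy
    exact ⟨u + v, fun p => by simp [par_add, hu, hv, add_mul, Finset.sum_add_distrib]⟩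
  | smul c x _ hx =>
    obtain ⟨u, hu⟩ := hx
    exact ⟨fun j => par c * u j, fun p => by
      simp [par_mul, hu, Finset.mul_sum, mul_assoc]⟩

/-! ### vectors of small norm -/

/-- the odd coordinates -/
def od (y : RuVec) : Finset RuIdx := Finset.univ.filter fun p => par (y p) = 1

theorem length_filter (b : RuIdx → Bool) :
    (allP.filter b).length = (Finset.univ.filter fun p => b p = true).card := by
  have := sum_allP fun p => if b p = true then 1 else 0
  rw [Finset.card_filter, ← this, ← List.countP_eq_length_filter]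
  generalize allP = l
  induction l with
  | nil => rfl
  | cons a l ih => rw [List.countP_cons, List.map_cons, List.sum_cons, ih, add_comm]

theorem card_od_add_le (y : RuVec) {q : RuIdx} (hq : q ∉ od y) :
    ((od y).card : ℤ) + (y q).norm ≤ ruNorm y := by
  have h1 : ((od y).card : ℤ) ≤ ∑ p ∈ od y, (y p).norm := by
    rw [Finset.card_eq_sum_ones, Nat.cast_sum]
    refine Finset.sum_le_sum fun p hp => GaussianInt.norm_pos.2 fun h => ?_
    have := (Finset.mem_filter.1 hp).2
    rw [h, par_zero] at this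
    exact zero_ne_one this
  have h2 : ∑ p ∈ insert q (od y), (y p).norm ≤ ruNorm y :=
    Finset.sum_le_sum_of_subset_of_nonneg (Finset.subset_univ _)
      fun _ _ _ => GaussianInt.norm_nonneg _
  rw [Finset.sum_insert hq] at h2
  omega

theorem card_od_le (y : RuVec) : ((od y).card : ℤ) ≤ ruNorm y := by
  rw [Finset.card_eq_sum_ones, Nat.cast_sum, ruNorm]
  refine le_trans (Finset.sum_le_sum fun p hp => ?_) (Finset.sum_le_sum_of_subset_of_nonneg
    (Finset.subset_univ (od y)) fun _ _ _ => GaussianInt.norm_nonneg _)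
  refine GaussianInt.norm_pos.2 fun h => ?_
  have := (Finset.mem_filter.1 hp).2
  rw [h, par_zero] at this
  exact zero_ne_one this

theorem eq_zero_of_card {y : RuVec} (h : ((od y).card : ℤ) = ruNorm y) {q : RuIdx}
    (hq : q ∉ od y) : y q = 0 := by
  have h1 := card_od_add_le y hq
  have h2 := GaussianInt.norm_nonneg (y q)
  exact GaussianInt.norm_eq_zero.1 (by omega)

theorem exists_div {y : RuVec} (h : ∀ p, par (y p) ≠ 1) : ∃ w : RuVec, y = ϖ • w ∧
    ruNorm y = 2 * ruNorm w := by
  have h0 : ∀ z : ZMod 2, z ≠ 1 → z = 0 := by decide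
  choose w hw using fun p => exists_of_par (h0 _ (h p))
  have : y = ϖ • w := funext hw
  exact ⟨w, this, by rw [this, norm_smul]; rfl⟩

theorem dvd_single {x h : RuVec} (hx : x ∈ lat) (hh : h ∈ lat) (q : RuIdx)
    (H : ∀ p, p ≠ q → x p = 0 ∨ (4 : GaussianInt) ∣ h p) {u : GaussianInt}
    (hu : (4 : GaussianInt) ∣ h q - u) : (4 : GaussianInt) ∣ x q * star u := by
  have h1 := four_dvd_herm hx hh
  rw [herm, ← Finset.add_sum_erase _ _ (Finset.mem_univ q)] at h1
  have hs : ∀ z : GaussianInt, (4 : GaussianInt) ∣ z → (4 : GaussianInt) ∣ star z := fun z hz => by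
    obtain ⟨w, rfl⟩ := hz
    rw [star_mul, star_ofNat]
    exact dvd_mul_left _ _
  have h2 : (4 : GaussianInt) ∣ ∑ p ∈ Finset.univ.erase q, x p * star (h p) :=
    Finset.dvd_sum fun p hp => by
      rcases H p (Finset.ne_of_mem_erase hp) with h0 | h0
      · simp [h0]
      · exact (hs _ h0).mul_left _
  have h3 := (dvd_add_left h2).1 h1
  have h4 := (hs _ hu).mul_left (x q)
  rw [star_sub, mul_sub] at h4
  simpa using dvd_sub h3 h4

theorem step0 {x : RuVec} (hx : x ∈ lat) (hn : ruNorm x = 8) (p : RuIdx) : par (x p) ≠ 1 := by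
  intro hp
  obtain ⟨u, hu⟩ := exists_par hx
  have h1 := allSub_spec f0 gm (fun j => decide (u j = 1)) _ _ _ enum0
    ((List.length_filter_le _ _).trans (by simp))
  rw [Nat.zero_xor] at h1
  set s := xs gm (fun j => decide (u j = 1)) (List.range 9)
  have hs : ∀ q, s.testBit (ix q) = true ↔ par (x q) = 1 := fun q => by
    rw [testBit_iff, bitv_xs, hu, ← List.sum_toFinset _ List.nodup_range, List.toFinset_range,
      Finset.sum_congr (g := fun j => u j * par (bv j q)) rfl fun j hj => congrArg (u j * ·)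
        (chk_gm ⟨j, Finset.mem_range.1 hj⟩ q.1 q.2)]
  have hod : (Finset.univ.filter fun q => s.testBit (ix q) = true) = od x := by
    simp only [hs, od]
  simp only [f0, Bool.or_eq_true, Nat.beq_eq, Nat.blt_eq, decide_eq_true_eq] at h1
  rcases h1 with (h1 | h1) | ⟨n, m, hnm, h1⟩
  · have := (hs p).2 hp
    simp [h1] at this
  · rw [length_filter, hod] at h1
    have := card_od_le x
    omega
  · have hs' : ∀ q, q ∈ od x ↔ q.1 = n ∨ q.1 = m := fun q => by
      rw [← hod, Finset.mem_filter, h1, chk_two n m hnm q.1 q.2]; simp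
    have hc : (od x).card = 8 := by
      have : od x = Finset.univ.filter fun q : RuIdx => q.1 = n ∨ q.1 = m := by
        ext q; simp [hs']
      rw [this]
      clear * - hnm
      revert n m
      decide +kernel
    obtain ⟨k1, k2⟩ := chk_h0 n m hnm
    have h3 := dvd_single hx (comb_mem tabH (7 * n + m)) (n, 0) (fun q hq => by
      by_cases hq' : q ∈ od x
      · exact Or.inr (d4_iff.1 (k2 q.1 q.2 ((hs' q).1 hq') hq))
      · exact Or.inl (eq_zero_of_card (by rw [hc, hn]; rfl) hq')) (d4_iff.1 k1)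
    rw [mul_comm] at h3
    have h4 := par_of_dvd (by decide) (by decide) h3
    have h5 := (Finset.mem_filter.1 ((hs' (n, 0)).2 (Or.inl rfl))).2
    rw [h4] at h5
    exact zero_ne_one h5

theorem enum_spec {N k w : ℕ} (hN : N ≤ 18) (hk : k ≤ 3) (hkv : ∀ j < N, kv j ≤ 3 - k)
    {f : ℕ → Bool} (hf : allSub f (allP.map (cN N)) w 0 = true) {y : RuVec}
    (hy : ϖ ^ k • y ∈ lat) (hw : ruNorm y ≤ w) :
    ∃ s : ℕ, f s = true ∧ s < 268435456 ∧ ∀ q, s.testBit (ix q) = true ↔ par (y q) = 1 := by
  have h1 := allSub_spec f (cN N) (fun p => decide (par (y p) = 1)) _ _ _ hf (by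
    rw [length_filter]
    have := card_od_le y
    simp only [decide_eq_true_eq]
    change (od y).card ≤ w
    omega)
  rw [Nat.zero_xor] at h1
  refine ⟨_, h1, ?_, fun q => ?_⟩
  · refine Nat.lt_pow_two_of_testBit (n := 28) _ fun i hi => ?_
    rw [← Bool.not_eq_true, testBit_iff, bitv_xs _ (fun p => par (y p)), sum_allP]
    obtain ⟨t, rfl⟩ := Nat.exists_eq_add_of_le hi
    suffices ∑ p, par (y p) * bitv (cN N p) (28 + t) = 0 by rw [this]; exact zero_ne_one
    by_cases ht : t < N
    · have e : ∀ p, bitv (cN N p) (28 + t) = par (star (bp t p)) := fun p => by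
        rw [par_star]; exact chk_high ⟨N, by omega⟩ ⟨t, by omega⟩ ht p.1 p.2
      simp only [e, ← par_mul, ← par_sum]
      have e2 : ϖ ^ (3 - k) • bp t = ϖ ^ (3 - k - kv t) • bv t := funext fun p => by
        have := chk_bp ⟨t, by omega⟩ p.1 p.2
        simp only [Pi.smul_apply, smul_eq_mul]
        rw [this, ← mul_assoc, ← pow_add, Nat.sub_add_cancel (hkv t ht)]
      have h2 := four_dvd_herm hy (e2 ▸ lat.smul_mem _ (bv_mem (show t < 19 by omega)))
      rw [herm_smul_left, herm_smul_right, ← mul_assoc] at h2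
      refine par_of_dvd ?_ ?_ h2 <;> interval_cases k <;> decide
    · refine Finset.sum_eq_zero fun p _ => ?_
      have := chk_lt ⟨N, by omega⟩ p.1 p.2
      rw [bitv, Nat.testBit_lt_two_pow (this.trans_le (Nat.pow_le_pow_right two_pos
        (by simp only; omega)))]
      simp
  · rw [testBit_iff, bitv_xs _ (fun p => par (y p)), sum_allP]
    have e : ∀ p, bitv (cN N p) (ix q) = if p = q then 1 else 0 := fun p =>
      chk_low ⟨N, by omega⟩ p.1 p.2 q.1 q.2
    simp [e]

theorem step1 {y : RuVec} (hy : ϖ ^ 1 • y ∈ lat) (hn : ruNorm y = 4) (p : RuIdx) :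
    par (y p) ≠ 1 := by
  intro hp
  obtain ⟨s, h1, h2, hs⟩ := enum_spec (k := 1) le_rfl (by decide) (by decide) enum1 hy hn.le
  simp only [f1, Bool.or_eq_true, Nat.beq_eq, Nat.ble_eq, decide_eq_true_eq] at h1
  rcases h1 with (h1 | h1) | ⟨n, h1⟩
  · omega
  · have := (hs p).2 hp
    simp [h1] at this
  · have hs' : ∀ q, q ∈ od y ↔ q.1 = n := fun q => by
      rw [od, Finset.mem_filter, ← hs, h1, chk_one n q.1 q.2]; simp
    have hc : (od y).card = 4 := by
      have : od y = Finset.univ.filter fun q : RuIdx => q.1 = n := by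
        ext q; simp [hs']
      rw [this]
      clear * -
      revert n
      decide +kernel
    obtain ⟨k1, k2⟩ := chk_h1 n
    have h3 := dvd_single hy (comb_mem tabH (7 * n + n)) (n, 0) (fun q hq => by
      by_cases hq' : q ∈ od y
      · obtain ⟨a, b⟩ := q
        obtain rfl : a = n := (hs' _).1 hq'
        exact Or.inr (d4_iff.1 (k2 b fun h => hq (by rw [h])))
      · refine Or.inl ?_
        rw [Pi.smul_apply, eq_zero_of_card (by rw [hc, hn]; rfl) hq', smul_zero]) (d4_iff.1 k1)
    rw [Pi.smul_apply, smul_eq_mul, mul_right_comm] at h3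
    have h4 := par_of_dvd (by decide) (by decide) h3
    have h5 := (Finset.mem_filter.1 ((hs' (n, 0)).2 rfl)).2
    rw [h4] at h5
    exact zero_ne_one h5

theorem step2 {N k w : ℕ} (hN : N ≤ 18) (hk : k ≤ 3) (hkv : ∀ j < N, kv j ≤ 3 - k)
    (hf : allSub f2 (allP.map (cN N)) w 0 = true) {y : RuVec}
    (hy : ϖ ^ k • y ∈ lat) (hw : ruNorm y ≤ w) (p : RuIdx) : par (y p) ≠ 1 := by
  intro hp
  obtain ⟨s, h1, h2, hs⟩ := enum_spec hN hk hkv hf hy hw
  simp only [f2, Bool.or_eq_true, Nat.beq_eq, Nat.ble_eq] at h1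
  rcases h1 with h1 | h1
  · omega
  · have := (hs p).2 hp
    simp [h1] at this

theorem norm_ne_eight {x : RuVec} (hx : x ∈ lat) : ruNorm x ≠ 8 := by
  intro hn
  obtain ⟨y, rfl, e1⟩ := exists_div (step0 hx hn)
  obtain ⟨z, rfl, e2⟩ := exists_div (step1 (y := y) (by rwa [pow_one]) (by omega))
  obtain ⟨u, rfl, e3⟩ := exists_div (step2 (k := 2) (by decide) (by decide) (by decide) enum2
    (y := z) (by rwa [pow_two, mul_smul]) (by omega))
  obtain ⟨v, -, e4⟩ := exists_div (step2 (k := 3) (by decide) (by decide) (by decide) enum3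
    (y := u) (by rwa [pow_three, mul_smul, mul_smul]) (by omega))
  omega

end CL.RuLat
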