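import Cfsg.Agent.Base

/-!
# Poisson summation for Gaussians in several variables
-/

set_option autoImplicit false

namespace CL.Theta

open Complex Finset
open scoped Real

variable {n : ℕ}

/-- The quadratic form of a real matrix at a real vector. -/
def qr (A : Matrix (Fin n) (Fin n) ℝ) (x : Fin n → ℝ) : ℝ := ∑ i, ∑ j, x i * A i j * x j

/-- The quadratic form of a real matrix at a complex vector. -/
noncomputable def qc (A : Matrix (Fin n) (Fin n) ℝ) (z : Fin n → ℂ) : ℂ :=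
  ∑ i, ∑ j, z i * A i j * z j

/-- Positive definiteness. -/
def Pos (A : Matrix (Fin n) (Fin n) ℝ) : Prop := ∀ x : Fin n → ℝ, x ≠ 0 → 0 < qr A x

theorem qc_ofReal (A : Matrix (Fin n) (Fin n) ℝ) (x : Fin n → ℝ) :
    qc A (fun i => x i) = qr A x := by simp [qc, qr]

theorem qc_int (A : Matrix (Fin n) (Fin n) ℝ) (x : Fin n → ℤ) :
    qc A (fun i => x i) = qr A (fun i => x i) := by simp [qc, qr]

theorem qr_smul (A : Matrix (Fin n) (Fin n) ℝ) (c : ℝ) (x : Fin n → ℝ) :
    qr A (c • x) = c ^ 2 * qr A x := by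
  simp only [qr, mul_sum, Pi.smul_apply, smul_eq_mul]
  exact sum_congr rfl fun i _ => sum_congr rfl fun j _ => by ring

theorem Pos.exists_lower {A : Matrix (Fin n) (Fin n) ℝ} (h : Pos A) :
    ∃ ε > 0, ∀ x : Fin n → ℝ, ε * ∑ i, x i ^ 2 ≤ qr A x := by
  have hc : Continuous (qr A) := by unfold qr; fun_prop
  by_cases hne : (Metric.sphere (0 : Fin n → ℝ) 1).Nonempty
  · obtain ⟨u, hu, hmin⟩ := (isCompact_sphere (0 : Fin n → ℝ) 1).exists_isMinOn hne
      hc.continuousOn
    have hu0 : u ≠ 0 := by rintro rfl; simp at hu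
    have hpos := h u hu0
    refine ⟨qr A u / (n + 1), by positivity, fun x => ?_⟩
    by_cases hx : x = 0
    · subst hx; simp [qr]
    have hn : 0 < ‖x‖ := norm_pos_iff.2 hx
    have h1 : qr A u ≤ qr A (‖x‖⁻¹ • x) := hmin (by simp [norm_smul, hn.ne'])
    rw [qr_smul] at h1
    have h2 : ∑ i, x i ^ 2 ≤ (n + 1) * ‖x‖ ^ 2 := by
      have : ∑ i, x i ^ 2 ≤ ∑ _i : Fin n, ‖x‖ ^ 2 := sum_le_sum fun i _ => by
        rw [← sq_abs]; exact pow_le_pow_left₀ (abs_nonneg _) (norm_le_pi_norm x i) 2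
      simp only [sum_const, card_univ, Fintype.card_fin, nsmul_eq_mul] at this
      nlinarith [sq_nonneg ‖x‖]
    have h3 : qr A u * ‖x‖ ^ 2 ≤ qr A x := by
      have := mul_le_mul_of_nonneg_right h1 (sq_nonneg ‖x‖)
      rwa [mul_right_comm, ← mul_pow, inv_mul_cancel₀ hn.ne', one_pow, one_mul] at this
    calc qr A u / (n + 1) * ∑ i, x i ^ 2 ≤ qr A u / (n + 1) * ((n + 1) * ‖x‖ ^ 2) := by gcongr
      _ = qr A u * ‖x‖ ^ 2 := by field_simp
      _ ≤ _ := h3
  · refine ⟨1, one_pos, fun x => ?_⟩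
    have hx : x = 0 := by
      by_contra hx
      exact hne ⟨‖x‖⁻¹ • x, by simp [norm_smul, norm_ne_zero_iff.2 hx]⟩
    subst hx; simp [qr]

theorem summable_pi_prod : ∀ {n : ℕ} (f : Fin n → ℤ → ℝ), (∀ i k, 0 ≤ f i k) →
    (∀ i, Summable (f i)) → Summable fun x : Fin n → ℤ => ∏ i, f i (x i)
  | 0, _, _, _ => .of_finite
  | n + 1, f, h0, hs => by
    rw [← (Fin.consEquiv fun _ => ℤ).summable_iff]
    have := (hs 0).mul_of_nonneg (summable_pi_prod (fun i => f i.succ) (fun i => h0 _)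
      fun i => hs _) (h0 0) fun x => prod_nonneg fun i _ => h0 _ _
    convert this using 2 with p
    simp [Fin.prod_univ_succ, Fin.consEquiv]

theorem summable_gauss1 {w : ℂ} (hw : 0 < w.re) (β : ℂ) :
    Summable fun k : ℤ => ‖cexp (-w * k ^ 2 + β * k)‖ := by
  have hπ : (π : ℂ) ≠ 0 := ofReal_ne_zero.2 Real.pi_ne_zero
  have := (summable_jacobiTheta₂_term_iff (β / (2 * π * I)) (I * w / π)).2 (by
    rw [div_ofReal_im]; simp only [mul_im, I_re, zero_mul, I_im, one_mul, zero_add]; positivity)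
  rw [summable_norm_iff]
  refine this.congr fun k => ?_
  simp only [jacobiTheta₂_term]
  congr 1
  field_simp
  ring_nf
  simp only [I_sq]
  ring

theorem summable_gauss {A : Matrix (Fin n) (Fin n) ℝ} (h : Pos A) {w : ℂ} (hw : 0 < w.re)
    (β : Fin n → ℂ) :
    Summable fun x : Fin n → ℤ => ‖cexp (-w * qc A (fun i => x i) + ∑ i, β i * x i)‖ := by
  obtain ⟨ε, hε, hA⟩ := h.exists_lower
  have hs := summable_pi_prod (fun i (k : ℤ) => ‖cexp (-(w * ε) * k ^ 2 + β i * k)‖)
    (fun _ _ => norm_nonneg _) fun i => summable_gauss1 (by simp; positivity) _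
  refine hs.of_nonneg_of_le (fun _ => norm_nonneg _) fun x => ?_
  rw [← norm_prod, ← Complex.exp_sum, norm_exp, norm_exp, Real.exp_le_exp, qc_int,
    sum_add_distrib, add_re, add_re, add_le_add_iff_right, ← mul_sum]
  have := hA fun i => x i
  have e : ∑ i, (x i : ℂ) ^ 2 = ((∑ i, (x i : ℝ) ^ 2 : ℝ) : ℂ) := by simp
  rw [e, neg_mul, neg_mul, neg_re, neg_re, mul_assoc, ← ofReal_mul, re_mul_ofReal, re_mul_ofReal]
  nlinarith

theorem qc_add {A : Matrix (Fin n) (Fin n) ℝ} (y c : Fin n → ℂ) :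
    qc A (fun i => y i + c i) =
      qc A y + ∑ i, (∑ j, (A i j + A j i) * c j) * y i + qc A c := by
  simp only [qc, add_mul, mul_add, sum_add_distrib, sum_mul]
  rw [sum_comm (f := fun i j => c i * A i j * y j)]
  have e1 : ∑ i, ∑ j, y i * A i j * c j = ∑ i, ∑ j, A i j * c j * y i :=
    sum_congr rfl fun i _ => sum_congr rfl fun j _ => by ring
  have e2 : ∑ i, ∑ j, c j * A j i * y i = ∑ i, ∑ j, A j i * c j * y i :=
    sum_congr rfl fun i _ => sum_congr rfl fun j _ => by ring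
  rw [e1, e2]; ring

theorem summable_gauss_shift {A : Matrix (Fin n) (Fin n) ℝ} (h : Pos A) {w : ℂ} (hw : 0 < w.re)
    (c : Fin n → ℂ) : Summable fun x : Fin n → ℤ => cexp (-w * qc A fun i => x i + c i) := by
  have := ((summable_gauss h hw fun i => -w * ∑ j, (A i j + A j i) * c j).of_norm).mul_right
    (cexp (-w * qc A c))
  refine this.congr fun x => ?_
  rw [← Complex.exp_add, qc_add, mul_add, mul_add, mul_sum]
  simp only [mul_assoc]

theorem Pos.inv {A A' : Matrix (Fin n) (Fin n) ℝ} (h : Pos A) (hA : A * A' = 1) : Pos A' := by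
  intro x hx
  have h1 : A.mulVec (A'.mulVec x) = x := by rw [Matrix.mulVec_mulVec, hA, Matrix.one_mulVec]
  have h2 : A'.mulVec x ≠ 0 := fun e => hx (by rw [← h1, e, Matrix.mulVec_zero])
  have h3 : ∀ (M : Matrix (Fin n) (Fin n) ℝ) y, qr M y = y ⬝ᵥ M.mulVec y := fun M y => by
    simp [qr, dotProduct, Matrix.mulVec, mul_sum, mul_assoc]
  have := h _ h2
  rwa [h3, h1, dotProduct_comm, ← h3] at this

/-! ### The Schur complement -/

/-- The Schur complement of the first diagonal entry. -/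
noncomputable def schur (A : Matrix (Fin (n + 1)) (Fin (n + 1)) ℝ) : Matrix (Fin n) (Fin n) ℝ :=
  fun i j => A i.succ j.succ - A 0 i.succ * A 0 j.succ / A 0 0

theorem Pos.zero_zero {A : Matrix (Fin (n + 1)) (Fin (n + 1)) ℝ} (h : Pos A) : 0 < A 0 0 := by
  have := h (Pi.single 0 1) (by simp)
  simpa [qr, Pi.single_apply] using this

theorem qc_cons {A : Matrix (Fin (n + 1)) (Fin (n + 1)) ℝ} (hs : A.IsSymm) (z0 : ℂ)
    (z : Fin n → ℂ) : qc A (Fin.cons z0 z) = A 0 0 * z0 ^ 2 + 2 * z0 * ∑ j, A 0 j.succ * z j +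
      qc (A.submatrix Fin.succ Fin.succ) z := by
  simp only [qc, Fin.sum_univ_succ, Fin.cons_zero, Fin.cons_succ, sum_add_distrib,
    Matrix.submatrix_apply, mul_sum]
  have e : ∑ i, z i * A i.succ 0 * z0 = ∑ i, z0 * A 0 i.succ * z i :=
    sum_congr rfl fun i _ => by rw [hs.apply 0 i.succ]; ring
  have e2 : ∑ j, 2 * z0 * (A 0 j.succ * z j) = 2 * ∑ i, z0 * A 0 i.succ * z i := by
    rw [mul_sum]; exact sum_congr rfl fun i _ => by ring
  rw [e, e2]; ring

theorem qc_schur (A : Matrix (Fin (n + 1)) (Fin (n + 1)) ℝ) (z : Fin n → ℂ) :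
    qc (schur A) z = qc (A.submatrix Fin.succ Fin.succ) z -
      (∑ j, A 0 j.succ * z j) ^ 2 / A 0 0 := by
  simp only [qc, schur, Matrix.submatrix_apply, sq, sum_mul_sum, sum_div, ← sum_sub_distrib]
  exact sum_congr rfl fun i _ => sum_congr rfl fun j _ => by push_cast; ring

theorem Pos.schur {A : Matrix (Fin (n + 1)) (Fin (n + 1)) ℝ} (h : Pos A) (hs : A.IsSymm) :
    Pos (schur A) := by
  intro x hx
  have ha : (A 0 0 : ℂ) ≠ 0 := ofReal_ne_zero.2 h.zero_zero.ne'
  have h1 := h (Fin.cons (-(∑ j, A 0 j.succ * x j) / A 0 0) x) (by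
    intro e; apply hx; funext i; simpa using congrFun e i.succ)
  have h2 : (qr (CL.Theta.schur A) x : ℂ) =
      qr A (Fin.cons (-(∑ j, A 0 j.succ * x j) / A 0 0) x) := by
    rw [← qc_ofReal, ← qc_ofReal, qc_schur]
    have : (fun i => (((Fin.cons (-(∑ j, A 0 j.succ * x j) / A 0 0) x : Fin (n + 1) → ℝ) i : ℝ) : ℂ))
        = Fin.cons (-(∑ j, (A 0 j.succ : ℂ) * x j) / A 0 0) fun i => (x i : ℂ) := by
      funext i; refine Fin.cases ?_ (fun i => ?_) i <;> simp
    rw [this, qc_cons hs]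
    field_simp
    ring
  rwa [ofReal_inj.1 h2]

theorem schur_isSymm {A : Matrix (Fin (n + 1)) (Fin (n + 1)) ℝ} (hs : A.IsSymm) :
    (schur A).IsSymm := by
  ext i j
  simp only [Matrix.transpose_apply, schur, hs.apply i.succ j.succ]; ring

theorem inv_zero_succ {A A' : Matrix (Fin (n + 1)) (Fin (n + 1)) ℝ} (ha : A 0 0 ≠ 0)
    (hA : A * A' = 1) (j : Fin n) :
    A' 0 j.succ = -(∑ k : Fin n, A 0 k.succ * A' k.succ j.succ) / A 0 0 := by
  have := congrFun (congrFun hA 0) j.succ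
  rw [Matrix.mul_apply, Fin.sum_univ_succ, Matrix.one_apply_ne (Fin.succ_ne_zero j).symm] at this
  field_simp; linarith

theorem schur_mul {A A' : Matrix (Fin (n + 1)) (Fin (n + 1)) ℝ} (ha : A 0 0 ≠ 0) (hs : A.IsSymm)
    (hA : A * A' = 1) : schur A * A'.submatrix Fin.succ Fin.succ = 1 := by
  ext i j
  have := congrFun (congrFun hA i.succ) j.succ
  rw [Matrix.mul_apply, Fin.sum_univ_succ, inv_zero_succ ha hA, hs.apply 0 i.succ] at this
  have e : (1 : Matrix (Fin n) (Fin n) ℝ) i j =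
      (1 : Matrix (Fin (n + 1)) (Fin (n + 1)) ℝ) i.succ j.succ := by simp [Matrix.one_apply]
  rw [e, ← this, Matrix.mul_apply]
  simp only [schur, Matrix.submatrix_apply, sub_mul, sum_sub_distrib]
  have : ∑ k : Fin n, A 0 i.succ * A 0 k.succ / A 0 0 * A' k.succ j.succ =
      A 0 i.succ * ((∑ k : Fin n, A 0 k.succ * A' k.succ j.succ) / A 0 0) := by
    rw [sum_div, mul_sum]; exact sum_congr rfl fun k _ => by ring
  rw [this]; ring

theorem qc_inv_cons {A A' : Matrix (Fin (n + 1)) (Fin (n + 1)) ℝ} (ha : A 0 0 ≠ 0)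
    (hs' : A'.IsSymm) (hA : A * A' = 1) (z0 : ℂ) (z : Fin n → ℂ) :
    qc A' (Fin.cons z0 z) = z0 ^ 2 / A 0 0 +
      qc (A'.submatrix Fin.succ Fin.succ) fun i => z i + -(z0 * A 0 i.succ / A 0 0) := by
  have ha' : (A 0 0 : ℂ) ≠ 0 := ofReal_ne_zero.2 ha
  have h0 := congrFun (congrFun hA 0) 0
  rw [Matrix.mul_apply, Fin.sum_univ_succ, Matrix.one_apply_eq] at h0
  have hq : ∀ i : Fin n, ∑ j : Fin n, ((A' i.succ j.succ : ℂ) + A' j.succ i.succ) *
      -(z0 * A 0 j.succ / A 0 0) = 2 * z0 * A' 0 i.succ := by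
    intro i
    rw [inv_zero_succ ha hA]
    push_cast
    rw [neg_div, mul_neg, sum_div, mul_sum, ← sum_neg_distrib]
    exact sum_congr rfl fun j _ => by rw [hs'.apply i.succ j.succ]; ring
  have hr : qc (A'.submatrix Fin.succ Fin.succ) (fun i => -(z0 * A 0 i.succ / A 0 0)) =
      -(z0 ^ 2 / A 0 0 * ∑ k : Fin n, (A 0 k.succ : ℂ) * A' k.succ 0) := by
    rw [qc, sum_comm, mul_sum, ← sum_neg_distrib]
    refine sum_congr rfl fun j _ => ?_
    rw [hs'.apply 0 j.succ, inv_zero_succ ha hA]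
    push_cast
    simp only [Matrix.submatrix_apply, neg_div, mul_neg, neg_neg, sum_div, mul_sum, neg_mul]
    exact sum_congr rfl fun i _ => by ring
  have h0' : ∑ k : Fin n, (A 0 k.succ : ℂ) * A' k.succ 0 = 1 - A 0 0 * A' 0 0 := by
    have : ∑ k : Fin n, A 0 k.succ * A' k.succ 0 = 1 - A 0 0 * A' 0 0 := by linarith
    exact_mod_cast this
  rw [qc_cons hs', qc_add, hr, h0']
  simp only [Matrix.submatrix_apply, hq, mul_assoc, ← mul_sum]
  field_simp
  ring

/-- Poisson summation for Gaussians, up to a constant that does not depend on `s` and `b`. -/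
theorem poisson : ∀ {n : ℕ} {A A' : Matrix (Fin n) (Fin n) ℝ}, A.IsSymm → A'.IsSymm → Pos A →
    A * A' = 1 → ∃ κ : ℂ, ∀ s : ℂ, 0 < s.re → ∀ b : Fin n → ℂ,
      ∑' x : Fin n → ℤ, cexp (-(π * s) * qc A (fun i => x i) + ∑ i, 2 * π * b i * x i) =
        κ * (1 / s ^ (1 / 2 : ℂ)) ^ n *
          ∑' y : Fin n → ℤ, cexp (-(π / s) * qc A' fun i => y i + I * b i)
  | 0, A, A', _, _, _, _ => ⟨1, fun s _ b => by simp [qc]⟩
  | n + 1, A, A', hs, hs', hpos, hA => by
    have ha := hpos.zero_zero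
    have ha' : (A 0 0 : ℂ) ≠ 0 := ofReal_ne_zero.2 ha.ne'
    have hS := hpos.schur hs
    obtain ⟨κ, hκ⟩ := poisson (schur_isSymm hs) (hs'.submatrix Fin.succ) hS
      (schur_mul ha.ne' hs hA)
    refine ⟨κ * (1 / (A 0 0 : ℂ) ^ (1 / 2 : ℂ)), fun s hre b => ?_⟩
    have hs0 : s ≠ 0 := by rintro rfl; simp at hre
    have hπs : 0 < (π * s : ℂ).re := by rw [re_ofReal_mul]; positivity
    have hinv : 0 < s⁻¹.re := by
      rw [inv_re]; exact div_pos hre (normSq_pos.2 hs0)
    have hπs' : 0 < (π / s : ℂ).re := by rw [div_eq_mul_inv, re_ofReal_mul]; positivity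
    have hsa : 0 < (A 0 0 * s : ℂ).re := by rw [re_ofReal_mul]; positivity
    -- the summands
    set F : ℤ → (Fin n → ℤ) → ℂ := fun k x =>
      cexp (-(π * s) * qc A (fun i => ((Fin.cons k x : Fin (n + 1) → ℤ) i : ℂ)) +
        ∑ i, 2 * π * b i * (Fin.cons k x : Fin (n + 1) → ℤ) i) with hF
    set G : ℤ → (Fin n → ℤ) → ℂ := fun k x =>
      cexp (-(π / s) * ((k + I * b 0) ^ 2 / A 0 0)) *
        cexp (-(π * s) * qc (schur A) (fun i => x i) +
          ∑ i, 2 * π * (b i.succ + I * (k + I * b 0) * A 0 i.succ / A 0 0) * x i) with hG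
    set H : ℤ → (Fin n → ℤ) → ℂ := fun k y =>
      cexp (-(π / s) * qc A' fun i => ((Fin.cons k y : Fin (n + 1) → ℤ) i : ℂ) + I * b i) with hH
    have hcast : ∀ (k : ℤ) (x : Fin n → ℤ), (fun i => ((Fin.cons k x : Fin (n + 1) → ℤ) i : ℂ)) =
        Fin.cons (k : ℂ) fun i => (x i : ℂ) := fun k x => by
      funext i; refine Fin.cases ?_ (fun i => ?_) i <;> simp
    have hFs : Summable (Function.uncurry F) :=
      (Fin.consEquiv fun _ => ℤ).summable_iff.2
        (summable_gauss hpos hπs fun i => 2 * π * b i).of_norm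
    have hHs : Summable (Function.uncurry H) :=
      (Fin.consEquiv fun _ => ℤ).summable_iff.2
        (summable_gauss_shift (hpos.inv hA) hπs' fun i => I * b i)
    have hGs : Summable (Function.uncurry G) := by
      have h1 := summable_gauss1 (w := π / s / A 0 0) (by rw [div_ofReal_re]; positivity)
        (-(π / s / A 0 0) * (2 * I * b 0))
      have h2 := summable_gauss hS hπs fun i => 2 * π * (b i.succ - b 0 * A 0 i.succ / A 0 0)
      refine (((h1.mul_right ‖cexp (π / s / A 0 0 * b 0 ^ 2)‖).mul_of_nonneg h2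
        (fun _ => by positivity) fun _ => norm_nonneg _).congr fun p => ?_).of_norm
      simp only [Function.uncurry, hG, norm_mul]
      congr 1
      · rw [← norm_mul, ← Complex.exp_add]
        congr 2
        ring_nf
        simp only [I_sq]
        ring
      · rw [norm_exp, norm_exp, add_re, add_re, re_sum, re_sum]
        congr 2
        refine sum_congr rfl fun i _ => ?_
        have : 2 * π * (b i.succ + I * (p.1 + I * b 0) * A 0 i.succ / A 0 0) * p.2 i =
            2 * π * (b i.succ - b 0 * A 0 i.succ / A 0 0) * p.2 i +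
              ((2 * π * p.1 * A 0 i.succ / A 0 0 * p.2 i : ℝ) : ℂ) * I := by
          push_cast
          ring_nf
          simp only [I_sq]
          ring
        rw [this, add_re, re_ofReal_mul, I_re, mul_zero, add_zero]
    have h1 : ∀ x, ∑' k, F k x = 1 / (A 0 0 * s : ℂ) ^ (1 / 2 : ℂ) * ∑' k, G k x := by
      intro x
      have := Complex.tsum_exp_neg_quadratic hsa (b 0 - s * ∑ j, (A 0 j.succ : ℂ) * x j)
      have e1 : ∀ k : ℤ, F k x = cexp (-π * (A 0 0 * s) * k ^ 2 +
          2 * π * (b 0 - s * ∑ j, (A 0 j.succ : ℂ) * x j) * k) *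
          cexp (-(π * s) * qc (A.submatrix Fin.succ Fin.succ) (fun i => x i) +
            ∑ i, 2 * π * b i.succ * x i) := by
        intro k
        simp only [hF, hcast, qc_cons hs, Fin.sum_univ_succ, Fin.cons_zero, Fin.cons_succ]
        rw [← Complex.exp_add]
        congr 1
        ring
      have e2 : ∀ k : ℤ, G k x = cexp (-π / (A 0 0 * s) *
          (k + I * (b 0 - s * ∑ j, (A 0 j.succ : ℂ) * x j)) ^ 2) *
          cexp (-(π * s) * qc (A.submatrix Fin.succ Fin.succ) (fun i => x i) +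
            ∑ i, 2 * π * b i.succ * x i) := by
        intro k
        simp only [hG, qc_schur]
        rw [← Complex.exp_add, ← Complex.exp_add]
        congr 1
        have : ∑ i, 2 * π * (b i.succ + I * (k + I * b 0) * A 0 i.succ / A 0 0) * x i =
            ∑ i, 2 * π * b i.succ * x i +
              2 * π * I * (k + I * b 0) / A 0 0 * ∑ j, (A 0 j.succ : ℂ) * x j := by
          rw [mul_sum, ← sum_add_distrib]
          exact sum_congr rfl fun i _ => by ring
        rw [this]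
        field_simp
        ring_nf
        simp only [I_sq]
        ring
      simp only [e1, e2, tsum_mul_right]
      rw [this]; ring
    have h2 : ∀ k, ∑' x, G k x = κ * (1 / s ^ (1 / 2 : ℂ)) ^ n * ∑' y, H k y := by
      intro k
      simp only [hG, tsum_mul_left]
      rw [hκ s hre, mul_left_comm, ← tsum_mul_left]
      congr 2
      funext y
      have : (fun i => ((Fin.cons k y : Fin (n + 1) → ℤ) i : ℂ) + I * b i) =
          Fin.cons (k + I * b 0) fun i => (y i : ℂ) + I * b i.succ := by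
        funext i; refine Fin.cases ?_ (fun i => ?_) i <;> simp
      simp only [hH, this, qc_inv_cons ha.ne' hs' hA, mul_add, Complex.exp_add]
      congr 4
      funext i
      linear_combination ((k + I * b 0) * A 0 i.succ / A 0 0) * I_mul_I
    rw [← (Fin.consEquiv fun _ => ℤ).tsum_eq, ← (Fin.consEquiv fun _ => ℤ).tsum_eq]
    change ∑' p : ℤ × (Fin n → ℤ), Function.uncurry F p =
      _ * ∑' p : ℤ × (Fin n → ℤ), Function.uncurry H p
    rw [hFs.tsum_prod, hHs.tsum_prod]
    simp only [Function.uncurry_apply_pair]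
    rw [← hFs.tsum_comm]
    simp only [h1, tsum_mul_left]
    rw [hGs.tsum_comm]
    simp only [h2, tsum_mul_left]
    have hc : ((A 0 0 : ℂ) * s) ^ (1 / 2 : ℂ) = (A 0 0 : ℂ) ^ (1 / 2 : ℂ) * s ^ (1 / 2 : ℂ) := by
      rw [cpow_def_of_ne_zero (mul_ne_zero ha' hs0), cpow_def_of_ne_zero ha',
        cpow_def_of_ne_zero hs0, log_ofReal_mul ha hs0, ← ofReal_log ha.le, add_mul,
        Complex.exp_add]
    rw [hc]
    ring

end CL.Theta
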