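import Cfsg.Agent.Base
import Cfsg.Agent.Spor.ThetaPoisson

/-!
# The theta series of an even unimodular lattice of rank 24
-/

set_option autoImplicit false

namespace CL.Theta

open Complex Finset Matrix ModularForm MatrixGroups EisensteinSeries
open UpperHalfPlane hiding I I_re I_im
open scoped Real Manifold

/-- An even unimodular positive definite lattice of rank 24, given by a Gram matrix. -/
structure IsEU (B : Matrix (Fin 24) (Fin 24) ℤ) : Prop where
  symm : B.IsSymm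
  pos : ∀ x : Fin 24 → ℤ, x ≠ 0 → 0 < x ⬝ᵥ (B *ᵥ x)
  even : ∀ x : Fin 24 → ℤ, (2 : ℤ) ∣ x ⬝ᵥ (B *ᵥ x)
  det : B.det = 1

variable {B : Matrix (Fin 24) (Fin 24) ℤ}

theorem qr_map_int {n : ℕ} (B : Matrix (Fin n) (Fin n) ℤ) (x : Fin n → ℤ) :
    qr (B.map (Int.cast : ℤ → ℝ)) (fun i => x i) = ((x ⬝ᵥ (B *ᵥ x) : ℤ) : ℝ) := by
  simp [qr, dotProduct, mulVec, mul_sum, mul_assoc]

theorem qc_map_int {n : ℕ} (B : Matrix (Fin n) (Fin n) ℤ) (x : Fin n → ℤ) :
    qc (B.map (Int.cast : ℤ → ℝ)) (fun i => x i) = ((x ⬝ᵥ (B *ᵥ x) : ℤ) : ℂ) := by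
  rw [qc_int, qr_map_int]; simp

theorem IsEU.nonneg (h : IsEU B) (x : Fin 24 → ℤ) : 0 ≤ x ⬝ᵥ (B *ᵥ x) := by
  by_cases hx : x = 0
  · simp [hx]
  · exact (h.pos x hx).le

theorem IsEU.posDef (h : IsEU B) : Pos (B.map (Int.cast : ℤ → ℝ)) := by
  set A := B.map (Int.cast : ℤ → ℝ)
  have hq : ∀ x : Fin 24 → ℚ, 0 ≤ qr A fun i => x i := by
    intro x
    obtain ⟨d, hd⟩ := IsLocalization.exist_integer_multiples_of_finite (nonZeroDivisors ℤ) x
    choose y hy using hd
    have hd0 : ((d : ℤ) : ℝ) ≠ 0 := by exact_mod_cast nonZeroDivisors.coe_ne_zero d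
    have e : (fun i => (y i : ℝ)) = ((d : ℤ) : ℝ) • fun i => (x i : ℝ) := by
      funext i
      have := congrArg (Rat.cast : ℚ → ℝ) (hy i)
      simpa using this
    have h1 : 0 ≤ qr A fun i => y i := by rw [qr_map_int]; exact_mod_cast h.nonneg y
    rw [e, qr_smul] at h1
    exact nonneg_of_mul_nonneg_right h1 (by positivity)
  have hr : ∀ x : Fin 24 → ℝ, 0 ≤ qr A x := by
    have hd : DenseRange fun (x : Fin 24 → ℚ) i => (x i : ℝ) :=
      DenseRange.piMap fun _ => Rat.denseRange_cast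
    intro x
    refine hd.induction_on x (isClosed_le continuous_const ?_) hq
    unfold qr; fun_prop
  have h3 : ∀ y, qr A y = star y ⬝ᵥ A *ᵥ y := fun y => by
    simp [qr, dotProduct, mulVec, mul_sum, mul_assoc]
  have hherm : A.IsHermitian := by
    ext i j
    simp [A, h.symm.apply i j]
  have hsd : A.PosSemidef := .of_dotProduct_mulVec_nonneg hherm fun x => h3 x ▸ hr x
  have hdet : A.det ≠ 0 := by
    have : A.det = ((B.det : ℤ) : ℝ) := (Int.cast_det B).symm
    rw [this, h.det]; simp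
  intro x hx
  rw [h3]
  exact (hsd.posDef_iff_det_ne_zero.2 hdet).dotProduct_mulVec_pos hx

/-- The Gaussian sum of the lattice. -/
noncomputable def gs (B : Matrix (Fin 24) (Fin 24) ℤ) (s : ℂ) : ℂ :=
  ∑' x : Fin 24 → ℤ, cexp (-(π * s) * ((x ⬝ᵥ (B *ᵥ x) : ℤ) : ℂ))

theorem IsEU.summable (h : IsEU B) {s : ℂ} (hs : 0 < s.re) :
    Summable fun x : Fin 24 → ℤ => ‖cexp (-(π * s) * ((x ⬝ᵥ (B *ᵥ x) : ℤ) : ℂ))‖ := by
  have := summable_gauss h.posDef (w := π * s) (by rw [re_ofReal_mul]; positivity) 0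
  simpa only [qc_map_int, Pi.zero_apply, zero_mul, sum_const_zero, add_zero] using this

theorem IsEU.gs_inv (h : IsEU B) {s : ℂ} (hs : 0 < s.re) : gs B s = (1 / s) ^ 12 * gs B (1 / s) := by
  have hm : B * B.adjugate = 1 := by rw [mul_adjugate, h.det, one_smul]
  have hm' : B.adjugate * B = 1 := by rw [adjugate_mul, h.det, one_smul]
  obtain ⟨κ, hκ⟩ := poisson (A := B.map (Int.cast : ℤ → ℝ)) (A' := B.adjugate.map Int.cast)
    (h.symm.map _) (h.symm.adjugate.map _) h.posDef (by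
      have := congrArg (Int.castRingHom ℝ).mapMatrix hm
      rwa [map_mul, map_one] at this)
  let e : (Fin 24 → ℤ) ≃ (Fin 24 → ℤ) :=
    ⟨fun x => B *ᵥ x, fun y => B.adjugate *ᵥ y, fun x => by simp [mulVec_mulVec, hm'],
      fun x => by simp [mulVec_mulVec, hm]⟩
  have key : ∀ s : ℂ, 0 < s.re → gs B s = κ * (1 / s) ^ 12 * gs B (1 / s) := by
    intro s hs
    have := hκ s hs 0
    simp only [qc_map_int, Pi.zero_apply, mul_zero, zero_mul, sum_const_zero, add_zero] at this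
    rw [gs, this, gs, ← e.tsum_eq]
    congr 1
    · congr 1
      rw [show 24 = 2 * 12 by rfl, pow_mul, div_pow, one_pow, one_div (2 : ℂ), cpow_ofNat_inv_pow]
    · refine tsum_congr fun x => ?_
      have : e x ⬝ᵥ B.adjugate *ᵥ e x = x ⬝ᵥ B *ᵥ x := by
        show (B *ᵥ x) ⬝ᵥ B.adjugate *ᵥ (B *ᵥ x) = _
        rw [mulVec_mulVec, hm', one_mulVec, dotProduct_comm]
      rw [this, mul_one_div]
  have h1 : gs B 1 ≠ 0 := by
    have hs := h.summable (s := 1) (by simp)
    have e1 : ∀ x : Fin 24 → ℤ, cexp (-(π * 1) * ((x ⬝ᵥ (B *ᵥ x) : ℤ) : ℂ)) =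
        (‖cexp (-(π * 1) * ((x ⬝ᵥ (B *ᵥ x) : ℤ) : ℂ))‖ : ℝ) := fun x => by
      have : (-(π * 1) * ((x ⬝ᵥ (B *ᵥ x) : ℤ) : ℂ)) =
          ((-π * ((x ⬝ᵥ (B *ᵥ x) : ℤ) : ℝ) : ℝ) : ℂ) := by push_cast; ring
      rw [this, norm_exp_ofReal, ofReal_exp]
    rw [gs, tsum_congr e1, ← Complex.ofReal_tsum, ofReal_ne_zero]
    exact (hs.tsum_pos (fun _ => norm_nonneg _) 0 (norm_pos_iff.2 (exp_ne_zero _))).ne'
  have hκ1 : κ = 1 := by
    have := key 1 (by simp)
    rw [div_one, one_pow, mul_one] at this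
    exact (mul_eq_right₀ h1).1 this.symm
  rw [key s hs, hκ1, one_mul]

/-- The theta function on the upper half plane. -/
noncomputable def theta (B : Matrix (Fin 24) (Fin 24) ℤ) (τ : ℍ) : ℂ := gs B (-I * τ)

/-- The number of vectors of norm `2 m`. -/
noncomputable def cnt (B : Matrix (Fin 24) (Fin 24) ℤ) (m : ℕ) : ℕ :=
  {x : Fin 24 → ℤ | x ⬝ᵥ (B *ᵥ x) = 2 * m}.ncard

theorem IsEU.hasSum (h : IsEU B) (τ : ℍ) :
    HasSum (fun m : ℕ => (cnt B m : ℂ) • Function.Periodic.qParam 1 τ ^ m) (theta B τ) := by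
  have hs := (h.summable (s := -I * τ) (by simpa using τ.im_pos)).of_norm.hasSum.tsum_fiberwise
    fun x => (x ⬝ᵥ (B *ᵥ x) / 2).toNat
  have hf : ∀ (m : ℕ) (x : Fin 24 → ℤ), (x ⬝ᵥ (B *ᵥ x) / 2).toNat = m ↔ x ⬝ᵥ (B *ᵥ x) = 2 * m := by
    intro m x
    have := h.nonneg x
    have := h.even x
    omega
  refine (congrArg (HasSum · _) (funext fun m => ?_)).mpr hs
  rw [tsum_congr (g := fun _ => Function.Periodic.qParam 1 τ ^ m), tsum_const, smul_eq_mul,
    nsmul_eq_mul, cnt, Nat.card_coe_set_eq]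
  · congr 3
    ext x
    simp [hf]
  · rintro ⟨x, hx⟩
    rw [Set.mem_preimage, Set.mem_singleton_iff, hf] at hx
    rw [Function.Periodic.qParam, ← Complex.exp_nat_mul, hx]
    congr 1
    push_cast
    ring

theorem IsEU.differentiableOn (h : IsEU B) :
    DifferentiableOn ℂ (fun z => gs B (-I * z)) {z | 0 < z.im} := by
  intro z hz
  have hz : 0 < z.im := hz
  have hU : IsOpen {w : ℂ | z.im / 2 < w.im} := isOpen_lt continuous_const continuous_im
  refine ((differentiableOn_tsum_of_summable_norm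
    (h.summable (s := (z.im / 2 : ℝ)) (by simpa using hz)) (fun x => by fun_prop) hU
    fun x w hw => ?_).differentiableAt
      (hU.mem_nhds (show z.im / 2 < z.im by linarith))).differentiableWithinAt
  have hw : z.im / 2 < w.im := hw
  have h0 : (0 : ℝ) ≤ ((x ⬝ᵥ (B *ᵥ x) : ℤ) : ℝ) := by exact_mod_cast h.nonneg x
  rw [norm_exp, norm_exp, Real.exp_le_exp, ← ofReal_intCast, re_mul_ofReal, re_mul_ofReal,
    neg_re, neg_re, re_ofReal_mul, re_ofReal_mul]
  simp only [neg_mul, neg_re, mul_re, I_re, zero_mul, I_im, one_mul, zero_sub, neg_neg, ofReal_re]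
  have := Real.pi_pos
  gcongr

theorem IsEU.slash_S (h : IsEU B) : theta B ∣[(12 : ℤ)] ModularGroup.S = theta B := by
  funext τ
  have h0 : (τ : ℂ) ≠ 0 := τ.ne_zero
  rw [SL_slash_apply, ModularGroup.denom_S, theta, theta, modular_S_smul, coe_mk,
    h.gs_inv (by simpa using τ.im_inv_neg_coe_pos)]
  have : 1 / (-I * (-τ : ℂ)⁻¹) = -I * τ := by
    field_simp
    simp
  rw [this, mul_pow, neg_pow I, show I ^ 12 = 1 by rw [show 12 = 4 * 3 by rfl, pow_mul, I_pow_four, one_pow]]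
  field_simp

theorem IsEU.slash_T (h : IsEU B) : theta B ∣[(12 : ℤ)] ModularGroup.T = theta B := by
  funext τ
  have e : Function.Periodic.qParam 1 (ModularGroup.T • τ : ℍ) = Function.Periodic.qParam 1 τ := by
    rw [modular_T_smul, coe_vadd, Function.Periodic.qParam, Function.Periodic.qParam]
    simp [mul_add, Complex.exp_add]
  rw [slash_action_eq'_iff, ← (h.hasSum _).tsum_eq, ← (h.hasSum _).tsum_eq, e]
  simp [ModularGroup.T]

/-- The theta series as a modular form. -/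
noncomputable def IsEU.form (h : IsEU B) : ModularForm 𝒮ℒ 12 where
  toFun := theta B
  slash_action_eq' A hA := by
    obtain ⟨A, rfl⟩ := hA
    exact SlashInvariantForm.slash_action_generators_SL2Z h.slash_S h.slash_T A
  holo' := by
    rw [UpperHalfPlane.mdifferentiable_iff]
    refine h.differentiableOn.congr fun z hz => ?_
    simp [theta, ofComplex_apply_of_im_pos hz]
  bdd_at_cusps' hc := by
    rw [OnePoint.isBoundedAt_iff_forall_SL2Z hc]
    intro γ _
    rw [SlashInvariantForm.slash_action_generators_SL2Z h.slash_S h.slash_T γ]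
    exact isBoundedAtImInfty_of_hasSum_qExpansion one_pos h.hasSum

theorem IsEU.coeff (h : IsEU B) (m : ℕ) : (qExpansion 1 h.form).coeff m = cnt B m :=
  (ModularFormClass.qExpansion_coeff_unique one_pos one_mem_strictPeriods_SL
    (f := h.form) h.hasSum m).symm

theorem IsEU.cnt_zero (h : IsEU B) : cnt B 0 = 1 := by
  rw [cnt, Set.ncard_eq_one]
  refine ⟨0, Set.eq_singleton_iff_unique_mem.2 ⟨by simp, fun x hx => ?_⟩⟩
  by_contra h0
  have := h.pos x h0
  simp only [Set.mem_ofPred_eq] at hx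
  omega

/-- The combination of Eisenstein series with expansion `1 + 0 q + ⋯`. -/
noncomputable def leechForm : ModularForm 𝒮ℒ 12 :=
  (691 / 756 : ℂ) • E (k := 12) (by norm_num) +
    (65 / 756 : ℂ) • ModularForm.mcast (by decide) (E₆.pow 2)

theorem leechForm_coeff (m : ℕ) : (qExpansion 1 leechForm).coeff m =
    691 / 756 * (qExpansion 1 (E (k := 12) (by norm_num))).coeff m +
      65 / 756 * (qExpansion 1 E₆ * qExpansion 1 E₆).coeff m := by
  rw [leechForm, FunLike.coe_add, ModularForm.qExpansion_add one_pos one_mem_strictPeriods_SL,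
    FunLike.coe_smul, FunLike.coe_smul,
    ModularForm.qExpansion_smul one_pos one_mem_strictPeriods_SL,
    ModularForm.qExpansion_smul one_pos one_mem_strictPeriods_SL, ModularForm.qExpansion_mcast,
    ModularForm.qExpansion_pow one_pos one_mem_strictPeriods_SL, map_add, map_smul, map_smul,
    smul_eq_mul, smul_eq_mul, sq]

theorem leechForm_coeffs : (qExpansion 1 leechForm).coeff 0 = 1 ∧
    (qExpansion 1 leechForm).coeff 1 = 0 ∧ (qExpansion 1 leechForm).coeff 2 = 196560 ∧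
    (qExpansion 1 leechForm).coeff 3 = 16773120 ∧
    (qExpansion 1 leechForm).coeff 4 = 398034000 := by
  have b6 : bernoulli 6 = 1 / 42 := by decide +kernel
  have b12 : bernoulli 12 = -691 / 2730 := by decide +kernel
  have s52 : ArithmeticFunction.sigma 5 2 = 33 := by decide +kernel
  have s53 : ArithmeticFunction.sigma 5 3 = 244 := by decide +kernel
  have s54 : ArithmeticFunction.sigma 5 4 = 1057 := by decide +kernel
  have s2 : ArithmeticFunction.sigma 11 2 = 2049 := by decide +kernel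
  have s3 : ArithmeticFunction.sigma 11 3 = 177148 := by decide +kernel
  have s4 : ArithmeticFunction.sigma 11 4 = 4196353 := by decide +kernel
  simp only [leechForm_coeff, PowerSeries.coeff_mul, Finset.Nat.antidiagonal_succ,
    Finset.Nat.antidiagonal_zero, E_qExpansion_coeff _ (⟨6, rfl⟩ : Even 12),
    E_qExpansion_coeff _ (⟨3, rfl⟩ : Even 6)]
  norm_num [b6, b12, s52, s53, s54, s2, s3, s4]

theorem IsEU.counts (h : IsEU B) (h2 : ∀ x : Fin 24 → ℤ, x ⬝ᵥ (B *ᵥ x) ≠ 2) :
    cnt B 2 = 196560 ∧ cnt B 3 = 16773120 ∧ cnt B 4 = 398034000 := by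
  have h1 : cnt B 1 = 0 := by
    rw [cnt, show {x : Fin 24 → ℤ | x ⬝ᵥ (B *ᵥ x) = 2 * (1 : ℕ)} = ∅ from
      Set.eq_empty_of_forall_notMem fun x hx => h2 x hx, Set.ncard_empty]
  obtain ⟨c0, c1, c2, c3, c4⟩ := leechForm_coeffs
  have hz : h.form - leechForm = 0 := by
    refine sturm_bound_levelOne (lt_of_lt_of_le (b := ((2 : ℕ) : ℕ∞)) (by decide) ?_)
    refine PowerSeries.nat_le_order _ _ fun i hi => ?_
    rw [FunLike.coe_sub, ModularForm.qExpansion_sub one_pos one_mem_strictPeriods_SL, map_sub,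
      h.coeff]
    interval_cases i
    · rw [c0, h.cnt_zero]; simp
    · rw [c1, h1]; simp
  rw [← sub_eq_zero.1 hz, h.coeff] at c2 c3 c4
  exact ⟨by exact_mod_cast c2, by exact_mod_cast c3, by exact_mod_cast c4⟩

end CL.Theta
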