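import Cfsg.Agent.Base
import Cfsg.Agent.Spor.CoOrbElt
import Cfsg.Agent.Spor.LeechShapes
import Cfsg.Agent.S0394

/-!
# The list of the 196560 packed minimal vectors of the Leech lattice
-/

set_option autoImplicit false

namespace CL.Co

open Cfsg Finset CL.Leech
open CL.Golay (idx pt idx_lt pt_idx idx_pt sum_pt allTo allTo_iff ofMask pop)

theorem dig_xor (k a b : ℕ) : dig k (a ^^^ b) = dig k a ^^^ dig k b := by
  unfold dig
  rw [show (4096 : ℕ) = 2 ^ 12 by norm_num, ← pow_mul, Nat.xor_div_two_pow, Nat.xor_mod_two_pow]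

theorem xor_lt_pow {a b n : ℕ} (ha : a < 4096 ^ n) (hb : b < 4096 ^ n) : a ^^^ b < 4096 ^ n := by
  rw [show (4096 : ℕ) = 2 ^ 12 by norm_num, ← pow_mul] at *
  exact Nat.xor_lt_two_pow ha hb

theorem eq_pack {x : GolayPt → ℤ} {X : ℕ} (hX : X < 4096 ^ 24)
    (h : ∀ k < 24, (dig k X : ℤ) = x (pt k) + 8) : X = pack x := by
  rw [← pk_dig hX, pack]
  exact pk_congr fun k hk => by rw [← h k hk]; rfl

theorem dig_single {c i k : ℕ} (hc : c < 4096) (hi : i < 24) (hk : k < 24) :
    dig k (c * 4096 ^ i) = if k = i then c else 0 := by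
  rw [← pk_single c hi, dig_pk (fun k _ => by split_ifs <;> omega) hk]

theorem single_lt {c i : ℕ} (hc : c < 4096) (hi : i < 24) : c * 4096 ^ i < 4096 ^ 24 := by
  rw [← pk_single c hi]; exact pk_lt fun k _ => by split_ifs <;> omega

/-- The bits of a mask spread out to the digits. -/
def spr (c : ℕ) : ℕ := pk (fun j => if c.testBit j = true then 1 else 0) 24

/-- Spreading eight bits. -/
def spr8 (b : ℕ) : ℕ :=
  Nat.land (Nat.mul b (nat_lit 151189550474521284184065)) (nat_lit 19347536633519984760328193)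

theorem spr8_eq : ∀ b < 256, spr8 b = pk (fun j => if b.testBit j = true then 1 else 0) 8 := by
  decide +kernel

/-- Fast version of `spr`. -/
def sprF (c : ℕ) : ℕ :=
  Nat.add (Nat.add (spr8 (Nat.land c (nat_lit 255)))
    (Nat.shiftLeft (spr8 (Nat.land (Nat.shiftRight c (nat_lit 8)) (nat_lit 255))) (nat_lit 96)))
    (Nat.shiftLeft (spr8 (Nat.shiftRight c (nat_lit 16))) (nat_lit 192))

theorem pk_add_right (f : ℕ → ℕ) (m n : ℕ) :
    pk f (m + n) = pk f m + pk (fun k => f (m + k)) n * 4096 ^ m := by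
  rw [pk, sum_range_add, pk, pk, sum_mul]
  congr 1
  exact sum_congr rfl fun k _ => by ring

theorem sprF_eq' {c : ℕ} (hc : c < 2 ^ 24) : sprF c = spr c := by
  have e : ∀ a, a &&& 255 < 256 := fun a => Nat.and_lt_two_pow a (n := 8) (by norm_num)
  have e' : ∀ a j, j < 8 → (a &&& 255).testBit j = a.testBit j := fun a j hj => by
    rw [Nat.testBit_and, show 255 = 2 ^ 8 - 1 by norm_num, Nat.testBit_two_pow_sub_one]
    simp [hj]
  show spr8 (c &&& 255) + spr8 ((c >>> 8) &&& 255) <<< 96 + spr8 (c >>> 16) <<< 192 = _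
  rw [spr8_eq _ (e _), spr8_eq _ (e _), spr8_eq _ (by rw [Nat.shiftRight_eq_div_pow]; omega), spr,
    show 24 = 8 + 8 + 8 by rfl, pk_add_right, pk_add_right, Nat.shiftLeft_eq, Nat.shiftLeft_eq]
  have p1 : (2 : ℕ) ^ 96 = 4096 ^ 8 := by norm_num
  have p2 : (2 : ℕ) ^ 192 = 4096 ^ (8 + 8) := by norm_num
  rw [p1, p2, pk_congr (g := fun j => if c.testBit j = true then 1 else 0)
    fun k hk => by rw [e' _ _ hk],
    pk_congr (f := fun j => if ((c >>> 8) &&& 255).testBit j = true then 1 else 0)
      (g := fun j => if c.testBit (8 + j) = true then 1 else 0)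
      fun k hk => by rw [e' _ _ hk, Nat.testBit_shiftRight],
    pk_congr (f := fun j => if (c >>> 16).testBit j = true then 1 else 0)
      (g := fun j => if c.testBit (8 + 8 + j) = true then 1 else 0)
      fun k hk => by rw [Nat.testBit_shiftRight]]

theorem sprF_eq (m : ℕ) (_ : m < 4096) : sprF (CL.Golay.enc m) = spr (CL.Golay.enc m) :=
  sprF_eq' (CL.Golay.enc_lt m)

/-- The numbers `12 * 4096 ^ i` (unevaluated on purpose: the kernel hashes numerals by their
low 64 bits only). -/
def T12 : List ℕ := [Nat.shiftLeft (nat_lit 12) (nat_lit 0),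
  Nat.shiftLeft (nat_lit 12) (nat_lit 12),
  Nat.shiftLeft (nat_lit 12) (nat_lit 24),
  Nat.shiftLeft (nat_lit 12) (nat_lit 36),
  Nat.shiftLeft (nat_lit 12) (nat_lit 48),
  Nat.shiftLeft (nat_lit 12) (nat_lit 60),
  Nat.shiftLeft (nat_lit 12) (nat_lit 72),
  Nat.shiftLeft (nat_lit 12) (nat_lit 84),
  Nat.shiftLeft (nat_lit 12) (nat_lit 96),
  Nat.shiftLeft (nat_lit 12) (nat_lit 108),
  Nat.shiftLeft (nat_lit 12) (nat_lit 120),
  Nat.shiftLeft (nat_lit 12) (nat_lit 132),
  Nat.shiftLeft (nat_lit 12) (nat_lit 144),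
  Nat.shiftLeft (nat_lit 12) (nat_lit 156),
  Nat.shiftLeft (nat_lit 12) (nat_lit 168),
  Nat.shiftLeft (nat_lit 12) (nat_lit 180),
  Nat.shiftLeft (nat_lit 12) (nat_lit 192),
  Nat.shiftLeft (nat_lit 12) (nat_lit 204),
  Nat.shiftLeft (nat_lit 12) (nat_lit 216),
  Nat.shiftLeft (nat_lit 12) (nat_lit 228),
  Nat.shiftLeft (nat_lit 12) (nat_lit 240),
  Nat.shiftLeft (nat_lit 12) (nat_lit 252),
  Nat.shiftLeft (nat_lit 12) (nat_lit 264),
  Nat.shiftLeft (nat_lit 12) (nat_lit 276)]

theorem T12_eq : T12 = (List.range 24).map fun i => 12 * 4096 ^ i := by decide +kernel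

/-- Kernel-friendly `cond`. -/
noncomputable def sel {β : Type} (b : Bool) (x y : β) : β := @Bool.rec (fun _ => β) y x b

theorem sel_eq {β : Type} (b : Bool) (x y : β) : sel b x y = if b = true then x else y := by
  cases b <;> rfl

/-- All `xor`s of `acc` with sublists of `ps`, in front of `tl`. -/
noncomputable def subs (ps : List ℕ) : ℕ → List ℕ → List ℕ :=
  @List.rec ℕ (fun _ => ℕ → List ℕ → List ℕ) (fun acc tl => acc :: tl)
    (fun p _ ih acc tl => ih acc (ih (Nat.xor acc p) tl)) ps

theorem mem_subs_of_mem (ps : List ℕ) : ∀ (acc : ℕ) (tl : List ℕ) (X : ℕ), X ∈ tl →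
    X ∈ subs ps acc tl := by
  induction ps with
  | nil => intro acc tl X h; exact List.mem_cons_of_mem _ h
  | cons p ps ih => intro acc tl X h; exact ih _ _ _ (ih _ _ _ h)

theorem foldl_mem_subs {α : Type} (f : α → Prop) [DecidablePred f] (g : α → ℕ) (is : List α) :
    ∀ (acc : ℕ) (tl : List ℕ),
      is.foldl (fun a i => if f i then a ^^^ g i else a) acc ∈ subs (is.map g) acc tl := by
  induction is with
  | nil => intro acc tl; exact List.mem_cons_self
  | cons i is ih =>
    intro acc tl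
    rw [List.foldl_cons]
    split_ifs
    · show _ ∈ subs (is.map g) acc (subs (is.map g) (acc ^^^ g i) tl)
      exact mem_subs_of_mem _ _ _ _ (ih _ _)
    · exact ih _ _

/-- The members of `T` that meet `s`. -/
noncomputable def selL (s : ℕ) (T : List ℕ) : List ℕ :=
  @List.rec ℕ (fun _ => List ℕ) []
    (fun t _ ih => sel (Nat.beq (Nat.land s t) 0) ih (t :: ih)) T

theorem selL_eq (s : ℕ) (T : List ℕ) : selL s T = T.filter fun t => s &&& t ≠ 0 := by
  induction T with
  | nil => rfl
  | cons t T ih =>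
    show sel (Nat.beq (s &&& t) 0) (selL s T) (t :: selL s T) = _
    rw [ih, List.filter_cons, sel_eq]
    by_cases h : s &&& t = 0 <;> simp [h]

/-- `xor` all members of a list with `t`, in front of `tl`. -/
noncomputable def xorL (t : ℕ) (T tl : List ℕ) : List ℕ :=
  @List.rec ℕ (fun _ => List ℕ) tl (fun u _ ih => Nat.xor t u :: ih) T

theorem xorL_eq (t : ℕ) (T tl : List ℕ) : xorL t T tl = T.map (fun u => t ^^^ u) ++ tl := by
  induction T with
  | nil => rfl
  | cons u T ih => show (t ^^^ u) :: xorL t T tl = _; rw [ih]; rfl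

/-- The vectors of shape `(±2^8, 0^16)` on the octad with spread mask `s`. -/
noncomputable def grpA (s : ℕ) (tl : List ℕ) : List ℕ :=
  @List.rec ℕ (fun _ => List ℕ) tl
    (fun t rest _ => subs (xorL t rest []) (Nat.add K8 (Nat.mul 2 s)) tl) (selL (Nat.mul 12 s) T12)

def K9 : ℕ := 9 * O24

/-- The minimal vectors that belong to the code word number `m`. -/
noncomputable def grp (m : ℕ) (tl : List ℕ) : List ℕ :=
  force (CL.Golay.enc m) fun c => xorL (Nat.sub K9 (Nat.mul 2 (sprF c))) T12
    (sel (Nat.beq (pop c) 8) (grpA (sprF c) tl) tl)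

/-- The vectors of shape `(±4^2, 0^22)`. -/
def grpC : List ℕ :=
  (List.range 24).flatMap fun i => (List.range i).flatMap fun j =>
    [K8 ^^^ 4 * 4096 ^ i ^^^ 4 * 4096 ^ j, K8 ^^^ 4 * 4096 ^ i ^^^ 12 * 4096 ^ j,
     K8 ^^^ 12 * 4096 ^ i ^^^ 4 * 4096 ^ j, K8 ^^^ 12 * 4096 ^ i ^^^ 12 * 4096 ^ j]

/-- The groups number `a, …, a + n - 1` in front of `tl`. -/
noncomputable def grps (a n : ℕ) (tl : List ℕ) : List ℕ :=
  @Nat.rec (fun _ => List ℕ) tl (fun m ih => grp (Nat.add a m) ih) n

/-- The packed minimal vectors. -/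
noncomputable def allMin : List ℕ := grps 0 4096 grpC

theorem grpA_cons {s t : ℕ} {rest : List ℕ} (h : selL (Nat.mul 12 s) T12 = t :: rest)
    (tl : List ℕ) : grpA s tl = subs (xorL t rest []) (Nat.add K8 (Nat.mul 2 s)) tl := by
  rw [grpA, h]

theorem grpA_append (s : ℕ) (tl : List ℕ) (X : ℕ) (h : X ∈ tl) : X ∈ grpA s tl := by
  unfold grpA
  cases selL (Nat.mul 12 s) T12 with
  | nil => exact h
  | cons t rest => exact mem_subs_of_mem _ _ _ _ h

theorem mem_grp_of_mem (m : ℕ) {tl : List ℕ} {X : ℕ} (h : X ∈ tl) : X ∈ grp m tl := by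
  simp only [grp, force_eq, xorL_eq, sel_eq]
  apply List.mem_append_right
  split_ifs
  · exact grpA_append _ _ _ h
  · exact h

theorem mem_grps_of_mem (a n : ℕ) {tl : List ℕ} {X : ℕ} (h : X ∈ tl) : X ∈ grps a n tl := by
  induction n with
  | zero => exact h
  | succ n ih => exact mem_grp_of_mem _ ih

theorem mem_grps {n m X : ℕ} (hm : m < n) (tl : List ℕ) (h : ∀ tl, X ∈ grp m tl) :
    X ∈ grps 0 n tl := by
  induction n with
  | zero => omega
  | succ n ih =>
    show X ∈ grp (0 + n) (grps 0 n tl)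
    by_cases hmn : m = n
    · rw [zero_add, ← hmn]; exact h _
    · exact mem_grp_of_mem _ (ih (by omega))

theorem dig_spr (c : ℕ) {k : ℕ} (hk : k < 24) :
    dig k (spr c) = if c.testBit k = true then 1 else 0 :=
  dig_pk (fun k _ => by split_ifs <;> omega) hk

theorem pack_odd_mem {m : ℕ} (hm : m < 4096) (j : GolayPt) (tl : List ℕ) :
    pack (signFun (ofMask (CL.Golay.enc m)) (oddVec j)) ∈ grp m tl := by
  simp only [grp, force_eq, xorL_eq, sprF_eq m hm]
  apply List.mem_append_left
  rw [T12_eq, List.map_map, List.mem_map]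
  refine ⟨idx j, List.mem_range.2 (idx_lt j), ?_⟩
  set c := CL.Golay.enc m
  have hb : Nat.sub K9 (Nat.mul 2 (spr c)) =
      pk (fun k => if c.testBit k = true then 7 else 9) 24 := by
    have : K9 = pk (fun k => if c.testBit k = true then 7 else 9) 24 + 2 * spr c := by
      rw [K9, O24_eq, spr, ← pk_mul, ← pk_mul, ← pk_add]
      exact pk_congr fun k _ => by split_ifs <;> rfl
    rw [this]; exact Nat.add_sub_cancel _ _
  have hlt : ∀ k < 24, (if c.testBit k = true then 7 else 9) < 4096 := fun k _ => by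
    split_ifs <;> omega
  rw [Function.comp, hb]
  refine eq_pack (xor_lt_pow (pk_lt hlt) (single_lt (by norm_num) (idx_lt j))) fun k hk => ?_
  rw [dig_xor, dig_pk hlt hk, dig_single (by norm_num) (idx_lt j) hk]
  simp only [signFun, oddVec, CL.Golay.pt_mem_ofMask hk, eq_comm (a := pt k),
    CL.Golay.eq_pt_iff hk, eq_comm (a := k)]
  split_ifs <;> rfl

theorem dig_foldl (f : ℕ → Prop) [DecidablePred f] {i k : ℕ} (hi : i < 24) (hk : k < 24)
    (js : List ℕ) (hjs : ∀ j ∈ js, j < 24 ∧ j ≠ i) (hnd : js.Nodup) : ∀ acc : ℕ,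
    dig k (js.foldl (fun a j => if f j then a ^^^ (12 * 4096 ^ i ^^^ 12 * 4096 ^ j) else a) acc) =
      dig k acc ^^^ (if (if k = i then (js.countP fun j => f j) % 2 = 1 else k ∈ js ∧ f k)
        then 12 else 0) := by
  induction js with
  | nil => intro acc; simp
  | cons j js ih =>
    intro acc
    obtain ⟨hj, hji⟩ := hjs j List.mem_cons_self
    have hnd' := List.nodup_cons.1 hnd
    rw [List.foldl_cons, ih (fun j hj => hjs j (List.mem_cons_of_mem _ hj)) hnd'.2]
    by_cases hf : f j
    · rw [if_pos hf, dig_xor, dig_xor, dig_single (by norm_num) hi hk,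
        dig_single (by norm_num) hj hk, Nat.xor_assoc]
      congr 1
      by_cases hki : k = i
      · subst hki
        simp only [if_true, hji.symm, if_false, List.countP_cons, hf, decide_true]
        rcases Nat.mod_two_eq_zero_or_one (js.countP fun j => f j) with h | h
        · have : ((js.countP fun j => f j) + 1) % 2 = 1 := by omega
          simp [h, this]
        · have : ((js.countP fun j => f j) + 1) % 2 = 0 := by omega
          simp [h, this]
      · by_cases hkj : k = j
        · subst hkj; simp [hki, hf, hnd'.1]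
        · simp [hki, hkj]
    · rw [if_neg hf]
      congr 1
      by_cases hki : k = i
      · simp [hki, hf]
      · by_cases hkj : k = j
        · subst hkj; simp [hki, hf]
        · simp [hki, hkj]

theorem foldl_lt (f : ℕ → Prop) [DecidablePred f] {i : ℕ} (hi : i < 24)
    (js : List ℕ) (hjs : ∀ j ∈ js, j < 24) : ∀ acc : ℕ, acc < 4096 ^ 24 →
    js.foldl (fun a j => if f j then a ^^^ (12 * 4096 ^ i ^^^ 12 * 4096 ^ j) else a) acc <
      4096 ^ 24 := by
  induction js with
  | nil => intro acc h; exact h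
  | cons j js ih =>
    intro acc h
    rw [List.foldl_cons]
    refine ih (fun j hj => hjs j (List.mem_cons_of_mem _ hj)) _ ?_
    split_ifs
    · exact xor_lt_pow h (xor_lt_pow (single_lt (by norm_num) hi)
        (single_lt (by norm_num) (hjs j List.mem_cons_self)))
    · exact h

theorem selL_spr (c : ℕ) : selL (Nat.mul 12 (spr c)) T12 =
    ((List.range 24).filter fun i => c.testBit i = true).map fun i => 12 * 4096 ^ i := by
  rw [selL_eq, T12_eq, List.filter_map]
  congr 1
  refine List.filter_congr fun i hi => ?_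
  have hi := List.mem_range.1 hi
  have h1 : Nat.mul 12 (spr c) = pk (fun k => if c.testBit k = true then 12 else 0) 24 := by
    rw [Nat.mul_eq, spr, ← pk_mul]; exact pk_congr fun k _ => by split_ifs <;> rfl
  have hlt : ∀ k < 24, (if c.testBit k = true then 12 else 0) < 4096 := fun k _ => by
    split_ifs <;> omega
  have h2 : ∀ k < 24, dig k (Nat.mul 12 (spr c) &&& 12 * 4096 ^ i) =
      if k = i ∧ c.testBit i = true then 12 else 0 := by
    intro k hk
    rw [dig_land, h1, dig_pk hlt hk, dig_single (by norm_num) hi hk]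
    by_cases hki : k = i
    · rw [if_pos hki, hki]; simp only [true_and]; split_ifs <;> rfl
    · rw [if_neg hki, Nat.and_zero, if_neg fun h => hki h.1]
  have h3 : Nat.mul 12 (spr c) &&& 12 * 4096 ^ i < 4096 ^ 24 :=
    lt_of_le_of_lt Nat.and_le_right (single_lt (c := 12) (by norm_num) hi)
  rw [Function.comp]
  generalize Nat.mul 12 (spr c) &&& 12 * 4096 ^ i = N at h2 h3
  cases hc : c.testBit i
  · have : N = 0 := by
      rw [← pk_dig h3, pk_congr (g := fun _ => 0) fun k hk => by simp [h2 k hk, hc]]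
      simp [pk]
    simp [this]
  · have : N ≠ 0 := by
      rintro rfl
      have := h2 i hi
      simp [hc, dig] at this
    simp [this]

theorem pack_even_mem {m : ℕ} (hm : m < 4096) (h8 : pop (CL.Golay.enc m) = 8)
    {s : Finset GolayPt} (hs : s ⊆ ofMask (CL.Golay.enc m)) (he : s.card % 2 = 0) (tl : List ℕ) :
    pack (signFun s (twoVec (ofMask (CL.Golay.enc m)))) ∈ grp m tl := by
  rw [grp, force_eq, xorL_eq, sprF_eq m hm, h8, sel_eq, if_pos (Nat.beq_refl 8)]
  apply List.mem_append_right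
  set c := CL.Golay.enc m
  have hnd : ((List.range 24).filter fun i => c.testBit i = true).Nodup :=
    List.nodup_range.filter _
  have hmem : ∀ k, k ∈ ((List.range 24).filter fun i => c.testBit i = true) ↔
      k < 24 ∧ c.testBit k = true := fun k => by simp
  have hcard : ∀ l : List ℕ, l.Nodup → (∀ k, k ∈ l ↔ k < 24 ∧ c.testBit k = true) →
      (l.countP fun j => pt j ∈ s) = s.card := by
    intro l hl hl'
    rw [List.countP_eq_length_filter, ← List.toFinset_card_of_nodup (hl.filter _)]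
    symm
    refine card_nbij' idx pt ?_ ?_ ?_ ?_
    · intro p hp
      have := CL.Golay.mem_ofMask.1 (hs hp)
      simpa [hl', idx_lt, this] using hp
    · intro k hk
      simp only [List.coe_toFinset, List.mem_filter, decide_eq_true_eq, Set.mem_ofPred_eq] at hk
      exact hk.2
    · intro p _; exact pt_idx p
    · intro k hk
      simp only [List.coe_toFinset, List.mem_filter, decide_eq_true_eq, Set.mem_ofPred_eq] at hk
      exact idx_pt ((hl' k).1 hk.1).1
  have hc := hcard _ hnd hmem
  have hsel := selL_spr c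
  generalize ((List.range 24).filter fun i => c.testBit i = true) = l at hnd hmem hc hsel
  cases l with
  | nil =>
    exfalso
    have h1 : ofMask c = ∅ := by
      ext p; simpa [idx_lt] using (hmem (idx p)).symm
    have := CL.Golay.card_ofMask c
    rw [h1, h8] at this; simp at this
  | cons i js =>
    have hi := (hmem i).1 List.mem_cons_self
    have hnd' := List.nodup_cons.1 hnd
    have hjs : ∀ j ∈ js, j < 24 ∧ j ≠ i := fun j hj =>
      ⟨((hmem j).1 (List.mem_cons_of_mem _ hj)).1, fun h => hnd'.1 (h ▸ hj)⟩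
    rw [List.map_cons] at hsel
    rw [grpA_cons hsel, xorL_eq, List.append_nil, List.map_map]
    have hb : Nat.add K8 (Nat.mul 2 (spr c)) =
        pk (fun k => if c.testBit k = true then 10 else 8) 24 := by
      rw [Nat.add_eq, Nat.mul_eq, K8, O24_eq, spr, ← pk_mul, ← pk_mul, ← pk_add]
      exact pk_congr fun k _ => by split_ifs <;> rfl
    have hlt : ∀ k < 24, (if c.testBit k = true then 10 else 8) < 4096 := fun k _ => by
      split_ifs <;> omega
    convert foldl_mem_subs (fun j => pt j ∈ s) _ js _ tl using 1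
    symm
    rw [hb]
    refine eq_pack (foldl_lt _ hi.1 js (fun j hj => (hjs j hj).1) _ (pk_lt hlt)) fun k hk => ?_
    simp only [Function.comp]
    rw [dig_foldl _ hi.1 hk js hjs hnd'.2, dig_pk hlt hk]
    have key : (if k = i then (js.countP fun j => pt j ∈ s) % 2 = 1 else k ∈ js ∧ pt k ∈ s) ↔
        pt k ∈ s := by
      split_ifs with hki
      · subst hki
        rw [List.countP_cons] at hc
        by_cases h : pt k ∈ s
        · simp only [h, decide_true, if_true] at hc ⊢; simp only [iff_true]; omega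
        · simp only [h, decide_false] at hc ⊢; simp only [iff_false]
          simp only [Bool.false_eq_true, if_false] at hc; omega
      · refine ⟨fun h => h.2, fun h => ⟨?_, h⟩⟩
        have := (hmem k).2 ⟨hk, (CL.Golay.pt_mem_ofMask hk).1 (hs h)⟩
        simpa [hki] using this
    simp only [key, signFun, twoVec, CL.Golay.pt_mem_ofMask hk]
    by_cases h : pt k ∈ s
    · simp [h, (CL.Golay.pt_mem_ofMask hk).1 (hs h)]
    · simp only [h, if_false]; split_ifs <;> rfl

theorem pack_pair_mem {i j : GolayPt} (hij : idx j < idx i) {a b : ℤ} (ha : a = 4 ∨ a = -4)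
    (hb : b = 4 ∨ b = -4) : pack (pairVec i j a b) ∈ grpC := by
  have key : ∀ u v : ℕ, u < 4096 → v < 4096 → (((8 ^^^ u : ℕ) : ℤ) = a + 8) →
      (((8 ^^^ v : ℕ) : ℤ) = b + 8) →
      K8 ^^^ u * 4096 ^ idx i ^^^ v * 4096 ^ idx j = pack (pairVec i j a b) := by
    intro u v hu hv h1 h2
    have hK : K8 = pk (fun _ => 8) 24 := by rw [K8, O24_eq, ← pk_mul]
    refine eq_pack (xor_lt_pow (xor_lt_pow (hK ▸ pk_lt fun _ _ => by norm_num)
      (single_lt hu (idx_lt i))) (single_lt hv (idx_lt j))) fun k hk => ?_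
    rw [dig_xor, dig_xor, hK, dig_pk (fun _ _ => by norm_num) hk, dig_single hu (idx_lt i) hk,
      dig_single hv (idx_lt j) hk, pairVec_apply]
    simp only [eq_comm (a := pt k), CL.Golay.eq_pt_iff hk, eq_comm (a := k)]
    split_ifs with h3 h4
    · omega
    · simpa using h1
    · simpa using h2
    · rfl
  simp only [grpC, List.mem_flatMap, List.mem_range]
  refine ⟨idx i, idx_lt i, idx j, hij, ?_⟩
  rcases ha with rfl | rfl <;> rcases hb with rfl | rfl
  · rw [← key 4 4 (by norm_num) (by norm_num) rfl rfl]; simp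
  · rw [← key 4 12 (by norm_num) (by norm_num) rfl rfl]; simp
  · rw [← key 12 4 (by norm_num) (by norm_num) rfl rfl]; simp
  · rw [← key 12 12 (by norm_num) (by norm_num) rfl rfl]; simp

theorem pv_mem_allMin {x : leechLattice} (hx : nrm x = 32) : pv x ∈ allMin := by
  rw [pv]
  rcases shape32 x.2 hx with ⟨i, j, a, b, hij, ha, hb, h⟩ | ⟨o, ho, s, hs, he, h⟩ | ⟨j, c, hc, h⟩
  · apply mem_grps_of_mem
    rw [h]
    rcases lt_trichotomy (idx j) (idx i) with h1 | h1 | h1
    · exact pack_pair_mem h1 ha hb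
    · exact absurd (CL.Golay.idx_inj.1 h1).symm hij
    · rw [pairVec, add_comm]; exact pack_pair_mem h1 hb ha
  · obtain ⟨m, hm, rfl⟩ := CL.Golay.mem_CSet_iff_enc.1 ho.1
    rw [h]
    exact mem_grps hm _ (pack_even_mem hm (by rw [← CL.Golay.card_ofMask]; exact ho.2) hs he)
  · obtain ⟨m, hm, rfl⟩ := CL.Golay.mem_CSet_iff_enc.1 hc
    rw [h]
    exact mem_grps hm _ (pack_odd_mem hm j)

/-- Kernel-friendly `acc + ∑ X ∈ l, f X`. -/
noncomputable def sumL (f : ℕ → ℕ) (l : List ℕ) : ℕ → ℕ :=
  @List.rec ℕ (fun _ => ℕ → ℕ) (fun acc => acc)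
    (fun X _ ih acc => force (Nat.add acc (f X)) ih) l

theorem sumL_eq (f : ℕ → ℕ) (l : List ℕ) : ∀ acc, sumL f l acc = acc + (l.map f).sum := by
  induction l with
  | nil => intro acc; rfl
  | cons X l ih =>
    intro acc
    show force (Nat.add acc (f X)) (sumL f l) = _
    rw [force_eq, ih]; simp [add_assoc]

/-- Kernel-friendly length. -/
noncomputable def lenL (l : List ℕ) : ℕ := sumL (fun _ => nat_lit 1) l (nat_lit 0)

theorem lenL_eq (l : List ℕ) : lenL l = l.length := by
  have : lenL l = sumL (fun _ => 1) l 0 := rfl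
  rw [this, sumL_eq]; simp

/-- Kernel-friendly filter. -/
noncomputable def filt (c : ℕ → Bool) (l : List ℕ) : List ℕ :=
  @List.rec ℕ (fun _ => List ℕ) [] (fun X _ ih => sel (c X) (X :: ih) ih) l

theorem filt_eq (c : ℕ → Bool) (l : List ℕ) : filt c l = l.filter c := by
  induction l with
  | nil => rfl
  | cons X l ih =>
    show sel (c X) (X :: filt c l) (filt c l) = _
    rw [sel_eq, ih, List.filter_cons]

theorem length_allMin : allMin.length = 196560 := by
  rw [← lenL_eq]; decide +kernel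

/-- The list `L` consists exactly of the packed forms of the minimal vectors with property `P`. -/
structure Good (L : List ℕ) (P : leechLattice → Prop) : Prop where
  nodup : L.Nodup
  mem : ∀ x, nrm x = 32 → P x → pv x ∈ L
  ex : ∀ X ∈ L, ∃ x, nrm x = 32 ∧ P x ∧ pv x = X

theorem ncard_min : {x : leechLattice | nrm x = 32}.ncard = 196560 := by
  rw [← Cfsg.Agent.S0394.result, ← Set.ncard_image_of_injective _ Subtype.val_injective]
  congr 1
  ext x
  simp only [Set.mem_image, Set.mem_ofPred_eq, Subtype.exists, exists_and_right, exists_eq_right]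
  exact ⟨fun ⟨h1, h2⟩ => ⟨h1, h2⟩, fun ⟨h1, h2⟩ => ⟨h1, h2⟩⟩

theorem good_of_length {L : List ℕ} {P : leechLattice → Prop}
    (h : ∀ x, nrm x = 32 → P x → pv x ∈ L)
    (hl : L.length ≤ {x | nrm x = 32 ∧ P x}.ncard) : Good L P := by
  have hinj : Set.InjOn pv {x | nrm x = 32 ∧ P x} := fun x hx y hy e =>
    pv_inj (by rw [hx.1]; norm_num) (by rw [hy.1]; norm_num) e
  have hsub : pv '' {x | nrm x = 32 ∧ P x} ⊆ (L.toFinset : Set ℕ) := by
    rintro _ ⟨x, hx, rfl⟩; simpa using h x hx.1 hx.2
  have h1 := Set.ncard_le_ncard hsub (Finset.finite_toSet _)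
  rw [hinj.ncard_image, Set.ncard_coe_finset] at h1
  have h2 := L.toFinset_card_le
  have h3 := Set.eq_of_subset_of_ncard_le hsub
    (by rw [hinj.ncard_image, Set.ncard_coe_finset]; omega) (Finset.finite_toSet _)
  refine ⟨?_, h, fun X hX => ?_⟩
  · rw [← Multiset.coe_nodup, ← Multiset.toFinset_card_eq_card_iff_nodup]
    exact le_antisymm h2 (hl.trans h1)
  · have : X ∈ pv '' {x | nrm x = 32 ∧ P x} := by rw [h3]; simpa using hX
    obtain ⟨x, hx, rfl⟩ := this
    exact ⟨x, hx.1, hx.2, rfl⟩

theorem good_allMin : Good allMin fun _ => True :=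
  good_of_length (fun _ hx _ => pv_mem_allMin hx) (by simp [length_allMin, ncard_min])

theorem Good.filter {L : List ℕ} {P : leechLattice → Prop} (h : Good L P) (c : ℕ → Bool)
    {Q : leechLattice → Prop} (hQ : ∀ x, nrm x = 32 → Q x → P x)
    (hc : ∀ x, nrm x = 32 → P x → (Q x ↔ c (pv x) = true)) : Good (filt c L) Q where
  nodup := by rw [filt_eq]; exact h.nodup.filter _
  mem x hx hq := by
    rw [filt_eq]
    exact List.mem_filter.2 ⟨h.mem x hx (hQ x hx hq), (hc x hx (hQ x hx hq)).1 hq⟩
  ex X hX := by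
    rw [filt_eq] at hX
    obtain ⟨h1, h2⟩ := List.mem_filter.1 hX
    obtain ⟨x, hx, hp, rfl⟩ := h.ex X h1
    exact ⟨x, hx, (hc x hx hp).2 h2, rfl⟩

theorem Good.ncard_eq {L : List ℕ} {P : leechLattice → Prop} (h : Good L P) :
    {x | nrm x = 32 ∧ P x}.ncard = L.length := by
  have hinj : Set.InjOn pv {x | nrm x = 32 ∧ P x} := fun x hx y hy e =>
    pv_inj (by rw [hx.1]; norm_num) (by rw [hy.1]; norm_num) e
  rw [← hinj.ncard_image, ← List.toFinset_card_of_nodup h.nodup, ← Set.ncard_coe_finset]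
  congr 1
  ext X
  simp only [List.coe_toFinset, Set.mem_ofPred_eq, Set.mem_image]
  exact ⟨fun ⟨x, hx, e⟩ => e ▸ h.mem x hx.1 hx.2, fun hX => by
    obtain ⟨x, h1, h2, h3⟩ := h.ex X hX; exact ⟨x, ⟨h1, h2⟩, h3⟩⟩

end CL.Co
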