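import Cfsg.Agent.Base
import Cfsg.Agent.Spor.CoOrbEnum
import Cfsg.Agent.Auto.ACL_Co_ip_2e7a3e

/-!
# Inner products and orbit certificates for packed vectors
-/

set_option autoImplicit false

namespace CL.Co

open Cfsg Finset CL.Leech
open CL.Golay (idx pt idx_lt pt_idx idx_pt sum_pt allTo allTo_iff allL allL_iff)

/-! ### Inner products -/

/-- The packed vector in reverse order. -/
noncomputable def revP (W : ℕ) : ℕ :=
  sumTo (fun k => Nat.shiftLeft (dg (Nat.sub 23 k) W) (Nat.mul 12 k)) 24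

theorem revP_eq (W : ℕ) : revP W = pk (fun k => dig (23 - k) W) 24 := by
  rw [revP, sumTo_eq, pk]
  refine sum_congr rfl fun a _ => ?_
  show dg (23 - a) W <<< (12 * a) = _
  rw [dg_eq, Nat.shiftLeft_eq, pow_mul]; rfl

def T24 : ℕ := 4096 ^ 24

noncomputable def ipP (W : ℕ) : ℕ := Nat.mod (mP (revP W)) T24
noncomputable def ipC (W : ℕ) : ℕ := Nat.mod (mC (revP W)) T24

/-- The inner product of two packed vectors plus 2048. -/
noncomputable def ipT (W X : ℕ) : ℕ :=
  Nat.land (Nat.shiftRight (Nat.add (Nat.mul (ipP W) X) (ipC W)) (nat_lit 276)) (nat_lit 4095)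

theorem dig_mod {k n : ℕ} (hk : k < n) (N : ℕ) : dig k (N % 4096 ^ n) = dig k N := by
  conv_rhs => rw [← Nat.mod_add_div N (4096 ^ n)]
  rw [dig_add_mul_pow _ hk]

theorem dig_of_lt {N n k : ℕ} (h : N < 4096 ^ n) (hk : n ≤ k) : dig k N = 0 := by
  rw [dig, Nat.div_eq_of_lt (lt_of_lt_of_le h (Nat.pow_le_pow_right (by norm_num) hk))]

theorem ipT_eq {w x : GolayPt → ℤ} (hw : Bd w) (hx : Bd x) :
    (ipT (pack w) (pack x) : ℤ) = dotInt w x + 2048 := by
  set M := revP (pack w) with hMdef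
  have hlt : M < 4096 ^ 24 := by rw [hMdef, revP_eq]; exact pk_lt fun _ _ => dig_lt _ _
  have hd : ∀ a < 24, (dig a M : ℤ) = w (pt (23 - a)) + 8 := fun a ha => by
    rw [hMdef, revP_eq, dig_pk (fun _ _ => dig_lt _ _) ha, dig_pack hw (by omega)]
  have hM : MBd M := by
    refine ⟨lt_of_lt_of_le hlt (Nat.pow_le_pow_right (by norm_num) (by norm_num)), fun a _ => ?_⟩
    by_cases ha : a < 24
    · have := hd a ha; have := hw (pt (23 - a)); omega
    · rw [dig_of_lt hlt (by omega)]; omega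
  have h1 : mulv M x (pt 0) = dotInt w x := by
    rw [mulv, dotInt]
    refine sum_congr rfl fun q _ => ?_
    have := idx_lt q
    rw [ent, idx_pt (by norm_num), mul_zero, zero_add, hd _ (by omega),
      show 23 - (23 - idx q) = idx q by omega, pt_idx]
    ring
  have h2 : dig 0 (raw (mP M) (mC M) (pack x)) = (dotInt w x + 2048).toNat := by
    rw [raw_eq hM hx, dig_pk (fun k _ => by have := mulv_bd hM hx (pt k); omega) (by norm_num), h1]
  have h3 : ∀ Z : ℕ, dig 0 (((Z &&& MASK) >>> 276) % MODU) = dig 23 Z := by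
    intro Z
    have e1 : (4096 : ℕ) ∣ MODU := by decide +kernel
    have e2 : dig 23 MASK = 2 ^ 12 - 1 := by decide +kernel
    rw [dig, pow_zero, Nat.div_one, Nat.mod_mod_of_dvd _ e1, Nat.shiftRight_eq_div_pow,
      two_pow_276, ← dig, dig_land, e2, Nat.and_two_pow_sub_one_eq_mod]
    exact Nat.mod_eq_of_lt (dig_lt _ _)
  have h4 : ipT (pack w) (pack x) = dig 23 (mP M * pack x + mC M) := by
    have : ipT (pack w) (pack x) = dg 23 (mP M % 4096 ^ 24 * pack x + mC M % 4096 ^ 24) := rfl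
    rw [this, dg_eq, ← dig_mod (n := 24) (by norm_num), Nat.add_mod_mod, Nat.add_mod,
      Nat.mod_mul_mod, ← Nat.add_mod, dig_mod (by norm_num)]
  have h5 := mulv_bd hM hx (pt 0)
  rw [h4, ← h3]
  have : ((mP M * pack x + mC M) &&& MASK) >>> 276 % MODU = raw (mP M) (mC M) (pack x) := rfl
  rw [this, h2]; omega

theorem ipT_pv {w x : leechLattice} (hw : nrm w ≤ 64) (hx : nrm x ≤ 64) :
    (ipT (pv w) (pv x) : ℤ) = ip w x + 2048 :=
  ipT_eq (bd_of_sqNorm hw) (bd_of_sqNorm hx)

theorem ip_toV {W X n : ℕ} (hW : vecT W = true) (hX : vecT X = true) (h : ipT W X = n) :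
    ip (toV W) (toV X) = n - 2048 := by
  have h1 := hW
  have h2 := hX
  rw [vecT, Bool.and_eq_true] at h1 h2
  have := ipT_eq (bdT_spec h1.1).1 (bdT_spec h2.1).1
  rw [(bdT_spec h1.1).2, (bdT_spec h2.1).2, h] at this
  rw [ip, coe_toV hW, coe_toV hX]; omega

theorem nrm_toV {W n : ℕ} (hW : vecT W = true) (h : ipT W W = n) : nrm (toV W) = n - 2048 := by
  rw [nrm, sqNorm_eq_dot]; exact ip_toV hW hW h

/-- The members of `L` with a given inner product (plus 2048) with `W`. -/
noncomputable def fip (W n : ℕ) (L : List ℕ) : List ℕ := filt (fun X => Nat.beq (ipT W X) n) L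

theorem Good.fip {L : List ℕ} {P : leechLattice → Prop} (h : Good L P) {w : leechLattice}
    (hw : nrm w ≤ 64) {W : ℕ} (hW : pv w = W) {n : ℕ} {c : ℤ} (hn : (n : ℤ) = c + 2048) :
    Good (fip W n L) fun x => P x ∧ ip w x = c := by
  refine h.filter _ (fun _ _ h => h.1) fun x hx hp => ?_
  have := ipT_pv hw (hx ▸ by norm_num : nrm x ≤ 64)
  rw [Nat.beq_eq, ← hW]
  constructor
  · rintro ⟨-, h⟩; omega
  · intro h; exact ⟨hp, by omega⟩

theorem Good.congr {L : List ℕ} {P Q : leechLattice → Prop} (h : Good L P)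
    (hPQ : ∀ x, nrm x = 32 → (P x ↔ Q x)) : Good L Q where
  nodup := h.nodup
  mem x hx hq := h.mem x hx ((hPQ x hx).2 hq)
  ex X hX := by
    obtain ⟨x, h1, h2, h3⟩ := h.ex X hX
    exact ⟨x, h1, (hPQ x h1).1 h2, h3⟩

/-- Kernel-friendly equality test for lists. -/
noncomputable def eqL (l : List ℕ) : List ℕ → Bool :=
  @List.rec ℕ (fun _ => List ℕ → Bool)
    (fun m => @List.rec ℕ (fun _ => Bool) true (fun _ _ _ => false) m)
    (fun X _ ih m => @List.rec ℕ (fun _ => Bool) false
      (fun Y m' _ => sel (Nat.beq X Y) (ih m') false) m) l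

theorem eqL_spec {l : List ℕ} : ∀ {m : List ℕ}, eqL l m = true → l = m := by
  induction l with
  | nil => intro m h; cases m with
    | nil => rfl
    | cons _ _ => exact absurd h Bool.false_ne_true
  | cons X l ih => intro m h; cases m with
    | nil => exact absurd h Bool.false_ne_true
    | cons Y m =>
      have : sel (Nat.beq X Y) (eqL l m) false = true := h
      rw [sel_eq] at this
      split_ifs at this with h1
      rw [Nat.eq_of_beq_eq_true h1, ih this]

/-- Kernel-friendly membership test. -/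
noncomputable def memL (rs : List ℕ) (Y : ℕ) : Bool :=
  @List.rec ℕ (fun _ => Bool) false (fun r _ ih => sel (Nat.beq Y r) true ih) rs

theorem memL_spec {rs : List ℕ} {Y : ℕ} (h : memL rs Y = true) : Y ∈ rs := by
  induction rs with
  | nil => exact absurd h Bool.false_ne_true
  | cons r rs ih =>
    have : sel (Nat.beq Y r) true (memL rs Y) = true := h
    rw [sel_eq] at this
    split_ifs at this with h1
    · rw [Nat.eq_of_beq_eq_true h1]; exact List.mem_cons_self
    · exact List.mem_cons_of_mem _ (ih this)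

/-! ### Words in three generators -/

/-- The elements of `Co0` that fix all the vectors whose packed form is in `vs`. -/
def FixL (vs : List ℕ) : Subgroup Co0 where
  carrier := {g | ∀ v : leechLattice, nrm v ≤ 64 → pv v ∈ vs → g • v = v}
  mul_mem' := fun {a b} ha hb v h1 h2 => by rw [mul_smul, hb v h1 h2, ha v h1 h2]
  one_mem' := fun v _ _ => one_smul _ v
  inv_mem' := fun {a} ha v h1 h2 => by rw [inv_smul_eq_iff, ha v h1 h2]

theorem FixL.fix {vs : List ℕ} {g : Co0} (h : g ∈ FixL vs) {v : leechLattice} (h1 : nrm v ≤ 64)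
    (h2 : pv v ∈ vs) : g • v = v := h v h1 h2

/-- `M` is the packed matrix of an element of `FixL vs`. -/
noncomputable def genT (vs : List ℕ) (M : ℕ) : Bool :=
  isCo M && allL (fun X => Nat.beq (app (mP M) (mC M) X) X) vs

theorem genT_spec {vs : List ℕ} {M : ℕ} (h : genT vs M = true) :
    Rep (toCo M) M ∧ toCo M ∈ FixL vs := by
  rw [genT, Bool.and_eq_true, allL_iff] at h
  have hr := rep_toCo h.1
  exact ⟨hr, fun v h1 h2 => hr.smul_eq h1 h1 (Nat.eq_of_beq_eq_true (h.2 _ h2))⟩

/-- A number together with a hash in its low bits (the kernel hashes the low 64 bits only). -/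
def salt (X : ℕ) : ℕ := Nat.add (Nat.shiftLeft X (nat_lit 32)) (Nat.mod X (nat_lit 4294967291))

def unsalt (Z : ℕ) : ℕ := Nat.shiftRight Z (nat_lit 32)

theorem unsalt_salt (X : ℕ) : unsalt (salt X) = X := by
  show (X <<< 32 + X % 4294967291) >>> 32 = X
  rw [Nat.shiftLeft_eq, Nat.shiftRight_eq_div_pow]; omega

/-- Apply the generator number `k`. -/
noncomputable def stp (P1 C1 P2 C2 P3 C3 k X : ℕ) : ℕ :=
  sel (Nat.beq k (nat_lit 1)) (app P1 C1 X) (sel (Nat.beq k (nat_lit 2)) (app P2 C2 X) (app P3 C3 X))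

/-- Apply the word `w` (digits in base 4) to the salted vector `Z` and test the result. -/
noncomputable def walk (F : ℕ → ℕ → ℕ) (ok : ℕ → Bool) (n : ℕ) : ℕ → ℕ → Bool :=
  @Nat.rec (fun _ => ℕ → ℕ → Bool) (fun _ _ => false)
    (fun _ ih w Z => sel (Nat.beq w (nat_lit 0)) (ok (unsalt Z))
      (force (salt (F (Nat.land w (nat_lit 3)) (unsalt Z))) fun Z' =>
        force (Nat.shiftRight w (nat_lit 2)) fun w' => ih w' Z')) n

theorem walk_spec {H : Subgroup Co0} {F : ℕ → ℕ → ℕ} {ok : ℕ → Bool}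
    (hF : ∀ k, ∃ g ∈ H, ∀ x : leechLattice, nrm x ≤ 64 → F k (pv x) = pv (g • x)) (n : ℕ) :
    ∀ (w : ℕ) (x : leechLattice), nrm x ≤ 64 → walk F ok n w (salt (pv x)) = true →
      ∃ g ∈ H, ok (pv (g • x)) = true := by
  induction n with
  | zero => intro w x _ h; exact absurd h Bool.false_ne_true
  | succ n ih =>
    intro w x hx h
    have h' : sel (Nat.beq w 0) (ok (unsalt (salt (pv x))))
      (force (salt (F (Nat.land w 3) (unsalt (salt (pv x))))) fun Z' =>
        force (Nat.shiftRight w 2) fun w' => walk F ok n w' Z') = true := h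
    rw [sel_eq, force_eq, force_eq, unsalt_salt] at h'
    split_ifs at h'
    · exact ⟨1, H.one_mem, by rwa [one_smul]⟩
    · obtain ⟨g, hg, hgx⟩ := hF (Nat.land w 3)
      rw [hgx x hx] at h'
      obtain ⟨g', hg', h⟩ := ih _ _ (by rw [nrm, Co0_sqNorm]; exact hx) h'
      exact ⟨g' * g, H.mul_mem hg' hg, by rwa [mul_smul]⟩

/-- The 64 fields of 32 bits of each number of the list. -/
noncomputable def words (cs : List ℕ) : List ℕ :=
  @List.rec ℕ (fun _ => List ℕ) [] (fun c _ tl => @Nat.rec (fun _ => List ℕ) tl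
    (fun i ih => Nat.land (Nat.shiftRight c (Nat.mul (nat_lit 32) i)) (nat_lit 4294967295) :: ih)
    (nat_lit 64)) cs

/-- Test all members of `L`, each with its own word. -/
noncomputable def chk (T : ℕ → ℕ → Bool) (L : List ℕ) : List ℕ → Bool :=
  @List.rec ℕ (fun _ => List ℕ → Bool) (fun _ => true)
    (fun X _ ih ws => @List.rec ℕ (fun _ => Bool) false
      (fun w ws' _ => sel (T w X) (ih ws') false) ws) L

theorem chk_spec {T : ℕ → ℕ → Bool} {L : List ℕ} : ∀ {ws : List ℕ}, chk T L ws = true →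
    ∀ X ∈ L, ∃ w, T w X = true := by
  induction L with
  | nil => intro _ _ X hX; exact absurd hX List.not_mem_nil
  | cons Y L ih =>
    intro ws h X hX
    cases ws with
    | nil => exact absurd h Bool.false_ne_true
    | cons w ws =>
      have : sel (T w Y) (chk T L ws) false = true := h
      rw [sel_eq] at this
      split_ifs at this with h1
      rcases List.mem_cons.1 hX with rfl | hX
      · exact ⟨w, h1⟩
      · exact ih this X hX

/-- Every member of `L` is moved into `reps` by a word in `M1, M2, M3`. -/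
noncomputable def orbT (M1 M2 M3 : ℕ) (reps L cs : List ℕ) : Bool :=
  chk (fun w X => force w fun w => force (salt X) fun Z =>
    walk (stp (mP M1) (mC M1) (mP M2) (mC M2) (mP M3) (mC M3)) (memL reps) (nat_lit 17) w Z) L
    (words cs)

theorem orbT_spec {vs : List ℕ} {M1 M2 M3 : ℕ} (h1 : genT vs M1 = true) (h2 : genT vs M2 = true)
    (h3 : genT vs M3 = true) {reps L cs : List ℕ} (h : orbT M1 M2 M3 reps L cs = true)
    {x : leechLattice} (hx : nrm x ≤ 64) (hL : pv x ∈ L) : ∃ g ∈ FixL vs, pv (g • x) ∈ reps := by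
  obtain ⟨w, hw⟩ := chk_spec h _ hL
  rw [force_eq, force_eq] at hw
  obtain ⟨g, hg, h⟩ := walk_spec (H := FixL vs) (fun k => by
    simp only [stp, sel_eq]
    split_ifs
    · exact ⟨_, (genT_spec h1).2, fun x hx => (genT_spec h1).1.app hx⟩
    · exact ⟨_, (genT_spec h2).2, fun x hx => (genT_spec h2).1.app hx⟩
    · exact ⟨_, (genT_spec h3).2, fun x hx => (genT_spec h3).1.app hx⟩) _ _ _ hx hw
  exact ⟨g, hg, memL_spec h⟩

/-- Every minimal vector with property `P` is moved into `reps` by `FixL vs`. -/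
def Reps (vs : List ℕ) (P : leechLattice → Prop) (reps : List ℕ) : Prop :=
  ∀ x, nrm x = 32 → P x → ∃ g ∈ FixL vs, pv (g • x) ∈ reps

theorem Good.reps {L : List ℕ} {P : leechLattice → Prop} (hL : Good L P) {vs : List ℕ}
    {M1 M2 M3 : ℕ} (h1 : genT vs M1 = true) (h2 : genT vs M2 = true)
    (h3 : genT vs M3 = true) {reps cs : List ℕ} (h : orbT M1 M2 M3 reps L cs = true) :
    Reps vs P reps := fun x hx hp =>
  orbT_spec h1 h2 h3 h (hx ▸ by norm_num) (hL.mem x hx hp)

theorem nrm_smul (g : Co0) (x : leechLattice) : nrm (g • x) = nrm x := Co0_sqNorm g x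

theorem ip_smul (g : Co0) (x y : leechLattice) : ip (g • x) (g • y) = ip x y := Co0_dotInt g x y

theorem ip_smul_of_fix {g : Co0} {x : leechLattice} (h : g • x = x) (y : leechLattice) :
    ip x (g • y) = ip x y := by
  conv_lhs => rw [← h]
  exact ip_smul g x y

theorem Reps.trans {vs : List ℕ} {P : leechLattice → Prop} {r : ℕ} (h : Reps vs P [r])
    {x y : leechLattice} (hx : nrm x = 32) (hpx : P x) (hy : nrm y = 32) (hpy : P y) :
    ∃ g ∈ FixL vs, g • x = y := by
  obtain ⟨g, hg, h1⟩ := h x hx hpx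
  obtain ⟨g', hg', h2⟩ := h y hy hpy
  rw [List.mem_singleton] at h1 h2
  refine ⟨g'⁻¹ * g, (FixL vs).mul_mem ((FixL vs).inv_mem hg') hg, ?_⟩
  rw [mul_smul, inv_smul_eq_iff]
  exact pv_inj (by rw [nrm_smul, hx]; norm_num) (by rw [nrm_smul, hy]; norm_num) (h1.trans h2.symm)

theorem Reps.ip_mem {vs : List ℕ} {P : leechLattice → Prop} {reps : List ℕ} (h : Reps vs P reps)
    {b : leechLattice} (hb : nrm b ≤ 64) {B : ℕ} (hB : pv b = B) (hbv : B ∈ vs) {cs : List ℕ}
    (hcs : reps.map (ipT B) = cs) {x : leechLattice} (hx : nrm x = 32) (hpx : P x) :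
    ∃ c ∈ cs, ip b x + 2048 = c := by
  subst hB
  obtain ⟨g, hg, h1⟩ := h x hx hpx
  refine ⟨_, hcs ▸ List.mem_map_of_mem h1, ?_⟩
  rw [ipT_pv hb (by rw [nrm_smul, hx]; norm_num), ip_smul_of_fix (FixL.fix hg hb hbv)]

theorem Reps.trans_of_ip {vs : List ℕ} {P : leechLattice → Prop} {reps : List ℕ}
    (h : Reps vs P reps) {b : leechLattice} (hb : nrm b ≤ 64) {B : ℕ} (hB : pv b = B)
    (hbv : B ∈ vs) (hnd : (reps.map (ipT B)).Nodup)
    {x y : leechLattice} (hx : nrm x = 32) (hpx : P x) (hy : nrm y = 32) (hpy : P y)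
    (hxy : ip b x = ip b y) : ∃ g ∈ FixL vs, g • x = y := by
  subst hB
  obtain ⟨g, hg, h1⟩ := h x hx hpx
  obtain ⟨g', hg', h2⟩ := h y hy hpy
  have hx' : nrm (g • x) ≤ 64 := by rw [nrm_smul, hx]; norm_num
  have hy' : nrm (g' • y) ≤ 64 := by rw [nrm_smul, hy]; norm_num
  refine ⟨g'⁻¹ * g, (FixL vs).mul_mem ((FixL vs).inv_mem hg') hg, ?_⟩
  rw [mul_smul, inv_smul_eq_iff]
  refine pv_inj hx' hy' (List.inj_on_of_nodup_map hnd h1 h2 ?_)
  have e1 := ipT_pv hb hx'
  have e2 := ipT_pv hb hy'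
  rw [ip_smul_of_fix (FixL.fix hg hb hbv)] at e1
  rw [ip_smul_of_fix (FixL.fix hg' hb hbv)] at e2
  omega

/-! ### Transport along `Co0` -/

theorem ncard_smul (g : Co0) {S T : Set leechLattice} (h : ∀ x, x ∈ S ↔ g • x ∈ T) :
    S.ncard = T.ncard := by
  refine Set.ncard_congr (fun x _ => g • x) (fun x hx => (h x).1 hx)
    (fun _ _ _ _ e => MulAction.injective g e) fun y hy => ⟨g⁻¹ • y, ?_, smul_inv_smul g y⟩
  rw [h, smul_inv_smul]; exact hy

theorem conj_fix {g h : Co0} {v v' : leechLattice} (e : g • v = v') (hh : h • v' = v') :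
    (g⁻¹ * h * g) • v = v := by
  rw [mul_smul, mul_smul, e, hh, ← e, inv_smul_smul]

theorem conj_map {g h : Co0} {x y : leechLattice} (hh : h • g • x = g • y) :
    (g⁻¹ * h * g) • x = y := by
  rw [mul_smul, mul_smul, hh, inv_smul_smul]

theorem ip_eq_of_smul {g : Co0} {v v' : leechLattice} (e : g • v = v') (x : leechLattice) :
    ip v' (g • x) = ip v x := by rw [← e, ip_smul]

end CL.Co
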