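import Cfsg.Agent.Base
import Cfsg.Agent.Spor.GolayPerm
import Cfsg.Agent.Spor.Chain

/-!
# Words in packed permutations, point orbits, elements of `M24` fixing many points
-/

set_option autoImplicit false

namespace CL.M24

open Cfsg CL.Golay
open scoped Pointwise

/-- `p` codes an element of the subgroup `K`. -/
def In (K : Subgroup (Equiv.Perm GolayPt)) (p : ℕ) : Prop := Rep (toPerm p) p ∧ toPerm p ∈ K

theorem In.of_rep {K : Subgroup (Equiv.Perm GolayPt)} {σ : Equiv.Perm GolayPt} {p : ℕ}
    (h : Rep σ p) (hσ : σ ∈ K) : In K p := ⟨h.toPerm, h.eq_toPerm ▸ hσ⟩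

theorem In.of_isM24 {p : ℕ} (h : isM24 p = true) : In M24 p :=
  ⟨rep_of_isM24 h, toPerm_mem_M24 h⟩

theorem In.all_of_isM24 {gens : List ℕ} (h : allL isM24 gens = true) : ∀ p ∈ gens, In M24 p :=
  fun p hp => In.of_isM24 (allL_iff.1 h p hp)

theorem In.one (K : Subgroup (Equiv.Perm GolayPt)) : In K idP := In.of_rep rep_one K.one_mem

theorem In.mul {K : Subgroup (Equiv.Perm GolayPt)} {p q : ℕ} (hp : In K p) (hq : In K q) :
    In K (mulP p q) := In.of_rep (hp.1.mul hq.1) (K.mul_mem hp.2 hq.2)

theorem In.inv {K : Subgroup (Equiv.Perm GolayPt)} {p : ℕ} (hp : In K p) : In K (invP p) :=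
  In.of_rep hp.1.inv (K.inv_mem hp.2)

theorem In.mono {K K' : Subgroup (Equiv.Perm GolayPt)} (h : K ≤ K') {p : ℕ} (hp : In K p) :
    In K' p := ⟨hp.1, h hp.2⟩

/-- The product of the generators with the listed positions. -/
noncomputable def word (gens : List ℕ) : List ℕ → ℕ
  | [] => idP
  | i :: w => mulP (gens.getD i idP) (word gens w)

theorem In.word {K : Subgroup (Equiv.Perm GolayPt)} {gens : List ℕ} (h : ∀ p ∈ gens, In K p) :
    ∀ w : List ℕ, In K (word gens w)
  | [] => In.one K
  | i :: w => by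
      refine In.mul ?_ (In.word h w)
      rw [List.getD_eq_getElem?_getD]
      cases hi : gens[i]? with
      | none => exact In.one K
      | some p => exact h p (List.mem_of_getElem? hi)

theorem In.words {K : Subgroup (Equiv.Perm GolayPt)} {gens : List ℕ} (h : ∀ p ∈ gens, In K p)
    (ws : List (List ℕ)) {gens' : List ℕ} (hw : ws.map (M24.word gens) = gens') :
    ∀ p ∈ gens', In K p := by
  intro p hp
  rw [← hw] at hp
  obtain ⟨w, -, rfl⟩ := List.mem_map.1 hp
  exact In.word h w

/-- One round of orbit enlargement on a bitmask of points. -/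
noncomputable def orbStep (gens : List ℕ) (m : ℕ) : ℕ :=
  gens.foldr (fun p acc => act p m ||| acc) m

/-- `n` rounds of orbit enlargement. -/
noncomputable def orb (gens : List ℕ) (m : ℕ) : ℕ → ℕ
  | 0 => m
  | n + 1 => orb gens (orbStep gens m) n

theorem orbStep_sound {K : Subgroup (Equiv.Perm GolayPt)} (a : GolayPt) (m : ℕ)
    (hm : ∀ x ∈ ofMask m, ∃ g ∈ K, g • a = x) :
    ∀ gens : List ℕ, (∀ p ∈ gens, In K p) → ∀ x ∈ ofMask (orbStep gens m), ∃ g ∈ K, g • a = x
  | [], _ => hm
  | p :: gens, h => by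
      intro x hx
      have hp := h p (by simp)
      rw [orbStep, List.foldr_cons, ofMask_or, Finset.mem_union, ← hp.1.smul_ofMask] at hx
      rcases hx with hx | hx
      · obtain ⟨y, hy, rfl⟩ := Finset.mem_smul_finset.1 hx
        obtain ⟨g, hg, rfl⟩ := hm y hy
        exact ⟨toPerm p * g, K.mul_mem hp.2 hg, mul_smul _ _ _⟩
      · exact orbStep_sound a m hm gens (fun q hq => h q (by simp [hq])) x hx

theorem orb_sound {K : Subgroup (Equiv.Perm GolayPt)} {gens : List ℕ} (h : ∀ p ∈ gens, In K p)
    (a : GolayPt) : ∀ (n m : ℕ), (∀ x ∈ ofMask m, ∃ g ∈ K, g • a = x) →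
      ∀ x ∈ ofMask (orb gens m n), ∃ g ∈ K, g • a = x
  | 0, _, hm => hm
  | n + 1, m, hm => orb_sound h a n _ (orbStep_sound a m hm gens h)

/-- The points found by `n` rounds from `a` lie in the `K`-orbit of `a`. -/
theorem exists_of_orb_eq {K : Subgroup (Equiv.Perm GolayPt)} {gens : List ℕ}
    (h : ∀ p ∈ gens, In K p) (a : GolayPt) (n m : ℕ) (hm : orb gens (2 ^ idx a) n = m)
    (x : GolayPt) (hx : m.testBit (idx x) = true) : ∃ g ∈ K, g • a = x := by
  refine orb_sound h a n _ ?_ x (by rwa [hm, mem_ofMask])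
  intro y hy
  rw [ofMask_two_pow_idx, Finset.mem_singleton] at hy
  exact ⟨1, K.one_mem, hy.symm⟩

theorem testBit_full (x : GolayPt) : Nat.testBit 16777215 (idx x) = true := by
  rw [← mem_ofMask, ofMask_full]; exact Finset.mem_univ x

/-- An element of `M24` mapping five points of an octad `o` into an octad `o'` maps `o` to `o'`. -/
theorem smul_octad_eq_of_five {g : Equiv.Perm GolayPt} (hg : g ∈ M24) {o o' s : Finset GolayPt}
    (ho : o ∈ octads) (ho' : o' ∈ octads) (hs : s ⊆ o) (hc : 5 ≤ s.card)
    (h : ∀ x ∈ s, g x ∈ o') : g • o = o' := by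
  apply octad_eq_of_five_le (smul_mem_octads hg ho) ho'
  rw [← Finset.card_smul_finset g s] at hc
  refine hc.trans (Finset.card_le_card ?_)
  intro y hy
  obtain ⟨x, hx, rfl⟩ := Finset.mem_smul_finset.1 hy
  exact Finset.mem_inter.2 ⟨Finset.smul_mem_smul_finset (hs hx), h x hx⟩

/-- The mask `m` is an octad. -/
def isOctad (m : ℕ) : Bool := isCode m && pop m == 8

theorem ofMask_mem_octads {m : ℕ} (h : isOctad m = true) : ofMask m ∈ octads := by
  rw [isOctad, Bool.and_eq_true, beq_iff_eq] at h
  exact ofMask_mem_octads_iff.2 h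

/-- An element of `M24` fixing the points of the mask `F` stabilises each octad with at least five
points in `F`. -/
theorem testBit_of_fix {g : Equiv.Perm GolayPt} (hg : g ∈ M24) {F o : ℕ}
    (hF : ∀ x, F.testBit (idx x) = true → g x = x) (ho : isOctad o = true)
    (h5 : 5 ≤ pop (o &&& F)) (x : GolayPt) : o.testBit (idx (g x)) = o.testBit (idx x) := by
  have h1 : g • ofMask o = ofMask o := by
    refine smul_octad_eq_of_five hg (ofMask_mem_octads ho) (ofMask_mem_octads ho)
      (s := ofMask (o &&& F)) ?_ (by rwa [card_ofMask]) ?_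
    · intro y hy
      rw [mem_ofMask, Nat.testBit_and, Bool.and_eq_true] at hy
      exact mem_ofMask.2 hy.1
    · intro y hy
      rw [mem_ofMask, Nat.testBit_and, Bool.and_eq_true] at hy
      rw [hF y hy.2]
      exact mem_ofMask.2 hy.1
  rw [Bool.eq_iff_iff, ← mem_ofMask, ← mem_ofMask]
  conv_lhs => rw [← h1]
  exact Finset.smul_mem_smul_finset_iff g

/-- Propagate fixed points: a step `(i, o₁, o₂)` consists of two octads with five fixed points each
whose intersection has `i` as only point not yet known to be fixed. The result is the final mask of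
fixed points (`0` if a check fails). -/
def propagate : ℕ → List (ℕ × ℕ × ℕ) → ℕ
  | F, [] => F
  | F, (i, o₁, o₂) :: l =>
    bif isOctad o₁ && isOctad o₂ && Nat.ble 5 (pop (o₁ &&& F)) && Nat.ble 5 (pop (o₂ &&& F)) &&
        ((o₁ &&& o₂) ||| F) == ((1 <<< i) ||| F) && (o₁ &&& o₂).testBit i
      then propagate ((1 <<< i) ||| F) l else 0

theorem propagate_sound {g : Equiv.Perm GolayPt} (hg : g ∈ M24) :
    ∀ (l : List (ℕ × ℕ × ℕ)) (F : ℕ), (∀ x, F.testBit (idx x) = true → g x = x) →
      ∀ x, (propagate F l).testBit (idx x) = true → g x = x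
  | [], _, hF => hF
  | (i, o₁, o₂) :: l, F, hF => by
      rw [propagate]
      cases hc : (isOctad o₁ && isOctad o₂ && Nat.ble 5 (pop (o₁ &&& F)) &&
        Nat.ble 5 (pop (o₂ &&& F)) && ((o₁ &&& o₂) ||| F) == ((1 <<< i) ||| F) &&
        (o₁ &&& o₂).testBit i)
      · simp
      · rw [cond_true]
        simp only [Bool.and_eq_true, Nat.ble_eq, beq_iff_eq, Nat.testBit_and] at hc
        obtain ⟨⟨⟨⟨⟨h1, h2⟩, h3⟩, h4⟩, h5⟩, h6, h7⟩ := hc
        apply propagate_sound hg l
        intro x hx
        rw [Nat.testBit_or, Bool.or_eq_true, Nat.one_shiftLeft, Nat.testBit_two_pow,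
          decide_eq_true_eq] at hx
        rcases hx with hx | hx
        · subst hx
          have h8 : ((o₁ &&& o₂) ||| F).testBit (idx (g x)) = true := by
            rw [Nat.testBit_or, Nat.testBit_and, testBit_of_fix hg hF h1 h3,
              testBit_of_fix hg hF h2 h4, h6, h7]; rfl
          rw [h5, Nat.testBit_or, Bool.or_eq_true, Nat.one_shiftLeft, Nat.testBit_two_pow,
            decide_eq_true_eq] at h8
          rcases h8 with h8 | h8
          · exact (idx_injective h8).symm
          · exact g.injective (hF _ h8)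
        · exact hF x hx

/-- An element of `M24` fixing the points of `F` is trivial if the propagation reaches all points. -/
theorem eq_one_of_propagate {g : Equiv.Perm GolayPt} (hg : g ∈ M24) (F : ℕ)
    (l : List (ℕ × ℕ × ℕ)) (h : propagate F l = 16777215)
    (hF : ∀ x, F.testBit (idx x) = true → g x = x) : g = 1 := by
  refine Equiv.ext fun x => propagate_sound hg l F hF x ?_
  rw [h]
  exact testBit_full x

/-- `p` fixes the points with the listed indices. -/
def fixes (p : ℕ) (l : List ℕ) : Bool := l.all fun i => app p i == i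

theorem In.fix {K : Subgroup (Equiv.Perm GolayPt)} {p : ℕ} (h : In K p) {l : List GolayPt}
    (hl : fixes p (l.map idx) = true) : In (Chain.fix K l) p := by
  refine ⟨h.1, h.2, fun x hx => ?_⟩
  rw [fixes, List.all_eq_true] at hl
  have := hl _ (List.mem_map_of_mem hx)
  rw [beq_iff_eq, ← h.1 x] at this
  exact idx_injective this

theorem In.fixes {K : Subgroup (Equiv.Perm GolayPt)} {gens : List ℕ} (h : ∀ p ∈ gens, In K p)
    {l : List GolayPt} (hl : (gens.all fun p => fixes p (l.map idx)) = true) :
    ∀ p ∈ gens, In (Chain.fix K l) p := fun p hp =>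
  (h p hp).fix (List.all_eq_true.1 hl p hp)

end CL.M24
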