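import Cfsg.Agent.Base
import Cfsg.Agent.Spor.SteinerDerived

/-! A kernel-checked exhaustive search (up to relabelling of points) for partial Steiner systems on
`Fin n`, blocks being encoded as bit masks. -/

set_option autoImplicit false

namespace CL.Steiner.Search

open Finset Cfsg

/-- The subset of `Fin n` given by a bit mask. -/
def toF (n m : ℕ) : Finset (Fin n) := univ.filter fun i => m.testBit i = true

theorem mem_toF {n m : ℕ} {i : Fin n} : i ∈ toF n m ↔ m.testBit i = true := by simp [toF]

/-- Families of `k`-sets pairwise meeting in fewer than `t` points and covering every `t`-set that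
contains the points of the mask `need`. -/
structure Good (n t k need : ℕ) (B : Set (Finset (Fin n))) : Prop where
  card : ∀ b ∈ B, b.card = k
  inter : ∀ b ∈ B, ∀ c ∈ B, b ≠ c → (b ∩ c).card < t
  cover : ∀ s : Finset (Fin n), s.card = t → toF n need ⊆ s → ∃ b ∈ B, s ⊆ b

theorem Good.image {n t k need : ℕ} {B : Set (Finset (Fin n))} (h : Good n t k need B)
    (π : Equiv.Perm (Fin n)) (hπ : ∀ i : Fin n, need.testBit i = true → π i = i) :
    Good n t k need (imageFam π B) where
  card := by
    rintro _ ⟨b, hb, rfl⟩
    simp only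
    rw [card_image_of_injective _ π.injective, h.card b hb]
  inter := by
    rintro _ ⟨b, hb, rfl⟩ _ ⟨c, hc, rfl⟩ hne
    simp only at hne ⊢
    rw [← image_inter _ _ π.injective, card_image_of_injective _ π.injective]
    exact h.inter b hb c hc fun hbc => hne (by rw [hbc])
  cover := by
    intro s hs hn
    obtain ⟨b, hb, hsb⟩ := h.cover (s.image π.symm)
      (by rw [card_image_of_injective _ π.symm.injective, hs]) (fun i hi =>
        mem_image.2 ⟨i, hn hi, by rw [Equiv.symm_apply_eq, hπ i (mem_toF.1 hi)]⟩)
    exact ⟨_, ⟨b, hb, rfl⟩, fun x hx =>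
      mem_image.2 ⟨π.symm x, hsb (mem_image_of_mem _ hx), by simp⟩⟩

/-- Every good family containing the sets `L` contains an image of the sets `T` under a
permutation fixing the points of the mask `fix`. -/
def Claim (n t k need fix : ℕ) (T L : List ℕ) : Prop :=
  ∀ B : Set (Finset (Fin n)), Good n t k need B → (∀ m ∈ L, toF n m ∈ B) →
    ∃ π : Equiv.Perm (Fin n), (∀ i : Fin n, fix.testBit i = true → π i = i) ∧
      ∀ m ∈ T, (toF n m).image π ∈ B

theorem Claim.trans {n t k need fix : ℕ} {T L M : List ℕ}
    (hnf : ∀ i, need.testBit i = true → fix.testBit i = true)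
    (h1 : Claim n t k need fix M L) (h2 : Claim n t k need fix T M) :
    Claim n t k need fix T L := by
  intro B hB hL
  obtain ⟨π, hπ, hM⟩ := h1 B hB hL
  obtain ⟨ρ, hρ, hT⟩ := h2 (imageFam π.symm B) (hB.image π.symm fun i hi => by
    rw [Equiv.symm_apply_eq, hπ i (hnf i hi)]) (fun m hm => by
      rw [mem_imageFam_equiv]; exact hM m hm)
  refine ⟨π * ρ, fun i hi => by simp [hπ i hi, hρ i hi], fun m hm => ?_⟩
  have := hT m hm
  rw [mem_imageFam_equiv, image_image] at this
  exact this

/-- The mask of a list of points. -/
def maskL : List ℕ → ℕ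
  | [] => 0
  | x :: U => maskL U ||| 2 ^ x

theorem testBit_maskL (U : List ℕ) (i : ℕ) : (maskL U).testBit i = decide (i ∈ U) := by
  induction U with
  | nil => simp [maskL]
  | cons x U ih => simp [maskL, ih, Nat.testBit_two_pow, eq_comm, Bool.or_comm]

/-- The list `U` has fewer than `t` entries in each mask of `L`. -/
def ok (L : List ℕ) (t : ℕ) (U : List ℕ) : Bool :=
  L.all fun b => Nat.blt (U.countP fun x => b.testBit x) t

theorem countP_eq_card {n : ℕ} {U : List ℕ} (hU : U.Nodup) (hn : ∀ x ∈ U, x < n) (b : ℕ) :
    U.countP (fun x => b.testBit x) = (toF n (maskL U) ∩ toF n b).card := by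
  rw [List.countP_eq_length_filter, ← List.toFinset_card_of_nodup (hU.filter _),
    ← card_map Fin.valEmbedding]
  congr 1
  ext x
  simp only [List.toFinset_filter, mem_filter, List.mem_toFinset, mem_map, mem_inter, mem_toF,
    testBit_maskL, decide_eq_true_eq, Fin.valEmbedding_apply]
  constructor
  · rintro ⟨h1, h2⟩
    exact ⟨⟨x, hn x h1⟩, ⟨h1, h2⟩, rfl⟩
  · rintro ⟨i, h, rfl⟩
    exact h

theorem card_toF_maskL {n : ℕ} {U : List ℕ} (hU : U.Nodup) (hn : ∀ x ∈ U, x < n) :
    (toF n (maskL U)).card = U.length := by
  have := countP_eq_card hU hn (maskL U)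
  rw [inter_self] at this
  rw [← this, List.countP_eq_length]
  intro x hx
  simp [testBit_maskL, hx]

/-- All ways of adding `r` of the listed points to `U`, compatible with `L`, and taking points of
equal signature in the order of the list. -/
def ext (L : List ℕ) (t : ℕ) : List (ℕ × ℕ) → ℕ → List ℕ → List ℕ → List (List ℕ)
  | _, 0, U, _ => [U]
  | [], _ + 1, _, _ => []
  | p :: pts, r + 1, U, ban =>
    bif ban.contains p.2 then ext L t pts (r + 1) U ban
    else (bif ok L t (p.1 :: U) then ext L t pts r (p.1 :: U) ban else []) ++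
      ext L t pts (r + 1) U (p.2 :: ban)

theorem ext_complete {n t : ℕ} {L : List ℕ} (c : Finset (Fin n))
    (hc : ∀ b ∈ L, (c ∩ toF n b).card < t) (pts : List (ℕ × ℕ)) :
    ∀ (r : ℕ) (U ban : List ℕ), (U ++ pts.map Prod.fst).Nodup →
      (∀ x ∈ U ++ pts.map Prod.fst, x < n) → toF n (maskL U) ⊆ c →
      (∀ i ∈ c, (i : ℕ) ∈ U ++ pts.map Prod.fst) → c.card = U.length + r →
      pts.Pairwise (fun p q => p.2 = q.2 → (∃ i ∈ c, (i : ℕ) = q.1) → ∃ i ∈ c, (i : ℕ) = p.1) →
      (∀ p ∈ pts, p.2 ∈ ban → ¬ ∃ i ∈ c, (i : ℕ) = p.1) →
      ∃ V ∈ ext L t pts r U ban, toF n (maskL V) = c := by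
  have base : ∀ (pts : List (ℕ × ℕ)) (U ban : List ℕ), (U ++ pts.map Prod.fst).Nodup →
      (∀ x ∈ U ++ pts.map Prod.fst, x < n) → toF n (maskL U) ⊆ c → c.card = U.length + 0 →
      ∃ V ∈ ext L t pts 0 U ban, toF n (maskL V) = c := by
    intro pts U ban hnd hlt hsub hcard
    refine ⟨U, by cases pts <;> simp [ext], eq_of_subset_of_card_le hsub ?_⟩
    rw [card_toF_maskL (List.Nodup.of_append_left hnd) fun x hx => hlt x (List.mem_append_left _ hx),
      hcard]
    rfl
  induction pts with
  | nil =>
    intro r U ban hnd hlt hsub hmem hcard _ _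
    cases r with
    | zero => exact base _ U ban hnd hlt hsub hcard
    | succ r =>
      exfalso
      have h1 : c ⊆ toF n (maskL U) := fun i hi => by
        simpa [mem_toF, testBit_maskL] using hmem i hi
      have h2 := card_le_card h1
      rw [card_toF_maskL (List.Nodup.of_append_left hnd)
        fun x hx => hlt x (List.mem_append_left _ hx)] at h2
      omega
  | cons p pts ih =>
    intro r U ban hnd hlt hsub hmem hcard hpw hban
    cases r with
    | zero => exact base _ U ban hnd hlt hsub hcard
    | succ r =>
      rw [List.pairwise_cons] at hpw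
      have hperm : (U ++ (p :: pts).map Prod.fst).Perm ((p.1 :: U) ++ pts.map Prod.fst) :=
        List.perm_middle
      have hsl : (U ++ pts.map Prod.fst).Sublist (U ++ (p :: pts).map Prod.fst) :=
        List.Sublist.append_left (List.sublist_cons_self _ _) U
      by_cases hp : ∃ i ∈ c, (i : ℕ) = p.1
      · have hnb : ban.contains p.2 = false := by
          rw [← Bool.not_eq_true, List.contains_iff_mem]
          exact fun h => hban p List.mem_cons_self h hp
        have hnd' := hperm.nodup_iff.1 hnd
        have hlt' : ∀ x ∈ (p.1 :: U) ++ pts.map Prod.fst, x < n :=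
          fun x hx => hlt x (hperm.mem_iff.2 hx)
        have hsub' : toF n (maskL (p.1 :: U)) ⊆ c := by
          intro i hi
          simp only [mem_toF, testBit_maskL, List.mem_cons, decide_eq_true_eq] at hi
          rcases hi with hi | hi
          · obtain ⟨j, hj, hj'⟩ := hp
            rwa [show i = j from Fin.ext (hi.trans hj'.symm)]
          · exact hsub (by simpa [mem_toF, testBit_maskL] using hi)
        have hok : ok L t (p.1 :: U) = true := by
          simp only [ok, List.all_eq_true, Nat.blt_eq]
          intro b hb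
          rw [countP_eq_card (n := n) (List.Nodup.of_append_left hnd')
            fun x hx => hlt' x (List.mem_append_left _ hx)]
          exact lt_of_le_of_lt (card_le_card (inter_subset_inter_right hsub')) (hc b hb)
        obtain ⟨V, hV, hVc⟩ := ih r (p.1 :: U) ban hnd' hlt' hsub'
          (fun i hi => hperm.mem_iff.1 (hmem i hi)) (by rw [hcard, List.length_cons]; omega) hpw.2
          (fun q hq => hban q (List.mem_cons_of_mem _ hq))
        exact ⟨V, by
          simp only [ext, hnb, hok, cond_false, cond_true]; exact List.mem_append_left _ hV, hVc⟩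
      · have hmem' : ∀ i ∈ c, (i : ℕ) ∈ U ++ pts.map Prod.fst := by
          intro i hi
          have := hperm.mem_iff.1 (hmem i hi)
          rw [List.cons_append, List.mem_cons] at this
          exact this.resolve_left fun h => hp ⟨i, hi, h⟩
        cases hb : ban.contains p.2
        · obtain ⟨V, hV, hVc⟩ := ih (r + 1) U (p.2 :: ban) (hnd.sublist hsl)
            (fun x hx => hlt x (hsl.subset hx)) hsub hmem' hcard hpw.2 (by
              intro q hq hq2 hqc
              rcases List.mem_cons.1 hq2 with h | h
              · exact hp (hpw.1 q hq h.symm hqc)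
              · exact hban q (List.mem_cons_of_mem _ hq) h hqc)
          exact ⟨V, by simp only [ext, hb, cond_false]; exact List.mem_append_right _ hV, hVc⟩
        · obtain ⟨V, hV, hVc⟩ := ih (r + 1) U ban (hnd.sublist hsl)
            (fun x hx => hlt x (hsl.subset hx)) hsub hmem' hcard hpw.2
            (fun q hq => hban q (List.mem_cons_of_mem _ hq))
          exact ⟨V, by simp only [ext, hb, cond_true]; exact hV, hVc⟩

/-- The incidence vector of a point with the masks of a list, as a number. -/
def sigOf : List ℕ → ℕ → ℕ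
  | [], _ => 0
  | b :: L, x => 2 * sigOf L x + (b.testBit x).toNat

theorem sigOf_eq {L : List ℕ} {x y : ℕ} (h : sigOf L x = sigOf L y) :
    ∀ b ∈ L, b.testBit x = b.testBit y := by
  induction L with
  | nil => simp
  | cons b L ih =>
    simp only [sigOf] at h
    have h1 : (b.testBit x).toNat = (b.testBit y).toNat ∧ sigOf L x = sigOf L y := by
      have := Bool.toNat_lt (b.testBit x)
      have := Bool.toNat_lt (b.testBit y)
      omega
    intro c hc
    rcases List.mem_cons.1 hc with rfl | hc
    · revert h1
      cases c.testBit x <;> cases c.testBit y <;> simp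
    · exact ih h1.2 c hc

/-- The signature of a point: points of `fix` are told apart from all others. -/
def sig (fix : ℕ) (L : List ℕ) (x : ℕ) : ℕ := bif fix.testBit x then 2 * x + 1 else 2 * sigOf L x

/-- The points of `range n` in the mask `S`. -/
def ptsIn (n S : ℕ) : List ℕ := (List.range n).filter fun x => S.testBit x

/-- The points of `range n` outside the mask `S`. -/
def ptsOut (n S : ℕ) : List ℕ := (List.range n).filter fun x => !S.testBit x

/-- The check of one branching step: the block through `S` is, up to relabelling, in `Us`. -/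
def stepOK (n t k need fix : ℕ) (L : List ℕ) (S : ℕ) (Us : List ℕ) : Bool :=
  ok L t (ptsIn n S) && Nat.beq (ptsIn n S).length t && Nat.beq (need &&& S) need &&
    (ext L t ((ptsOut n S).map fun x => (x, sig fix (S :: L) x)) (k - t) (ptsIn n S) []).all
      fun U => Us.contains (maskL U)

theorem toF_maskL_ptsIn (n S : ℕ) : toF n (maskL (ptsIn n S)) = toF n S := by
  ext i; simp [mem_toF, testBit_maskL, ptsIn]

theorem claim_step {n t k need fix fix' : ℕ} {T L : List ℕ} {S : ℕ} {Us : List ℕ}
    (hnf : ∀ i, need.testBit i = true → fix.testBit i = true)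
    (hff : ∀ i, fix.testBit i = true → fix'.testBit i = true)
    (h : stepOK n t k need fix' L S Us = true)
    (hUs : ∀ U ∈ Us, Claim n t k need fix T (U :: L)) : Claim n t k need fix T L := by
  classical
  simp only [stepOK, Bool.and_eq_true, Nat.beq_eq, List.all_eq_true, List.contains_iff_mem] at h
  obtain ⟨⟨⟨hok, hlen⟩, hneed⟩, hext⟩ := h
  intro B hB hL
  have hnd : (ptsIn n S).Nodup := List.nodup_range.filter _
  have hlt : ∀ x ∈ ptsIn n S, x < n := fun x hx => List.mem_range.1 (List.mem_of_mem_filter hx)
  have hScard : (toF n S).card = t := by rw [← toF_maskL_ptsIn, card_toF_maskL hnd hlt, hlen]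
  obtain ⟨c, hc, hSc⟩ := hB.cover (toF n S) hScard fun i hi => by
    rw [mem_toF] at hi ⊢
    rw [← hneed, Nat.testBit_and, Bool.and_eq_true] at hi
    exact hi.2
  -- the admissible relabellings
  let P : Equiv.Perm (Fin n) → Prop := fun π => (∀ i : Fin n, fix.testBit i = true → π i = i) ∧
    ∀ b ∈ S :: L, ∀ i : Fin n, b.testBit (π i) = b.testBit i
  obtain ⟨π, hπ, hmin⟩ := exists_min_image (univ.filter P)
    (fun π => ∑ i ∈ c.image π, (i : ℕ)) ⟨1, by simp [P]⟩
  have hπ : P π := (mem_filter.1 hπ).2
  have himg : ∀ b ∈ S :: L, (toF n b).image π = toF n b := by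
    intro b hb
    ext i
    obtain ⟨j, rfl⟩ := π.surjective i
    rw [π.injective.mem_finset_image, mem_toF, mem_toF, hπ.2 b hb]
  have hB' := hB.image π fun i hi => hπ.1 i (hnf i hi)
  have hL' : ∀ m ∈ L, toF n m ∈ imageFam π B := fun m hm =>
    ⟨_, hL m hm, himg m (List.mem_cons_of_mem _ hm)⟩
  have hc' : c.image π ∈ imageFam π B := ⟨c, hc, rfl⟩
  have hSc' : toF n S ⊆ c.image π := by
    rw [← himg S List.mem_cons_self]; exact image_subset_image hSc
  have hperm : (ptsIn n S ++ ptsOut n S).Perm (List.range n) := List.filter_append_perm _ _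
  have hmf : ((ptsOut n S).map fun x => (x, sig fix' (S :: L) x)).map Prod.fst = ptsOut n S := by
    rw [List.map_map]; exact List.map_id _
  obtain ⟨V, hV, hVc⟩ := ext_complete (L := L) (t := t) (c.image π) (fun b hb => by
      refine hB'.inter _ hc' _ (hL' b hb) fun heq => ?_
      simp only [ok, List.all_eq_true, Nat.blt_eq] at hok
      have := hok b hb
      rw [countP_eq_card hnd hlt, toF_maskL_ptsIn, ← heq, inter_eq_left.2 hSc'] at this
      omega)
    ((ptsOut n S).map fun x => (x, sig fix' (S :: L) x)) (k - t) (ptsIn n S) []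
    (by rw [hmf]; exact hperm.nodup_iff.2 List.nodup_range)
    (by rw [hmf]; exact fun x hx => List.mem_range.1 (hperm.mem_iff.1 hx))
    (by rw [toF_maskL_ptsIn]; exact hSc')
    (by rw [hmf]; exact fun i _ => hperm.mem_iff.2 (List.mem_range.2 i.2))
    (by
      have := card_le_card hSc'
      rw [hB'.card _ hc'] at this ⊢
      omega)
    (by
      rw [List.pairwise_map]
      have h1 : (ptsOut n S).Pairwise (· < ·) := List.pairwise_lt_range.filter _
      refine h1.imp_of_mem fun {x y} hx _ hxy hsig ⟨j, hj, hjy⟩ => ?_
      simp only at hsig hjy ⊢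
      have hxn : x < n := List.mem_range.1 (List.mem_of_mem_filter hx)
      by_contra hx'
      have hi : (⟨x, hxn⟩ : Fin n) ∉ c.image π := fun h => hx' ⟨_, h, rfl⟩
      subst hjy
      have hfx : fix'.testBit x = false ∧ fix'.testBit j = false ∧
          sigOf (S :: L) x = sigOf (S :: L) j := by
        unfold sig at hsig
        revert hsig
        cases fix'.testBit x <;> cases fix'.testBit j <;> simp <;> omega
      have hP : P (Equiv.swap ⟨x, hxn⟩ j * π) := by
        constructor
        · intro i hi
          rw [Equiv.Perm.mul_apply, hπ.1 i hi, Equiv.swap_apply_of_ne_of_ne]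
          · rintro rfl
            simp [hff _ hi] at hfx
          · rintro rfl
            simp [hff _ hi] at hfx
        · intro b hb i
          rw [Equiv.Perm.mul_apply, ← hπ.2 b hb i, Equiv.swap_apply_def]
          split_ifs with h1 h2
          · rw [h1]; exact (sigOf_eq hfx.2.2 b hb).symm
          · rw [h2]; exact sigOf_eq hfx.2.2 b hb
          · rfl
      have h2 := hmin _ (mem_filter.2 ⟨mem_univ _, hP⟩)
      have h3 : c.image (Equiv.swap ⟨x, hxn⟩ j * π : Equiv.Perm (Fin n)) =
          insert ⟨x, hxn⟩ ((c.image π).erase j) := by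
        rw [Equiv.Perm.coe_mul, ← image_image]
        ext i
        obtain ⟨i, rfl⟩ := (Equiv.swap ⟨x, hxn⟩ j).surjective i
        rw [(Equiv.swap _ _).injective.mem_finset_image, Equiv.swap_apply_def]
        split_ifs with h1 h2
        · rw [h1]
          have : j ≠ ⟨x, hxn⟩ := fun h => by rw [h] at hxy; exact lt_irrefl _ hxy
          simp only [hi, mem_insert, this, mem_erase, ne_eq, not_true, false_and, or_self]
        · rw [h2]
          simp only [hj, mem_insert, true_or]
        · simp only [mem_insert, h1, mem_erase, ne_eq, h2, not_false_eq_true, true_and, false_or]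
      rw [h3, sum_insert (fun h => hi (mem_of_mem_erase h)), ← add_sum_erase _ _ hj] at h2
      simp only at h2
      omega)
    (by simp)
  obtain ⟨ρ, hρ, hT⟩ := hUs _ (hext V hV) _ hB' (by
    intro m hm
    rcases List.mem_cons.1 hm with rfl | hm
    · rw [hVc]; exact hc'
    · exact hL' m hm)
  refine ⟨π⁻¹ * ρ, fun i hi => ?_, fun m hm => ?_⟩
  · rw [Equiv.Perm.mul_apply, hρ i hi, Equiv.Perm.inv_eq_iff_eq, hπ.1 i hi]
  · have := hT m hm
    rw [mem_imageFam_equiv, image_image] at this
    exact this

/-- The `i`-th base-32 digit. -/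
def dig (code i : ℕ) : ℕ := (code >>> (5 * i)) % 32

/-- The check of a leaf: the permutation with digits `code` maps `T` into `L`. -/
def leafOK (n fix : ℕ) (T L : List ℕ) (code : ℕ) : Bool :=
  (List.range n).all (fun i => Nat.blt (dig code i) n && (!fix.testBit i || Nat.beq (dig code i) i)) &&
    decide ((List.range n).map (dig code)).Nodup &&
    T.all fun m => L.contains (maskL ((ptsIn n m).map (dig code)))

theorem claim_leaf {n t k need fix : ℕ} {T L : List ℕ} {code : ℕ}
    (h : leafOK n fix T L code = true) : Claim n t k need fix T L := by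
  simp only [leafOK, Bool.and_eq_true, List.all_eq_true, List.mem_range, Nat.blt_eq,
    Bool.or_eq_true, Bool.not_eq_true', Nat.beq_eq, decide_eq_true_eq, List.contains_iff_mem] at h
  obtain ⟨⟨h1, h2⟩, h3⟩ := h
  let f : Fin n → Fin n := fun i => ⟨dig code i, (h1 i i.2).1⟩
  have hf : Function.Injective f := fun i j hij => Fin.ext
    (List.inj_on_of_nodup_map h2 (List.mem_range.2 i.2) (List.mem_range.2 j.2) (congrArg Fin.val hij))
  intro B _ hL
  refine ⟨Equiv.ofBijective f (Finite.injective_iff_bijective.1 hf), fun i hi => Fin.ext ?_,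
    fun m hm => ?_⟩
  · exact (h1 i i.2).2.resolve_left (by simp [hi])
  · convert hL _ (h3 m hm) using 1
    ext i
    simp only [Equiv.ofBijective_apply, mem_image, mem_toF, testBit_maskL, List.mem_map, ptsIn,
      List.mem_filter, List.mem_range, decide_eq_true_eq]
    constructor
    · rintro ⟨j, hj, rfl⟩
      exact ⟨j, ⟨j.2, hj⟩, rfl⟩
    · rintro ⟨j, ⟨hj, hj'⟩, hji⟩
      exact ⟨⟨j, hj⟩, hj', Fin.ext hji⟩

/-- Run a search script on a stack of partial systems.  A command `(2 * code, _)` closes a leaf;
`(4 * S + 1, Us)` and `(4 * S + 3, Us)` branch on the block through `S`, with and without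
relabelling. -/
def run (n t k need fix : ℕ) (T : List ℕ) : List (ℕ × List ℕ) → List (List ℕ) → Bool
  | [], st => st.isEmpty
  | _ :: _, [] => true
  | p :: sc, L :: st =>
    bif p.1.testBit 0 then
      stepOK n t k need (bif p.1.testBit 1 then 2 ^ n - 1 ||| fix else fix) L (p.1 / 4) p.2 &&
        run n t k need fix T sc (p.2.map (· :: L) ++ st)
    else leafOK n fix T L (p.1 / 2) && run n t k need fix T sc st

theorem run_sound {n t k need fix : ℕ} {T : List ℕ}
    (hnf : ∀ i, need.testBit i = true → fix.testBit i = true) (sc : List (ℕ × List ℕ)) :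
    ∀ st, run n t k need fix T sc st = true → ∀ L ∈ st, Claim n t k need fix T L := by
  induction sc with
  | nil => intro st h; cases st <;> simp_all [run]
  | cons p sc ih =>
    intro st h
    cases st with
    | nil => simp
    | cons L st =>
      simp only [run] at h
      cases h0 : p.1.testBit 0
      · simp only [h0, cond_false, Bool.and_eq_true] at h
        intro M hM
        rcases List.mem_cons.1 hM with rfl | hM
        · exact claim_leaf h.1
        · exact ih st h.2 M hM
      · simp only [h0, cond_true, Bool.and_eq_true] at h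
        intro M hM
        rcases List.mem_cons.1 hM with rfl | hM
        · refine claim_step hnf (fun i hi => ?_) h.1 fun U hU =>
            ih _ h.2 _ (List.mem_append_left _ (List.mem_map_of_mem hU))
          cases p.1.testBit 1 <;> simp [hi]
        · exact ih _ h.2 M (List.mem_append_right _ hM)

theorem claim_of_run {n t k need fix : ℕ} {T L : List ℕ} (sc : List (ℕ × List ℕ))
    (hnf : need &&& fix = need) (h : run n t k need fix T sc [L] = true) :
    Claim n t k need fix T L :=
  run_sound (fun i hi => by
    rw [← hnf, Nat.testBit_and, Bool.and_eq_true] at hi; exact hi.2) sc _ h L (by simp)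

end CL.Steiner.Search
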